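import Mathlib

/-!
# Jacobian criterion for formal smoothness of a quotient of a formally smooth algebra (helper62)

* `formallySmooth_of_derivations`: sufficiency (`P` formally smooth, `P → A` surjective with kernel
  generated by `f_i`, derivations `δ_j : P → A` with `det (δ_j f_i)` a unit).
* `exists_derivation_extension`: derivations extend along formally étale maps.
* `localRingHom_surjective`, `ker_localRingHom`: localization of a surjection at a prime.
* `exists_linearMaps_det_notMem`: clearing denominators for functionals on a projective module.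
* `exists_functionals_of_formallySmooth`: necessity, abstract form over a Noetherian local ring.
-/

set_option autoImplicit false
universe u v w

namespace Groth.Agent.Lib.Helper62.JacobianFS

open KaehlerDifferential TensorProduct

section J1

variable {R : Type u} {P : Type v} {A : Type w} [CommRing R] [CommRing P] [CommRing A]
  [Algebra R P] [Algebra R A] [Algebra P A] [IsScalarTower R P A]

theorem formallySmooth_of_derivations [Algebra.FormallySmooth R P]
    (hsurj : Function.Surjective (algebraMap P A)) {m : ℕ} (f : Fin m → P)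
    (hspan : Ideal.span (Set.range f) = RingHom.ker (algebraMap P A))
    (δ : Fin m → Derivation R P A)
    (hdet : IsUnit (Matrix.det (Matrix.of fun i j => δ j (f i)))) :
    Algebra.FormallySmooth R A := by
  classical
  let E : Algebra.Extension.{v} R A := ⟨P, _, Function.surjInv_eq hsurj⟩
  have : Algebra.FormallySmooth R E.Ring := ‹_›
  rw [Algebra.Extension.formallySmooth_iff_split_injection E]
  have hfK : ∀ i, f i ∈ E.ker := fun i => hspan.le (Ideal.subset_span ⟨i, rfl⟩)
  let n : Fin m → E.Cotangent := fun i => Algebra.Extension.Cotangent.mk ⟨f i, hfK i⟩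
  have hn : Submodule.span A (Set.range n) = ⊤ :=
    Algebra.Extension.Cotangent.span_eq_top_of_span_eq_ker (P := E) f hspan
  let ψ : Fin m → (E.CotangentSpace →ₗ[A] A) := fun j =>
    LinearMap.liftBaseChange A ((δ j).liftKaehlerDifferential)
  let Mat : Matrix (Fin m) (Fin m) A := Matrix.of fun i j => δ j (f i)
  let l1 : E.CotangentSpace →ₗ[A] (Fin m → A) := LinearMap.pi ψ
  let l2 : (Fin m → A) →ₗ[A] (Fin m → A) := Matrix.vecMulLinear Mat⁻¹
  let l3 : (Fin m → A) →ₗ[A] E.Cotangent := Fintype.linearCombination A n
  let l : E.CotangentSpace →ₗ[A] E.Cotangent := l3 ∘ₗ l2 ∘ₗ l1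
  refine ⟨l, ?_⟩
  apply LinearMap.ext_on hn
  rintro _ ⟨i, rfl⟩
  have h1 : E.cotangentComplex (n i) = 1 ⊗ₜ D R P (f i) := rfl
  have h2 : l1 (E.cotangentComplex (n i)) = Mat i := by
    rw [h1]
    funext j
    simp [l1, ψ, Mat]
  have h3 : l2 (Mat i) = Pi.single i 1 := by
    funext j
    have := congrFun (congrFun (Matrix.mul_nonsing_inv Mat hdet) i) j
    simp only [Matrix.mul_apply, Matrix.one_apply] at this
    simp only [l2, Matrix.vecMulLinear_apply, Matrix.vecMul, dotProduct, Pi.single_apply]
    rw [this]
    simp [eq_comm]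
  have h4 : l3 (Pi.single i 1) = n i := by
    simp [l3, Fintype.linearCombination_apply]
  show l3 (l2 (l1 (E.cotangentComplex (n i)))) = n i
  rw [h2, h3, h4]

end J1

section E

variable (R : Type u) {S : Type v} (T : Type w) [CommRing R] [CommRing S] [CommRing T]
  [Algebra R S] [Algebra R T] [Algebra S T] [IsScalarTower R S T] [Algebra.FormallyEtale S T]
  {M : Type*} [AddCommGroup M] [Module R M] [Module S M] [Module T M] [IsScalarTower R S M]
  [IsScalarTower R T M] [IsScalarTower S T M]

/-- Derivations extend along formally étale maps. -/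
theorem exists_derivation_extension (d : Derivation R S M) :
    ∃ d' : Derivation R T M, ∀ s, d' (algebraMap S T s) = d s := by
  let g : Ω[T⁄R] →ₗ[T] M :=
    (KaehlerDifferential.isBaseChange_of_formallyEtale R S T).lift d.liftKaehlerDifferential
  refine ⟨g.compDer (D R T), fun s => ?_⟩
  have h1 : D R T (algebraMap S T s) = KaehlerDifferential.map R R S T (D R S s) := by
    rw [KaehlerDifferential.map_D]
  show g (D R T (algebraMap S T s)) = d s
  rw [h1, IsBaseChange.lift_eq]
  simp

end E

section Ker

variable {B C : Type u} [CommRing B] [CommRing C] [Algebra B C]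
  (q : Ideal B) [q.IsPrime] (p : Ideal C) [p.IsPrime] [p.LiesOver q]

theorem localRingHom_surjective (hsurj : Function.Surjective (algebraMap B C)) :
    Function.Surjective (Localization.localRingHom q p (algebraMap B C) Ideal.LiesOver.over) := by
  obtain ⟨rfl⟩ : q = p.comap (algebraMap B C) := Ideal.LiesOver.over
  exact RingHom.surjective_localRingHom_of_surjective (algebraMap B C) hsurj p

theorem ker_localRingHom (hsurj : Function.Surjective (algebraMap B C)) :
    RingHom.ker (Localization.localRingHom q p (algebraMap B C) Ideal.LiesOver.over) =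
      (RingHom.ker (algebraMap B C)).map (algebraMap B (Localization.AtPrime q)) := by
  have hover : q = p.comap (algebraMap B C) := Ideal.LiesOver.over
  ext x
  obtain ⟨b, s, rfl⟩ := IsLocalization.exists_mk'_eq q.primeCompl x
  rw [RingHom.mem_ker, Localization.localRingHom_mk', IsLocalization.mk'_eq_zero_iff,
    IsLocalization.mk'_mem_map_algebraMap_iff]
  constructor
  · rintro ⟨⟨t, ht⟩, h⟩
    obtain ⟨t', rfl⟩ := hsurj t
    refine ⟨t', ?_, ?_⟩
    · intro h'
      apply ht
      rw [hover] at h'
      exact h'
    · rw [RingHom.mem_ker, map_mul]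
      exact h
  · rintro ⟨t', ht', h⟩
    refine ⟨⟨algebraMap B C t', ?_⟩, ?_⟩
    · intro h'
      apply ht'
      rw [hover]
      exact h'
    · rw [RingHom.mem_ker, map_mul] at h
      exact h

end Ker

section J3

variable {B : Type u} [CommRing B] (q : Ideal B) [q.IsPrime]

/-- Clearing denominators: finitely many elements of the residue field at `q` become images of
elements of `B` after multiplication by a common `u ∉ q`. -/
theorem exists_common_multiple {α : Type*} (T : Finset α) (z : α → q.ResidueField) :
    ∃ u : B, u ∉ q ∧ ∃ b : α → B, ∀ a ∈ T,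
      algebraMap B q.ResidueField (b a) = algebraMap B q.ResidueField u * z a := by
  classical
  have hsurj : Function.Surjective (algebraMap (Localization.AtPrime q) q.ResidueField) :=
    IsLocalRing.residue_surjective
  choose y hy using fun a => hsurj (z a)
  obtain ⟨u, hu⟩ := IsLocalization.exist_integer_multiples_of_finset q.primeCompl (T.image y)
  have h2 : ∀ a ∈ T, ∃ b : B, algebraMap B (Localization.AtPrime q) b = (u : B) • y a := by
    intro a ha
    exact hu (y a) (Finset.mem_image_of_mem y ha)
  refine ⟨u, u.2, fun a => if h : a ∈ T then (h2 a h).choose else 0, fun a ha => ?_⟩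
  beta_reduce
  rw [dif_pos ha, IsScalarTower.algebraMap_apply B (Localization.AtPrime q) q.ResidueField,
    (h2 a ha).choose_spec, Algebra.smul_def, map_mul, hy,
    ← IsScalarTower.algebraMap_apply B (Localization.AtPrime q) q.ResidueField]

theorem exists_linearMaps_det_notMem {M : Type v} [AddCommGroup M] [Module B M]
    [Module.Projective B M] {m : ℕ} (x : Fin m → M) (μ : Fin m → M →ₗ[B] q.ResidueField)
    (hμ : ∀ i j, μ j (x i) = if i = j then 1 else 0) :
    ∃ ν : Fin m → M →ₗ[B] B, Matrix.det (Matrix.of fun i j => ν j (x i)) ∉ q := by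
  classical
  obtain ⟨s, hs⟩ := Module.projective_def'.mp ‹Module.Projective B M›
  let T : Finset M := Finset.univ.biUnion fun i => (s (x i)).support
  obtain ⟨u, hu, b, hb⟩ := exists_common_multiple q (Finset.univ ×ˢ T)
    (fun jt : Fin m × M => μ jt.1 jt.2)
  let ν : Fin m → M →ₗ[B] B := fun j =>
    (Finsupp.linearCombination B (fun t => b (j, t))) ∘ₗ s
  refine ⟨ν, ?_⟩
  have key : ∀ i j, algebraMap B q.ResidueField (ν j (x i)) =
      algebraMap B q.ResidueField u * (if i = j then 1 else 0) := by
    intro i j
    rw [← hμ i j]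
    have hx : x i = Finsupp.linearCombination B id (s (x i)) := by
      have := LinearMap.congr_fun hs (x i)
      simpa using this.symm
    conv_rhs => rw [hx]
    simp only [ν, LinearMap.coe_comp, Function.comp_apply, Finsupp.linearCombination_apply,
      Finsupp.sum, map_sum, smul_eq_mul, map_mul, id_eq, map_smul, Finset.mul_sum]
    refine Finset.sum_congr rfl fun t ht => ?_
    have htT : ((j, t) : Fin m × M) ∈ Finset.univ ×ˢ T := by
      simp only [Finset.mem_product, Finset.mem_univ, true_and, T, Finset.mem_biUnion]
      exact ⟨i, ht⟩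
    rw [hb _ htT, Algebra.smul_def]
    ring
  intro hdet
  have h0 : algebraMap B q.ResidueField (Matrix.det (Matrix.of fun i j => ν j (x i))) = 0 :=
    Ideal.algebraMap_residueField_eq_zero.mpr hdet
  rw [RingHom.map_det] at h0
  have h1 : (algebraMap B q.ResidueField).mapMatrix (Matrix.of fun i j => ν j (x i)) =
      algebraMap B q.ResidueField u • (1 : Matrix (Fin m) (Fin m) q.ResidueField) := by
    ext i j
    simp only [RingHom.mapMatrix_apply, Matrix.map_apply, Matrix.of_apply, Matrix.smul_apply,
      Matrix.one_apply, smul_eq_mul]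
    exact key i j
  rw [h1, Matrix.det_smul, Matrix.det_one, mul_one] at h0
  have h2 : algebraMap B q.ResidueField u ≠ 0 := by
    intro h
    exact hu (Ideal.algebraMap_residueField_eq_zero.mp h)
  exact pow_ne_zero _ h2 h0

end J3

section J2

variable {R : Type u} {P : Type v} {A : Type w} [CommRing R] [CommRing P] [CommRing A]
  [Algebra R P] [Algebra R A] [Algebra P A] [IsScalarTower R P A]

/-- The natural map `K/K² → κ ⊗ K` for an ideal `K` contained in the maximal ideal. -/
noncomputable def cotangentToResidueTensor [IsLocalRing P] (K : Ideal P)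
    (hK : K ≤ IsLocalRing.maximalIdeal P) :
    K.Cotangent →ₗ[P] (IsLocalRing.ResidueField P) ⊗[P] K :=
  Submodule.liftQ (K • ⊤ : Submodule P K) (TensorProduct.mk P (IsLocalRing.ResidueField P) K 1) (by
    rw [Submodule.smul_le]
    intro r hr n _
    rw [LinearMap.mem_ker, map_smul, TensorProduct.mk_apply, TensorProduct.smul_tmul',
      Algebra.smul_def, mul_one]
    have : algebraMap P (IsLocalRing.ResidueField P) r = 0 := by
      rw [IsLocalRing.ResidueField.algebraMap_eq, IsLocalRing.residue_eq_zero_iff]
      exact hK hr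
    rw [this, TensorProduct.zero_tmul])

theorem cotangentToResidueTensor_toCotangent [IsLocalRing P] (K : Ideal P)
    (hK : K ≤ IsLocalRing.maximalIdeal P) (x : K) :
    cotangentToResidueTensor K hK (K.toCotangent x) = 1 ⊗ₜ x := rfl

/-- Necessity of the Jacobian criterion, abstract form. -/
theorem exists_functionals_of_formallySmooth [Algebra.FormallySmooth R P] [IsLocalRing P]
    [IsNoetherianRing P] [Nontrivial A] (hsurj : Function.Surjective (algebraMap P A))
    [Algebra.FormallySmooth R A] (S : Set P)
    (hS : Ideal.span S = RingHom.ker (algebraMap P A)) :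
    ∃ (m : ℕ) (f : Fin m → P), (∀ i, f i ∈ S) ∧
      Ideal.span (Set.range f) = RingHom.ker (algebraMap P A) ∧
      ∃ μ : Fin m → Ω[P⁄R] →ₗ[P] IsLocalRing.ResidueField P,
        ∀ i j, μ j (D R P (f i)) = if i = j then 1 else 0 := by
  classical
  let E : Algebra.Extension.{v} R A := ⟨P, _, Function.surjInv_eq hsurj⟩
  have : Algebra.FormallySmooth R E.Ring := ‹_›
  obtain ⟨l, hl⟩ := (Algebra.Extension.formallySmooth_iff_split_injection E).mp ‹_›
  let K : Ideal P := RingHom.ker (algebraMap P A)
  have hK : K ≤ IsLocalRing.maximalIdeal P := by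
    apply IsLocalRing.le_maximalIdeal
    intro h
    have : (1 : P) ∈ K := by rw [h]; trivial
    rw [RingHom.mem_ker, map_one] at this
    exact one_ne_zero this
  let κ := IsLocalRing.ResidueField P
  let V := κ ⊗[P] K
  have hSK : ∀ s ∈ S, s ∈ K := fun s hs => hS.le (Ideal.subset_span hs)
  let T : Set V := Set.range fun s : S => (1 : κ) ⊗ₜ[P] (⟨s.1, hSK s.1 s.2⟩ : K)
  have hspanK : Submodule.span P (Set.range fun s : S => (⟨s.1, hSK s.1 s.2⟩ : K)) = ⊤ := by
    rw [Submodule.span_range_subtype_eq_top_iff K (s := fun s : S => s.1) (fun s => hSK s.1 s.2)]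
    simpa using hS
  have hT : ⊤ ≤ Submodule.span κ T := by
    have h1 : ∀ x : K, (1 : κ) ⊗ₜ[P] x ∈ Submodule.span κ T := by
      intro x
      have hx : x ∈ Submodule.span P (Set.range fun s : S => (⟨s.1, hSK s.1 s.2⟩ : K)) := by
        rw [hspanK]; trivial
      induction hx using Submodule.span_induction with
      | mem y hy =>
        obtain ⟨s, rfl⟩ := hy
        exact Submodule.subset_span ⟨s, rfl⟩
      | zero => rw [TensorProduct.tmul_zero]; exact Submodule.zero_mem _
      | add y z _ _ hy hz => rw [TensorProduct.tmul_add]; exact Submodule.add_mem _ hy hz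
      | smul r y _ hy =>
        have : (1 : κ) ⊗ₜ[P] (r • y) = (algebraMap P κ r) • ((1 : κ) ⊗ₜ[P] y) := by
          rw [TensorProduct.tmul_smul, TensorProduct.smul_tmul', TensorProduct.smul_tmul',
            Algebra.smul_def, smul_eq_mul]
        rw [this]
        exact Submodule.smul_mem _ _ hy
    rintro v -
    induction v using TensorProduct.induction_on with
    | zero => exact Submodule.zero_mem _
    | tmul c x =>
      have : c ⊗ₜ[P] x = c • ((1 : κ) ⊗ₜ[P] x) := by
        rw [TensorProduct.smul_tmul', smul_eq_mul, mul_one]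
      rw [this]
      exact Submodule.smul_mem _ _ (h1 x)
    | add y z hy hz => exact Submodule.add_mem _ hy hz
  let b := Module.Basis.ofSpan hT
  have hbT : Set.range b ⊆ T := Module.Basis.ofSpan_subset hT
  have : Module.Finite κ V := inferInstance
  have : Finite _ := Module.Finite.finite_basis b
  let m := Nat.card ((linearIndepOn_empty κ id).extend (Set.empty_subset T))
  let e : ((linearIndepOn_empty κ id).extend (Set.empty_subset T)) ≃ Fin m := Finite.equivFin _
  let b' : Module.Basis (Fin m) κ V := b.reindex e
  have hb'T : ∀ i, b' i ∈ T := fun i => hbT (by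
    rw [Module.Basis.reindex_apply]; exact ⟨_, rfl⟩)
  choose s hs using hb'T
  let f : Fin m → P := fun i => (s i).1
  have hfK : ∀ i, f i ∈ K := fun i => hSK _ (s i).2
  have hspanf : Submodule.span P (Set.range fun i => (⟨f i, hfK i⟩ : K)) = ⊤ :=
    IsLocalRing.span_eq_top_of_tmul_eq_basis (fun i => (⟨f i, hfK i⟩ : K)) b' hs
  refine ⟨m, f, fun i => (s i).2, ?_, ?_⟩
  · exact (Submodule.span_range_subtype_eq_top_iff K hfK).mp hspanf
  · let ρ : E.Cotangent →ₗ[P] V :=
      (cotangentToResidueTensor K hK) ∘ₗ E.cotangentEquivCotangentKer.toLinearMap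
    let ι0 : Ω[P⁄R] →ₗ[P] E.CotangentSpace := TensorProduct.mk P A Ω[P⁄R] 1
    refine ⟨fun j => ((b'.coord j).restrictScalars P) ∘ₗ ρ ∘ₗ (l.restrictScalars P) ∘ₗ ι0, ?_⟩
    intro i j
    have h1 : ι0 (D R P (f i)) =
        E.cotangentComplex (Algebra.Extension.Cotangent.mk ⟨f i, hfK i⟩) := rfl
    have h2 : l (E.cotangentComplex (Algebra.Extension.Cotangent.mk ⟨f i, hfK i⟩)) =
        Algebra.Extension.Cotangent.mk ⟨f i, hfK i⟩ := LinearMap.congr_fun hl _
    have h3 : ρ (Algebra.Extension.Cotangent.mk ⟨f i, hfK i⟩) = b' i := by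
      rw [← hs i]
      rfl
    simp only [LinearMap.coe_comp, Function.comp_apply, LinearMap.coe_restrictScalars]
    rw [h1, h2, h3]
    simp [Finsupp.single_apply]

end J2

end Groth.Agent.Lib.Helper62.JacobianFS
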