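import Mathlib
import Groth.Agent.Lib.Helper62.JacobianFS

/-!
# Local Jacobian criterion and smoothness via small extensions (helper62)

* `exists_minimal_generators`: minimal generators of an ideal of a Noetherian local ring chosen
  from a generating set, with the associated basis of `κ ⊗ K`.
* `formallySmooth_of_functionals`: `P` local, formally smooth over `R`, `P → C` surjective with
  kernel `(f_i)`, and functionals `μ_j : Ω[P⁄R] → κ` with `μ_j (d f_i) = δ_ij`; then `C` is formally
  smooth over `R`.
* `formallySmooth_of_small_lifts`: `P` Noetherian local, formally smooth over `R`, `P → C`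
  surjective. If the canonical maps `C → P/L` lift to `P/K` along all "small extensions"
  `P/K → P/L` (`𝔪^n ≤ K ≤ L`, `𝔪 L ≤ K`, `L = K + (t)`), then `C` is formally smooth over `R`.
-/

set_option autoImplicit false
universe u v w

namespace Groth.Agent.Lib.Helper62.LocalJacobian

open KaehlerDifferential TensorProduct IsLocalRing Groth.Agent.Lib.Helper62.JacobianFS

section Select

variable {P : Type v} [CommRing P] [IsLocalRing P] [IsNoetherianRing P]

omit [IsNoetherianRing P] in
theorem one_tmul_smul {M : Type*} [AddCommGroup M] [Module P M] (r : P) (y : M) :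
    (1 : ResidueField P) ⊗ₜ[P] (r • y) = (residue P r) • ((1 : ResidueField P) ⊗ₜ[P] y) := by
  rw [TensorProduct.tmul_smul, TensorProduct.smul_tmul', TensorProduct.smul_tmul',
    Algebra.smul_def, smul_eq_mul]
  rfl

/-- Selection of minimal generators from a generating set. -/
theorem exists_minimal_generators (K : Ideal P) (S : Set P) (hS : Ideal.span S = K) :
    ∃ (m : ℕ) (f : Fin m → P) (hfK : ∀ i, f i ∈ K), (∀ i, f i ∈ S) ∧
      Ideal.span (Set.range f) = K ∧
      ∃ b : Module.Basis (Fin m) (ResidueField P) (ResidueField P ⊗[P] K),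
        ∀ i, b i = (1 : ResidueField P) ⊗ₜ[P] (⟨f i, hfK i⟩ : K) := by
  classical
  let κ := ResidueField P
  let V := κ ⊗[P] K
  have hSK : ∀ s ∈ S, s ∈ K := fun s hs => hS.le (Ideal.subset_span hs)
  let T : Set V := Set.range fun s : S => (1 : κ) ⊗ₜ[P] (⟨s.1, hSK s.1 s.2⟩ : K)
  have hspanK : Submodule.span P (Set.range fun s : S => (⟨s.1, hSK s.1 s.2⟩ : K)) = ⊤ := by
    rw [Submodule.span_range_subtype_eq_top_iff K (s := fun s : S => s.1) (fun s => hSK s.1 s.2)]
    simpa using hS
  have hT : ⊤ ≤ Submodule.span κ T := by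
    have h1 : ∀ x : K, (1 : κ) ⊗ₜ[P] x ∈ Submodule.span κ T := by
      intro x
      have hx : x ∈ Submodule.span P (Set.range fun s : S => (⟨s.1, hSK s.1 s.2⟩ : K)) := by
        rw [hspanK]; trivial
      induction hx using Submodule.span_induction with
      | mem y hy =>
        obtain ⟨s, rfl⟩ := hy
        exact Submodule.subset_span ⟨s, rfl⟩
      | zero => rw [TensorProduct.tmul_zero]; exact Submodule.zero_mem _
      | add y z _ _ hy hz => rw [TensorProduct.tmul_add]; exact Submodule.add_mem _ hy hz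
      | smul r y _ hy =>
        rw [one_tmul_smul]
        exact Submodule.smul_mem _ _ hy
    rintro v -
    induction v using TensorProduct.induction_on with
    | zero => exact Submodule.zero_mem _
    | tmul c x =>
      have : c ⊗ₜ[P] x = c • ((1 : κ) ⊗ₜ[P] x) := by
        rw [TensorProduct.smul_tmul', smul_eq_mul, mul_one]
      rw [this]
      exact Submodule.smul_mem _ _ (h1 x)
    | add y z hy hz => exact Submodule.add_mem _ hy hz
  let b := Module.Basis.ofSpan hT
  have hbT : Set.range b ⊆ T := Module.Basis.ofSpan_subset hT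
  have : Module.Finite κ V := inferInstance
  have : Finite _ := Module.Finite.finite_basis b
  let m := Nat.card ((linearIndepOn_empty κ id).extend (Set.empty_subset T))
  let e : ((linearIndepOn_empty κ id).extend (Set.empty_subset T)) ≃ Fin m := Finite.equivFin _
  let b' : Module.Basis (Fin m) κ V := b.reindex e
  have hb'T : ∀ i, b' i ∈ T := fun i => hbT (by
    rw [Module.Basis.reindex_apply]; exact ⟨_, rfl⟩)
  choose s hs using hb'T
  let f : Fin m → P := fun i => (s i).1
  have hfK : ∀ i, f i ∈ K := fun i => hSK _ (s i).2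
  have hspanf : Submodule.span P (Set.range fun i => (⟨f i, hfK i⟩ : K)) = ⊤ :=
    IsLocalRing.span_eq_top_of_tmul_eq_basis (fun i => (⟨f i, hfK i⟩ : K)) b' hs
  refine ⟨m, f, hfK, fun i => (s i).2, ?_, b', fun i => (hs i).symm⟩
  exact (Submodule.span_range_subtype_eq_top_iff K hfK).mp hspanf

end Select

section Suff

variable {R : Type u} {P : Type v} {C : Type w} [CommRing R] [CommRing P] [CommRing C]
  [Algebra R P] [Algebra R C] [Algebra P C] [IsScalarTower R P C]

/-- Local sufficiency: functionals with values in the residue field. -/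
theorem formallySmooth_of_functionals [IsLocalRing P] [Algebra.FormallySmooth R P]
    (hsurj : Function.Surjective (algebraMap P C)) {m : ℕ} (f : Fin m → P)
    (hspan : Ideal.span (Set.range f) = RingHom.ker (algebraMap P C))
    (μ : Fin m → Ω[P⁄R] →ₗ[P] ResidueField P)
    (hμ : ∀ i j, μ j (D R P (f i)) = if i = j then 1 else 0) :
    Algebra.FormallySmooth R C := by
  classical
  have hres : Function.Surjective (Algebra.linearMap P (ResidueField P)) :=
    IsLocalRing.residue_surjective
  choose ν hν using fun j =>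
    Module.projective_lifting_property (Algebra.linearMap P (ResidueField P)) (μ j) hres
  let δ : Fin m → Derivation R P C := fun j =>
    ((Algebra.linearMap P C) ∘ₗ (ν j)).compDer (D R P)
  refine formallySmooth_of_derivations hsurj f hspan δ ?_
  let M₀ : Matrix (Fin m) (Fin m) P := Matrix.of fun i j => ν j (D R P (f i))
  have hmat : (Matrix.of fun i j => δ j (f i)) = (algebraMap P C).mapMatrix M₀ := by
    ext i j
    rfl
  rw [hmat, ← RingHom.map_det]
  apply RingHom.isUnit_map
  have hres1 : (residue P).mapMatrix M₀ = 1 := by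
    ext i j
    simp only [RingHom.mapMatrix_apply, Matrix.map_apply, M₀, Matrix.of_apply, Matrix.one_apply]
    have := LinearMap.congr_fun (hν j) (D R P (f i))
    simp only [LinearMap.coe_comp, Function.comp_apply, Algebra.linearMap_apply] at this
    rw [hμ] at this
    exact this
  have hdet : residue P M₀.det = 1 := by
    rw [RingHom.map_det, hres1, Matrix.det_one]
  by_contra hnu
  have : residue P M₀.det = 0 := (IsLocalRing.residue_eq_zero_iff _).mpr
    ((IsLocalRing.mem_maximalIdeal _).mpr hnu)
  rw [hdet] at this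
  exact one_ne_zero this

end Suff

section Quot

variable {P : Type v} [CommRing P] [IsLocalRing P]

theorem quotient_ne_top {L : Ideal P} (hL : L ≤ maximalIdeal P) : L ≠ ⊤ := fun h => by
  rw [h, top_le_iff] at hL
  exact Ideal.IsPrime.ne_top inferInstance hL

theorem isLocalRing_quotient {L : Ideal P} (hL : L ≤ maximalIdeal P) : IsLocalRing (P ⧸ L) :=
  have : Nontrivial (P ⧸ L) := Ideal.Quotient.nontrivial_iff.mpr (quotient_ne_top hL)
  IsLocalRing.of_surjective' (Ideal.Quotient.mk L) Ideal.Quotient.mk_surjective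

theorem mk_mem_maximalIdeal_iff {L : Ideal P} (hL : L ≤ maximalIdeal P) [IsLocalRing (P ⧸ L)]
    (z : P) : Ideal.Quotient.mk L z ∈ maximalIdeal (P ⧸ L) ↔ z ∈ maximalIdeal P := by
  rw [IsLocalRing.mem_maximalIdeal, IsLocalRing.mem_maximalIdeal, mem_nonunits_iff,
    mem_nonunits_iff, not_iff_not]
  constructor
  · intro h
    by_contra hz
    have hzm : z ∈ maximalIdeal P := (IsLocalRing.mem_maximalIdeal _).mpr hz
    obtain ⟨u, hu⟩ := h.exists_right_inv
    obtain ⟨u₀, rfl⟩ := Ideal.Quotient.mk_surjective u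
    rw [← map_mul, ← map_one (Ideal.Quotient.mk L), Ideal.Quotient.eq] at hu
    have h1 : (1 : P) ∈ maximalIdeal P := by
      have := Ideal.sub_mem _ (Ideal.mul_mem_right u₀ _ hzm) (hL hu)
      simpa using this
    exact (Ideal.ne_top_iff_one _).mp (Ideal.IsPrime.ne_top inferInstance) h1
  · intro h
    exact h.map _

theorem maximalIdeal_quotient_le {L : Ideal P} (hL : L ≤ maximalIdeal P) [IsLocalRing (P ⧸ L)] :
    maximalIdeal (P ⧸ L) ≤ (maximalIdeal P).map (Ideal.Quotient.mk L) := by
  intro x hx
  obtain ⟨x₀, rfl⟩ := Ideal.Quotient.mk_surjective x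
  exact Ideal.mem_map_of_mem _ ((mk_mem_maximalIdeal_iff hL x₀).mp hx)

theorem isArtinianRing_quotient [IsNoetherianRing P] {L : Ideal P} (hL : L ≤ maximalIdeal P)
    [IsLocalRing (P ⧸ L)] (k : ℕ) (hk : maximalIdeal P ^ k ≤ L) : IsArtinianRing (P ⧸ L) := by
  rw [isArtinianRing_iff_isNilpotent_maximalIdeal]
  refine ⟨k, ?_⟩
  rw [Ideal.zero_eq_bot, eq_bot_iff]
  refine (Ideal.pow_right_mono (maximalIdeal_quotient_le hL) k).trans ?_
  rw [← Ideal.map_pow]
  refine (Ideal.map_mono hk).trans ?_
  rw [Ideal.map_quotient_self]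

omit [IsLocalRing P] in
theorem ker_factor {K L : Ideal P} (hKL : K ≤ L) (t : P) (hLK : L = K ⊔ Ideal.span {t}) :
    RingHom.ker (Ideal.Quotient.factor hKL) = Ideal.span {Ideal.Quotient.mk K t} := by
  apply le_antisymm
  · intro x hx
    obtain ⟨x₀, rfl⟩ := Ideal.Quotient.mk_surjective x
    rw [RingHom.mem_ker, Ideal.Quotient.factor_mk, Ideal.Quotient.eq_zero_iff_mem, hLK] at hx
    obtain ⟨k, hk, y, hy, rfl⟩ := Submodule.mem_sup.mp hx
    obtain ⟨r, rfl⟩ := Ideal.mem_span_singleton'.mp hy
    rw [map_add, Ideal.Quotient.eq_zero_iff_mem.mpr hk, zero_add, map_mul]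
    exact Ideal.mul_mem_left _ _ (Ideal.subset_span rfl)
  · rw [Ideal.span_le, Set.singleton_subset_iff]
    show _ ∈ RingHom.ker _
    rw [RingHom.mem_ker, Ideal.Quotient.factor_mk, Ideal.Quotient.eq_zero_iff_mem, hLK]
    exact Ideal.mem_sup_right (Ideal.subset_span rfl)

end Quot

section Core

variable {R : Type u} {P : Type v} {C : Type w} [CommRing R] [CommRing P] [CommRing C]
  [Algebra R P] [Algebra R C] [Algebra P C] [IsScalarTower R P C]

/-- Smoothness from lifting along small extensions of Artinian quotients of `P`. -/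
theorem formallySmooth_of_small_lifts [IsLocalRing P] [IsNoetherianRing P]
    [Algebra.FormallySmooth R P] [Nontrivial C]
    (hsurj : Function.Surjective (algebraMap P C))
    (H : ∀ (K L : Ideal P) (hKL : K ≤ L) (n : ℕ) (t : P), maximalIdeal P ^ n ≤ K →
      maximalIdeal P * L ≤ K → L = K ⊔ Ideal.span {t} → RingHom.ker (algebraMap P C) ≤ L →
      L ≤ maximalIdeal P →
      ∃ g' : C →ₐ[R] P ⧸ K, ∀ x : P,
        Ideal.Quotient.factor hKL (g' (algebraMap P C x)) = Ideal.Quotient.mk L x) :
    Algebra.FormallySmooth R C := by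
  classical
  set I' : Ideal P := RingHom.ker (algebraMap P C) with hI'
  have hI'm : I' ≤ maximalIdeal P := by
    apply IsLocalRing.le_maximalIdeal
    intro h
    have : (1 : P) ∈ I' := by rw [h]; trivial
    rw [RingHom.mem_ker, map_one] at this
    exact one_ne_zero this
  obtain ⟨m, f, hfK, -, hspan, b, hb⟩ :=
    exists_minimal_generators I' (I' : Set P) (Ideal.span_eq I')
  let κ := ResidueField P
  let w : Fin m → κ ⊗[P] Ω[P⁄R] := fun i => (1 : κ) ⊗ₜ[P] D R P (f i)
  have hli : LinearIndependent κ w := by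
    rw [Fintype.linearIndependent_iff]
    intro c hc
    by_contra hne
    push Not at hne
    obtain ⟨i0, hi0⟩ := hne
    choose a ha using fun i => IsLocalRing.residue_surjective (c i)
    let t : P := ∑ i, a i * f i
    have ht : t ∈ I' := Ideal.sum_mem _ fun i _ => Ideal.mul_mem_left _ _ (hfK i)
    have h1t : (1 : κ) ⊗ₜ[P] D R P t = 0 := by
      have : D R P t = ∑ i, (a i • D R P (f i) + f i • D R P (a i)) := by
        simp only [t, map_sum, Derivation.leibniz]
      rw [this, TensorProduct.tmul_sum, ← hc]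
      refine Finset.sum_congr rfl fun i _ => ?_
      rw [TensorProduct.tmul_add, one_tmul_smul, one_tmul_smul, ha]
      have : residue P (f i) = 0 := (IsLocalRing.residue_eq_zero_iff _).mpr (hI'm (hfK i))
      rw [this, zero_smul, add_zero]
    -- the coordinate functional
    let φ : I' →ₗ[P] κ := ((b.coord i0).restrictScalars P) ∘ₗ (TensorProduct.mk P κ I' 1)
    have hφf : ∀ i, φ ⟨f i, hfK i⟩ = if i = i0 then 1 else 0 := by
      intro i
      show b.coord i0 ((1 : κ) ⊗ₜ[P] (⟨f i, hfK i⟩ : I')) = _
      rw [← hb i, Module.Basis.coord_apply, Module.Basis.repr_self, Finsupp.single_apply]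
    have hφsmul : ∀ (r : P) (x : I'), φ (r • x) = residue P r * φ x := by
      intro r x
      rw [map_smul, Algebra.smul_def]
      rfl
    have hφt : φ ⟨t, ht⟩ = c i0 := by
      have : (⟨t, ht⟩ : I') = ∑ i, a i • (⟨f i, hfK i⟩ : I') := by
        apply Subtype.ext
        simp [t]
      rw [this, map_sum]
      simp only [hφsmul, hφf, ha]
      simp
    have hφt0 : φ ⟨t, ht⟩ ≠ 0 := by rw [hφt]; exact hi0
    let K' : Ideal P := Submodule.map I'.subtype (LinearMap.ker φ)
    have hK'I' : K' ≤ I' := by
      rintro x ⟨y, -, rfl⟩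
      exact y.2
    have hmemK' : ∀ x (hx : x ∈ I'), φ ⟨x, hx⟩ = 0 → x ∈ K' := by
      intro x hx h
      exact ⟨⟨x, hx⟩, h, rfl⟩
    have hK'φ : ∀ x (hx : x ∈ I'), x ∈ K' → φ ⟨x, hx⟩ = 0 := by
      rintro x hx ⟨y, hy, rfl⟩
      exact hy
    have hmI' : maximalIdeal P * I' ≤ K' := by
      rw [Ideal.mul_le]
      intro r hr x hx
      refine hmemK' (r * x) (Ideal.mul_mem_left _ _ hx) ?_
      have : (⟨r * x, Ideal.mul_mem_left _ _ hx⟩ : I') = r • ⟨x, hx⟩ := rfl
      rw [this, hφsmul, (IsLocalRing.residue_eq_zero_iff _).mpr hr, zero_mul]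
    have htK' : t ∉ K' := fun h => hφt0 (hK'φ t ht h)
    have hI'sup : I' ≤ K' ⊔ Ideal.span {t} := by
      intro x hx
      obtain ⟨r, hr⟩ := IsLocalRing.residue_surjective (φ ⟨x, hx⟩ / φ ⟨t, ht⟩)
      have hmem : x - r * t ∈ K' := by
        refine hmemK' _ (Ideal.sub_mem _ hx (Ideal.mul_mem_left _ _ ht)) ?_
        have : (⟨x - r * t, Ideal.sub_mem _ hx (Ideal.mul_mem_left _ _ ht)⟩ : I') =
            ⟨x, hx⟩ - r • ⟨t, ht⟩ := rfl
        rw [this, map_sub, hφsmul, hr, div_mul_cancel₀ _ hφt0, sub_self]
      have : x = (x - r * t) + r * t := by ring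
      rw [this]
      exact Ideal.add_mem _ (Ideal.mem_sup_left hmem)
        (Ideal.mem_sup_right (Ideal.mul_mem_left _ _ (Ideal.subset_span rfl)))
    -- Krull intersection
    have hK'm : K' ≤ maximalIdeal P := hK'I'.trans hI'm
    have hK'top : K' ≠ ⊤ := fun h => by
      have := hK'm
      rw [h, top_le_iff] at this
      exact Ideal.IsPrime.ne_top inferInstance this
    have : Nontrivial (P ⧸ K') := Ideal.Quotient.nontrivial_iff.mpr hK'top
    have : IsLocalRing (P ⧸ K') :=
      IsLocalRing.of_surjective' (Ideal.Quotient.mk K') Ideal.Quotient.mk_surjective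
    let mbar : Ideal (P ⧸ K') := (maximalIdeal P).map (Ideal.Quotient.mk K')
    have hmbar : mbar ≠ ⊤ := by
      intro h
      have h1 : (1 : P ⧸ K') ∈ mbar := by rw [h]; trivial
      obtain ⟨y, hy, hy1⟩ := (Ideal.mem_map_iff_of_surjective _
        Ideal.Quotient.mk_surjective).mp h1
      have : y - 1 ∈ K' := by
        rw [← Ideal.Quotient.eq, hy1, map_one]
      have h2 : (1 : P) ∈ maximalIdeal P := by
        have := Ideal.sub_mem _ hy (hK'm this)
        simpa using this
      exact (Ideal.ne_top_iff_one _).mp (Ideal.IsPrime.ne_top inferInstance) h2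
    have hinf := Ideal.iInf_pow_eq_bot_of_isLocalRing mbar hmbar
    have htbar : Ideal.Quotient.mk K' t ≠ 0 := by
      rw [Ne, Ideal.Quotient.eq_zero_iff_mem]; exact htK'
    obtain ⟨n, hn⟩ : ∃ n, Ideal.Quotient.mk K' t ∉ mbar ^ n := by
      by_contra hcon
      push Not at hcon
      apply htbar
      have : Ideal.Quotient.mk K' t ∈ ⨅ n, mbar ^ n := by
        rw [Ideal.mem_iInf]; exact hcon
      rw [hinf] at this
      exact this
    have htK : t ∉ K' ⊔ maximalIdeal P ^ (n + 1) := by
      intro h
      obtain ⟨k, hk, y, hy, hky⟩ := Submodule.mem_sup.mp h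
      apply hn
      have hy' : y ∈ maximalIdeal P ^ n := Ideal.pow_le_pow_right (Nat.le_succ n) hy
      have : Ideal.Quotient.mk K' t = Ideal.Quotient.mk K' y := by
        rw [← hky, map_add, Ideal.Quotient.eq_zero_iff_mem.mpr hk, zero_add]
      rw [this, ← Ideal.map_pow]
      exact Ideal.mem_map_of_mem _ hy'
    set K : Ideal P := K' ⊔ maximalIdeal P ^ (n + 1) with hKdef
    set L : Ideal P := I' ⊔ maximalIdeal P ^ (n + 1) with hLdef
    have hKL : K ≤ L := sup_le_sup_right hK'I' _
    have hmL : maximalIdeal P * L ≤ K := by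
      rw [hLdef, Ideal.mul_sup]
      exact sup_le_sup hmI' Ideal.mul_le_right
    have hLK : L = K ⊔ Ideal.span {t} := by
      apply le_antisymm
      · refine sup_le ?_ (le_sup_right.trans le_sup_left)
        refine hI'sup.trans ?_
        exact sup_le_sup_right le_sup_left _
      · refine sup_le hKL ?_
        rw [Ideal.span_le, Set.singleton_subset_iff]
        exact Ideal.mem_sup_left ht
    have hLm : L ≤ maximalIdeal P :=
      sup_le hI'm (Ideal.pow_le_self (Nat.succ_ne_zero n))
    obtain ⟨g', hg'⟩ := H K L hKL (n + 1) t le_sup_right hmL hLK le_sup_left hLm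
    -- the derivation
    let N : Ideal (P ⧸ K) := RingHom.ker (Ideal.Quotient.factor hKL)
    have hNmem : ∀ x : P, Ideal.Quotient.mk K x ∈ N ↔ x ∈ L := by
      intro x
      rw [RingHom.mem_ker, Ideal.Quotient.factor_mk, Ideal.Quotient.eq_zero_iff_mem]
    have hN : N ^ 2 = ⊥ := by
      rw [pow_two, eq_bot_iff, Ideal.mul_le]
      intro x hx y hy
      obtain ⟨x₀, rfl⟩ := Ideal.Quotient.mk_surjective x
      obtain ⟨y₀, rfl⟩ := Ideal.Quotient.mk_surjective y
      rw [hNmem] at hx hy
      rw [Ideal.mem_bot, ← map_mul, Ideal.Quotient.eq_zero_iff_mem]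
      exact hmL (Ideal.mul_mem_mul (hLm hx) hy)
    let fA : P →ₐ[R] P ⧸ K := g'.comp (IsScalarTower.toAlgHom R P C)
    have e : (Ideal.Quotient.mkₐ R N).comp fA = IsScalarTower.toAlgHom R P ((P ⧸ K) ⧸ N) := by
      ext x
      show Ideal.Quotient.mk N (g' (algebraMap P C x)) =
        Ideal.Quotient.mk N (Ideal.Quotient.mk K x)
      rw [Ideal.Quotient.eq, RingHom.mem_ker, map_sub, sub_eq_zero, hg',
        Ideal.Quotient.factor_mk]
    let δ : Derivation R P N := derivationToSquareZeroOfLift N hN fA e
    have hδt : δ t ≠ 0 := by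
      intro h
      have h2 : ((δ t : N) : P ⧸ K) = fA t - algebraMap P (P ⧸ K) t :=
        derivationToSquareZeroOfLift_apply N hN fA e t
      rw [h] at h2
      have h3 : fA t = 0 := by
        show g' (algebraMap P C t) = 0
        rw [(RingHom.mem_ker).mp ht, map_zero]
      rw [h3, zero_sub, Submodule.coe_zero, zero_eq_neg] at h2
      apply htK
      rw [← Ideal.Quotient.eq_zero_iff_mem]
      exact h2
    have hTors : Module.IsTorsionBySet P N (maximalIdeal P : Set P) := by
      intro x a
      apply Subtype.ext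
      obtain ⟨x₀, hx₀⟩ := Ideal.Quotient.mk_surjective x.1
      have hxL : x₀ ∈ L := by
        rw [← hNmem, hx₀]; exact x.2
      show (a : P) • (x : P ⧸ K) = 0
      rw [← hx₀, Algebra.smul_def, Ideal.Quotient.algebraMap_eq, ← map_mul,
        Ideal.Quotient.eq_zero_iff_mem]
      exact hmL (Ideal.mul_mem_mul a.2 hxL)
    let _ : Module κ N := (hTors.module : Module (P ⧸ maximalIdeal P) N)
    have : IsScalarTower P κ N := IsScalarTower.of_algebraMap_smul fun r x =>
      Module.IsTorsionBySet.mk_smul hTors r x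
    let Λ : κ ⊗[P] Ω[P⁄R] →ₗ[κ] N := δ.liftKaehlerDifferential.liftBaseChange κ
    have hΛ : Λ ((1 : κ) ⊗ₜ[P] D R P t) = δ t := by
      show (1 : κ) • δ.liftKaehlerDifferential (D R P t) = δ t
      rw [one_smul, Derivation.liftKaehlerDifferential_comp_D]
    rw [h1t, map_zero] at hΛ
    exact hδt hΛ.symm
  obtain ⟨g, hg⟩ := LinearMap.exists_leftInverse_of_injective
    (Finsupp.linearCombination κ w) (LinearMap.ker_eq_bot.mpr hli)
  let μ : Fin m → Ω[P⁄R] →ₗ[P] κ := fun j =>
    (((Finsupp.lapply j) ∘ₗ g).restrictScalars P) ∘ₗ (TensorProduct.mk P κ (Ω[P⁄R]) 1)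
  have hμ : ∀ i j, μ j (D R P (f i)) = if i = j then 1 else 0 := by
    intro i j
    have h1 : g (w i) = Finsupp.single i 1 := by
      have := LinearMap.congr_fun hg (Finsupp.single i 1)
      simpa using this
    show (g (w i)) j = _
    rw [h1, Finsupp.single_apply]
  exact formallySmooth_of_functionals hsurj f hspan μ hμ

end Core

end Groth.Agent.Lib.Helper62.LocalJacobian
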