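import Mathlib
import Groth.Prelude.Def_CAlgX
import Groth.Agent.Lib.Helper62.LocalJacobian

/-!
# Adic formal smoothness implies formal smoothness for quotients of Noetherian local formally
smooth algebras (helper62)

* `isAdicFormallySmooth_of_formallySmooth`: discrete formal smoothness implies adic formal
  smoothness.
* `formallySmooth_of_isAdicFormallySmooth`: `P` Noetherian local, formally smooth over `R₀`,
  `P → C` surjective, `C` adically formally smooth (for its maximal ideal) over an intermediate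
  base `R₁`; then `C` is formally smooth over `R₀`.
-/

set_option autoImplicit false
universe u

namespace Groth.Agent.Lib.Helper62.LocalJacobianAdic

open IsLocalRing Groth.Agent.Lib.Helper62.LocalJacobian

theorem isAdicFormallySmooth_of_formallySmooth {R S : Type u} [CommRing R] [CommRing S]
    [Algebra R S] [Algebra.FormallySmooth R S] (𝔫 : Ideal S) :
    CAlgX.IsAdicFormallySmooth R S 𝔫 := by
  intro A _ _ J hJ ψ _
  exact Algebra.FormallySmooth.exists_lift J ⟨2, hJ⟩ ψ

variable {R₀ R₁ P C : Type u} [CommRing R₀] [CommRing R₁] [CommRing P] [CommRing C]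
  [Algebra R₀ R₁] [Algebra R₀ P] [Algebra R₁ P] [IsScalarTower R₀ R₁ P]
  [Algebra R₀ C] [Algebra R₁ C] [IsScalarTower R₀ R₁ C]
  [Algebra P C] [IsScalarTower R₀ P C] [IsScalarTower R₁ P C]

theorem formallySmooth_of_isAdicFormallySmooth [IsLocalRing P] [IsNoetherianRing P]
    [Algebra.FormallySmooth R₀ P] [IsLocalRing C]
    (hsurj : Function.Surjective (algebraMap P C))
    (hC : CAlgX.IsAdicFormallySmooth R₁ C (maximalIdeal C)) :
    Algebra.FormallySmooth R₀ C := by
  classical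
  apply formallySmooth_of_small_lifts hsurj
  intro K L hKL k t hmk hmL hLK hkerL hLm
  let π : (P ⧸ K) →ₐ[R₁] (P ⧸ L) := Ideal.Quotient.factorₐ R₁ hKL
  have hπ : Function.Surjective π := Ideal.Quotient.factor_surjective hKL
  let J : Ideal (P ⧸ K) := RingHom.ker π
  have hJmem : ∀ x : P, Ideal.Quotient.mk K x ∈ J ↔ x ∈ L := by
    intro x
    show π (Ideal.Quotient.mk K x) = 0 ↔ _
    show Ideal.Quotient.factor hKL (Ideal.Quotient.mk K x) = 0 ↔ _
    rw [Ideal.Quotient.factor_mk, Ideal.Quotient.eq_zero_iff_mem]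
  have hJ : J ^ 2 = ⊥ := by
    rw [pow_two, eq_bot_iff, Ideal.mul_le]
    intro x hx y hy
    obtain ⟨x₀, rfl⟩ := Ideal.Quotient.mk_surjective x
    obtain ⟨y₀, rfl⟩ := Ideal.Quotient.mk_surjective y
    rw [hJmem] at hx hy
    rw [Ideal.mem_bot, ← map_mul, Ideal.Quotient.eq_zero_iff_mem]
    exact hmL (Ideal.mul_mem_mul (hLm hx) hy)
  let e : ((P ⧸ K) ⧸ J) ≃ₐ[R₁] (P ⧸ L) := Ideal.quotientKerAlgEquivOfSurjective hπ
  let γ : C →ₐ[R₁] (P ⧸ L) :=
    AlgHom.liftOfSurjective (IsScalarTower.toAlgHom R₁ P C) hsurj (Ideal.Quotient.mkₐ R₁ L) (by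
      intro x hx
      have : x ∈ L := hkerL hx
      rw [RingHom.mem_ker]
      exact Ideal.Quotient.eq_zero_iff_mem.mpr this)
  have hγ : ∀ x : P, γ (algebraMap P C x) = Ideal.Quotient.mk L x := fun x =>
    AlgHom.liftOfSurjective_apply _ hsurj _ _ x
  let ψ : C →ₐ[R₁] ((P ⧸ K) ⧸ J) := e.symm.toAlgHom.comp γ
  have hmC : ∀ c ∈ maximalIdeal C, ∃ x ∈ maximalIdeal P, algebraMap P C x = c := by
    intro c hc
    obtain ⟨x, rfl⟩ := hsurj c
    refine ⟨x, ?_, rfl⟩
    by_contra hx
    have hu : IsUnit x := by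
      rwa [IsLocalRing.mem_maximalIdeal, mem_nonunits_iff, not_not] at hx
    exact (IsLocalRing.mem_maximalIdeal _).mp hc (hu.map _)
  have hψ : ∃ k : ℕ, ∀ x ∈ maximalIdeal C ^ k, ψ x = 0 := by
    refine ⟨k, fun c hc => ?_⟩
    have hle : maximalIdeal C ≤ (maximalIdeal P).map (algebraMap P C) := by
      intro c hc
      obtain ⟨x, hx, rfl⟩ := hmC c hc
      exact Ideal.mem_map_of_mem _ hx
    have hc' : c ∈ (maximalIdeal P ^ k).map (algebraMap P C) := by
      rw [Ideal.map_pow]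
      exact Ideal.pow_right_mono hle k hc
    obtain ⟨x, hx, rfl⟩ := (Ideal.mem_map_iff_of_surjective _ hsurj).mp hc'
    show e.symm (γ (algebraMap P C x)) = 0
    rw [hγ, Ideal.Quotient.eq_zero_iff_mem.mpr (hKL (hmk hx)), map_zero]
  obtain ⟨χ, hχ⟩ := hC (P ⧸ K) J hJ ψ hψ
  refine ⟨χ.restrictScalars R₀, fun x => ?_⟩
  have h1 : Ideal.Quotient.mk J (χ (algebraMap P C x)) = ψ (algebraMap P C x) :=
    AlgHom.congr_fun hχ _
  have h2 : e (Ideal.Quotient.mk J (χ (algebraMap P C x))) = π (χ (algebraMap P C x)) :=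
    Ideal.quotientKerAlgEquivOfSurjective_apply hπ _
  show π (χ (algebraMap P C x)) = _
  rw [← h2, h1]
  show e (e.symm (γ (algebraMap P C x))) = _
  rw [AlgEquiv.apply_symm_apply, hγ]

end Groth.Agent.Lib.Helper62.LocalJacobianAdic
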