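import Mathlib

/-!
# Generic localization lemmas (helper62)

* `mem_smul_top_iff_of_isLocalizedModule` : membership of `f m` in `I • ⊤` of a localization.
* `isLocalizedModule_quotSMulTop_map` : localization commutes with `QuotSMulTop`.
* `isLocalizedModule_lift_of_le` : a localization of a localization is a localization.
-/

set_option autoImplicit false
universe u

open TensorProduct

namespace Groth.Agent.Lib.Helper62.FibReg

section LM

variable {R : Type*} [CommRing R] (W : Submonoid R) {M N : Type*} [AddCommGroup M] [Module R M]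
  [AddCommGroup N] [Module R N] (f : M →ₗ[R] N) [IsLocalizedModule W f]

include W f in
theorem unit_smul_eq_zero {w : R} (hw : w ∈ W) {x : N} (h : w • x = 0) : x = 0 := by
  have hu := IsLocalizedModule.map_units f ⟨w, hw⟩
  rw [Module.End.isUnit_iff] at hu
  apply hu.injective
  simpa using h

include W f in
theorem unit_smul_surjective {w : R} (hw : w ∈ W) (x : N) : ∃ y : N, w • y = x := by
  have hu := IsLocalizedModule.map_units f ⟨w, hw⟩
  rw [Module.End.isUnit_iff] at hu
  obtain ⟨y, hy⟩ := hu.surjective x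
  exact ⟨y, by simpa using hy⟩

theorem exists_smul_eq_map (x : N) : ∃ m : M, ∃ w ∈ W, w • x = f m := by
  obtain ⟨⟨m, w⟩, h⟩ := IsLocalizedModule.surj W f x
  exact ⟨m, w.1, w.2, h⟩

theorem exists_smul_eq_zero_of_map_eq_zero {m : M} (h : f m = 0) : ∃ w ∈ W, w • m = 0 := by
  have h' : f m = f 0 := by rw [h, map_zero]
  obtain ⟨c, hc⟩ := IsLocalizedModule.exists_of_eq (S := W) h'
  exact ⟨c.1, c.2, by simpa [Submonoid.smul_def] using hc⟩

include W f in
/-- `I • ⊤` of a localization is stable under division by elements of `W`. -/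
theorem mem_smul_top_of_smul_mem (I : Ideal R) {w : R} (hw : w ∈ W) {x : N}
    (h : w • x ∈ I • (⊤ : Submodule R N)) : x ∈ I • (⊤ : Submodule R N) := by
  have key : ∀ z ∈ I • (⊤ : Submodule R N), ∃ z' ∈ I • (⊤ : Submodule R N), w • z' = z := by
    intro z hz
    refine Submodule.smul_induction_on hz ?_ ?_
    · intro a ha n _
      obtain ⟨n', hn'⟩ := unit_smul_surjective W f hw n
      exact ⟨a • n', Submodule.smul_mem_smul ha Submodule.mem_top, by
        rw [smul_comm, hn']⟩
    · rintro z₁ z₂ ⟨z₁', h₁, rfl⟩ ⟨z₂', h₂, rfl⟩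
      exact ⟨z₁' + z₂', Submodule.add_mem _ h₁ h₂, smul_add _ _ _⟩
  obtain ⟨z', hz', hz⟩ := key _ h
  have : z' = x := by
    apply sub_eq_zero.mp
    apply unit_smul_eq_zero W f hw
    rw [smul_sub, hz, sub_self]
  rw [← this]
  exact hz'

/-- `f m ∈ I N` iff some multiple `w m` with `w ∈ W` lies in `I M`. -/
theorem map_mem_smul_top_iff (I : Ideal R) (m : M) :
    f m ∈ I • (⊤ : Submodule R N) ↔ ∃ w ∈ W, w • m ∈ I • (⊤ : Submodule R M) := by
  constructor
  · intro h
    have h1 : f m ∈ (I • (⊤ : Submodule R M)).localized₀ W f := by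
      rw [Submodule.localized₀_smul, Submodule.localized₀_top]
      exact h
    rw [Submodule.mem_localized₀] at h1
    obtain ⟨m', hm', s, hs⟩ := h1
    have h2 : f m' = f (s.1 • m) := by
      rw [map_smul, ← hs, ← Submonoid.smul_def, IsLocalizedModule.mk'_cancel']
    obtain ⟨c, hc⟩ := IsLocalizedModule.exists_of_eq (S := W) h2
    refine ⟨c.1 * s.1, W.mul_mem c.2 s.2, ?_⟩
    rw [mul_smul]
    have : c.1 • s.1 • m = c.1 • m' := by
      simpa [Submonoid.smul_def] using hc.symm
    rw [this]
    exact Submodule.smul_mem _ _ hm'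
  · rintro ⟨w, hw, h⟩
    have h1 : f (w • m) ∈ I • (⊤ : Submodule R N) := by
      have : (I • (⊤ : Submodule R M)).map f ≤ I • (⊤ : Submodule R N) := by
        rw [Submodule.map_smul'']
        exact Submodule.smul_mono le_rfl le_top
      exact this ⟨_, h, rfl⟩
    rw [map_smul] at h1
    exact mem_smul_top_of_smul_mem W f I hw h1

end LM

section QL

variable {R : Type*} [CommRing R] (W : Submonoid R) {M N : Type*} [AddCommGroup M] [Module R M]
  [AddCommGroup N] [Module R N] (f : M →ₗ[R] N) [IsLocalizedModule W f] (y : R)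

/-- Localization commutes with `QuotSMulTop`. -/
theorem isLocalizedModule_quotSMulTop_map : IsLocalizedModule W (QuotSMulTop.map y f) where
  map_units w := by
    rw [Module.End.isUnit_iff]
    constructor
    · rw [injective_iff_map_eq_zero]
      intro x hx
      obtain ⟨n, rfl⟩ := Submodule.Quotient.mk_surjective _ x
      have h1 : (Submodule.Quotient.mk (w.1 • n) : QuotSMulTop y N) = 0 := by
        simpa using hx
      rw [Submodule.Quotient.mk_eq_zero, Submodule.mem_smul_pointwise_iff_exists] at h1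
      obtain ⟨n', -, hn'⟩ := h1
      obtain ⟨n'', hn''⟩ := unit_smul_surjective W f w.2 n'
      rw [Submodule.Quotient.mk_eq_zero, Submodule.mem_smul_pointwise_iff_exists]
      refine ⟨n'', Submodule.mem_top, ?_⟩
      apply sub_eq_zero.mp
      apply unit_smul_eq_zero W f w.2 (x := y • n'' - n)
      rw [smul_sub, smul_comm, hn'', hn', sub_self]
    · intro x
      obtain ⟨n, rfl⟩ := Submodule.Quotient.mk_surjective _ x
      obtain ⟨n', hn'⟩ := unit_smul_surjective W f w.2 n
      refine ⟨Submodule.Quotient.mk n', ?_⟩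
      simp only [Module.algebraMap_end_apply]
      rw [← Submodule.Quotient.mk_smul, hn']
  surj x := by
    obtain ⟨n, rfl⟩ := Submodule.Quotient.mk_surjective _ x
    obtain ⟨⟨m, w⟩, h⟩ := IsLocalizedModule.surj W f n
    refine ⟨⟨Submodule.Quotient.mk m, w⟩, ?_⟩
    simp only [QuotSMulTop.map_apply_mk]
    rw [← h]
    rfl
  exists_of_eq {x₁ x₂} h := by
    obtain ⟨m₁, rfl⟩ := Submodule.Quotient.mk_surjective _ x₁
    obtain ⟨m₂, rfl⟩ := Submodule.Quotient.mk_surjective _ x₂
    simp only [QuotSMulTop.map_apply_mk] at h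
    rw [Submodule.Quotient.eq, Submodule.mem_smul_pointwise_iff_exists] at h
    obtain ⟨n, -, hn⟩ := h
    obtain ⟨m', w', hw', hm'⟩ := exists_smul_eq_map W f n
    have h1 : f (w' • (m₁ - m₂) - y • m') = 0 := by
      rw [map_sub, map_smul, map_smul, map_sub, ← hm', ← hn, smul_comm y w' n, sub_self]
    obtain ⟨w'', hw'', h2⟩ := exists_smul_eq_zero_of_map_eq_zero W f h1
    refine ⟨⟨w'' * w', W.mul_mem hw'' hw'⟩, ?_⟩
    rw [Submonoid.smul_def, Submonoid.smul_def]
    simp only
    rw [← Submodule.Quotient.mk_smul, ← Submodule.Quotient.mk_smul, Submodule.Quotient.eq,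
      Submodule.mem_smul_pointwise_iff_exists]
    refine ⟨w'' • m', Submodule.mem_top, ?_⟩
    rw [smul_sub] at h2
    rw [← smul_sub, mul_smul, smul_comm y w'' m']
    exact (sub_eq_zero.mp h2).symm

end QL

section LL

variable {R : Type*} [CommRing R] (W' W : Submonoid R) (hle : W' ≤ W) {M Y N : Type*}
  [AddCommGroup M] [Module R M] [AddCommGroup Y] [Module R Y] [AddCommGroup N] [Module R N]
  (f : M →ₗ[R] Y) [IsLocalizedModule W' f] (ℓ : M →ₗ[R] N) [IsLocalizedModule W ℓ]

include hle ℓ in
theorem isUnit_of_le (w : W') : IsUnit ((algebraMap R (Module.End R N)) w) :=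
  IsLocalizedModule.map_units ℓ ⟨w.1, hle w.2⟩

/-- The induced map from a coarser localization. -/
noncomputable def liftOfLe : Y →ₗ[R] N :=
  IsLocalizedModule.lift W' f ℓ (isUnit_of_le W' W hle ℓ)

theorem liftOfLe_apply (m : M) : liftOfLe W' W hle f ℓ (f m) = ℓ m :=
  IsLocalizedModule.lift_apply W' f ℓ (isUnit_of_le W' W hle ℓ) m

/-- A localization of a localization is a localization. -/
theorem isLocalizedModule_liftOfLe : IsLocalizedModule W (liftOfLe W' W hle f ℓ) where
  map_units w := IsLocalizedModule.map_units ℓ w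
  surj n := by
    obtain ⟨⟨m, w⟩, h⟩ := IsLocalizedModule.surj W ℓ n
    exact ⟨⟨f m, w⟩, by rw [liftOfLe_apply]; exact h⟩
  exists_of_eq {y₁ y₂} h := by
    obtain ⟨m, w', hw', hm⟩ := exists_smul_eq_map W' f (y₁ - y₂)
    have h1 : ℓ m = 0 := by
      rw [← liftOfLe_apply W' W hle f ℓ, ← hm, map_smul, map_sub, h, sub_self, smul_zero]
    obtain ⟨w, hw, h2⟩ := exists_smul_eq_zero_of_map_eq_zero W ℓ h1
    refine ⟨⟨w * w', W.mul_mem hw (hle hw')⟩, ?_⟩
    rw [Submonoid.smul_def, Submonoid.smul_def]
    simp only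
    rw [← sub_eq_zero, ← smul_sub, mul_smul, hm, ← map_smul, h2, map_zero]

end LL

end Groth.Agent.Lib.Helper62.FibReg
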