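import Mathlib

/-!
# Flat descent of "regularity up to a multiplicative set" (helper62)
-/

set_option autoImplicit false
universe u

open TensorProduct

namespace Groth.Agent.Lib.Helper62.FibReg

section AnnFlat

variable {S₀ S : Type*} [CommRing S₀] [CommRing S] [Algebra S₀ S] [Module.Flat S₀ S]
  {X₀ X : Type*} [AddCommGroup X₀] [Module S₀ X₀] [AddCommGroup X] [Module S X] [Module S₀ X]
  [IsScalarTower S₀ S X] (j : X₀ →ₗ[S₀] X) (hj : IsBaseChange S j)

include hj in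
/-- Flat base change of the annihilator of an element. -/
theorem mem_map_ann_of_smul_eq_zero (x₀ : X₀) (t : S) (ht : t • j x₀ = 0) :
    t ∈ Ideal.map (algebraMap S₀ S) (LinearMap.ker (LinearMap.toSpanSingleton S₀ X₀ x₀)) := by
  set 𝔞 : Ideal S₀ := LinearMap.ker (LinearMap.toSpanSingleton S₀ X₀ x₀) with h𝔞
  have hex : Function.Exact (Submodule.subtype 𝔞) (LinearMap.toSpanSingleton S₀ X₀ x₀) :=
    LinearMap.exact_subtype_ker_map _
  have hex' := Module.Flat.lTensor_exact S hex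
  have h1 : (LinearMap.toSpanSingleton S₀ X₀ x₀).lTensor S (t ⊗ₜ[S₀] (1 : S₀)) = 0 := by
    rw [LinearMap.lTensor_tmul, LinearMap.toSpanSingleton_apply, one_smul]
    apply hj.equiv.injective
    rw [map_zero, hj.equiv_tmul, ht]
  obtain ⟨z, hz⟩ := (hex' _).mp h1
  have key : ∀ z : S ⊗[S₀] 𝔞, (TensorProduct.rid S₀ S) ((Submodule.subtype 𝔞).lTensor S z) ∈
      Ideal.map (algebraMap S₀ S) 𝔞 := by
    intro z
    induction z using TensorProduct.induction_on with
    | zero => simp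
    | tmul s a =>
      rw [LinearMap.lTensor_tmul, TensorProduct.rid_tmul, Algebra.smul_def]
      exact Ideal.mul_mem_right _ _ (Ideal.mem_map_of_mem _ a.2)
    | add a b ha hb => rw [map_add, map_add]; exact Ideal.add_mem _ ha hb
  have := key z
  rw [hz, TensorProduct.rid_tmul, one_smul] at this
  exact this

end AnnFlat

section FFD

variable {S₀ S : Type*} [CommRing S₀] [CommRing S] [Algebra S₀ S] [Module.Flat S₀ S]
  {X₀ X : Type*} [AddCommGroup X₀] [Module S₀ X₀] [AddCommGroup X] [Module S X] [Module S₀ X]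
  [IsScalarTower S₀ S X] (j : X₀ →ₗ[S₀] X) (hj : IsBaseChange S j)
  (W₀ : Submonoid S₀) (W : Submonoid S)

include hj in
/-- Descent of "regular up to `W`" along a flat map which is "local" with respect to `W₀`, `W`. -/
theorem regular_descent (hW : ∀ w₀ ∈ W₀, algebraMap S₀ S w₀ ∈ W)
    (H : ∀ 𝔞 : Ideal S₀, (∀ a ∈ 𝔞, a ∉ W₀) → ∀ t ∈ Ideal.map (algebraMap S₀ S) 𝔞, t ∉ W)
    (g₀ : S₀)
    (h : ∀ x : X, ∀ w ∈ W, w • algebraMap S₀ S g₀ • x = 0 → ∃ w' ∈ W, w' • x = 0)
    (x₀ : X₀) (w₀ : S₀) (hw₀ : w₀ ∈ W₀) (hx₀ : w₀ • g₀ • x₀ = 0) :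
    ∃ w₀' ∈ W₀, w₀' • x₀ = 0 := by
  have h1 : algebraMap S₀ S w₀ • algebraMap S₀ S g₀ • j x₀ = 0 := by
    rw [algebraMap_smul, algebraMap_smul, ← map_smul, ← map_smul, hx₀, map_zero]
  obtain ⟨w', hw', hw'x⟩ := h (j x₀) _ (hW w₀ hw₀) h1
  have h2 := mem_map_ann_of_smul_eq_zero j hj x₀ w' hw'x
  by_contra hcon
  push Not at hcon
  refine H _ ?_ w' h2 hw'
  intro a ha haW
  refine hcon a haW ?_
  simpa [LinearMap.mem_ker, LinearMap.toSpanSingleton_apply] using ha

end FFD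

end Groth.Agent.Lib.Helper62.FibReg
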