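import Mathlib
import Groth.Agent.H76.FlatBaseChange
import Groth.Agent.H76.FlatKernel

/-!
# Polynomial rings over a residue field (helper62)

For a prime `p` of `R` with residue field `K = κ(p)` and `Ψ : R[x] → K[x]`:
* `exists_map_eq_C_mul` : every `t : K[x]` becomes the image of a polynomial over `R` after
  multiplication by a unit `C (ψ s)`, `s ∉ p`.
* `mem_of_map_mem_map` : if `q` is a prime of `R[x]` over `p`, then `Ψ t' ∈ Ψ(q) K[x] → t' ∈ q`.
* `exists_smul_mem_of_cokerMap_eq_zero` : the kernel of `Coker c → Coker (Ψ c)`.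
-/

set_option autoImplicit false
universe u

open TensorProduct Groth.Agent.H76.FlatKernel Groth.Agent.H76.FlatBaseChange

namespace Groth.Agent.Lib.Helper62.FibReg

attribute [local instance] MvPolynomial.algebraMvPolynomial

section ResField

variable {R : Type*} [CommRing R] (p : Ideal R) [p.IsPrime] {σ : Type*}

/-- Elements of the residue field are fractions. -/
theorem exists_mul_eq_algebraMap (k : p.ResidueField) :
    ∃ s ∉ p, ∃ r : R, algebraMap R p.ResidueField r = algebraMap R p.ResidueField s * k := by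
  obtain ⟨⟨x, y⟩, hxy⟩ := IsLocalization.surj (nonZeroDivisors (R ⧸ p)) k
  obtain ⟨r, rfl⟩ := Ideal.Quotient.mk_surjective x
  obtain ⟨s, hs⟩ := Ideal.Quotient.mk_surjective y.1
  refine ⟨s, ?_, r, ?_⟩
  · intro hsp
    have : (Ideal.Quotient.mk p s) = 0 := Ideal.Quotient.eq_zero_iff_mem.mpr hsp
    rw [hs] at this
    exact nonZeroDivisors.coe_ne_zero y this
  · simp only at hxy
    rw [← hs, Ideal.algebraMap_quotient_residueField_mk,
      Ideal.algebraMap_quotient_residueField_mk] at hxy
    rw [← hxy, mul_comm]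

theorem algebraMap_ne_zero_of_notMem {s : R} (hs : s ∉ p) :
    algebraMap R p.ResidueField s ≠ 0 := by
  rw [Ne, Ideal.algebraMap_residueField_eq_zero]
  exact hs

/-- Clearing denominators of a polynomial over the residue field. -/
theorem exists_map_eq_C_mul (t : MvPolynomial σ p.ResidueField) :
    ∃ s ∉ p, ∃ t' : MvPolynomial σ R,
      MvPolynomial.map (algebraMap R p.ResidueField) t' =
        MvPolynomial.C (algebraMap R p.ResidueField s) * t := by
  induction t using MvPolynomial.induction_on with
  | C k =>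
    obtain ⟨s, hs, r, hr⟩ := exists_mul_eq_algebraMap p k
    exact ⟨s, hs, MvPolynomial.C r, by rw [MvPolynomial.map_C, hr, map_mul]⟩
  | add t₁ t₂ h₁ h₂ =>
    obtain ⟨s₁, hs₁, t₁', ht₁⟩ := h₁
    obtain ⟨s₂, hs₂, t₂', ht₂⟩ := h₂
    refine ⟨s₁ * s₂, ?_, MvPolynomial.C s₂ * t₁' + MvPolynomial.C s₁ * t₂', ?_⟩
    · exact fun h => (Ideal.IsPrime.mem_or_mem inferInstance h).elim hs₁ hs₂
    · simp only [map_add, map_mul, MvPolynomial.map_C, ht₁, ht₂]
      ring
  | mul_X t i h =>
    obtain ⟨s, hs, t', ht⟩ := h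
    exact ⟨s, hs, t' * MvPolynomial.X i, by rw [map_mul, ht, MvPolynomial.map_X, mul_assoc]⟩

/-- Clearing denominators of a finite family of polynomials over the residue field. -/
theorem exists_map_eq_C_mul_family {ι : Type*} [Finite ι] (u : ι → MvPolynomial σ p.ResidueField) :
    ∃ s ∉ p, ∃ u' : ι → MvPolynomial σ R, ∀ i,
      MvPolynomial.map (algebraMap R p.ResidueField) (u' i) =
        MvPolynomial.C (algebraMap R p.ResidueField s) * u i := by
  classical
  cases nonempty_fintype ι
  choose s hs t ht using fun i => exists_map_eq_C_mul p (u i)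
  refine ⟨∏ i, s i, ?_, fun i => MvPolynomial.C (∏ j ∈ Finset.univ.erase i, s j) * t i, ?_⟩
  · intro h
    obtain ⟨i, -, hi⟩ := (Ideal.IsPrime.prod_mem_iff (hp := inferInstance)).mp h
    exact hs i hi
  · intro i
    rw [map_mul, MvPolynomial.map_C, ht, ← mul_assoc, ← map_mul, ← map_mul,
      ← Finset.mul_prod_erase Finset.univ s (Finset.mem_univ i), mul_comm (s i)]

end ResField

section Contraction

variable {R : Type*} [CommRing R] {σ : Type*} (q : Ideal (MvPolynomial σ R)) [q.IsPrime]

/-- The prime of `R` below `q`. -/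
noncomputable abbrev below : Ideal R := q.comap (MvPolynomial.C : R →+* MvPolynomial σ R)

omit [q.IsPrime] in
theorem map_C_below_le : Ideal.map (MvPolynomial.C : R →+* MvPolynomial σ R) (below q) ≤ q :=
  Ideal.map_comap_le

omit [q.IsPrime] in
theorem C_notMem {s : R} (hs : s ∉ below q) : (MvPolynomial.C s : MvPolynomial σ R) ∉ q := hs

/-- Elements of the extension of `q` to `κ(p)[x]` have a unit multiple coming from `q`. -/
theorem exists_mem_map_eq_C_mul (z : MvPolynomial σ (below q).ResidueField)
    (hz : z ∈ Ideal.map (MvPolynomial.map (algebraMap R (below q).ResidueField)) q) :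
    ∃ s ∉ below q, ∃ y ∈ q, MvPolynomial.map (algebraMap R (below q).ResidueField) y =
      MvPolynomial.C (algebraMap R (below q).ResidueField s) * z := by
  refine Submodule.span_induction ?_ ?_ ?_ ?_ hz
  · rintro _ ⟨y, hy, rfl⟩
    exact ⟨1, fun h => (below q).ne_top_iff_one.mp (Ideal.IsPrime.ne_top inferInstance) h, y, hy,
      by simp⟩
  · exact ⟨1, fun h => (below q).ne_top_iff_one.mp (Ideal.IsPrime.ne_top inferInstance) h, 0,
      q.zero_mem, by simp⟩
  · rintro z₁ z₂ - - ⟨s₁, hs₁, y₁, hy₁, h₁⟩ ⟨s₂, hs₂, y₂, hy₂, h₂⟩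
    refine ⟨s₁ * s₂, fun h => (Ideal.IsPrime.mem_or_mem inferInstance h).elim hs₁ hs₂,
      MvPolynomial.C s₂ * y₁ + MvPolynomial.C s₁ * y₂,
      q.add_mem (q.mul_mem_left _ hy₁) (q.mul_mem_left _ hy₂), ?_⟩
    simp only [map_add, map_mul, MvPolynomial.map_C, h₁, h₂]
    ring
  · rintro t z - ⟨s, hs, y, hy, h⟩
    obtain ⟨s', hs', t', ht'⟩ := exists_map_eq_C_mul (below q) t
    refine ⟨s' * s, fun h => (Ideal.IsPrime.mem_or_mem inferInstance h).elim hs' hs,
      t' * y, q.mul_mem_left _ hy, ?_⟩
    rw [map_mul, ht', h, smul_eq_mul, map_mul, map_mul]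
    ring

/-- The extension of `q` to `κ(p)[x]` contracts to `q`. -/
theorem mem_of_map_mem_map (t' : MvPolynomial σ R)
    (h : MvPolynomial.map (algebraMap R (below q).ResidueField) t' ∈
      Ideal.map (MvPolynomial.map (algebraMap R (below q).ResidueField)) q) : t' ∈ q := by
  obtain ⟨s, hs, y, hy, hys⟩ := exists_mem_map_eq_C_mul q _ h
  have h1 : MvPolynomial.map (algebraMap R (below q).ResidueField) (y - MvPolynomial.C s * t') = 0 := by
    rw [map_sub, map_mul, MvPolynomial.map_C, hys, sub_self]
  have h2 : y - MvPolynomial.C s * t' ∈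
      RingHom.ker (MvPolynomial.map (σ := σ) (algebraMap R (below q).ResidueField)) := h1
  rw [MvPolynomial.ker_map, Ideal.ker_algebraMap_residueField] at h2
  have h3 : y - MvPolynomial.C s * t' ∈ q := map_C_below_le q h2
  have h4 : MvPolynomial.C s * t' ∈ q := by
    have := q.sub_mem hy h3
    rwa [sub_sub_cancel] at this
  exact (Ideal.IsPrime.mem_or_mem inferInstance h4).resolve_left (C_notMem q hs)

end Contraction

section CokerKer

variable {R : Type*} [CommRing R] (p : Ideal R) [p.IsPrime] {n a b : ℕ}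
  (c : Fin a → Fin b → MvPolynomial (Fin n) R)

/-- The cokernel of a matrix. -/
abbrev Coker {P : Type*} [CommRing P] {a b : ℕ} (c : Fin a → Fin b → P) : Type _ :=
  (Fin b → P) ⧸ Submodule.span P (Set.range c)

/-- The ideal `p R[x]`. -/
noncomputable abbrev pP : Ideal (MvPolynomial (Fin n) R) :=
  Ideal.map (MvPolynomial.C : R →+* MvPolynomial (Fin n) R) p

/-- `Coker c → Coker (Ψ c)` kills `p • Coker c`. -/
theorem cokerMap_eq_zero_of_mem (m : Coker c)
    (hm : m ∈ (pP (n := n) p) • (⊤ : Submodule (MvPolynomial (Fin n) R) (Coker c))) :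
    cokerMap (P₂ := MvPolynomial (Fin n) p.ResidueField) c m = 0 := by
  refine Submodule.smul_induction_on hm ?_ ?_
  · intro r hr x _
    rw [map_smul]
    have h1 : algebraMap (MvPolynomial (Fin n) R) (MvPolynomial (Fin n) p.ResidueField) r = 0 := by
      have : r ∈ RingHom.ker (MvPolynomial.map (σ := Fin n) (algebraMap R p.ResidueField)) := by
        rw [MvPolynomial.ker_map, Ideal.ker_algebraMap_residueField]
        exact hr
      exact this
    rw [← algebraMap_smul (MvPolynomial (Fin n) p.ResidueField), h1, zero_smul]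
  · intro x y hx hy
    rw [map_add, hx, hy, add_zero]

/-- The kernel of `Coker c → Coker (Ψ c)` is the `p`-saturation of `p • Coker c`. -/
theorem exists_smul_mem_of_cokerMap_eq_zero (m : Coker c)
    (h : cokerMap (P₂ := MvPolynomial (Fin n) p.ResidueField) c m = 0) :
    ∃ s ∉ p, (MvPolynomial.C s : MvPolynomial (Fin n) R) • m ∈
      (pP (n := n) p) • (⊤ : Submodule (MvPolynomial (Fin n) R) (Coker c)) := by
  obtain ⟨v, rfl⟩ := Submodule.Quotient.mk_surjective _ m
  rw [cokerMap_mk, Submodule.Quotient.mk_eq_zero, ← Fintype.range_linearCombination] at h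
  obtain ⟨l, hl⟩ := h
  obtain ⟨s, hs, l', hl'⟩ := exists_map_eq_C_mul_family p l
  refine ⟨s, hs, ?_⟩
  -- the vector `C s • v - Σ l' j • c j` has all coordinates in `p R[x]`
  set d : Fin b → MvPolynomial (Fin n) R :=
    (MvPolynomial.C s : MvPolynomial (Fin n) R) • v - Fintype.linearCombination _ c l' with hd
  have hdmem : d ∈ (pP (n := n) p) • (⊤ : Submodule (MvPolynomial (Fin n) R)
      (Fin b → MvPolynomial (Fin n) R)) := by
    rw [mem_smul_top_pi]
    intro i
    have h1 : MvPolynomial.map (algebraMap R p.ResidueField) (d i) = 0 := by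
      have hli := congrFun hl i
      simp only [Fintype.linearCombination_apply, Finset.sum_apply, Pi.smul_apply,
        smul_eq_mul] at hli
      simp only [hd, Pi.sub_apply, Pi.smul_apply, smul_eq_mul, Fintype.linearCombination_apply,
        Finset.sum_apply, map_sub, map_mul, MvPolynomial.map_C, map_sum, hl']
      simp only [MvPolynomial.algebraMap_def] at hli
      rw [← hli, Finset.mul_sum]
      simp only [mul_assoc, sub_self]
    have : d i ∈ RingHom.ker (MvPolynomial.map (σ := Fin n) (algebraMap R p.ResidueField)) := h1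
    rwa [MvPolynomial.ker_map, Ideal.ker_algebraMap_residueField] at this
  have h2 : (MvPolynomial.C s : MvPolynomial (Fin n) R) • (Submodule.Quotient.mk v : Coker c) =
      Submodule.Quotient.mk d := by
    rw [← Submodule.Quotient.mk_smul, hd]
    symm
    rw [Submodule.Quotient.eq, sub_sub_cancel_left, neg_mem_iff,
      ← Fintype.range_linearCombination]
    exact ⟨l', rfl⟩
  rw [h2]
  have : (pP (n := n) p • (⊤ : Submodule (MvPolynomial (Fin n) R)
      (Fin b → MvPolynomial (Fin n) R))).map (Submodule.mkQ _) ≤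
      (pP (n := n) p) • (⊤ : Submodule (MvPolynomial (Fin n) R) (Coker c)) := by
    rw [Submodule.map_smul'']
    exact Submodule.smul_mono le_rfl le_top
  exact this ⟨d, hdmem, rfl⟩

end CokerKer

end Groth.Agent.Lib.Helper62.FibReg
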