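import Mathlib
import Groth.Agent.Lib.Helper62.FibReg1
import Groth.Agent.Lib.Helper62.FibReg2

/-!
# The fibre condition for matrix cokernels over polynomial rings (helper62)

* `MF c q g` : `g` is injective on `(Coker c / p Coker c)_q` (elementwise form, `p = q ∩ R`).
* `CFam d W g` : `g` is injective on `W⁻¹ Coker d`.
* `MF_iff_CF` : `MF c q g` iff `CFam` for the image of `c` in `κ(p)[x]`.
* `MF_descent` : descent of `MF` along `R₀ → R`.
-/

set_option autoImplicit false
universe u

open TensorProduct Groth.Agent.H76.FlatKernel Groth.Agent.H76.FlatBaseChange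

namespace Groth.Agent.Lib.Helper62.FibReg

attribute [local instance] MvPolynomial.algebraMvPolynomial

/-- `g` is injective on `W⁻¹ (Coker d)`, elementwise. -/
def CFam {S : Type*} [CommRing S] {a b : ℕ} (d : Fin a → Fin b → S) (W : Submonoid S) (g : S) :
    Prop :=
  ∀ x : Coker d, ∀ w ∈ W, w • g • x = 0 → ∃ w' ∈ W, w' • x = 0

section MF

variable {R : Type*} [CommRing R] {n a b : ℕ} (c : Fin a → Fin b → MvPolynomial (Fin n) R)
  (q : Ideal (MvPolynomial (Fin n) R)) [q.IsPrime] (g : MvPolynomial (Fin n) R)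

/-- `g` is injective on the localization at `q` of the fibre of `Coker c` over `p = q ∩ R`. -/
def MF : Prop :=
  ∀ m : Coker c, ∀ w ∉ q,
    w • g • m ∈ (pP (n := n) (below q)) • (⊤ : Submodule (MvPolynomial (Fin n) R) (Coker c)) →
    ∃ w' ∉ q, w' • m ∈ (pP (n := n) (below q)) • (⊤ : Submodule (MvPolynomial (Fin n) R) (Coker c))

/-- The image of `q.primeCompl` in `κ(p)[x]`. -/
noncomputable abbrev Wt : Submonoid (MvPolynomial (Fin n) (below q).ResidueField) :=
  q.primeCompl.map (algebraMap (MvPolynomial (Fin n) R) (MvPolynomial (Fin n) (below q).ResidueField))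

/-- The fibre condition over the residue field. -/
def CF : Prop :=
  CFam (fun j i => algebraMap (MvPolynomial (Fin n) R)
      (MvPolynomial (Fin n) (below q).ResidueField) (c j i)) (Wt q)
    (algebraMap (MvPolynomial (Fin n) R) (MvPolynomial (Fin n) (below q).ResidueField) g)

theorem CF_of_MF (h : MF c q g) : CF c q g := by
  intro x w hw hx
  obtain ⟨w₁, hw₁, rfl⟩ := hw
  obtain ⟨u, rfl⟩ := Submodule.Quotient.mk_surjective _ x
  obtain ⟨s, hs, u', hu'⟩ := exists_map_eq_C_mul_family (below q) u
  set m : Coker c := Submodule.Quotient.mk u' with hm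
  set Ψ := algebraMap (MvPolynomial (Fin n) R) (MvPolynomial (Fin n) (below q).ResidueField)
    with hΨ
  have hcm : cokerMap (P₂ := MvPolynomial (Fin n) (below q).ResidueField) c m =
      (MvPolynomial.C (algebraMap R (below q).ResidueField s) :
        MvPolynomial (Fin n) (below q).ResidueField) • Submodule.Quotient.mk u := by
    rw [hm, cokerMap_mk, ← Submodule.Quotient.mk_smul]
    congr 1
    ext i : 1
    rw [MvPolynomial.algebraMap_def, hu' i]
    rfl
  have h1 : cokerMap (P₂ := MvPolynomial (Fin n) (below q).ResidueField) c (w₁ • g • m) = 0 := by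
    rw [map_smul, map_smul, hcm, ← algebraMap_smul (MvPolynomial (Fin n) (below q).ResidueField) w₁,
      ← algebraMap_smul (MvPolynomial (Fin n) (below q).ResidueField) g, smul_comm _ (MvPolynomial.C _),
      smul_comm _ (MvPolynomial.C _)]
    have : Ψ w₁ • Ψ g • (Submodule.Quotient.mk u : Coker _) = 0 := hx
    rw [this, smul_zero]
  obtain ⟨s', hs', h2⟩ := exists_smul_mem_of_cokerMap_eq_zero (below q) c _ h1
  rw [← mul_smul] at h2
  obtain ⟨w', hw', h3⟩ := h m (MvPolynomial.C s' * w₁)
    (fun hh => (Ideal.IsPrime.mem_or_mem inferInstance hh).elim (C_notMem q hs') hw₁) h2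
  have h4 := cokerMap_eq_zero_of_mem (below q) c _ h3
  rw [map_smul, hcm, ← algebraMap_smul (MvPolynomial (Fin n) (below q).ResidueField) w',
    ← mul_smul] at h4
  refine ⟨Ψ (w' * MvPolynomial.C s), ⟨w' * MvPolynomial.C s, ?_, rfl⟩, ?_⟩
  · exact fun hh => (Ideal.IsPrime.mem_or_mem inferInstance hh).elim hw' (C_notMem q hs)
  · rw [map_mul]
    have : Ψ (MvPolynomial.C s) = MvPolynomial.C (algebraMap R (below q).ResidueField s) := by
      rw [hΨ, MvPolynomial.algebraMap_def, MvPolynomial.map_C]
    rw [this]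
    exact h4

theorem MF_of_CF (h : CF c q g) : MF c q g := by
  intro m w hw hm
  set Ψ := algebraMap (MvPolynomial (Fin n) R) (MvPolynomial (Fin n) (below q).ResidueField)
    with hΨ
  have h1 := cokerMap_eq_zero_of_mem (below q) c _ hm
  rw [map_smul, map_smul, ← algebraMap_smul (MvPolynomial (Fin n) (below q).ResidueField) w,
    ← algebraMap_smul (MvPolynomial (Fin n) (below q).ResidueField) g] at h1
  obtain ⟨w', ⟨w₁, hw₁, rfl⟩, h2⟩ := h _ (Ψ w) ⟨w, hw, rfl⟩ h1
  rw [algebraMap_smul, ← map_smul] at h2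
  obtain ⟨s, hs, h3⟩ := exists_smul_mem_of_cokerMap_eq_zero (below q) c _ h2
  rw [← mul_smul] at h3
  exact ⟨MvPolynomial.C s * w₁,
    fun hh => (Ideal.IsPrime.mem_or_mem inferInstance hh).elim (C_notMem q hs) hw₁, h3⟩

end MF

end Groth.Agent.Lib.Helper62.FibReg

namespace Groth.Agent.Lib.Helper62.FibReg

attribute [local instance] MvPolynomial.algebraMvPolynomial

section Descent

variable {R₀ R : Type*} [CommRing R₀] [CommRing R] [Algebra R₀ R] {n a b : ℕ}
  (c₀ : Fin a → Fin b → MvPolynomial (Fin n) R₀)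
  (q : Ideal (MvPolynomial (Fin n) R)) [q.IsPrime] (g₀ : MvPolynomial (Fin n) R₀)

/-- The contraction of `q` to `R₀[x]`. -/
noncomputable abbrev q₀ : Ideal (MvPolynomial (Fin n) R₀) :=
  q.comap (algebraMap (MvPolynomial (Fin n) R₀) (MvPolynomial (Fin n) R))

omit [q.IsPrime] in
theorem below_q₀ : below (q₀ (R₀ := R₀) q) = (below q).comap (algebraMap R₀ R) := by
  ext r
  simp only [Ideal.mem_comap]
  rw [MvPolynomial.algebraMap_def, MvPolynomial.map_C]

/-- Descent of the fibre condition along `R₀ → R`. -/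
theorem MF_descent
    (h : MF (fun j i => algebraMap (MvPolynomial (Fin n) R₀) (MvPolynomial (Fin n) R) (c₀ j i)) q
      (algebraMap (MvPolynomial (Fin n) R₀) (MvPolynomial (Fin n) R) g₀)) :
    MF c₀ (q₀ (R₀ := R₀) q) g₀ := by
  apply MF_of_CF
  have hCF := CF_of_MF _ q _ h
  have hp := below_q₀ (R₀ := R₀) q
  -- the residue fields
  let φ : (below (q₀ (R₀ := R₀) q)).ResidueField →+* (below q).ResidueField :=
    Ideal.ResidueField.map (below (q₀ (R₀ := R₀) q)) (below q) (algebraMap R₀ R) hp
  let _ : Algebra (below (q₀ (R₀ := R₀) q)).ResidueField (below q).ResidueField := φ.toAlgebra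
  have hφ : ∀ r : R₀, algebraMap (below (q₀ (R₀ := R₀) q)).ResidueField (below q).ResidueField
      (algebraMap R₀ (below (q₀ (R₀ := R₀) q)).ResidueField r) =
        algebraMap R (below q).ResidueField (algebraMap R₀ R r) :=
    fun r => Ideal.ResidueField.map_algebraMap _ _ _ hp r
  have hsq : ∀ t : MvPolynomial (Fin n) R₀,
      algebraMap (MvPolynomial (Fin n) (below (q₀ (R₀ := R₀) q)).ResidueField)
        (MvPolynomial (Fin n) (below q).ResidueField)
        (algebraMap (MvPolynomial (Fin n) R₀)
          (MvPolynomial (Fin n) (below (q₀ (R₀ := R₀) q)).ResidueField) t) =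
      algebraMap (MvPolynomial (Fin n) R) (MvPolynomial (Fin n) (below q).ResidueField)
        (algebraMap (MvPolynomial (Fin n) R₀) (MvPolynomial (Fin n) R) t) := by
    intro t
    simp only [MvPolynomial.algebraMap_def, MvPolynomial.map_map]
    have hcomp : (algebraMap (below (q₀ (R₀ := R₀) q)).ResidueField (below q).ResidueField).comp
        (algebraMap R₀ (below (q₀ (R₀ := R₀) q)).ResidueField) =
        (algebraMap R (below q).ResidueField).comp (algebraMap R₀ R) := RingHom.ext hφ
    rw [hcomp]
  have : Module.Flat (MvPolynomial (Fin n) (below (q₀ (R₀ := R₀) q)).ResidueField)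
      (MvPolynomial (Fin n) (below q).ResidueField) := by
    have hpo : Algebra.IsPushout (below (q₀ (R₀ := R₀) q)).ResidueField
        (MvPolynomial (Fin n) (below (q₀ (R₀ := R₀) q)).ResidueField) (below q).ResidueField
        (MvPolynomial (Fin n) (below q).ResidueField) := inferInstance
    exact Module.Flat.isBaseChange (below (q₀ (R₀ := R₀) q)).ResidueField
      (MvPolynomial (Fin n) (below (q₀ (R₀ := R₀) q)).ResidueField) (below q).ResidueField
      (MvPolynomial (Fin n) (below q).ResidueField) hpo.out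
  intro x₀ w₀ hw₀ hx₀
  refine regular_descent
    (cokerMap (P₂ := MvPolynomial (Fin n) (below q).ResidueField)
      (fun j i => algebraMap (MvPolynomial (Fin n) R₀)
        (MvPolynomial (Fin n) (below (q₀ (R₀ := R₀) q)).ResidueField) (c₀ j i)))
    (isBaseChange_cokerMap _) (Wt (q₀ (R₀ := R₀) q)) (Wt q) ?_ ?_ _ ?_ x₀ w₀ hw₀ hx₀
  · -- `W₀` maps into `W`
    rintro _ ⟨t, ht, rfl⟩
    exact ⟨algebraMap _ _ t, ht, (hsq t).symm⟩
  · -- the "local" condition
    intro 𝔞 h𝔞 t ht htW
    obtain ⟨t', ht', rfl⟩ := htW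
    have hle : Ideal.map (algebraMap (MvPolynomial (Fin n) (below (q₀ (R₀ := R₀) q)).ResidueField)
        (MvPolynomial (Fin n) (below q).ResidueField)) 𝔞 ≤
        Ideal.map (MvPolynomial.map (algebraMap R (below q).ResidueField)) q := by
      rw [Ideal.map_le_iff_le_comap]
      intro a ha
      rw [Ideal.mem_comap]
      obtain ⟨s, hs, a', ha'⟩ := exists_map_eq_C_mul (below (q₀ (R₀ := R₀) q)) a
      have h1 : a' ∈ q₀ (R₀ := R₀) q := by
        by_contra hcon
        refine h𝔞 _ (𝔞.mul_mem_left
          (MvPolynomial.C (algebraMap R₀ (below (q₀ (R₀ := R₀) q)).ResidueField s)) ha) ?_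
        rw [← ha']
        exact ⟨a', hcon, rfl⟩
      have h2 : algebraMap (MvPolynomial (Fin n) R) (MvPolynomial (Fin n) (below q).ResidueField)
          (algebraMap (MvPolynomial (Fin n) R₀) (MvPolynomial (Fin n) R) a') ∈
          Ideal.map (MvPolynomial.map (algebraMap R (below q).ResidueField)) q :=
        Ideal.mem_map_of_mem _ h1
      rw [← hsq, MvPolynomial.algebraMap_def (σ := Fin n) (R := R₀), ha', map_mul] at h2
      have hk : algebraMap (below (q₀ (R₀ := R₀) q)).ResidueField (below q).ResidueField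
          (algebraMap R₀ (below (q₀ (R₀ := R₀) q)).ResidueField s) ≠ 0 := by
        rw [Ne, map_eq_zero]
        exact algebraMap_ne_zero_of_notMem _ hs
      have hC : algebraMap (MvPolynomial (Fin n) (below (q₀ (R₀ := R₀) q)).ResidueField)
          (MvPolynomial (Fin n) (below q).ResidueField)
          (MvPolynomial.C (algebraMap R₀ (below (q₀ (R₀ := R₀) q)).ResidueField s)) =
          MvPolynomial.C (algebraMap (below (q₀ (R₀ := R₀) q)).ResidueField (below q).ResidueField
            (algebraMap R₀ (below (q₀ (R₀ := R₀) q)).ResidueField s)) := by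
        rw [MvPolynomial.algebraMap_def, MvPolynomial.map_C]
      rw [hC] at h2
      have h3 := Ideal.mul_mem_left _ (MvPolynomial.C (algebraMap (below (q₀ (R₀ := R₀) q)).ResidueField
        (below q).ResidueField (algebraMap R₀ (below (q₀ (R₀ := R₀) q)).ResidueField s))⁻¹) h2
      rwa [← mul_assoc, ← map_mul, inv_mul_cancel₀ hk, map_one, one_mul] at h3
    exact ht' (mem_of_map_mem_map q t' (hle ht))
  · -- the fibre condition over `κ(p)`
    have hfam : (fun j i => algebraMap (MvPolynomial (Fin n) (below (q₀ (R₀ := R₀) q)).ResidueField)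
        (MvPolynomial (Fin n) (below q).ResidueField)
        (algebraMap (MvPolynomial (Fin n) R₀)
          (MvPolynomial (Fin n) (below (q₀ (R₀ := R₀) q)).ResidueField) (c₀ j i))) =
        (fun j i => algebraMap (MvPolynomial (Fin n) R) (MvPolynomial (Fin n) (below q).ResidueField)
          (algebraMap (MvPolynomial (Fin n) R₀) (MvPolynomial (Fin n) R) (c₀ j i))) := by
      funext j i
      exact hsq _
    unfold CF at hCF
    rw [← hfam, ← hsq] at hCF
    exact hCF

end Descent

end Groth.Agent.Lib.Helper62.FibReg
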