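import Mathlib
import Groth.Agent.Lib.Helper93.DepthFlat

/-!
# The Noetherian local step with a non-local base (helper62)
-/

set_option autoImplicit false
universe u

open TensorProduct IsLocalRing

namespace Groth.Agent.Lib.Helper62.FibReg

section NL

variable {R S : Type*} [CommRing R] [CommRing S] [Algebra R S] [IsLocalRing S] [IsNoetherianRing S]
  (N : Type*) [AddCommGroup N] [Module S N] [Module R N] [IsScalarTower R S N]
  [Module.Finite S N] [Module.Flat R N]

/-- EGA 0_IV 15.1.16 / Stacks 00ME for a local Noetherian target over an arbitrary base ring: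
if `y ∈ S` is regular on the fibre `N / p N` (`p` the prime of `R` below the maximal ideal of
`S`), then `y` is `N`-regular and `N / y N` is flat over `R`. -/
theorem isSMulRegular_and_flat_of_regular_fibre' {y : S}
    (hy : IsSMulRegular
      (N ⧸ (((maximalIdeal S).comap (algebraMap R S)).map (algebraMap R S)) •
        (⊤ : Submodule S N)) y) :
    IsSMulRegular N y ∧ Module.Flat R (QuotSMulTop y N) := by
  set p : Ideal R := (maximalIdeal S).comap (algebraMap R S) with hp
  have hpprime : p.IsPrime := Ideal.comap_isPrime _ _
  let Rp := Localization.AtPrime p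
  have hunits : ∀ r : p.primeCompl, IsUnit (algebraMap R S r) := by
    intro r
    have h1 : algebraMap R S r ∉ maximalIdeal S := r.2
    simpa [mem_maximalIdeal, mem_nonunits_iff] using h1
  let φ : Rp →+* S := IsLocalization.lift (M := p.primeCompl) (g := algebraMap R S) hunits
  have hφ : ∀ r : R, φ (algebraMap R Rp r) = algebraMap R S r :=
    fun r => IsLocalization.lift_eq hunits r
  let _ : Algebra Rp S := φ.toAlgebra
  have _ : IsScalarTower R Rp S := IsScalarTower.of_algebraMap_eq (fun r => (hφ r).symm)
  let _ : Module Rp N := Module.compHom N (algebraMap Rp S)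
  have _ : IsScalarTower Rp S N := IsScalarTower.of_algebraMap_smul (fun _ _ => rfl)
  have _ : IsScalarTower R Rp N := by
    refine IsScalarTower.of_algebraMap_smul (fun r n => ?_)
    change algebraMap Rp S (algebraMap R Rp r) • n = r • n
    rw [← IsScalarTower.algebraMap_apply, algebraMap_smul]
  have hloc : IsLocalHom (algebraMap Rp S) := by
    constructor
    intro a ha
    obtain ⟨⟨r, s⟩, rfl⟩ := IsLocalization.mk'_surjective p.primeCompl a
    simp only at ha ⊢
    have h1 : algebraMap Rp S (IsLocalization.mk' Rp r s) * algebraMap R S s = algebraMap R S r := by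
      rw [IsScalarTower.algebraMap_apply R Rp S, ← map_mul, IsLocalization.mk'_spec,
        ← IsScalarTower.algebraMap_apply]
    have h2 : IsUnit (algebraMap R S r) := by
      rw [← h1]
      exact ha.mul (hunits s)
    have h3 : r ∈ p.primeCompl := by
      intro hr
      have : algebraMap R S r ∈ maximalIdeal S := hr
      exact (mem_maximalIdeal _).mp this h2
    exact (IsLocalization.AtPrime.isUnit_mk'_iff Rp p r s).mpr h3
  have _ : Module.Flat Rp N := (Module.flat_iff_of_isLocalization Rp p.primeCompl N).mpr inferInstance
  have hmap : (maximalIdeal Rp).map (algebraMap Rp S) = p.map (algebraMap R S) := by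
    rw [← Localization.AtPrime.map_eq_maximalIdeal, Ideal.map_map,
      ← IsScalarTower.algebraMap_eq]
  have hy' : IsSMulRegular
      (N ⧸ ((maximalIdeal Rp).map (algebraMap Rp S)) • (⊤ : Submodule S N)) y := by
    rw [hmap]
    exact hy
  obtain ⟨h1, h2⟩ :=
    Groth.Agent.Lib.Helper93.DepthFlat.isSMulRegular_and_flat_of_regular_fibre (R := Rp) N hy'
  refine ⟨h1, ?_⟩
  have _ : IsScalarTower R Rp (QuotSMulTop y N) := by
    refine IsScalarTower.of_algebraMap_smul (fun r x => ?_)
    obtain ⟨n, rfl⟩ := Submodule.Quotient.mk_surjective _ x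
    rw [← Submodule.Quotient.mk_smul, ← Submodule.Quotient.mk_smul, algebraMap_smul]
  exact (Module.flat_iff_of_isLocalization Rp p.primeCompl (QuotSMulTop y N)).mp h2

end NL

end Groth.Agent.Lib.Helper62.FibReg
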