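import Mathlib
import Groth.Agent.Lib.Helper62.FibReg0
import Groth.Agent.Lib.Helper62.FibReg3
import Groth.Agent.Lib.Helper62.FibReg4

/-!
# The Noetherian stage (helper62)
-/

set_option autoImplicit false
universe u

open TensorProduct IsLocalRing Groth.Agent.H76.FlatKernel Groth.Agent.H76.FlatBaseChange

namespace Groth.Agent.Lib.Helper62.FibReg

section Stage

variable {R₀ : Type*} [CommRing R₀] [IsNoetherianRing R₀] {n a b : ℕ}
  (c₀ : Fin a → Fin b → MvPolynomial (Fin n) R₀)
  (q₀ : Ideal (MvPolynomial (Fin n) R₀)) [q₀.IsPrime] (g₀ : MvPolynomial (Fin n) R₀)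

omit [IsNoetherianRing R₀] in
theorem comap_maximalIdeal_eq_below :
    (maximalIdeal (Localization.AtPrime q₀)).comap (algebraMap R₀ (Localization.AtPrime q₀)) =
      below q₀ := by
  rw [IsScalarTower.algebraMap_eq R₀ (MvPolynomial (Fin n) R₀) (Localization.AtPrime q₀),
    ← Ideal.comap_comap]
  have := Localization.AtPrime.under_maximalIdeal (I := q₀)
  rw [Ideal.under_def] at this
  rw [this]
  rfl

/-- The Noetherian case: the fibre condition implies regularity and flatness of the quotient. -/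
theorem stage_step [Module.Flat R₀ (LocalizedModule q₀.primeCompl (Coker c₀))]
    (h : MF c₀ q₀ g₀) :
    IsSMulRegular (LocalizedModule q₀.primeCompl (Coker c₀))
        (algebraMap (MvPolynomial (Fin n) R₀) (Localization.AtPrime q₀) g₀) ∧
      Module.Flat R₀ (QuotSMulTop (algebraMap (MvPolynomial (Fin n) R₀) (Localization.AtPrime q₀) g₀)
        (LocalizedModule q₀.primeCompl (Coker c₀))) := by
  refine isSMulRegular_and_flat_of_regular_fibre' (R := R₀) (S := Localization.AtPrime q₀)
    (LocalizedModule q₀.primeCompl (Coker c₀))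
    (y := algebraMap (MvPolynomial (Fin n) R₀) (Localization.AtPrime q₀) g₀) ?_
  rw [comap_maximalIdeal_eq_below, isSMulRegular_quotient_iff_mem_of_smul_mem]
  set N₀ := LocalizedModule q₀.primeCompl (Coker c₀) with hN₀
  set f := LocalizedModule.mkLinearMap q₀.primeCompl (Coker c₀) with hf
  -- reformulate membership in terms of the `P₀`-submodule `(p P₀) • ⊤`
  have hmem : ∀ x : N₀, x ∈ ((below q₀).map (algebraMap R₀ (Localization.AtPrime q₀))) •
      (⊤ : Submodule (Localization.AtPrime q₀) N₀) ↔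
      x ∈ (pP (n := n) (below q₀)) • (⊤ : Submodule (MvPolynomial (Fin n) R₀) N₀) := by
    intro x
    rw [Groth.Agent.Lib.Helper93.DepthFlat.mem_map_smul_top_iff,
      ← Groth.Agent.Lib.Helper93.DepthFlat.mem_map_smul_top_iff (S := MvPolynomial (Fin n) R₀)]
    rfl
  intro x hx
  rw [hmem] at hx ⊢
  obtain ⟨m, w, hw, hm⟩ := exists_smul_eq_map q₀.primeCompl f x
  have h1 : f (g₀ • m) ∈ (pP (n := n) (below q₀)) •
      (⊤ : Submodule (MvPolynomial (Fin n) R₀) N₀) := by
    rw [map_smul, ← hm, smul_comm]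
    refine Submodule.smul_mem _ _ ?_
    rwa [algebraMap_smul] at hx
  obtain ⟨w₁, hw₁, h2⟩ := (map_mem_smul_top_iff q₀.primeCompl f _ _).mp h1
  obtain ⟨w', hw', h3⟩ := h m w₁ hw₁ h2
  have h4 : f m ∈ (pP (n := n) (below q₀)) •
      (⊤ : Submodule (MvPolynomial (Fin n) R₀) N₀) :=
    (map_mem_smul_top_iff q₀.primeCompl f _ _).mpr ⟨w', hw', h3⟩
  rw [← hm] at h4
  exact mem_smul_top_of_smul_mem q₀.primeCompl f _ hw h4

end Stage

end Groth.Agent.Lib.Helper62.FibReg
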