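import Mathlib
import Groth.Agent.H76.FlatBaseChange
import Groth.Agent.Lib.Helper93.DepthFlat
import Groth.Agent.Lib.Helper62.FibReg0

/-!
# Base change of "regular with flat quotient" along a pushout square (helper62)
-/

set_option autoImplicit false
universe u

open TensorProduct Groth.Agent.H76.FlatBaseChange
open scoped Pointwise

namespace Groth.Agent.Lib.Helper62.FibReg

theorem exact_lsmul_mkQ' {P N : Type*} [CommRing P] [AddCommGroup N] [Module P N] (y : P) :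
    Function.Exact (LinearMap.lsmul P N y) (Submodule.mkQ (y • (⊤ : Submodule P N))) := by
  intro n
  constructor
  · intro hn
    have h' : n ∈ y • (⊤ : Submodule P N) := (Submodule.Quotient.mk_eq_zero _).mp hn
    obtain ⟨b, -, hb⟩ := (Submodule.mem_smul_pointwise_iff_exists _ _ _).mp h'
    exact ⟨b, hb⟩
  · rintro ⟨b, rfl⟩
    exact (Submodule.Quotient.mk_eq_zero _).mpr
      ((Submodule.mem_smul_pointwise_iff_exists _ _ _).mpr ⟨b, Submodule.mem_top, rfl⟩)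

section BCUp

variable {A₁ A₂ P₁ P₂ M₁ M₂ : Type*} [CommRing A₁] [CommRing A₂] [CommRing P₁] [CommRing P₂]
  [Algebra A₁ A₂] [Algebra A₁ P₁] [Algebra A₂ P₂] [Algebra P₁ P₂] [Algebra A₁ P₂]
  [IsScalarTower A₁ A₂ P₂] [IsScalarTower A₁ P₁ P₂] [Algebra.IsPushout A₁ A₂ P₁ P₂]
  [AddCommGroup M₁] [Module P₁ M₁] [Module A₁ M₁] [IsScalarTower A₁ P₁ M₁]
  [AddCommGroup M₂] [Module P₂ M₂] [Module A₂ M₂] [IsScalarTower A₂ P₂ M₂] [Module P₁ M₂]
  [IsScalarTower P₁ P₂ M₂]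
  (h : M₁ →ₗ[P₁] M₂) (hbc : IsBaseChange P₂ h) (W₁ : Submonoid P₁) (W₂ : Submonoid P₂)
  (hW : Algebra.algebraMapSubmonoid P₂ W₁ ≤ W₂) (g₁ : P₁)
  {N₂ : Type*} [AddCommGroup N₂] [Module P₂ N₂] (ℓ₂ : M₂ →ₗ[P₂] N₂) [IsLocalizedModule W₂ ℓ₂]

omit [Algebra A₂ P₂] [Algebra A₁ P₂] [IsScalarTower A₁ A₂ P₂] [IsScalarTower A₁ P₁ P₂]
  [Algebra.IsPushout A₁ A₂ P₁ P₂] in
/-- The action of `g₁` on `P₂ ⊗[P₁] N` is `P₂ ⊗ (g₁ • ·)`. -/
theorem algebraMap_smul_tmul_eq {N : Type*} [AddCommGroup N] [Module P₁ N] (z : P₂ ⊗[P₁] N) :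
    algebraMap P₁ P₂ g₁ • z = LinearMap.lTensor P₂ (LinearMap.lsmul P₁ N g₁) z := by
  induction z with
  | zero => simp
  | tmul p n =>
    rw [LinearMap.lTensor_tmul, LinearMap.lsmul_apply, TensorProduct.smul_tmul',
      ← TensorProduct.smul_tmul, Algebra.smul_def g₁ p, smul_eq_mul]
  | add a b ha hb => rw [smul_add, ha, hb, map_add]

variable (A₁ A₂) in
include A₂ in
/-- `g₁` is regular on `P₂ ⊗[P₁] N` when it is regular on `N` with `A₁`-flat quotient. -/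
theorem isSMulRegular_tensor {N : Type*} [AddCommGroup N] [Module P₁ N] [Module A₁ N]
    [IsScalarTower A₁ P₁ N] (hreg : IsSMulRegular N g₁) [Module.Flat A₁ (QuotSMulTop g₁ N)]
    (z : P₂ ⊗[P₁] N) (hz : algebraMap P₁ P₂ g₁ • z = 0) : z = 0 := by
  set u₁ : N →ₗ[P₁] N := LinearMap.lsmul P₁ N g₁ with hu₁
  have hex : Function.Exact (u₁.restrictScalars A₁)
      ((Submodule.mkQ (g₁ • (⊤ : Submodule P₁ N))).restrictScalars A₁) :=
    Groth.Agent.Lib.Helper93.DepthFlat.exact_lsmul_mkQ g₁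
  have hsurj : Function.Surjective ((Submodule.mkQ (g₁ • (⊤ : Submodule P₁ N))).restrictScalars A₁) :=
    fun x => Submodule.mkQ_surjective (g₁ • (⊤ : Submodule P₁ N)) x
  have hinj : Function.Injective (u₁.restrictScalars A₁) := hreg
  have hinjA : Function.Injective (LinearMap.lTensor A₂ (u₁.restrictScalars A₁)) :=
    LinearMap.lTensor_injective_of_exact_of_flat (P := QuotSMulTop g₁ N) _ hsurj _ hinj hex A₂
  let e := Algebra.IsPushout.cancelBaseChange A₁ A₂ P₁ P₂ N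
  have hnat : ∀ z' : A₂ ⊗[A₁] N, LinearMap.lTensor P₂ u₁ (e.symm z') =
      e.symm (LinearMap.lTensor A₂ (u₁.restrictScalars A₁) z') := by
    intro z'
    induction z' with
    | zero => simp
    | tmul s n =>
      rw [LinearMap.lTensor_tmul, Algebra.IsPushout.cancelBaseChange_symm_tmul,
        Algebra.IsPushout.cancelBaseChange_symm_tmul, LinearMap.lTensor_tmul]
      rfl
    | add a b ha hb => simp only [map_add, ha, hb]
  rw [algebraMap_smul_tmul_eq] at hz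
  have h1 : LinearMap.lTensor A₂ (u₁.restrictScalars A₁) (e z) = 0 := by
    apply e.symm.injective
    rw [← hnat, LinearEquiv.symm_apply_apply, map_zero]
    exact hz
  have h2 : e z = 0 := by
    apply hinjA
    rw [h1, map_zero]
  exact e.injective (by rw [h2, map_zero])

omit [Module A₂ M₂] [IsScalarTower A₂ P₂ M₂] in
include A₂ hbc hW ℓ₂ in
/-- Regularity passes up along the pushout square. -/
theorem isSMulRegular_baseChange (hreg : IsSMulRegular (LocalizedModule W₁ M₁) g₁)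
    [Module.Flat A₁ (QuotSMulTop g₁ (LocalizedModule W₁ M₁))] :
    IsSMulRegular N₂ (algebraMap P₁ P₂ g₁) := by
  set N₁ := LocalizedModule W₁ M₁ with hN₁
  let f' : P₂ ⊗[P₁] M₁ →ₗ[P₂] P₂ ⊗[P₁] N₁ :=
    AlgebraTensorModule.lTensor P₂ P₂ (LocalizedModule.mkLinearMap W₁ M₁)
  have h1 : IsLocalizedModule W₁ (f'.restrictScalars P₁) :=
    isLocalizedModule_lTensor W₁ (LocalizedModule.mkLinearMap W₁ M₁) P₂
  have h2 : IsLocalizedModule (Algebra.algebraMapSubmonoid P₂ W₁) f' :=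
    IsLocalizedModule.of_restrictScalars W₁ f'
  let f : M₂ →ₗ[P₂] P₂ ⊗[P₁] N₁ := f' ∘ₗ hbc.equiv.symm.toLinearMap
  have h3 : IsLocalizedModule (Algebra.algebraMapSubmonoid P₂ W₁) f :=
    IsLocalizedModule.of_linearEquiv_right _ f' hbc.equiv.symm
  rw [isSMulRegular_iff_right_eq_zero_of_smul]
  intro x hx
  obtain ⟨m, w, hw, hm⟩ := exists_smul_eq_map W₂ ℓ₂ x
  have h4 : ℓ₂ (algebraMap P₁ P₂ g₁ • m) = 0 := by
    rw [map_smul, ← hm, smul_comm, hx, smul_zero]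
  obtain ⟨w₁, hw₁, h5⟩ := exists_smul_eq_zero_of_map_eq_zero W₂ ℓ₂ h4
  have h6 : algebraMap P₁ P₂ g₁ • f (w₁ • m) = 0 := by
    rw [← map_smul, smul_comm, h5, map_zero]
  have h7 : f (w₁ • m) = 0 := isSMulRegular_tensor A₁ A₂ g₁ hreg _ h6
  obtain ⟨w₂, hw₂, h8⟩ := exists_smul_eq_zero_of_map_eq_zero (Algebra.algebraMapSubmonoid P₂ W₁) f h7
  have h9 : (w₂ * w₁ * w) • x = 0 := by
    rw [mul_smul, hm, ← map_smul, mul_smul, h8, map_zero]
  exact unit_smul_eq_zero W₂ ℓ₂ (W₂.mul_mem (W₂.mul_mem (hW hw₂) hw₁) hw) h9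

variable (P₂) in
/-- The base change map between the quotients by `g₁`. -/
noncomputable def quotSMulTopBC :
    QuotSMulTop g₁ M₁ →ₗ[P₁] QuotSMulTop (algebraMap P₁ P₂ g₁) M₂ :=
  Submodule.liftQ _
    ((Submodule.mkQ (algebraMap P₁ P₂ g₁ • (⊤ : Submodule P₂ M₂))).restrictScalars P₁ ∘ₗ h) (by
      intro x hx
      obtain ⟨b, -, rfl⟩ := (Submodule.mem_smul_pointwise_iff_exists _ _ _).mp hx
      rw [LinearMap.mem_ker, LinearMap.comp_apply, map_smul, LinearMap.restrictScalars_apply,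
        Submodule.mkQ_apply, Submodule.Quotient.mk_eq_zero, ← algebraMap_smul P₂ g₁ (h b)]
      exact (Submodule.mem_smul_pointwise_iff_exists _ _ _).mpr ⟨h b, Submodule.mem_top, rfl⟩)

theorem quotSMulTopBC_mk (m : M₁) :
    quotSMulTopBC P₂ h g₁ (Submodule.Quotient.mk m : QuotSMulTop g₁ M₁) =
      (Submodule.Quotient.mk (h m) : QuotSMulTop (algebraMap P₁ P₂ g₁) M₂) := rfl

include hbc in
theorem isBaseChange_quotSMulTopBC : IsBaseChange P₂ (quotSMulTopBC P₂ h g₁) := by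
  refine IsBaseChange.of_right_exact P₂ h h (quotSMulTopBC P₂ h g₁)
    (f := LinearMap.lsmul P₁ M₁ g₁) (g := Submodule.mkQ (g₁ • (⊤ : Submodule P₁ M₁)))
    (f' := LinearMap.lsmul P₂ M₂ (algebraMap P₁ P₂ g₁))
    (g' := Submodule.mkQ (algebraMap P₁ P₂ g₁ • (⊤ : Submodule P₂ M₂)))
    ?_ ?_ hbc hbc (exact_lsmul_mkQ' g₁) (Submodule.mkQ_surjective _)
    (exact_lsmul_mkQ' _) (Submodule.mkQ_surjective _)
  · ext m
    simp only [LinearMap.coe_comp, Function.comp_apply, LinearMap.lsmul_apply, map_smul,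
      LinearMap.coe_restrictScalars, algebraMap_smul]
  · ext m
    rfl

include hbc hW ℓ₂ in
/-- Flatness of the quotient passes up along the pushout square. -/
theorem flat_quotSMulTop_baseChange
    [Module.Flat A₁ (QuotSMulTop g₁ (LocalizedModule W₁ M₁))] [Module A₂ N₂]
    [IsScalarTower A₂ P₂ N₂] :
    Module.Flat A₂ (QuotSMulTop (algebraMap P₁ P₂ g₁) N₂) := by
  have hQ₁ : IsLocalizedModule W₁ (QuotSMulTop.map g₁ (LocalizedModule.mkLinearMap W₁ M₁)) :=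
    isLocalizedModule_quotSMulTop_map W₁ (LocalizedModule.mkLinearMap W₁ M₁) g₁
  let e₁ : LocalizedModule W₁ (QuotSMulTop g₁ M₁) ≃ₗ[P₁]
      QuotSMulTop g₁ (LocalizedModule W₁ M₁) :=
    IsLocalizedModule.linearEquiv W₁ (LocalizedModule.mkLinearMap W₁ (QuotSMulTop g₁ M₁))
      (QuotSMulTop.map g₁ (LocalizedModule.mkLinearMap W₁ M₁))
  have hfl₁ : Module.Flat A₁ (LocalizedModule W₁ (QuotSMulTop g₁ M₁)) :=
    Module.Flat.of_linearEquiv (e₁.restrictScalars A₁)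
  have hfl₂ : Module.Flat A₂ (LocalizedModule W₂ (QuotSMulTop (algebraMap P₁ P₂ g₁) M₂)) :=
    flat_localized_baseChange (A₁ := A₁) (A₂ := A₂) (quotSMulTopBC P₂ h g₁)
      (isBaseChange_quotSMulTopBC h hbc g₁) W₁ W₂ hW
  have hQ₂ : IsLocalizedModule W₂ (QuotSMulTop.map (algebraMap P₁ P₂ g₁) ℓ₂) :=
    isLocalizedModule_quotSMulTop_map W₂ ℓ₂ _
  let e₂ : LocalizedModule W₂ (QuotSMulTop (algebraMap P₁ P₂ g₁) M₂) ≃ₗ[P₂]
      QuotSMulTop (algebraMap P₁ P₂ g₁) N₂ :=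
    IsLocalizedModule.linearEquiv W₂
      (LocalizedModule.mkLinearMap W₂ (QuotSMulTop (algebraMap P₁ P₂ g₁) M₂))
      (QuotSMulTop.map (algebraMap P₁ P₂ g₁) ℓ₂)
  exact Module.Flat.of_linearEquiv (e₂.symm.restrictScalars A₂)

end BCUp

end Groth.Agent.Lib.Helper62.FibReg
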