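import Mathlib
import Groth.Agent.H76.FlatDescentLocal
import Groth.Agent.H76.FlatLocusFP
import Groth.Agent.Lib.Helper62.FibReg5
import Groth.Agent.Lib.Helper62.FibReg6

/-!
# The core step at the level of matrix cokernels over polynomial rings (helper62)
-/

set_option autoImplicit false
universe u

open TensorProduct IsLocalRing Groth.Agent.H76.FlatKernel Groth.Agent.H76.FlatBaseChange
  Groth.Agent.H76.FlatDescentLocal
open scoped Pointwise

namespace Groth.Agent.Lib.Helper62.FibReg

attribute [local instance] MvPolynomial.algebraMvPolynomial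

section Conv

variable {P S N : Type*} [CommRing P] [CommRing S] [Algebra P S] [AddCommGroup N] [Module P N]
  [Module S N] [IsScalarTower P S N] (g : P)

theorem smul_top_restrictScalars_eq :
    ((algebraMap P S g) • (⊤ : Submodule S N)).restrictScalars P = g • (⊤ : Submodule P N) := by
  ext x
  rw [Submodule.restrictScalars_mem, Submodule.mem_smul_pointwise_iff_exists,
    Submodule.mem_smul_pointwise_iff_exists]
  constructor
  · rintro ⟨b, -, rfl⟩
    exact ⟨b, Submodule.mem_top, (algebraMap_smul S g b).symm⟩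
  · rintro ⟨b, -, rfl⟩
    exact ⟨b, Submodule.mem_top, algebraMap_smul S g b⟩

/-- The quotient by `algebraMap g` (as `S`-module) and by `g` (as `P`-module) agree. -/
noncomputable def quotSMulTopAlgebraMapEquiv :
    QuotSMulTop (algebraMap P S g) N ≃ₗ[P] QuotSMulTop g N :=
  (Submodule.Quotient.restrictScalarsEquiv P ((algebraMap P S g) • (⊤ : Submodule S N))).symm ≪≫ₗ
    Submodule.quotEquivOfEq _ _ (smul_top_restrictScalars_eq g)

theorem isSMulRegular_algebraMap_iff :
    IsSMulRegular N (algebraMap P S g) ↔ IsSMulRegular N g := by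
  unfold IsSMulRegular
  have : (fun x : N => algebraMap P S g • x) = fun x : N => g • x := by
    funext x
    exact algebraMap_smul S g x
  rw [this]

end Conv

section Core

section Stage

variable {R₀ R : Type*} [CommRing R₀] [IsNoetherianRing R₀] [CommRing R] [Algebra R₀ R] {n a b : ℕ}
  (c₀ : Fin a → Fin b → MvPolynomial (Fin n) R₀)
  (q : Ideal (MvPolynomial (Fin n) R)) [q.IsPrime] (g₀ : MvPolynomial (Fin n) R₀)
  {N : Type*} [AddCommGroup N] [Module (MvPolynomial (Fin n) R) N] [Module R N]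
  [IsScalarTower R (MvPolynomial (Fin n) R) N]
  (ℓ : Coker (fun j i => algebraMap (MvPolynomial (Fin n) R₀) (MvPolynomial (Fin n) R) (c₀ j i))
    →ₗ[MvPolynomial (Fin n) R] N) [IsLocalizedModule q.primeCompl ℓ]

include ℓ in
/-- The core step, given a Noetherian stage. -/
theorem core_of_stage
    (hfl₀ : Module.Flat R₀ (LocalizedModule (q₀ (R₀ := R₀) q).primeCompl (Coker c₀)))
    (h : MF (fun j i => algebraMap (MvPolynomial (Fin n) R₀) (MvPolynomial (Fin n) R) (c₀ j i)) q
      (algebraMap (MvPolynomial (Fin n) R₀) (MvPolynomial (Fin n) R) g₀)) :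
    IsSMulRegular N (algebraMap (MvPolynomial (Fin n) R₀) (MvPolynomial (Fin n) R) g₀) ∧
      Module.Flat R
        (QuotSMulTop (algebraMap (MvPolynomial (Fin n) R₀) (MvPolynomial (Fin n) R) g₀) N) := by
  have hMF₀ : MF c₀ (q₀ (R₀ := R₀) q) g₀ := MF_descent c₀ q g₀ h
  obtain ⟨h1, h2⟩ := stage_step c₀ (q₀ (R₀ := R₀) q) g₀ hMF₀
  have h1' : IsSMulRegular (LocalizedModule (q₀ (R₀ := R₀) q).primeCompl (Coker c₀)) g₀ :=
    (isSMulRegular_algebraMap_iff (S := Localization.AtPrime (q₀ (R₀ := R₀) q))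
      (N := LocalizedModule (q₀ (R₀ := R₀) q).primeCompl (Coker c₀)) g₀).mp h1
  have h2' : Module.Flat R₀
      (QuotSMulTop g₀ (LocalizedModule (q₀ (R₀ := R₀) q).primeCompl (Coker c₀))) :=
    Module.Flat.of_linearEquiv
      ((quotSMulTopAlgebraMapEquiv (S := Localization.AtPrime (q₀ (R₀ := R₀) q))
        (N := LocalizedModule (q₀ (R₀ := R₀) q).primeCompl (Coker c₀)) g₀).symm.restrictScalars R₀)
  have hW : Algebra.algebraMapSubmonoid (MvPolynomial (Fin n) R) (q₀ (R₀ := R₀) q).primeCompl ≤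
      q.primeCompl := by
    rintro _ ⟨y, hy, rfl⟩
    exact hy
  refine ⟨?_, ?_⟩
  · exact isSMulRegular_baseChange (A₁ := R₀) (A₂ := R) (P₁ := MvPolynomial (Fin n) R₀)
      (P₂ := MvPolynomial (Fin n) R) (cokerMap (P₂ := MvPolynomial (Fin n) R) c₀)
      (isBaseChange_cokerMap c₀) (q₀ (R₀ := R₀) q).primeCompl q.primeCompl hW g₀ ℓ h1'
  · exact flat_quotSMulTop_baseChange (A₁ := R₀) (A₂ := R) (P₁ := MvPolynomial (Fin n) R₀)
      (P₂ := MvPolynomial (Fin n) R) (cokerMap (P₂ := MvPolynomial (Fin n) R) c₀)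
      (isBaseChange_cokerMap c₀) (q₀ (R₀ := R₀) q).primeCompl q.primeCompl hW g₀ ℓ

end Stage

variable {R : Type u} [CommRing R] {n a b : ℕ} (c : Fin a → Fin b → MvPolynomial (Fin n) R)
  (q : Ideal (MvPolynomial (Fin n) R)) [q.IsPrime] (g : MvPolynomial (Fin n) R)
  {N : Type*} [AddCommGroup N] [Module (MvPolynomial (Fin n) R) N] [Module R N]
  [IsScalarTower R (MvPolynomial (Fin n) R) N]
  (ℓ : Coker c →ₗ[MvPolynomial (Fin n) R] N) [IsLocalizedModule q.primeCompl ℓ]

include ℓ in
/-- The core step for matrix cokernels over polynomial rings over an arbitrary ring. -/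
theorem core [Module.Flat R N] (h : MF c q g) :
    IsSMulRegular N g ∧ Module.Flat R (QuotSMulTop g N) := by
  classical
  have hfl : Module.Flat R (LocalizedModule q.primeCompl (Coker c)) :=
    (flat_iff_flat_localized (R := R) q.primeCompl ℓ).mp inferInstance
  obtain ⟨s, hs, c₀, hc, hfl₀⟩ := exists_stage_flat c q g.coeffs
  obtain ⟨g₀, hg₀⟩ := exists_map_eq s g hs
  subst hc
  subst hg₀
  let ℓ' : Coker (fun j i => algebraMap (MvPolynomial (Fin n) (Stg s)) (MvPolynomial (Fin n) R)
      (c₀ j i)) →ₗ[MvPolynomial (Fin n) R] N := ℓ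
  have hℓ' : IsLocalizedModule q.primeCompl ℓ' := ‹IsLocalizedModule q.primeCompl ℓ›
  exact core_of_stage (R₀ := Stg s) (R := R) c₀ q g₀ ℓ' hfl₀ h

end Core

end Groth.Agent.Lib.Helper62.FibReg
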