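import Mathlib
import Groth.Agent.Lib.Helper62.FibReg7

/-!
# The single step for finitely presented modules over finitely presented algebras (helper62)
-/

set_option autoImplicit false
universe u

open TensorProduct IsLocalRing Groth.Agent.H76.FlatKernel Groth.Agent.H76.FlatBaseChange
open scoped Pointwise

namespace Groth.Agent.Lib.Helper62.FibReg

section Surj

variable {P S M N : Type*} [CommRing P] [CommRing S] [Algebra P S] [AddCommGroup M] [Module P M]
  [Module S M] [IsScalarTower P S M] [AddCommGroup N] [Module P N] [Module S N]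
  [IsScalarTower P S N]

/-- For a surjection `P → S`, a localization of an `S`-module at a prime `q` of `S` is also a
localization as a `P`-module at the preimage of `q`. -/
theorem isLocalizedModule_restrictScalars_of_surjective'
    (hf : Function.Surjective (algebraMap P S)) (q : Ideal S) [q.IsPrime]
    (ℓ : M →ₗ[S] N) [IsLocalizedModule q.primeCompl ℓ] :
    IsLocalizedModule (q.comap (algebraMap P S)).primeCompl (ℓ.restrictScalars P) := by
  have hW : Algebra.algebraMapSubmonoid S (q.comap (algebraMap P S)).primeCompl =
      q.primeCompl := by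
    ext x
    constructor
    · rintro ⟨y, hy, rfl⟩
      exact hy
    · intro hx
      obtain ⟨y, rfl⟩ := hf x
      exact ⟨y, hx, rfl⟩
  have : IsLocalizedModule (Algebra.algebraMapSubmonoid S (q.comap (algebraMap P S)).primeCompl)
      ℓ := by
    rw [hW]; infer_instance
  exact IsLocalizedModule.restrictScalars _ _

end Surj

section StepPoly

variable {A : Type u} [CommRing A] {n : ℕ} {B : Type*} [CommRing B] [Algebra A B]
  [Algebra (MvPolynomial (Fin n) A) B] [IsScalarTower A (MvPolynomial (Fin n) A) B]
  (hsurj : Function.Surjective (algebraMap (MvPolynomial (Fin n) A) B))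
  {M : Type*} [AddCommGroup M] [Module B M] [Module (MvPolynomial (Fin n) A) M]
  [IsScalarTower (MvPolynomial (Fin n) A) B M]
  [Module.FinitePresentation (MvPolynomial (Fin n) A) M]
  {N : Type*} [AddCommGroup N] [Module B N] [Module (MvPolynomial (Fin n) A) N]
  [IsScalarTower (MvPolynomial (Fin n) A) B N] [Module A N] [IsScalarTower A B N]
  [IsScalarTower A (MvPolynomial (Fin n) A) N]
  (q : Ideal B) [q.IsPrime] (ℓ : M →ₗ[B] N) [IsLocalizedModule q.primeCompl ℓ]
  (g : MvPolynomial (Fin n) A)

include hsurj ℓ in
theorem step_poly [Module.Flat A N]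
    (hy : IsSMulRegular
      (N ⧸ ((q.comap (algebraMap A B)).map (algebraMap A B)) • (⊤ : Submodule B N))
      (algebraMap (MvPolynomial (Fin n) A) B g)) :
    IsSMulRegular N (algebraMap (MvPolynomial (Fin n) A) B g) ∧
      Module.Flat A (QuotSMulTop (algebraMap (MvPolynomial (Fin n) A) B g) N) := by
  obtain ⟨b, K, e, hK⟩ := Module.FinitePresentation.exists_fin (MvPolynomial (Fin n) A) M
  obtain ⟨a, c, hc⟩ := Submodule.fg_iff_exists_fin_generating_family.mp hK
  subst hc
  set q' : Ideal (MvPolynomial (Fin n) A) := q.comap (algebraMap (MvPolynomial (Fin n) A) B)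
    with hq'
  have hloc : IsLocalizedModule q'.primeCompl (ℓ.restrictScalars (MvPolynomial (Fin n) A)) :=
    isLocalizedModule_restrictScalars_of_surjective' hsurj q ℓ
  let ℓ' : Coker c →ₗ[MvPolynomial (Fin n) A] N :=
    (ℓ.restrictScalars (MvPolynomial (Fin n) A)) ∘ₗ e.symm.toLinearMap
  have hloc' : IsLocalizedModule q'.primeCompl ℓ' :=
    IsLocalizedModule.of_linearEquiv_right _ _ e.symm
  set p : Ideal A := q.comap (algebraMap A B) with hp
  have hbelow : below q' = p := by
    ext r
    simp only [below, hq', hp, Ideal.mem_comap]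
    rw [← MvPolynomial.algebraMap_eq, ← IsScalarTower.algebraMap_apply]
  have hmemN : ∀ x : N, x ∈ (pP (n := n) (below q')) •
      (⊤ : Submodule (MvPolynomial (Fin n) A) N) ↔
      x ∈ (p.map (algebraMap A B)) • (⊤ : Submodule B N) := by
    intro x
    rw [hbelow, Groth.Agent.Lib.Helper93.DepthFlat.mem_map_smul_top_iff (S := B) p x]
    exact Groth.Agent.Lib.Helper93.DepthFlat.mem_map_smul_top_iff
      (S := MvPolynomial (Fin n) A) p x
  have hMF : MF c q' g := by
    intro m w hw hmem
    have h1 : ℓ' (w • g • m) ∈ (pP (n := n) (below q')) •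
        (⊤ : Submodule (MvPolynomial (Fin n) A) N) :=
      (map_mem_smul_top_iff q'.primeCompl ℓ' _ _).mpr ⟨1, one_mem _, by rwa [one_smul]⟩
    rw [map_smul, map_smul, hmemN, ← algebraMap_smul B w, ← algebraMap_smul B g] at h1
    have hw' : algebraMap (MvPolynomial (Fin n) A) B w ∈ q.primeCompl := hw
    have h3 := mem_smul_top_of_smul_mem q.primeCompl ℓ _ hw' h1
    have h4 : ℓ' m ∈ (p.map (algebraMap A B)) • (⊤ : Submodule B N) :=
      mem_of_isSMulRegular_quotient_of_smul_mem hy h3
    rw [← hmemN] at h4
    exact (map_mem_smul_top_iff q'.primeCompl ℓ' _ _).mp h4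
  obtain ⟨h1, h2⟩ := core c q' g ℓ' hMF
  exact ⟨(isSMulRegular_algebraMap_iff (S := B) (N := N) g).mpr h1,
    Module.Flat.of_linearEquiv ((quotSMulTopAlgebraMapEquiv (S := B) (N := N) g).restrictScalars A)⟩

end StepPoly

section Step

variable {A : Type u} {B : Type*} [CommRing A] [CommRing B] [Algebra A B]
  [Algebra.FinitePresentation A B]
  {M : Type*} [AddCommGroup M] [Module B M] [Module.FinitePresentation B M]
  {N : Type*} [AddCommGroup N] [Module B N] [Module A N] [IsScalarTower A B N]
  (q : Ideal B) [q.IsPrime] (ℓ : M →ₗ[B] N) [IsLocalizedModule q.primeCompl ℓ] (y : B)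

include ℓ in
/-- **EGA IV 11.3.8, single step.** `A → B` of finite presentation, `M` a finitely presented
`B`-module, `N` a localization of `M` at a prime `q`, flat over `A`. If `y` is regular on the
fibre `N / p N`, then `y` is regular on `N` and `N / y N` is flat over `A`. -/
theorem step [Module.Flat A N]
    (hy : IsSMulRegular
      (N ⧸ ((q.comap (algebraMap A B)).map (algebraMap A B)) • (⊤ : Submodule B N)) y) :
    IsSMulRegular N y ∧ Module.Flat A (QuotSMulTop y N) := by
  obtain ⟨n, f, hf, hker⟩ := Algebra.FinitePresentation.out (R := A) (A := B)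
  let algPS : Algebra (MvPolynomial (Fin n) A) B := f.toRingHom.toAlgebra
  have : IsScalarTower A (MvPolynomial (Fin n) A) B :=
    IsScalarTower.of_algebraMap_eq (fun r => (f.commutes r).symm)
  let modPM : Module (MvPolynomial (Fin n) A) M := Module.compHom M f.toRingHom
  have : IsScalarTower (MvPolynomial (Fin n) A) B M :=
    IsScalarTower.of_algebraMap_smul (fun _ _ => rfl)
  let modPN : Module (MvPolynomial (Fin n) A) N := Module.compHom N f.toRingHom
  have : IsScalarTower (MvPolynomial (Fin n) A) B N :=
    IsScalarTower.of_algebraMap_smul (fun _ _ => rfl)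
  have : IsScalarTower A (MvPolynomial (Fin n) A) N := by
    constructor
    intro r p m
    show f (r • p) • m = r • (f p • m)
    rw [map_smul, smul_assoc]
  have hfsurj : Function.Surjective (algebraMap (MvPolynomial (Fin n) A) B) := hf
  have : Module.FinitePresentation (MvPolynomial (Fin n) A) B :=
    Module.finitePresentation_of_surjective (Algebra.linearMap (MvPolynomial (Fin n) A) B)
      hfsurj hker
  have : Module.FinitePresentation (MvPolynomial (Fin n) A) M :=
    Module.FinitePresentation.trans (MvPolynomial (Fin n) A) M B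
  obtain ⟨g, rfl⟩ := hfsurj y
  exact step_poly hfsurj q ℓ g hy

end Step

section ListStep

open RingTheory.Sequence

theorem finitePresentation_quotSMulTop {B : Type*} [CommRing B] (M : Type*) [AddCommGroup M]
    [Module B M] [Module.FinitePresentation B M] (y : B) :
    Module.FinitePresentation B (QuotSMulTop y M) := by
  refine Module.finitePresentation_of_surjective (Submodule.mkQ (y • (⊤ : Submodule B M)))
    (Submodule.mkQ_surjective _) ?_
  rw [Submodule.ker_mkQ]
  have : y • (⊤ : Submodule B M) = Submodule.map (LinearMap.lsmul B M y) ⊤ := by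
    ext x
    rw [Submodule.mem_smul_pointwise_iff_exists]
    simp
  rw [this]
  exact Submodule.FG.map _ Module.Finite.fg_top

/-- **EGA IV 11.3.8**, in the form: a sequence weakly regular on the fibre `N / p N` of a
localization `N = M_q` flat over `A` is weakly regular on `N` with `A`-flat successive
quotients. -/
theorem list_step (A B : Type u) [CommRing A] [CommRing B] [Algebra A B]
    [Algebra.FinitePresentation A B] (q : Ideal B) [q.IsPrime] (fs : List B) :
    ∀ (M : Type u) [AddCommGroup M] [Module B M] [Module.FinitePresentation B M]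
      (N : Type u) [AddCommGroup N] [Module B N] [Module A N] [IsScalarTower A B N]
      (ℓ : M →ₗ[B] N) [IsLocalizedModule q.primeCompl ℓ] [Module.Flat A N],
      IsWeaklyRegular
        (N ⧸ ((q.comap (algebraMap A B)).map (algebraMap A B) • (⊤ : Submodule B N))) fs →
      IsWeaklyRegular N fs ∧
        ∀ i ≤ fs.length, Module.Flat A (N ⧸ (Ideal.ofList (fs.take i) • (⊤ : Submodule B N))) := by
  induction fs with
  | nil =>
    intro M _ _ _ N _ _ _ _ ℓ _ _ _
    refine ⟨IsWeaklyRegular.nil B N, fun i _ => ?_⟩
    have hbot : Ideal.ofList (([] : List B).take i) • (⊤ : Submodule B N) = ⊥ := by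
      rw [List.take_nil, Ideal.ofList_nil, Submodule.bot_smul]
    exact Module.Flat.of_linearEquiv
      ((Submodule.quotEquivOfEqBot _ hbot).restrictScalars A)
  | cons y l ih =>
    intro M _ _ _ N _ _ _ _ ℓ _ _ hreg
    rw [isWeaklyRegular_cons_iff] at hreg
    obtain ⟨h1, h2⟩ := step q ℓ y hreg.1
    have h3 : IsWeaklyRegular (QuotSMulTop y N ⧸
        ((q.comap (algebraMap A B)).map (algebraMap A B) •
          (⊤ : Submodule B (QuotSMulTop y N)))) l :=
      ((Groth.Agent.Lib.Helper93.DepthFlat.fibreQuotSMulTopEquiv N
        ((q.comap (algebraMap A B)).map (algebraMap A B)) y).isWeaklyRegular_congr l).mpr hreg.2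
    have hfp : Module.FinitePresentation B (QuotSMulTop y M) := finitePresentation_quotSMulTop M y
    have hloc : IsLocalizedModule q.primeCompl (QuotSMulTop.map y ℓ) :=
      isLocalizedModule_quotSMulTop_map q.primeCompl ℓ y
    obtain ⟨h4, h5⟩ := ih (QuotSMulTop y M) (QuotSMulTop y N) (QuotSMulTop.map y ℓ) h3
    refine ⟨(isWeaklyRegular_cons_iff N y l).mpr ⟨h1, h4⟩, fun i hi => ?_⟩
    cases i with
    | zero =>
      have hbot : Ideal.ofList ((y :: l).take 0) • (⊤ : Submodule B N) = ⊥ := by
        rw [List.take_zero, Ideal.ofList_nil, Submodule.bot_smul]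
      exact Module.Flat.of_linearEquiv
        ((Submodule.quotEquivOfEqBot _ hbot).restrictScalars A)
    | succ j =>
      have hj : j ≤ l.length := by simpa using hi
      have := h5 j hj
      rw [List.take_succ_cons]
      exact Module.Flat.of_linearEquiv
        ((Submodule.quotOfListConsSMulTopEquivQuotSMulTopInner N y (l.take j)).restrictScalars A)

end ListStep

end Groth.Agent.Lib.Helper62.FibReg
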