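import Mathlib
import Groth.Agent.Lib.Helper62.FibReg0
import Groth.Agent.Lib.Helper62.FibReg2
import Groth.Agent.Lib.Helper93.DepthFlat

/-!
# The fibre module `M ⊗ κ(p)` versus `M / p M` (helper62)
-/

set_option autoImplicit false
universe u

open TensorProduct IsLocalRing
open scoped Pointwise

namespace Groth.Agent.Lib.Helper62.FibReg

section QI

variable {R : Type*} [CommRing R] (W : Submonoid R) {M N : Type*} [AddCommGroup M] [Module R M]
  [AddCommGroup N] [Module R N] (f : M →ₗ[R] N) [IsLocalizedModule W f] (I : Ideal R)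

include W in
theorem smul_top_le_comap : I • (⊤ : Submodule R M) ≤ (I • (⊤ : Submodule R N)).comap f :=
  fun x hx => (map_mem_smul_top_iff W f I x).mpr ⟨1, one_mem _, by rwa [one_smul]⟩

/-- The map induced by a localization on the quotients by `I`. -/
noncomputable def mapQI : (M ⧸ I • (⊤ : Submodule R M)) →ₗ[R] (N ⧸ I • (⊤ : Submodule R N)) :=
  Submodule.mapQ _ _ f (smul_top_le_comap W f I)

theorem mapQI_mk (m : M) :
    mapQI W f I (Submodule.Quotient.mk m) = Submodule.Quotient.mk (f m) := rfl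

/-- Localization commutes with the quotient by `I • ⊤`. -/
theorem isLocalizedModule_mapQI : IsLocalizedModule W (mapQI W f I) where
  map_units w := by
    rw [Module.End.isUnit_iff]
    constructor
    · rw [injective_iff_map_eq_zero]
      intro x hx
      obtain ⟨n, rfl⟩ := Submodule.Quotient.mk_surjective _ x
      have h1 : (Submodule.Quotient.mk (w.1 • n) : N ⧸ I • (⊤ : Submodule R N)) = 0 := by
        simpa using hx
      rw [Submodule.Quotient.mk_eq_zero] at h1 ⊢
      exact mem_smul_top_of_smul_mem W f I w.2 h1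
    · intro x
      obtain ⟨n, rfl⟩ := Submodule.Quotient.mk_surjective _ x
      obtain ⟨n', hn'⟩ := unit_smul_surjective W f w.2 n
      refine ⟨Submodule.Quotient.mk n', ?_⟩
      simp only [Module.algebraMap_end_apply]
      rw [← Submodule.Quotient.mk_smul, hn']
  surj x := by
    obtain ⟨n, rfl⟩ := Submodule.Quotient.mk_surjective _ x
    obtain ⟨⟨m, w⟩, h⟩ := IsLocalizedModule.surj W f n
    refine ⟨⟨Submodule.Quotient.mk m, w⟩, ?_⟩
    simp only [mapQI_mk]
    rw [← h]
    rfl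
  exists_of_eq {x₁ x₂} h := by
    obtain ⟨m₁, rfl⟩ := Submodule.Quotient.mk_surjective _ x₁
    obtain ⟨m₂, rfl⟩ := Submodule.Quotient.mk_surjective _ x₂
    simp only [mapQI_mk] at h
    rw [Submodule.Quotient.eq, ← map_sub] at h
    obtain ⟨w, hw, h1⟩ := (map_mem_smul_top_iff W f I _).mp h
    refine ⟨⟨w, hw⟩, ?_⟩
    rw [Submonoid.smul_def, Submonoid.smul_def]
    simp only
    rw [← Submodule.Quotient.mk_smul, ← Submodule.Quotient.mk_smul, Submodule.Quotient.eq,
      ← smul_sub]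
    exact h1

end QI

section G3

variable {A : Type*} [CommRing A] (p : Ideal A) [p.IsPrime] (M : Type*) [AddCommGroup M]
  [Module A M]

/-- Every element of `M ⊗ κ(p)` is, up to a unit, of the form `m ⊗ 1`. -/
theorem exists_smul_eq_tmul_one (x : M ⊗[A] p.ResidueField) :
    ∃ r ∉ p, ∃ m : M, r • x = m ⊗ₜ[A] (1 : p.ResidueField) := by
  induction x with
  | zero => exact ⟨1, fun h => (Ideal.IsPrime.ne_top inferInstance) (p.eq_top_of_isUnit_mem h isUnit_one), 0, by simp⟩
  | tmul m k =>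
    obtain ⟨s, hs, r, hr⟩ := exists_mul_eq_algebraMap p k
    refine ⟨s, hs, r • m, ?_⟩
    rw [TensorProduct.smul_tmul', TensorProduct.smul_tmul, TensorProduct.smul_tmul,
      Algebra.smul_def s k, ← hr, Algebra.smul_def, mul_one]
  | add x₁ x₂ h₁ h₂ =>
    obtain ⟨r₁, hr₁, m₁, e₁⟩ := h₁
    obtain ⟨r₂, hr₂, m₂, e₂⟩ := h₂
    refine ⟨r₁ * r₂, fun h => (Ideal.IsPrime.mem_or_mem inferInstance h).elim hr₁ hr₂,
      r₂ • m₁ + r₁ • m₂, ?_⟩
    rw [smul_add, mul_comm r₁ r₂, mul_smul, e₁, mul_comm r₂ r₁, mul_smul, e₂, TensorProduct.add_tmul,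
      TensorProduct.smul_tmul', TensorProduct.smul_tmul']


/-- If `m ⊗ 1 = 0` in `M ⊗ κ(p)`, then `s • m ∈ p M` for some `s ∉ p`. -/
theorem exists_smul_mem_of_tmul_one_eq_zero (m : M)
    (h : m ⊗ₜ[A] (1 : p.ResidueField) = 0) : ∃ s ∉ p, s • m ∈ p • (⊤ : Submodule A M) := by
  set Ap := Localization.AtPrime p with hAp
  set Np := LocalizedModule p.primeCompl M with hNp
  set f := LocalizedModule.mkLinearMap p.primeCompl M with hf
  have h1 : (1 : p.ResidueField) ⊗ₜ[A] m = 0 := by
    have := congrArg (TensorProduct.comm A M p.ResidueField) h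
    simpa using this
  have h2 : (1 : p.ResidueField) ⊗ₜ[Ap] ((1 : Ap) ⊗ₜ[A] m) = 0 := by
    have := congrArg (AlgebraTensorModule.cancelBaseChange A Ap Ap p.ResidueField M).symm h1
    rwa [AlgebraTensorModule.cancelBaseChange_symm_tmul, map_zero] at this
  have hbc : IsBaseChange Ap f := IsLocalizedModule.isBaseChange p.primeCompl Ap f
  have h3 : (1 : p.ResidueField) ⊗ₜ[Ap] (f m) = 0 := by
    have := congrArg (LinearMap.lTensor p.ResidueField hbc.equiv.toLinearMap) h2
    rwa [LinearMap.lTensor_tmul, LinearEquiv.coe_coe, IsBaseChange.equiv_tmul, one_smul,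
      map_zero] at this
  have h4 : (Submodule.Quotient.mk (f m) : Np ⧸ (maximalIdeal Ap) • (⊤ : Submodule Ap Np)) = 0 := by
    have h3' : ((1 : Ap ⧸ maximalIdeal Ap) ⊗ₜ[Ap] f m) = 0 := h3
    have := congrArg (TensorProduct.quotTensorEquivQuotSMul Np (maximalIdeal Ap)) h3'
    rwa [TensorProduct.quotTensorEquivQuotSMul_mk_one_tmul, map_zero] at this
  rw [Submodule.Quotient.mk_eq_zero, ← Localization.AtPrime.map_eq_maximalIdeal,
    Groth.Agent.Lib.Helper93.DepthFlat.mem_map_smul_top_iff] at h4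
  exact (map_mem_smul_top_iff p.primeCompl f p m).mp h4

end G3

section FibreIso

variable (A : Type*) {B : Type*} [CommRing A] [CommRing B] [Algebra A B] (M : Type*) [AddCommGroup M]
  [Module B M] [Module A M] [IsScalarTower A B M] (q : Ideal B) [q.IsPrime]
  {N : Type*} [AddCommGroup N] [Module B N] (ℓ : M →ₗ[B] N) [IsLocalizedModule q.primeCompl ℓ]

/-- The fibre module localized at `q`. -/
abbrev XMod : Type _ :=
  LocalizedModule q.primeCompl (M ⊗[A] (q.comap (algebraMap A B)).ResidueField)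

/-- `m ↦ m ⊗ 1`, as a `B`-linear map. -/
noncomputable def τ : M →ₗ[B] M ⊗[A] (q.comap (algebraMap A B)).ResidueField where
  toFun m := m ⊗ₜ[A] 1
  map_add' m₁ m₂ := TensorProduct.add_tmul m₁ m₂ 1
  map_smul' b m := (TensorProduct.smul_tmul' b m 1).symm

theorem τ_apply (m : M) : τ A M q m = m ⊗ₜ[A] 1 := rfl

/-- The comparison map `N → (M ⊗ κ(p))_q`. -/
noncomputable def ψ₀ : N →ₗ[B] XMod A M q :=
  IsLocalizedModule.map q.primeCompl ℓ
    (LocalizedModule.mkLinearMap q.primeCompl (M ⊗[A] (q.comap (algebraMap A B)).ResidueField))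
    (τ A M q)

theorem ψ₀_apply (m : M) : ψ₀ A M q ℓ (ℓ m) =
    LocalizedModule.mkLinearMap q.primeCompl (M ⊗[A] (q.comap (algebraMap A B)).ResidueField)
      (m ⊗ₜ[A] 1) :=
  IsLocalizedModule.map_apply q.primeCompl ℓ _ (τ A M q) m

omit [Module B M] [IsScalarTower A B M] in
theorem smul_tensor_eq_zero {a : A} (ha : a ∈ q.comap (algebraMap A B))
    (t : M ⊗[A] (q.comap (algebraMap A B)).ResidueField) : a • t = 0 := by
  induction t with
  | zero => rw [smul_zero]
  | tmul m k =>
    rw [TensorProduct.smul_tmul', TensorProduct.smul_tmul, Algebra.smul_def,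
      (Ideal.algebraMap_residueField_eq_zero).mpr ha, zero_mul, TensorProduct.tmul_zero]
  | add x y hx hy => rw [smul_add, hx, hy, add_zero]

theorem map_le_annihilator : (q.comap (algebraMap A B)).map (algebraMap A B) ≤
    Module.annihilator B (XMod A M q) := by
  rw [Ideal.map_le_iff_le_comap]
  intro a ha
  rw [Ideal.mem_comap, Module.mem_annihilator]
  intro x
  induction x using LocalizedModule.induction_on with
  | h t w =>
    rw [LocalizedModule.smul'_mk, algebraMap_smul, smul_tensor_eq_zero A M q ha,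
      LocalizedModule.zero_mk]

theorem smul_top_le_ker_ψ₀ :
    ((q.comap (algebraMap A B)).map (algebraMap A B)) • (⊤ : Submodule B N) ≤
      LinearMap.ker (ψ₀ A M q ℓ) := by
  rw [Submodule.smul_le]
  intro b hb n _
  rw [LinearMap.mem_ker, map_smul]
  exact Module.mem_annihilator.mp (map_le_annihilator A M q hb) _

/-- The comparison map `N / p N → (M ⊗ κ(p))_q`. -/
noncomputable def ψ : (N ⧸ ((q.comap (algebraMap A B)).map (algebraMap A B)) •
    (⊤ : Submodule B N)) →ₗ[B] XMod A M q :=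
  Submodule.liftQ _ (ψ₀ A M q ℓ) (smul_top_le_ker_ψ₀ A M q ℓ)

theorem ψ_mk (n : N) : ψ A M q ℓ (Submodule.Quotient.mk n) = ψ₀ A M q ℓ n := rfl

theorem ψ₀_surjective : Function.Surjective (ψ₀ A M q ℓ) := by
  intro x
  set 𝔣 := LocalizedModule.mkLinearMap q.primeCompl
    (M ⊗[A] (q.comap (algebraMap A B)).ResidueField) with h𝔣
  obtain ⟨t, w, hw, ht⟩ := exists_smul_eq_map q.primeCompl 𝔣 x
  obtain ⟨r, hr, m, hm⟩ := exists_smul_eq_tmul_one (q.comap (algebraMap A B)) M t
  have hu : algebraMap A B r * w ∈ q.primeCompl := fun h =>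
    (Ideal.IsPrime.mem_or_mem inferInstance h).elim hr hw
  obtain ⟨n, hn⟩ := unit_smul_surjective q.primeCompl ℓ hu (ℓ m)
  refine ⟨n, ?_⟩
  have h1 : (algebraMap A B r * w) • (ψ₀ A M q ℓ n - x) = 0 := by
    rw [smul_sub, ← map_smul, hn, ψ₀_apply, ← hm, mul_smul, ht, ← map_smul, algebraMap_smul,
      sub_self]
  exact sub_eq_zero.mp (unit_smul_eq_zero q.primeCompl 𝔣 hu h1)

theorem ψ_injective : Function.Injective (ψ A M q ℓ) := by
  rw [injective_iff_map_eq_zero]
  intro y hy
  obtain ⟨n, rfl⟩ := Submodule.Quotient.mk_surjective _ y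
  rw [ψ_mk] at hy
  rw [Submodule.Quotient.mk_eq_zero]
  set 𝔣 := LocalizedModule.mkLinearMap q.primeCompl
    (M ⊗[A] (q.comap (algebraMap A B)).ResidueField) with h𝔣
  obtain ⟨m, w, hw, hm⟩ := exists_smul_eq_map q.primeCompl ℓ n
  have h1 : 𝔣 (m ⊗ₜ[A] 1) = 0 := by
    rw [← ψ₀_apply A M q ℓ, ← hm, map_smul, hy, smul_zero]
  obtain ⟨w', hw', h2⟩ := exists_smul_eq_zero_of_map_eq_zero q.primeCompl 𝔣 h1
  rw [TensorProduct.smul_tmul'] at h2
  obtain ⟨s, hs, h3⟩ := exists_smul_mem_of_tmul_one_eq_zero (q.comap (algebraMap A B)) M _ h2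
  rw [← Groth.Agent.Lib.Helper93.DepthFlat.mem_map_smul_top_iff (S := B)] at h3
  have hu : algebraMap A B s * w' ∈ q.primeCompl := fun h =>
    (Ideal.IsPrime.mem_or_mem inferInstance h).elim hs hw'
  have h4 : ℓ m ∈ ((q.comap (algebraMap A B)).map (algebraMap A B)) • (⊤ : Submodule B N) :=
    (map_mem_smul_top_iff q.primeCompl ℓ _ m).mpr
      ⟨algebraMap A B s * w', hu, by rwa [mul_smul, algebraMap_smul]⟩
  rw [← hm] at h4
  exact mem_smul_top_of_smul_mem q.primeCompl ℓ _ hw h4

/-- The fibre of a localization is the localization of the fibre. -/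
noncomputable def fibreEquiv : (N ⧸ ((q.comap (algebraMap A B)).map (algebraMap A B)) •
    (⊤ : Submodule B N)) ≃ₗ[B] XMod A M q :=
  LinearEquiv.ofBijective (ψ A M q ℓ) ⟨ψ_injective A M q ℓ, fun x => by
    obtain ⟨n, hn⟩ := ψ₀_surjective A M q ℓ x
    exact ⟨Submodule.Quotient.mk n, hn⟩⟩

end FibreIso

end Groth.Agent.Lib.Helper62.FibReg
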