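import Mathlib
import Groth.Agent.Lib.Helper62.FibReg8
import Groth.Agent.Lib.Helper62.FibReg9

/-!
# EGA IV 11.3.8 for finitely presented modules over finitely presented algebras (helper62)
-/

set_option autoImplicit false
universe u

open TensorProduct IsLocalRing
open scoped Pointwise

namespace Groth.Agent.Lib.Helper62.FibReg

/-- **EGA IV 11.3.8** (finite presentation form, no Noetherian hypotheses). -/
theorem regular_and_flat_of_regular_fibre {A B : Type u} [CommRing A] [CommRing B] [Algebra A B]
    [Algebra.FinitePresentation A B] (M : Type u) [AddCommGroup M] [Module B M] [Module A M]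
    [IsScalarTower A B M] [Module.FinitePresentation B M] (q : Ideal B) [q.IsPrime] (g : List B)
    (hflat : Module.Flat A (LocalizedModule q.primeCompl M))
    (hreg : RingTheory.Sequence.IsRegular
      (LocalizedModule q.primeCompl (M ⊗[A] (q.comap (algebraMap A B)).ResidueField)) g) :
    RingTheory.Sequence.IsRegular (LocalizedModule q.primeCompl M) g ∧
      ∀ i ≤ g.length, Module.Flat A
        (LocalizedModule q.primeCompl
          (M ⧸ (Ideal.span {b | b ∈ g.take i} • (⊤ : Submodule B M)))) := by
  set N := LocalizedModule q.primeCompl M with hN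
  set ℓ := LocalizedModule.mkLinearMap q.primeCompl M with hℓ
  have e := fibreEquiv A M q ℓ
  have hregF : RingTheory.Sequence.IsWeaklyRegular
      (N ⧸ ((q.comap (algebraMap A B)).map (algebraMap A B)) • (⊤ : Submodule B N)) g :=
    (e.isWeaklyRegular_congr g).mpr hreg.toIsWeaklyRegular
  obtain ⟨h1, h2⟩ := list_step A B q g M N ℓ hregF
  refine ⟨⟨h1, ?_⟩, ?_⟩
  · intro htop
    apply hreg.top_ne_smul
    have h3 := congrArg (Submodule.map (ψ₀ A M q ℓ)) htop
    rw [Submodule.map_smul'', Submodule.map_top,
      LinearMap.range_eq_top.mpr (ψ₀_surjective A M q ℓ)] at h3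
    exact h3
  · intro i hi
    have h3 := h2 i hi
    have hloc := isLocalizedModule_mapQI q.primeCompl ℓ (Ideal.ofList (g.take i))
    let e' := IsLocalizedModule.linearEquiv q.primeCompl
      (LocalizedModule.mkLinearMap q.primeCompl
        (M ⧸ (Ideal.ofList (g.take i) • (⊤ : Submodule B M))))
      (mapQI q.primeCompl ℓ (Ideal.ofList (g.take i)))
    exact Module.Flat.of_linearEquiv (e'.restrictScalars A)

end Groth.Agent.Lib.Helper62.FibReg
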