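import Mathlib
import Groth.Agent.S9272
import Groth.Agent.Lib.Helper10.RegSeqFlat

/-!
# Quasi-regular sequences on the fibres of a thickening (helper62)
-/

set_option autoImplicit false
universe u

open TensorProduct
open scoped Pointwise

namespace Groth.Agent.Lib.Helper62.FibReg

section FibreQuasi

variable {A' B' : Type u} [CommRing A'] [CommRing B'] [Algebra A' B'] (I : Ideal A')
  (p' : Ideal A') [p'.IsPrime] (hIp : I ≤ p')

/-- The residue field of a prime containing `I` as an algebra over `A' ⧸ I`. -/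
noncomputable abbrev quotToResidueField : (A' ⧸ I) →+* p'.ResidueField :=
  Ideal.Quotient.lift I (algebraMap A' p'.ResidueField) (fun _ ha =>
    (Ideal.algebraMap_residueField_eq_zero).mpr (hIp ha))

include hIp in
/-- If the images of `f'` in `B'/IB'` are quasi-regular with quotient flat over `A'/I`, then the
images of `f'` in the fibre `B' ⊗ κ(p')` over any prime `p' ⊇ I` are quasi-regular. -/
theorem isQuasiRegular_fibre {r : ℕ} (f' : Fin r → B')
    (hq : CAlgX.IsQuasiRegular
      (fun i => Ideal.Quotient.mk (Ideal.map (algebraMap A' B') I) (f' i)))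
    (hflat : Module.Flat (A' ⧸ I)
      ((B' ⧸ Ideal.map (algebraMap A' B') I) ⧸
        Ideal.span (Set.range (fun i => Ideal.Quotient.mk (Ideal.map (algebraMap A' B') I) (f' i))))) :
    CAlgX.IsQuasiRegular (fun i => (f' i ⊗ₜ[A'] (1 : p'.ResidueField) : B' ⊗[A'] p'.ResidueField)) := by
  let _ : Algebra (A' ⧸ I) p'.ResidueField := (quotToResidueField I p' hIp).toAlgebra
  have _ : IsScalarTower A' (A' ⧸ I) p'.ResidueField :=
    IsScalarTower.of_algebraMap_eq (fun x => rfl)
  have h1 := Groth.Agent.S9272.result (A' ⧸ I) (B' ⧸ Ideal.map (algebraMap A' B') I)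
    p'.ResidueField r _ hflat hq
  let e1 : p'.ResidueField ⊗[A' ⧸ I] (B' ⧸ Ideal.map (algebraMap A' B') I) ≃ₐ[p'.ResidueField]
      p'.ResidueField ⊗[A' ⧸ I] ((A' ⧸ I) ⊗[A'] B') :=
    Algebra.TensorProduct.congr AlgEquiv.refl
      (Algebra.TensorProduct.quotIdealMapEquivQuotTensor B' I)
  let e2 : p'.ResidueField ⊗[A' ⧸ I] ((A' ⧸ I) ⊗[A'] B') ≃ₐ[p'.ResidueField]
      p'.ResidueField ⊗[A'] B' :=
    Algebra.TensorProduct.cancelBaseChange A' (A' ⧸ I) p'.ResidueField p'.ResidueField B'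
  let e3 : p'.ResidueField ⊗[A'] B' ≃ₐ[A'] B' ⊗[A'] p'.ResidueField :=
    Algebra.TensorProduct.comm A' p'.ResidueField B'
  let E : p'.ResidueField ⊗[A' ⧸ I] (B' ⧸ Ideal.map (algebraMap A' B') I) ≃+*
      B' ⊗[A'] p'.ResidueField :=
    (e1.toRingEquiv.trans e2.toRingEquiv).trans e3.toRingEquiv
  have hE : ∀ b : B', E ((1 : p'.ResidueField) ⊗ₜ[A' ⧸ I]
      (Ideal.Quotient.mk (Ideal.map (algebraMap A' B') I) b)) = b ⊗ₜ[A'] 1 := by
    intro b
    simp [E, e1, e2, e3]
  have h2 := Groth.Agent.Lib.Helper10.RegSeqFlat.isQuasiRegular_map E.toRingHom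
    (RingHom.Flat.of_bijective E.bijective) _ h1
  convert h2 using 2
  exact (hE _).symm

end FibreQuasi

end Groth.Agent.Lib.Helper62.FibReg
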