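import Mathlib
import Groth.Agent.H8.QuasiRegLoc
import Groth.Agent.Lib.Helper10.RegSeqFlat
import Groth.Agent.Lib.Helper62.FibReg9

/-!
# From quasi-regular on the fibre ring to weakly regular on the localized fibre module (helper62)
-/

set_option autoImplicit false
universe u

open TensorProduct
open scoped Pointwise

namespace Groth.Agent.Lib.Helper62.FibReg

section LocAtPrime

variable {B R : Type*} [CommRing B] [CommRing R] [Algebra B R] (W : Submonoid B) (P : Ideal R)
  [P.IsPrime] (L : Type*) [CommRing L] [Algebra R L] [IsLocalization.AtPrime L P]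
  [Algebra B L] [IsScalarTower B R L]

/-- If every element of `W` maps outside the prime `P` and every element outside `P` divides the
image of an element of `W`, then `R_P` is the localization of `R` at `W` (as a `B`-module). -/
theorem isLocalizedModule_atPrime (h1 : ∀ w ∈ W, algebraMap B R w ∉ P)
    (h2 : ∀ t ∉ P, ∃ t' : R, ∃ w ∈ W, t' * t = algebraMap B R w) :
    IsLocalizedModule W (IsScalarTower.toAlgHom B R L).toLinearMap where
  map_units w := by
    rw [Module.End.isUnit_iff]
    have hu : IsUnit (algebraMap R L (algebraMap B R w.1)) :=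
      IsLocalization.map_units L (M := P.primeCompl) ⟨algebraMap B R w.1, h1 w.1 w.2⟩
    have hact : ∀ y : L, (algebraMap B (Module.End B L) w.1) y =
        algebraMap R L (algebraMap B R w.1) * y := by
      intro y
      rw [Module.algebraMap_end_apply, Algebra.smul_def, IsScalarTower.algebraMap_apply B R L]
    constructor
    · intro y₁ y₂ h
      rw [hact, hact] at h
      exact hu.mul_left_cancel h
    · intro y
      obtain ⟨u, hu'⟩ := hu
      refine ⟨↑u⁻¹ * y, ?_⟩
      rw [hact, ← hu', ← mul_assoc, Units.mul_inv, one_mul]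
  surj y := by
    obtain ⟨⟨x, t⟩, rfl⟩ := IsLocalization.mk'_surjective P.primeCompl y
    obtain ⟨t', w, hw, htw⟩ := h2 t.1 t.2
    refine ⟨⟨t' * x, ⟨w, hw⟩⟩, ?_⟩
    simp only [AlgHom.toLinearMap_apply, IsScalarTower.coe_toAlgHom']
    rw [Submonoid.smul_def, Algebra.smul_def, IsScalarTower.algebraMap_apply B R L]
    simp only
    rw [← htw, map_mul, map_mul, mul_assoc, IsLocalization.mk'_spec']
  exists_of_eq {x₁ x₂} h := by
    simp only [AlgHom.toLinearMap_apply, IsScalarTower.coe_toAlgHom'] at h
    obtain ⟨c, hc⟩ := IsLocalization.exists_of_eq (M := P.primeCompl) h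
    obtain ⟨t', w, hw, htw⟩ := h2 c.1 c.2
    refine ⟨⟨w, hw⟩, ?_⟩
    rw [Submonoid.smul_def, Submonoid.smul_def]
    simp only
    rw [Algebra.smul_def, Algebra.smul_def, ← htw, mul_assoc, hc, mul_assoc]

end LocAtPrime

section FibrePrime

variable {A' B' : Type u} [CommRing A'] [CommRing B'] [Algebra A' B'] (q' : Ideal B') [q'.IsPrime]

/-- The fibre ring `B' ⊗ κ(p')` for `p' = q' ∩ A'`. -/
abbrev FibRing : Type u := B' ⊗[A'] (q'.comap (algebraMap A' B')).ResidueField

/-- The canonical map from the fibre ring to the residue field of `q'`. -/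
noncomputable def χ : FibRing (A' := A') q' →ₐ[A'] q'.ResidueField :=
  Algebra.TensorProduct.lift (IsScalarTower.toAlgHom A' B' q'.ResidueField)
    (Ideal.ResidueField.mapₐ (q'.comap (algebraMap A' B')) q' (Algebra.ofId A' B') rfl)
    (fun _ _ => Commute.all _ _)

theorem χ_tmul_one (b : B') : χ (A' := A') q' (b ⊗ₜ[A'] 1) = algebraMap B' q'.ResidueField b := by
  rw [χ, Algebra.TensorProduct.lift_tmul, map_one, mul_one]
  rfl

/-- The prime of the fibre ring corresponding to `q'`. -/
noncomputable def fibPrime : Ideal (FibRing (A' := A') q') := RingHom.ker (χ (A' := A') q').toRingHom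

instance : (fibPrime (A' := A') q').IsPrime := RingHom.ker_isPrime _

theorem tmul_one_mem_fibPrime_iff (b : B') :
    (b ⊗ₜ[A'] 1 : FibRing (A' := A') q') ∈ fibPrime (A' := A') q' ↔ b ∈ q' := by
  rw [fibPrime, RingHom.mem_ker]
  change χ (A' := A') q' (b ⊗ₜ[A'] 1) = 0 ↔ _
  rw [χ_tmul_one, Ideal.algebraMap_residueField_eq_zero]

theorem algebraMap_mem_fibPrime_iff (a : A') :
    algebraMap A' (FibRing (A' := A') q') a ∈ fibPrime (A' := A') q' ↔
      a ∈ q'.comap (algebraMap A' B') := by
  rw [Algebra.TensorProduct.algebraMap_apply, tmul_one_mem_fibPrime_iff, Ideal.mem_comap]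

end FibrePrime

section FibreRegular

variable {A' B' : Type u} [CommRing A'] [CommRing B'] [Algebra A' B'] [Algebra.FiniteType A' B']
  (q' : Ideal B') [q'.IsPrime]

instance : IsNoetherianRing (FibRing (A' := A') q') := by
  have h1 : IsNoetherianRing ((q'.comap (algebraMap A' B')).ResidueField ⊗[A'] B') :=
    Algebra.FiniteType.isNoetherianRing (q'.comap (algebraMap A' B')).ResidueField _
  exact isNoetherianRing_of_ringEquiv _
    (Algebra.TensorProduct.comm A' (q'.comap (algebraMap A' B')).ResidueField B').toRingEquiv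

/-- A sequence in `q'` whose image in the fibre ring `B' ⊗ κ(p')` is quasi-regular is weakly
regular on the localization at `q'` of the fibre. -/
theorem isWeaklyRegular_XMod {r : ℕ} (f' : Fin r → B') (hf : ∀ i, f' i ∈ q')
    (hq : CAlgX.IsQuasiRegular
      (fun i => (f' i ⊗ₜ[A'] 1 : FibRing (A' := A') q'))) :
    RingTheory.Sequence.IsWeaklyRegular (XMod A' B' q') (List.ofFn f') := by
  set R2 := FibRing (A' := A') q' with hR2
  set P := fibPrime (A' := A') q' with hP
  set L := Localization.AtPrime P with hL
  set g : Fin r → R2 := fun i => f' i ⊗ₜ[A'] 1 with hg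
  -- regularity in the local ring of the fibre
  have hlen : (List.ofFn g).length = r := List.length_ofFn
  have hget : (List.ofFn g).get = fun i => g (Fin.cast hlen i) := by
    funext i
    rw [List.get_ofFn]
  have hq' : CAlgX.IsQuasiRegular (List.ofFn g).get := by
    rw [hget]
    exact Groth.Agent.Lib.Helper10.RegSeqFlat.isQuasiRegular_cast hlen g hq
  have hle : Ideal.ofList (List.ofFn g) ≤ P := by
    rw [Ideal.ofList, Ideal.span_le]
    intro x hx
    obtain ⟨i, rfl⟩ := (List.mem_ofFn' g x).mp hx
    exact (tmul_one_mem_fibPrime_iff q' (f' i)).mpr (hf i)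
  have h1 := Groth.Agent.H8.QuasiRegLoc.isWeaklyRegular_atPrime_of_isQuasiRegular P L
    (List.ofFn g) hq' hle
  have hmap : (List.ofFn g).map (algebraMap R2 L) = (List.ofFn f').map (algebraMap B' L) := by
    rw [List.map_ofFn, List.map_ofFn]
    congr 1
  rw [hmap, RingTheory.Sequence.isWeaklyRegular_map_algebraMap_iff] at h1
  -- the localization of the fibre module is this local ring
  have hloc : IsLocalizedModule q'.primeCompl (IsScalarTower.toAlgHom B' R2 L).toLinearMap := by
    apply isLocalizedModule_atPrime q'.primeCompl P L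
    · intro w hw hmem
      rw [Algebra.TensorProduct.algebraMap_apply] at hmem
      exact hw ((tmul_one_mem_fibPrime_iff q' w).mp hmem)
    · intro t ht
      obtain ⟨s, hs, b, hb⟩ := exists_smul_eq_tmul_one (q'.comap (algebraMap A' B')) B' t
      refine ⟨algebraMap A' R2 s, b, ?_, ?_⟩
      · intro hbq
        have h3 : (b ⊗ₜ[A'] 1 : R2) ∈ P := (tmul_one_mem_fibPrime_iff q' b).mpr hbq
        rw [← hb, Algebra.smul_def] at h3
        rcases Ideal.IsPrime.mem_or_mem inferInstance h3 with h4 | h4
        · exact hs ((algebraMap_mem_fibPrime_iff q' s).mp h4)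
        · exact ht h4
      · rw [← Algebra.smul_def, hb, Algebra.TensorProduct.algebraMap_apply]
        rfl
  let e := IsLocalizedModule.linearEquiv q'.primeCompl
    (LocalizedModule.mkLinearMap q'.primeCompl R2) (IsScalarTower.toAlgHom B' R2 L).toLinearMap
  exact (e.isWeaklyRegular_congr _).mpr h1

end FibreRegular

end Groth.Agent.Lib.Helper62.FibReg
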