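import Mathlib
import Groth.Agent.Lib.Helper62.FibReg8
import Groth.Agent.Lib.Helper62.FibReg11
import Groth.Agent.Lib.Helper62.FibReg12

/-!
# Flatness of a quotient by a sequence which is quasi-regular modulo a locally nilpotent ideal
(helper62)
-/

set_option autoImplicit false
universe u

open TensorProduct
open scoped Pointwise

namespace Groth.Agent.Lib.Helper62.FibReg

section Local

variable {A' B' : Type u} [CommRing A'] [CommRing B'] [Algebra A' B'] [Module.Flat A' B']
  [Algebra.FinitePresentation A' B'] (I : Ideal A') (hI : ∀ x ∈ I, IsNilpotent x)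
  {r : ℕ} (f' : Fin r → B')

theorem ofList_ofFn : Ideal.ofList (List.ofFn f') = Ideal.span (Set.range f') := by
  rw [Ideal.ofList]
  congr 1
  ext x
  simp [List.mem_ofFn']

include hI in
/-- The local statement at a prime `q'` containing the sequence. -/
theorem flat_localized_quotient (q' : Ideal B') [q'.IsPrime] (hf : ∀ i, f' i ∈ q')
    (hq : CAlgX.IsQuasiRegular
      (fun i => Ideal.Quotient.mk (Ideal.map (algebraMap A' B') I) (f' i)))
    (hflat : Module.Flat (A' ⧸ I)
      ((B' ⧸ Ideal.map (algebraMap A' B') I) ⧸
        Ideal.span (Set.range (fun i => Ideal.Quotient.mk (Ideal.map (algebraMap A' B') I) (f' i))))) :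
    Module.Flat A' (LocalizedModule q'.primeCompl
      (B' ⧸ (Ideal.span (Set.range f') • (⊤ : Submodule B' B')))) := by
  set p' := q'.comap (algebraMap A' B') with hp'
  have hIp : I ≤ p' := by
    intro x hx
    obtain ⟨n, hn⟩ := hI x hx
    exact Ideal.IsPrime.mem_of_pow_mem inferInstance n (by rw [hn]; exact Ideal.zero_mem _)
  have hqr := isQuasiRegular_fibre I p' hIp f' hq hflat
  have hwr := isWeaklyRegular_XMod q' f' hf hqr
  set N := Localization q'.primeCompl with hN
  set ℓ : B' →ₗ[B'] N := Algebra.linearMap B' N with hℓ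
  have hloc : IsLocalizedModule q'.primeCompl ℓ := inferInstance
  have e := fibreEquiv A' B' q' ℓ
  have hregF : RingTheory.Sequence.IsWeaklyRegular
      (N ⧸ ((q'.comap (algebraMap A' B')).map (algebraMap A' B')) • (⊤ : Submodule B' N))
      (List.ofFn f') := (e.isWeaklyRegular_congr _).mpr hwr
  obtain ⟨-, h2⟩ := list_step A' B' q' (List.ofFn f') B' N ℓ hregF
  have h3 := h2 (List.ofFn f').length le_rfl
  rw [List.take_length, ofList_ofFn] at h3
  have hloc' := isLocalizedModule_mapQI q'.primeCompl ℓ (Ideal.span (Set.range f'))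
  let e' := IsLocalizedModule.linearEquiv q'.primeCompl
    (LocalizedModule.mkLinearMap q'.primeCompl
      (B' ⧸ (Ideal.span (Set.range f') • (⊤ : Submodule B' B'))))
    (mapQI q'.primeCompl ℓ (Ideal.span (Set.range f')))
  exact Module.Flat.of_linearEquiv (e'.restrictScalars A')

end Local

section Global

variable {A' B' : Type u} [CommRing A'] [CommRing B'] [Algebra A' B'] [Module.Flat A' B']
  [Algebra.FinitePresentation A' B'] (I : Ideal A') (hI : ∀ x ∈ I, IsNilpotent x)
  {r : ℕ} (f' : Fin r → B')

theorem subsingleton_localized_quotient (q' : Ideal B') [q'.IsPrime] {i : Fin r}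
    (hi : f' i ∉ q') :
    Subsingleton (LocalizedModule q'.primeCompl
      (B' ⧸ (Ideal.span (Set.range f') • (⊤ : Submodule B' B')))) := by
  refine subsingleton_of_forall_eq 0 (fun x => ?_)
  induction x using LocalizedModule.induction_on with
  | h m s =>
    rw [← LocalizedModule.zero_mk 1, LocalizedModule.mk_eq]
    refine ⟨⟨f' i, hi⟩, ?_⟩
    obtain ⟨b, rfl⟩ := Submodule.Quotient.mk_surjective _ m
    rw [smul_zero, smul_zero, one_smul, Submonoid.smul_def, ← Submodule.Quotient.mk_smul,
      Submodule.Quotient.mk_eq_zero]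
    exact Submodule.smul_mem_smul (Ideal.subset_span ⟨i, rfl⟩) Submodule.mem_top

include hI in
/-- **Stacks-style lemma**: `A' → B'` flat of finite presentation, `I ⊆ A'` locally nilpotent,
`f'` a sequence in `B'` whose image in `B'/IB'` is quasi-regular with quotient flat over `A'/I`.
Then `B'/(f')` is flat over `A'`. -/
theorem flat_quotient_of_quasiRegular_mod
    (hq : CAlgX.IsQuasiRegular
      (fun i => Ideal.Quotient.mk (Ideal.map (algebraMap A' B') I) (f' i)))
    (hflat : Module.Flat (A' ⧸ I)
      ((B' ⧸ Ideal.map (algebraMap A' B') I) ⧸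
        Ideal.span (Set.range (fun i => Ideal.Quotient.mk (Ideal.map (algebraMap A' B') I) (f' i))))) :
    Module.Flat A' (B' ⧸ Ideal.span (Set.range f')) := by
  set J := Ideal.span (Set.range f') with hJ
  have hJtop : J • (⊤ : Submodule B' B') = J := by
    rw [smul_eq_mul, Ideal.mul_top]
  have h : Module.Flat A' (B' ⧸ (J • (⊤ : Submodule B' B'))) := by
    refine Module.flat_of_isLocalized_maximal B' (B' ⧸ (J • (⊤ : Submodule B' B')))
      (fun P _ => LocalizedModule P.primeCompl (B' ⧸ (J • (⊤ : Submodule B' B'))))
      (fun P _ => LocalizedModule.mkLinearMap P.primeCompl _) ?_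
    intro P hP
    by_cases hle : ∀ i, f' i ∈ P
    · exact flat_localized_quotient I hI f' P hle hq hflat
    · push Not at hle
      obtain ⟨i, hi⟩ := hle
      have := subsingleton_localized_quotient f' P hi
      infer_instance
  exact Module.Flat.of_linearEquiv ((Submodule.quotEquivOfEq _ _ hJtop.symm).restrictScalars A')

end Global

end Groth.Agent.Lib.Helper62.FibReg
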