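import Mathlib.Algebra.Lie.OfAssociative
import Mathlib.FieldTheory.SeparablyGenerated
import Mathlib.RingTheory.Henselian
import Mathlib.RingTheory.MvPolynomial.IrreducibleQuadratic
import Mathlib.RingTheory.Unramified.Field
import Mathlib.Tactic
import Groth.Agent.S4628

set_option autoImplicit false
universe u

namespace Groth.Agent.Lib.Helper62

open TensorProduct

section RingLevel

/-- A separable, essentially finite type field extension stays reduced after any field base change. -/
theorem isReduced_tensor_of_isSeparable (F L Ω : Type*) [Field F] [Field L] [Field Ω]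
    [Algebra F L] [Algebra F Ω] [Algebra.IsSeparable F L] [Algebra.EssFiniteType F L] :
    IsReduced (Ω ⊗[F] L) := by
  have : Algebra.FormallyUnramified F L := Algebra.FormallyUnramified.of_isSeparable F L
  exact Algebra.FormallyUnramified.isReduced_of_field Ω (Ω ⊗[F] L)

/-- Base change of a purely transcendental extension `k(x)` to a field is reduced. -/
theorem isReduced_adjoin_tensor_of_algebraicIndependent (k L Ω : Type*) [Field k] [Field L] [Field Ω]
    [Algebra k L] [Algebra k Ω] {ι : Type*} (x : ι → L) (hx : AlgebraicIndependent k x) :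
    IsReduced ((IntermediateField.adjoin k (Set.range x)) ⊗[k] Ω) := by
  open scoped IntermediateField.algebraAdjoinAdjoin in
  let P := Algebra.adjoin k (Set.range x)
  let Kx := IntermediateField.adjoin k (Set.range x)
  -- `P ⊗ Ω` is a polynomial ring over `Ω`, hence reduced
  have h1 : IsReduced (P ⊗[k] Ω) := by
    let e1 : P ⊗[k] Ω ≃ₐ[k] MvPolynomial ι k ⊗[k] Ω :=
      Algebra.TensorProduct.congr hx.aevalEquiv.symm AlgEquiv.refl
    let e2 : MvPolynomial ι k ⊗[k] Ω ≃ₐ[k] Ω ⊗[k] MvPolynomial ι k :=
      Algebra.TensorProduct.comm k _ _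
    let e3 : Ω ⊗[k] MvPolynomial ι k ≃ₐ[Ω] MvPolynomial ι Ω := MvPolynomial.algebraTensorAlgEquiv k Ω
    exact isReduced_of_injective
      ((e3.toRingEquiv.toRingHom.comp e2.toRingEquiv.toRingHom).comp e1.toRingEquiv.toRingHom)
      ((e3.injective.comp e2.injective).comp e1.injective)
  -- localisation
  have hfr : IsFractionRing P Kx := inferInstance
  have hloc : IsLocalization (Algebra.algebraMapSubmonoid (P ⊗[k] Ω) (nonZeroDivisors P))
      ((P ⊗[k] Ω) ⊗[P] Kx) := IsLocalization.tensor (S := P ⊗[k] Ω) Kx (nonZeroDivisors P)
  have h2 : IsReduced ((P ⊗[k] Ω) ⊗[P] Kx) :=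
    isReduced_localizationPreserves
      (Algebra.algebraMapSubmonoid (P ⊗[k] Ω) (nonZeroDivisors P)) ((P ⊗[k] Ω) ⊗[P] Kx) h1
  let e4 : Kx ⊗[P] (P ⊗[k] Ω) ≃ₐ[P] Kx ⊗[k] Ω := Algebra.TensorProduct.cancelBaseChange k P P Kx Ω
  let e5 : (P ⊗[k] Ω) ⊗[P] Kx ≃ₐ[P] Kx ⊗[P] (P ⊗[k] Ω) := Algebra.TensorProduct.comm P _ _
  exact isReduced_of_injective
    (e5.symm.toRingEquiv.toRingHom.comp e4.symm.toRingEquiv.toRingHom)
    (e5.symm.injective.comp e4.symm.injective)

end RingLevel

section Scheme

open AlgebraicGeometry CategoryTheory Limits

/-- Ring-level geometric reducedness implies the scheme-level notion, for affine schemes over a field. -/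
theorem geometricallyReduced_spec_of_forall_isReduced (F L : Type u) [Field F] [CommRing L] [Algebra F L]
    (h : ∀ (Ω : Type u) [Field Ω] [Algebra F Ω], _root_.IsReduced (L ⊗[F] Ω)) :
    GeometricallyReduced (Spec.map (CommRingCat.ofHom (algebraMap F L))) := by
  rw [geometricallyReduced_iff, geometrically_iff_of_commRing_of_isClosedUnderIsomorphisms]
  intro Ω _ _
  have := h Ω
  have h3 : IsReduced (Spec (CommRingCat.of (L ⊗[F] Ω))) := inferInstance
  exact isReduced_of_isOpenImmersion (pullbackSpecIso F L Ω).hom

/-- Going up along a separable, essentially finite type extension `L/F`. -/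
theorem isReduced_tensor_of_tower (k F L Ω : Type u) [Field k] [Field F] [Field L] [Field Ω]
    [Algebra k F] [Algebra F L] [Algebra k L] [IsScalarTower k F L] [Algebra k Ω]
    [Algebra.EssFiniteType F L] [Algebra.IsSeparable F L] (h1 : _root_.IsReduced (F ⊗[k] Ω)) :
    _root_.IsReduced (L ⊗[k] Ω) := by
  have hgr : GeometricallyReduced (Spec.map (CommRingCat.ofHom (algebraMap F L))) := by
    apply geometricallyReduced_spec_of_forall_isReduced
    intro Ω' _ _
    have := isReduced_tensor_of_isSeparable F L Ω'
    exact isReduced_of_injective (Algebra.TensorProduct.comm F L Ω').toRingEquiv.toRingHom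
      (Algebra.TensorProduct.comm F L Ω').injective
  have h2 : _root_.IsReduced (L ⊗[F] (F ⊗[k] Ω)) :=
    Groth.Agent.S4628.affine_case_alg F L (F ⊗[k] Ω)
  let e : L ⊗[F] (F ⊗[k] Ω) ≃ₐ[F] L ⊗[k] Ω := Algebra.TensorProduct.cancelBaseChange k F F L Ω
  exact isReduced_of_injective e.symm.toRingEquiv.toRingHom e.symm.injective

/-- A separably generated, finitely generated field extension is geometrically reduced (ring level). -/
theorem isReduced_tensor_of_separablyGenerated (k L Ω : Type u) [Field k] [Field L] [Field Ω]
    [Algebra k L] [Algebra k Ω] [Algebra.EssFiniteType k L] {ι : Type*} (x : ι → L)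
    (hx : AlgebraicIndependent k x)
    [Algebra.IsSeparable (IntermediateField.adjoin k (Set.range x)) L] :
    _root_.IsReduced (L ⊗[k] Ω) := by
  have h1 : _root_.IsReduced ((IntermediateField.adjoin k (Set.range x)) ⊗[k] Ω) :=
    isReduced_adjoin_tensor_of_algebraicIndependent k L Ω x hx
  have : Algebra.EssFiniteType (IntermediateField.adjoin k (Set.range x)) L :=
    Algebra.EssFiniteType.of_comp k _ L
  exact isReduced_tensor_of_tower k (IntermediateField.adjoin k (Set.range x)) L Ω h1

/-- A finitely generated field extension of a perfect field is geometrically reduced (ring level). -/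
theorem isReduced_tensor_of_essFiniteType_of_perfectField (k L Ω : Type u) [Field k] [PerfectField k]
    [Field L] [Field Ω] [Algebra k L] [Algebra k Ω] [Algebra.EssFiniteType k L] :
    _root_.IsReduced (L ⊗[k] Ω) := by
  obtain ⟨s, hs, hsep⟩ := exists_isTranscendenceBasis_and_isSeparable_of_perfectField k L
  have : Algebra.IsSeparable
      (IntermediateField.adjoin k (Set.range (fun i : s => (i : L)))) L := by
    convert! hsep <;> simp
  exact isReduced_tensor_of_separablyGenerated k L Ω (fun i : s => (i : L)) hs.1

/-- The tensor product of two field extensions of a perfect field is reduced. -/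
theorem isReduced_tensor_field_of_perfectField (k L Ω : Type u) [Field k] [PerfectField k]
    [Field L] [Field Ω] [Algebra k L] [Algebra k Ω] :
    _root_.IsReduced (Ω ⊗[k] L) := by
  apply IsReduced.tensorProduct_of_flat_of_forall_fg
  intro B hB
  have hft : Algebra.FiniteType k B := (Subalgebra.fg_iff_finiteType B).mp hB
  let L' := FractionRing B
  have h1 : Algebra.EssFiniteType B L' := Algebra.EssFiniteType.of_isLocalization L' (nonZeroDivisors B)
  have h2 : Algebra.EssFiniteType k L' := Algebra.EssFiniteType.comp k B L'
  have h3 : _root_.IsReduced (L' ⊗[k] Ω) := isReduced_tensor_of_essFiniteType_of_perfectField k L' Ω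
  have h4 : _root_.IsReduced (Ω ⊗[k] L') :=
    isReduced_of_injective (Algebra.TensorProduct.comm k Ω L').toRingEquiv.toRingHom
      (Algebra.TensorProduct.comm k Ω L').injective
  exact isReduced_of_injective
    (Algebra.TensorProduct.map (AlgHom.id k Ω) (IsScalarTower.toAlgHom k B L'))
    (Module.Flat.lTensor_preserves_injective_linearMap _ (IsFractionRing.injective B L'))

/-- **Reduced algebras over a perfect field are geometrically reduced** (ring level): for a reduced
algebra `A` over a perfect field `k` and any field extension `K` of `k`, `K ⊗[k] A` is reduced. -/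
theorem isReduced_tensor_of_perfectField (k K A : Type u) [Field k] [PerfectField k]
    [Field K] [CommRing A] [Algebra k K] [Algebra k A] [_root_.IsReduced A] :
    _root_.IsReduced (K ⊗[k] A) := by
  have hgr : GeometricallyReduced (Spec.map (CommRingCat.ofHom (algebraMap k K))) := by
    apply geometricallyReduced_spec_of_forall_isReduced
    intro Ω _ _
    exact isReduced_tensor_field_of_perfectField k Ω K
  exact Groth.Agent.S4628.affine_case_alg k K A

/-- Over a perfect field the tensor product of two reduced algebras is reduced. -/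
theorem isReduced_tensor_of_isReduced_of_perfectField (k A B : Type u) [Field k] [PerfectField k]
    [CommRing A] [CommRing B] [Algebra k A] [Algebra k B] [_root_.IsReduced A] [_root_.IsReduced B] :
    _root_.IsReduced (A ⊗[k] B) := by
  have hgr : GeometricallyReduced (Spec.map (CommRingCat.ofHom (algebraMap k A))) := by
    apply geometricallyReduced_spec_of_forall_isReduced
    intro Ω _ _
    have := isReduced_tensor_of_perfectField k Ω A
    exact isReduced_of_injective (Algebra.TensorProduct.comm k A Ω).toRingEquiv.toRingHom
      (Algebra.TensorProduct.comm k A Ω).injective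
  exact Groth.Agent.S4628.affine_case_alg k A B

/-- Affine case of `geometricallyReduced_of_isReduced_of_perfectField`. -/
theorem isReduced_pullback_spec_of_perfectField {k : Type u} [Field k] [PerfectField k]
    (A : CommRingCat.{u}) (φ : Spec A ⟶ Spec (CommRingCat.of k)) [IsReduced (Spec A)]
    (Ω : Type u) [Field Ω] [Algebra k Ω] :
    IsReduced (pullback φ (Spec.map (CommRingCat.ofHom (algebraMap k Ω)))) := by
  obtain ⟨a, rfl⟩ := Spec.map_surjective φ
  algebraize [a.hom]
  have ha : a = CommRingCat.ofHom (algebraMap k A) := rfl
  rw [ha]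
  have hA : _root_.IsReduced A := (affine_isReduced_iff _).mp inferInstance
  have h1 : _root_.IsReduced (Ω ⊗[k] A) := isReduced_tensor_of_perfectField k Ω A
  have h2 : _root_.IsReduced (A ⊗[k] Ω) :=
    isReduced_of_injective (Algebra.TensorProduct.comm k A Ω).toRingEquiv.toRingHom
      (Algebra.TensorProduct.comm k A Ω).injective
  have h3 : IsReduced (Spec (CommRingCat.of (A ⊗[k] Ω))) := inferInstance
  exact isReduced_of_isOpenImmersion (pullbackSpecIso k A Ω).hom

/-- A reduced scheme over a perfect field is geometrically reduced. -/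
theorem geometricallyReduced_of_isReduced_of_perfectField {k : Type u} [Field k] [PerfectField k]
    {X : Scheme.{u}} (f : X ⟶ Spec (CommRingCat.of k)) [IsReduced X] : GeometricallyReduced f := by
  rw [geometricallyReduced_iff, geometrically_iff_of_commRing_of_isClosedUnderIsomorphisms]
  intro Ω _ _
  apply +allowSynthFailures @IsReduced.of_openCover
    (𝒰 := Scheme.Pullback.openCoverOfLeft X.affineCover f _)
  intro (i : X.affineCover.I₀)
  have hred : IsReduced (X.affineCover.X i) := isReduced_of_isOpenImmersion (X.affineCover.f i)
  exact @isReduced_pullback_spec_of_perfectField k _ _ _ (X.affineCover.f i ≫ f) hred Ω _ _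

end Scheme

end Groth.Agent.Lib.Helper62
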