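import Mathlib

/-!
# Kähler differentials of a symmetric algebra (helper62)

For an `A`-module `H`, `Ω[Sym_A H / A] ≃ Sym_A H ⊗[A] H`, and `Sym_A H` is of finite type when
`H` is finitely generated.
-/

set_option autoImplicit false
universe u v

namespace Groth.Agent.Lib.Helper62.SymKaehler

open KaehlerDifferential TensorProduct

variable (A : Type u) [CommRing A] (H : Type v) [AddCommGroup H] [Module A H]

section deriv

/-- The algebra map `Sym H → Sym H ⊕ ε (Sym H ⊗ H)`, `h ↦ ι h + ε (1 ⊗ h)`. -/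
noncomputable def φ : SymmetricAlgebra A H →ₐ[A]
    TrivSqZeroExt (SymmetricAlgebra A H) (SymmetricAlgebra A H ⊗[A] H) :=
  SymmetricAlgebra.lift
    ((TrivSqZeroExt.inlAlgHom A (SymmetricAlgebra A H) (SymmetricAlgebra A H ⊗[A] H)).toLinearMap ∘ₗ
        SymmetricAlgebra.ι A H
      + ((TrivSqZeroExt.inrHom (SymmetricAlgebra A H) (SymmetricAlgebra A H ⊗[A] H)).restrictScalars A) ∘ₗ
        (TensorProduct.mk A (SymmetricAlgebra A H) H 1))

lemma φ_ι (h : H) : φ A H (SymmetricAlgebra.ι A H h) =
    TrivSqZeroExt.inl (SymmetricAlgebra.ι A H h) + TrivSqZeroExt.inr (1 ⊗ₜ h) := by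
  simp [φ]

lemma fst_φ (c : SymmetricAlgebra A H) : (φ A H c).fst = c := by
  have : (TrivSqZeroExt.fstHom A (SymmetricAlgebra A H) (SymmetricAlgebra A H ⊗[A] H)).comp (φ A H)
      = AlgHom.id A _ := by
    apply SymmetricAlgebra.algHom_ext
    ext h
    simp [φ_ι]
  exact congr($this c)

/-- The universal derivation `Sym H → Sym H ⊗ H`, `ι h ↦ 1 ⊗ h`. -/
noncomputable def dH : Derivation A (SymmetricAlgebra A H) (SymmetricAlgebra A H ⊗[A] H) where
  toLinearMap := ((TrivSqZeroExt.sndHom (SymmetricAlgebra A H)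
      (SymmetricAlgebra A H ⊗[A] H)).restrictScalars A) ∘ₗ (φ A H).toLinearMap
  map_one_eq_zero' := by simp
  leibniz' b b' := by
    simp only [LinearMap.coe_comp, LinearMap.coe_restrictScalars, Function.comp_apply,
      AlgHom.toLinearMap_apply, map_mul, TrivSqZeroExt.sndHom_apply, TrivSqZeroExt.snd_mul,
      fst_φ, op_smul_eq_smul]

lemma dH_apply (c : SymmetricAlgebra A H) : dH A H c = (φ A H c).snd := rfl

@[simp] lemma dH_ι (h : H) : dH A H (SymmetricAlgebra.ι A H h) = 1 ⊗ₜ h := by
  rw [dH_apply, φ_ι]; simp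

end deriv

/-- `Ω[Sym H / A] → Sym H ⊗ H`. -/
noncomputable def fwd : Ω[SymmetricAlgebra A H⁄A] →ₗ[SymmetricAlgebra A H]
    (SymmetricAlgebra A H ⊗[A] H) :=
  (dH A H).liftKaehlerDifferential

/-- `Sym H ⊗ H → Ω[Sym H / A]`, `c ⊗ h ↦ c • d (ι h)`. -/
noncomputable def bwd : (SymmetricAlgebra A H ⊗[A] H) →ₗ[SymmetricAlgebra A H]
    Ω[SymmetricAlgebra A H⁄A] :=
  LinearMap.liftBaseChange (SymmetricAlgebra A H)
    ((D A (SymmetricAlgebra A H)).toLinearMap ∘ₗ SymmetricAlgebra.ι A H)

@[simp] lemma fwd_D (c : SymmetricAlgebra A H) : fwd A H (D A _ c) = dH A H c :=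
  Derivation.liftKaehlerDifferential_comp_D _ _

@[simp] lemma bwd_tmul (c : SymmetricAlgebra A H) (h : H) :
    bwd A H (c ⊗ₜ h) = c • D A _ (SymmetricAlgebra.ι A H h) := by
  simp [bwd]

lemma bwd_dH (c : SymmetricAlgebra A H) : bwd A H (dH A H c) = D A _ c := by
  induction c using SymmetricAlgebra.induction with
  | algebraMap r => simp
  | ι h => simp
  | mul a b ha hb => rw [Derivation.leibniz, Derivation.leibniz, map_add, map_smul, map_smul, ha, hb]
  | add a b ha hb => rw [map_add, map_add, map_add, ha, hb]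

/-- `Ω[Sym_A H / A] ≃ Sym_A H ⊗[A] H`. -/
noncomputable def kaehlerEquiv : Ω[SymmetricAlgebra A H⁄A] ≃ₗ[SymmetricAlgebra A H]
    (SymmetricAlgebra A H ⊗[A] H) :=
  LinearEquiv.ofLinearMap (fwd A H) (bwd A H)
    (by
      apply TensorProduct.AlgebraTensorModule.ext
      intro c h
      simp only [LinearMap.comp_apply, bwd_tmul, map_smul, fwd_D, dH_ι, LinearMap.id_apply]
      rw [TensorProduct.smul_tmul', smul_eq_mul, mul_one])
    (by
      apply Derivation.liftKaehlerDifferential_unique
      ext c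
      simp [bwd_dH])

/-- The symmetric algebra of a finitely generated module is an algebra of finite type. -/
theorem finiteType [Module.Finite A H] : Algebra.FiniteType A (SymmetricAlgebra A H) := by
  classical
  obtain ⟨s, hs⟩ := (Module.Finite.fg_top : (⊤ : Submodule A H).FG)
  refine ⟨⟨s.image (SymmetricAlgebra.ι A H), ?_⟩⟩
  rw [eq_top_iff]
  intro c hc
  clear hc
  induction c using SymmetricAlgebra.induction with
  | algebraMap r => exact Subalgebra.algebraMap_mem _ r
  | ι h =>
    have hh : h ∈ Submodule.span A (s : Set H) := hs ▸ trivial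
    induction hh using Submodule.span_induction with
    | mem x hx =>
      exact Algebra.subset_adjoin (by simpa using ⟨x, hx, rfl⟩)
    | zero => rw [map_zero]; exact Subalgebra.zero_mem _
    | add x y _ _ hx hy => rw [map_add]; exact Subalgebra.add_mem _ hx hy
    | smul r x _ hx => rw [map_smul]; exact Subalgebra.smul_mem _ hx r
  | mul a b ha hb => exact Subalgebra.mul_mem _ ha hb
  | add a b ha hb => exact Subalgebra.add_mem _ ha hb

end Groth.Agent.Lib.Helper62.SymKaehler
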