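import Mathlib
import Groth.Agent.Lib.Helper62.FibReg8
import Groth.Agent.Lib.Helper62.FibReg9

/-!
# Fibrewise nonzerodivisors on flat finitely presented modules (helper62)
-/

set_option autoImplicit false
universe u

open TensorProduct
open scoped Pointwise

namespace Groth.Agent.Lib.Helper62.FibReg

section LocTools

variable {A B : Type*} [CommRing A] [CommRing B] [Algebra A B] {M : Type*} [AddCommGroup M]
  [Module B M] [Module A M] [IsScalarTower A B M]

theorem isLocalizedModule_bot_id :
    IsLocalizedModule (⊥ : Submonoid B) (LinearMap.id : M →ₗ[B] M) where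
  map_units w := by
    have : (w : B) = 1 := Submonoid.mem_bot.mp w.2
    rw [this, map_one]
    exact isUnit_one
  surj y := ⟨⟨y, 1⟩, by simp⟩
  exists_of_eq {x₁ x₂} h := ⟨1, by simpa using h⟩

/-- Localizing a flat module at a multiplicative set of a bigger ring keeps it flat. -/
theorem flat_localizedModule [Module.Flat A M] (W : Submonoid B) :
    Module.Flat A (LocalizedModule W M) := by
  have := isLocalizedModule_bot_id (B := B) (M := M)
  exact Groth.Agent.H76.FlatBaseChange.flat_localized_of_isLocalizedModule_of_le (R := A)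
    (⊥ : Submonoid B) (LinearMap.id : M →ₗ[B] M) bot_le

omit [Algebra A B] [Module A M] [IsScalarTower A B M] in
/-- Regular elements stay regular on localizations. -/
theorem isSMulRegular_of_isLocalizedModule (W : Submonoid B) {N : Type*} [AddCommGroup N]
    [Module B N] (ℓ : M →ₗ[B] N) [IsLocalizedModule W ℓ] {a : B} (h : IsSMulRegular M a) :
    IsSMulRegular N a := by
  rw [isSMulRegular_iff_right_eq_zero_of_smul]
  intro x hx
  obtain ⟨m, w, hw, hm⟩ := exists_smul_eq_map W ℓ x
  have h1 : ℓ (a • m) = 0 := by
    rw [map_smul, ← hm, smul_comm, hx, smul_zero]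
  obtain ⟨w', hw', h2⟩ := exists_smul_eq_zero_of_map_eq_zero W ℓ h1
  rw [smul_comm] at h2
  have h3 : w' • m = 0 := (isSMulRegular_iff_right_eq_zero_of_smul (M := M)).mp h _ h2
  have h4 : (w' * w) • x = 0 := by
    rw [mul_smul, hm, ← map_smul, h3, map_zero]
  exact unit_smul_eq_zero W ℓ (W.mul_mem hw' hw) h4

omit [Algebra A B] [Module A M] [IsScalarTower A B M] in
/-- Regularity can be checked on the localizations at all maximal ideals. -/
theorem isSMulRegular_of_forall_localized {a : B}
    (h : ∀ (q : Ideal B) [q.IsMaximal], IsSMulRegular (LocalizedModule q.primeCompl M) a) :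
    IsSMulRegular M a := by
  rw [isSMulRegular_iff_right_eq_zero_of_smul]
  intro m hm
  refine Module.eq_zero_of_localization_maximal (R := B)
    (fun (q : Ideal B) _ => LocalizedModule q.primeCompl M)
    (fun (q : Ideal B) _ => LocalizedModule.mkLinearMap q.primeCompl M) m (fun q hq => ?_)
  refine (isSMulRegular_iff_right_eq_zero_of_smul
    (M := LocalizedModule q.primeCompl M)).mp (h q) _ ?_
  rw [← map_smul, hm, map_zero]

end LocTools

section Fibre

variable {A B : Type u} [CommRing A] [CommRing B] [Algebra A B] (M : Type u) [AddCommGroup M]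
  [Module B M] [Module A M] [IsScalarTower A B M] (p : Ideal A) [p.IsPrime]

instance isNoetherianRing_fibre [Algebra.FiniteType A B] :
    IsNoetherianRing (B ⊗[A] p.ResidueField) := by
  have h1 : IsNoetherianRing (p.ResidueField ⊗[A] B) :=
    Algebra.FiniteType.isNoetherianRing p.ResidueField _
  exact isNoetherianRing_of_ringEquiv _
    (Algebra.TensorProduct.comm A p.ResidueField B).toRingEquiv

variable (B) in
/-- The comparison `M ⊗ κ(p) ≃ (B ⊗ κ(p)) ⊗_B M`. -/
noncomputable def fibreModEquiv :
    M ⊗[A] p.ResidueField ≃ₗ[B] (B ⊗[A] p.ResidueField) ⊗[B] M :=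
  (AlgebraTensorModule.cancelBaseChange A B B M p.ResidueField).symm ≪≫ₗ
    TensorProduct.comm B M (B ⊗[A] p.ResidueField)

variable (B) in
theorem fibreModEquiv_smul (a : B) (z : M ⊗[A] p.ResidueField) :
    fibreModEquiv B M p (a • z) =
      (a ⊗ₜ[A] (1 : p.ResidueField) : B ⊗[A] p.ResidueField) • fibreModEquiv B M p z := by
  rw [map_smul]
  generalize fibreModEquiv B M p z = w
  induction w with
  | zero => rw [smul_zero, smul_zero]
  | tmul x m =>
    rw [TensorProduct.smul_tmul', TensorProduct.smul_tmul', smul_eq_mul, Algebra.smul_def,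
      Algebra.TensorProduct.algebraMap_apply]
    rfl
  | add x y hx hy => rw [smul_add, smul_add, hx, hy]

variable {M p} in
/-- On a Noetherian fibre, an element avoiding the minimal primes of the annihilator of a module
without embedded primes is a nonzerodivisor. -/
theorem isSMulRegular_of_noEmbedded {R X : Type*} [CommRing R] [IsNoetherianRing R]
    [AddCommGroup X] [Module R X]
    (hS1 : associatedPrimes R X ⊆ (Module.annihilator R X).minimalPrimes) {a : R}
    (ha : ∀ P ∈ (Module.annihilator R X).minimalPrimes, a ∉ P) : IsSMulRegular X a := by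
  rw [isSMulRegular_iff_right_eq_zero_of_smul]
  intro x hx
  by_contra hne
  have h1 : a ∈ ⋃ P ∈ associatedPrimes R X, (P : Set R) := by
    rw [biUnion_associatedPrimes_eq_zero_divisors]
    exact ⟨x, hne, hx⟩
  obtain ⟨P, hP, haP⟩ := Set.mem_iUnion₂.mp h1
  exact ha P (hS1 hP) haP

end Fibre

section Main

/-- A flat finitely presented module with `(S₁)` fibres: an element which on every fibre avoids
the minimal primes of the support is a nonzerodivisor. -/
theorem isSMulRegular_of_fibres (A B M : Type u) [CommRing A] [CommRing B] [Algebra A B]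
    [Algebra.FinitePresentation A B] [AddCommGroup M] [Module B M] [Module A M]
    [IsScalarTower A B M] [Module.FinitePresentation B M] [Module.Flat A M]
    (hS1 : ∀ (p : Ideal A) [p.IsPrime],
      associatedPrimes (B ⊗[A] p.ResidueField) ((B ⊗[A] p.ResidueField) ⊗[B] M) ⊆
        (Module.annihilator (B ⊗[A] p.ResidueField) ((B ⊗[A] p.ResidueField) ⊗[B] M)).minimalPrimes)
    (a : B)
    (ha : ∀ (p : Ideal A) [p.IsPrime],
      ∀ P ∈ (Module.annihilator (B ⊗[A] p.ResidueField)
          ((B ⊗[A] p.ResidueField) ⊗[B] M)).minimalPrimes,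
        a ⊗ₜ[A] (1 : p.ResidueField) ∉ P) :
    IsSMulRegular M a := by
  apply isSMulRegular_of_forall_localized
  intro q hq
  have hqp : q.IsPrime := hq.isPrime
  set p := q.comap (algebraMap A B) with hp
  have h1 : IsSMulRegular ((B ⊗[A] p.ResidueField) ⊗[B] M)
      (a ⊗ₜ[A] (1 : p.ResidueField) : B ⊗[A] p.ResidueField) :=
    isSMulRegular_of_noEmbedded (hS1 p) (ha p)
  have h2 : IsSMulRegular (M ⊗[A] p.ResidueField) a :=
    (Equiv.isSMulRegular_congr (e := (fibreModEquiv B M p).toEquiv)
      (fun z => fibreModEquiv_smul B M p a z)).mpr h1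
  have h3 : IsSMulRegular (XMod A M q) a :=
    isSMulRegular_of_isLocalizedModule q.primeCompl
      (LocalizedModule.mkLinearMap q.primeCompl (M ⊗[A] p.ResidueField)) h2
  set N := LocalizedModule q.primeCompl M with hN
  set ℓ := LocalizedModule.mkLinearMap q.primeCompl M with hℓ
  have e := fibreEquiv A M q ℓ
  have h4 : IsSMulRegular
      (N ⧸ ((q.comap (algebraMap A B)).map (algebraMap A B)) • (⊤ : Submodule B N)) a :=
    (e.isSMulRegular_congr a).mpr h3
  have hfl : Module.Flat A N := flat_localizedModule q.primeCompl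
  exact (step q ℓ a h4).1

end Main

end Groth.Agent.Lib.Helper62.FibReg
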