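import Mathlib
import Groth.Agent.Lib.Helper62.FibReg15

/-!
# Descent of finitely presented modules along a localization; universal injectivity
-/

set_option autoImplicit false

namespace Groth.Agent.Lib.Helper62.FibReg

open TensorProduct

universe u

section Descent

/-- A finitely presented module over a localization `B = W⁻¹A` is the localization of a finitely
presented `A`-module. -/
theorem exists_fp_descent {A B : Type u} [CommRing A] [CommRing B] [Algebra A B] (W : Submonoid A)
    [IsLocalization W B] (N : Type u) [AddCommGroup N] [Module B N] [Module A N]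
    [IsScalarTower A B N] [Module.FinitePresentation B N] :
    ∃ (N₀ : Type u) (_ : AddCommGroup N₀) (_ : Module A N₀) (ℓ : N₀ →ₗ[A] N),
      Module.FinitePresentation A N₀ ∧ IsLocalizedModule W ℓ := by
  obtain ⟨b, K, e, hK⟩ := Module.FinitePresentation.exists_fin B N
  obtain ⟨a, c, hc⟩ := Submodule.fg_iff_exists_fin_generating_family.mp hK
  obtain ⟨w, hw⟩ := IsLocalization.exist_integer_multiples_of_finite W
    (fun ij : Fin a × Fin b => c ij.1 ij.2)
  choose c₀ hc₀ using hw
  let f₀ : (Fin b → A) →ₗ[A] (Fin b → B) :=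
    LinearMap.pi (fun i => Algebra.linearMap A B ∘ₗ LinearMap.proj i)
  have hf₀ : IsLocalizedModule W f₀ := IsLocalizedModule.pi W (fun _ => Algebra.linearMap A B)
  let K₀ : Submodule A (Fin b → A) := Submodule.span A (Set.range (fun i j => c₀ (i, j)))
  have hf₀c : ∀ i, f₀ (fun j => c₀ (i, j)) = (w : A) • c i := by
    intro i
    ext j
    simp only [f₀, LinearMap.pi_apply, LinearMap.comp_apply, LinearMap.proj_apply,
      Algebra.linearMap_apply, Pi.smul_apply]
    exact hc₀ (i, j)
  have hwu : IsUnit (algebraMap A B w) := IsLocalization.map_units B w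
  have hK' : K₀.localized' B W f₀ = K := by
    rw [Submodule.localized'_span, ← hc]
    apply le_antisymm
    · rw [Submodule.span_le]
      rintro _ ⟨_, ⟨i, rfl⟩, rfl⟩
      rw [hf₀c i, ← algebraMap_smul B]
      exact Submodule.smul_mem _ _ (Submodule.subset_span ⟨i, rfl⟩)
    · rw [Submodule.span_le]
      rintro _ ⟨i, rfl⟩
      obtain ⟨u, hu⟩ := hwu
      have : c i = (↑u⁻¹ : B) • f₀ (fun j => c₀ (i, j)) := by
        rw [hf₀c i, ← algebraMap_smul B (w : A) (c i), ← hu, smul_smul, Units.inv_mul, one_smul]
      rw [this]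
      exact Submodule.smul_mem _ _ (Submodule.subset_span ⟨_, ⟨i, rfl⟩, rfl⟩)
  let ℓ' := K₀.toLocalizedQuotient' B W f₀
  have hℓ' : IsLocalizedModule W ℓ' := inferInstance
  let E : ((Fin b → B) ⧸ K₀.localized' B W f₀) ≃ₗ[A] N :=
    (Submodule.quotEquivOfEq _ _ hK').restrictScalars A ≪≫ₗ e.symm.restrictScalars A
  refine ⟨(Fin b → A) ⧸ K₀, inferInstance, inferInstance, E.toLinearMap ∘ₗ ℓ', ?_, ?_⟩
  · refine Module.finitePresentation_of_surjective K₀.mkQ (Submodule.mkQ_surjective _) ?_
    rw [Submodule.ker_mkQ]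
    exact Submodule.fg_span (Set.finite_range _)
  · exact IsLocalizedModule.of_linearEquiv W ℓ' E

end Descent

end Groth.Agent.Lib.Helper62.FibReg
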