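import Mathlib
import Groth.Prelude.Def_CAlgX

/-!
# Lifting derivations along adically formally smooth algebras (helper62)

`exists_derivation_lift`: if `B` is formally smooth over `A` for the `I`-adic topology, then for
every surjection `p : M → M''` of `B`-modules with `I ^ k M = 0`, every `A`-derivation `B → M''`
lifts to an `A`-derivation `B → M` (i.e. `Ω_{B/A} ⊗ B/I^k` is a projective `B/I^k`-module).
-/

set_option autoImplicit false
universe u

namespace Groth.Agent.Lib.Helper62.AdicDerivation

open TrivSqZeroExt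

section

variable {A B : Type u} [CommRing A] [CommRing B] [Algebra A B]
  {R : Type u} [CommRing R] (q : B →+* R)
  {M : Type u} [AddCommGroup M] [Module A M] [Module B M] [IsScalarTower A B M]
  [Module R M] [Module Rᵐᵒᵖ M] [IsCentralScalar R M]

/-- `b ↦ q b + D b ε` as a ring map `B → R[M]`, where `q : B → R` is compatible with the
module structures. -/
def derivHom (hq : ∀ (b : B) (m : M), q b • m = b • m) (D : Derivation A B M) :
    B →+* TrivSqZeroExt R M where
  toFun b := inl (q b) + inr (D b)
  map_one' := by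
    ext
    · simp
    · simp
  map_mul' x y := by
    ext
    · simp
    · simp only [snd_add, snd_inl, snd_inr, zero_add, snd_mul, fst_add, fst_inl, fst_inr,
        add_zero, Derivation.leibniz, op_smul_eq_smul, hq]
  map_zero' := by
    ext
    · simp
    · simp
  map_add' x y := by
    ext
    · simp
    · simp only [map_add, snd_add, snd_inl, snd_inr, zero_add]

@[simp] theorem fst_derivHom (hq : ∀ (b : B) (m : M), q b • m = b • m) (D : Derivation A B M)
    (b : B) : (derivHom q hq D b).fst = q b := by
  simp [derivHom]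

@[simp] theorem snd_derivHom (hq : ∀ (b : B) (m : M), q b • m = b • m) (D : Derivation A B M)
    (b : B) : (derivHom q hq D b).snd = D b := by
  simp [derivHom]

end

section Lift

variable {A B : Type u} [CommRing A] [CommRing B] [Algebra A B] {I : Ideal B}

theorem exists_derivation_lift (hB : CAlgX.IsAdicFormallySmooth A B I)
    {M M'' : Type u} [AddCommGroup M] [Module A M] [Module B M] [IsScalarTower A B M]
    [AddCommGroup M''] [Module A M''] [Module B M''] [IsScalarTower A B M'']
    (p : M →ₗ[B] M'') (hp : Function.Surjective p) (k : ℕ)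
    (hk : ∀ a ∈ I ^ k, ∀ m : M, a • m = 0) (D'' : Derivation A B M'') :
    ∃ D : Derivation A B M, ∀ b, p (D b) = D'' b := by
  classical
  have hM : Module.IsTorsionBySet B M ((I ^ k : Ideal B) : Set B) := fun m a => hk a.1 a.2 m
  have hk'' : ∀ a ∈ I ^ k, ∀ m : M'', a • m = 0 := by
    intro a ha m
    obtain ⟨m', rfl⟩ := hp m
    rw [← map_smul, hk a ha, map_zero]
  have hM'' : Module.IsTorsionBySet B M'' ((I ^ k : Ideal B) : Set B) :=
    fun m a => hk'' a.1 a.2 m
  let R := B ⧸ I ^ k
  let q : B →+* R := Ideal.Quotient.mk (I ^ k)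
  let _ : Module R M := hM.module
  let _ : Module R M'' := hM''.module
  let _ : Module Rᵐᵒᵖ M := Module.compHom _ ((RingHom.id R).fromOpposite mul_comm)
  have : IsCentralScalar R M := ⟨fun r m => rfl⟩
  let _ : Module Rᵐᵒᵖ M'' := Module.compHom _ ((RingHom.id R).fromOpposite mul_comm)
  have : IsCentralScalar R M'' := ⟨fun r m => rfl⟩
  have hq : ∀ (b : B) (m : M), q b • m = b • m := fun b m => rfl
  have hq'' : ∀ (b : B) (m : M''), q b • m = b • m := fun b m => rfl
  let pbar : M →ₗ[R] M'' :=
    { toFun := p
      map_add' := p.map_add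
      map_smul' := by
        intro r m
        obtain ⟨b, rfl⟩ := Ideal.Quotient.mk_surjective r
        exact p.map_smul b m }
  let _ : Algebra A (TrivSqZeroExt R M) :=
    ((TrivSqZeroExt.inlHom R M).comp (algebraMap A R)).toAlgebra
  let _ : Algebra A (TrivSqZeroExt R M'') :=
    ((TrivSqZeroExt.inlHom R M'').comp (algebraMap A R)).toAlgebra
  have halg : ∀ a : A, algebraMap A (TrivSqZeroExt R M) a = inl (algebraMap A R a) := fun _ => rfl
  have halg'' : ∀ a : A, algebraMap A (TrivSqZeroExt R M'') a = inl (algebraMap A R a) :=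
    fun _ => rfl
  let π : TrivSqZeroExt R M →ₐ[A] TrivSqZeroExt R M'' :=
    { (TrivSqZeroExt.map pbar).toRingHom with
      commutes' := fun a => by
        show TrivSqZeroExt.map pbar (algebraMap A (TrivSqZeroExt R M) a) = _
        rw [halg, halg'', TrivSqZeroExt.map_inl] }
  have hπ : ∀ x, π x = TrivSqZeroExt.map pbar x := fun _ => rfl
  have hπsurj : Function.Surjective π := by
    intro y
    obtain ⟨m, hm⟩ := hp y.snd
    refine ⟨inl y.fst + inr m, ?_⟩
    rw [hπ]
    ext
    · simp
    · simp [pbar, hm]
  let J' : Ideal (TrivSqZeroExt R M) := RingHom.ker π.toRingHom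
  have hJ'mem : ∀ x, x ∈ J' ↔ π x = 0 := fun x => RingHom.mem_ker
  have hJ' : J' ^ 2 = ⊥ := by
    rw [pow_two, eq_bot_iff, Ideal.mul_le]
    intro x hx y hy
    rw [hJ'mem, hπ] at hx hy
    have hx1 : x.fst = 0 := by
      have := congrArg TrivSqZeroExt.fst hx
      simpa using this
    have hy1 : y.fst = 0 := by
      have := congrArg TrivSqZeroExt.fst hy
      simpa using this
    rw [Ideal.mem_bot]
    ext
    · simp [hx1]
    · simp [hx1, hy1]
  let e : (TrivSqZeroExt R M ⧸ J') ≃ₐ[A] TrivSqZeroExt R M'' :=
    Ideal.quotientKerAlgEquivOfSurjective hπsurj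
  have he : ∀ x, e (Ideal.Quotient.mk J' x) = π x := fun x => rfl
  let φ'' : B →ₐ[A] TrivSqZeroExt R M'' :=
    { derivHom q hq'' D'' with
      commutes' := fun a => by
        show derivHom q hq'' D'' (algebraMap A B a) = _
        rw [halg'']
        ext
        · simp [q, R]
        · simp }
  have hφ'' : ∀ b, φ'' b = derivHom q hq'' D'' b := fun _ => rfl
  let ψ : B →ₐ[A] TrivSqZeroExt R M ⧸ J' := (e.symm : _ →ₐ[A] _).comp φ''
  have hψ : ∃ j : ℕ, ∀ x ∈ I ^ j, ψ x = 0 := by
    refine ⟨k + k, fun x hx => ?_⟩
    have hx0 : φ'' x = 0 := by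
      rw [pow_add] at hx
      refine Submodule.mul_induction_on hx ?_ ?_
      · intro a ha b hb
        rw [hφ'']
        ext
        · rw [fst_derivHom, fst_zero, map_mul,
            show q a = 0 from Ideal.Quotient.eq_zero_iff_mem.mpr ha, zero_mul]
        · rw [snd_derivHom, snd_zero, Derivation.leibniz, hk'' a ha, hk'' b hb, add_zero]
      · intro y z hy hz
        rw [map_add, hy, hz, add_zero]
    show e.symm (φ'' x) = 0
    rw [hx0, map_zero]
  obtain ⟨χ, hχ⟩ := hB (TrivSqZeroExt R M) J' hJ' ψ hψ
  have hπχ : ∀ b, π (χ b) = φ'' b := by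
    intro b
    have h1 := DFunLike.congr_fun hχ b
    have h2 : Ideal.Quotient.mk J' (χ b) = e.symm (φ'' b) := h1
    rw [← he, h2, AlgEquiv.apply_symm_apply]
  have hfst : ∀ b, (χ b).fst = q b := by
    intro b
    have := congrArg TrivSqZeroExt.fst (hπχ b)
    rw [hπ, TrivSqZeroExt.fst_map, hφ'', fst_derivHom] at this
    exact this
  have hsnd : ∀ b, p ((χ b).snd) = D'' b := by
    intro b
    have := congrArg TrivSqZeroExt.snd (hπχ b)
    rw [hπ, TrivSqZeroExt.snd_map, hφ'', snd_derivHom] at this
    exact this
  have hleib : ∀ b b' : B, (χ (b * b')).snd = b • (χ b').snd + b' • (χ b).snd := by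
    intro b b'
    rw [map_mul, TrivSqZeroExt.snd_mul, hfst, hfst, op_smul_eq_smul, hq, hq]
  have hχalg : ∀ a : A, (χ (algebraMap A B a)).snd = 0 := by
    intro a
    rw [AlgHom.commutes, halg, snd_inl]
  let D : Derivation A B M :=
    { toFun := fun b => (χ b).snd
      map_add' := fun x y => by rw [map_add, snd_add]
      map_smul' := fun a x => by
        rw [RingHom.id_apply, Algebra.smul_def, hleib, hχalg, smul_zero, add_zero,
          algebraMap_smul]
      map_one_eq_zero' := by
        show (χ 1).snd = 0
        rw [map_one, snd_one]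
      leibniz' := fun x y => hleib x y }
  exact ⟨D, hsnd⟩

end Lift

end Groth.Agent.Lib.Helper62.AdicDerivation
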