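import Mathlib
import Groth.Agent.Lib.Helper62.FibReg16

/-!
# The closed fibre module `(κ(𝔪) ⊗ S) ⊗_S N` and regularity on `N / 𝔪 N`
-/

set_option autoImplicit false

namespace Groth.Agent.Lib.Helper62.FibReg

open TensorProduct IsLocalRing

universe u

section ClosedFibre

attribute [local instance] Algebra.TensorProduct.rightAlgebra

variable {R S : Type u} [CommRing R] [IsLocalRing R] [CommRing S] [Algebra R S]

variable (R S) in
/-- The comparison `κ(𝔪) ⊗ S → S / 𝔪 S`. -/
noncomputable def fibToQuot :
    (maximalIdeal R).ResidueField ⊗[R] S →ₐ[R] S ⧸ (maximalIdeal R).map (algebraMap R S) :=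
  Algebra.TensorProduct.lift
    (Ideal.ResidueField.liftₐ (maximalIdeal R)
      (Algebra.ofId R (S ⧸ (maximalIdeal R).map (algebraMap R S)))
      (by
        intro r hr
        rw [RingHom.mem_ker]
        change algebraMap R (S ⧸ (maximalIdeal R).map (algebraMap R S)) r = 0
        rw [IsScalarTower.algebraMap_apply R S, Ideal.Quotient.algebraMap_eq,
          Ideal.Quotient.eq_zero_iff_mem]
        exact Ideal.mem_map_of_mem _ hr)
      (by
        intro r hr
        have hu : IsUnit r := by
          by_contra h
          exact hr ((mem_maximalIdeal r).mpr h)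
        exact hu.map _))
    (IsScalarTower.toAlgHom R S _) (fun _ _ => Commute.all _ _)

theorem fibToQuot_one_tmul (s : S) :
    fibToQuot R S ((1 : (maximalIdeal R).ResidueField) ⊗ₜ[R] s) = Ideal.Quotient.mk _ s := by
  simp [fibToQuot]

variable (R S) in
/-- `fibToQuot` as an `S`-linear map (for the right `S`-algebra structure on the fibre). -/
noncomputable def fibToQuotₗ :
    (maximalIdeal R).ResidueField ⊗[R] S →ₗ[S] S ⧸ (maximalIdeal R).map (algebraMap R S) where
  toFun := fibToQuot R S
  map_add' := map_add _
  map_smul' s x := by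
    rw [Algebra.smul_def, map_mul, RingHom.id_apply, Algebra.smul_def]
    congr 1
    exact fibToQuot_one_tmul s

variable (N : Type u) [AddCommGroup N] [Module S N] [Module R N] [IsScalarTower R S N]

omit [Module R N] [IsScalarTower R S N] in
variable {N} in
theorem mem_of_one_tmul_eq_zero {n : N}
    (h : (1 : (maximalIdeal R).ResidueField ⊗[R] S) ⊗ₜ[S] n = 0) :
    n ∈ ((maximalIdeal R).map (algebraMap R S)) • (⊤ : Submodule S N) := by
  have h1 := congrArg (fun z => TensorProduct.quotTensorEquivQuotSMul N
      ((maximalIdeal R).map (algebraMap R S)) (LinearMap.rTensor N (fibToQuotₗ R S) z)) h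
  simp only [LinearMap.rTensor_tmul, map_zero] at h1
  have h2 : fibToQuotₗ R S 1 = Ideal.Quotient.mk _ 1 := by
    change fibToQuot R S 1 = _
    rw [map_one, map_one]
  rw [h2, TensorProduct.quotTensorEquivQuotSMul_mk_tmul, one_smul,
    Submodule.Quotient.mk_eq_zero] at h1
  exact h1

variable {N} in
theorem one_tmul_eq_zero_of_mem {n : N}
    (h : n ∈ (maximalIdeal R) • (⊤ : Submodule R N)) :
    (1 : (maximalIdeal R).ResidueField ⊗[R] S) ⊗ₜ[S] n = 0 := by
  refine Submodule.smul_induction_on h ?_ ?_
  · intro r hr x _
    rw [← algebraMap_smul S r x, ← TensorProduct.smul_tmul, Algebra.smul_def, mul_one]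
    have : algebraMap S ((maximalIdeal R).ResidueField ⊗[R] S) (algebraMap R S r) =
        (algebraMap R (maximalIdeal R).ResidueField r) ⊗ₜ[R] (1 : S) := by
      change (1 : (maximalIdeal R).ResidueField) ⊗ₜ[R] (algebraMap R S r) = _
      rw [Algebra.algebraMap_eq_smul_one, Algebra.algebraMap_eq_smul_one,
        TensorProduct.tmul_smul, TensorProduct.smul_tmul']
    rw [this, Ideal.algebraMap_residueField_eq_zero.mpr hr, TensorProduct.zero_tmul,
      TensorProduct.zero_tmul]
  · intro x y hx hy
    rw [TensorProduct.tmul_add, hx, hy, add_zero]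

end ClosedFibre

end Groth.Agent.Lib.Helper62.FibReg
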