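import Mathlib
import Groth.Agent.Lib.Helper62.FibReg17

/-!
# Universal injectivity of multiplication by elements regular on the closed fibre
-/

set_option autoImplicit false

namespace Groth.Agent.Lib.Helper62.FibReg

open TensorProduct IsLocalRing Pointwise

universe u

section Exact

variable {R B N : Type*} [CommRing R] [CommRing B] [Algebra R B] [AddCommGroup N] [Module B N]
  [Module R N] [IsScalarTower R B N]

/-- A regular element with flat cokernel acts universally injectively. -/
theorem lTensor_lsmul_injective_of_regular_flat (a : B) (hr : IsSMulRegular N a)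
    [Module.Flat R (QuotSMulTop a N)] (Q : Type*) [AddCommGroup Q] [Module R Q] :
    Function.Injective (LinearMap.lTensor Q ((LinearMap.lsmul B N a).restrictScalars R)) := by
  let f : N →ₗ[R] QuotSMulTop a N := ((a • (⊤ : Submodule B N)).mkQ).restrictScalars R
  have hf : Function.Surjective f := by
    intro y
    obtain ⟨x, rfl⟩ := Submodule.mkQ_surjective _ y
    exact ⟨x, rfl⟩
  let g : N →ₗ[R] N := (LinearMap.lsmul B N a).restrictScalars R
  have hex : Function.Exact g f := by
    intro y
    change Submodule.Quotient.mk y = 0 ↔ y ∈ Set.range fun n : N => a • n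
    rw [Submodule.Quotient.mk_eq_zero, Submodule.mem_smul_pointwise_iff_exists]
    constructor
    · rintro ⟨n, -, rfl⟩
      exact ⟨n, rfl⟩
    · rintro ⟨n, rfl⟩
      exact ⟨n, Submodule.mem_top, rfl⟩
  exact LinearMap.lTensor_injective_of_exact_of_flat f hf g hr hex Q

end Exact

section UnivInj

attribute [local instance] Algebra.TensorProduct.rightAlgebra

variable {R S : Type u} [CommRing R] [IsLocalRing R] [CommRing S] [IsLocalRing S] [Algebra R S]
  [IsLocalHom (algebraMap R S)]
  (S₀ : Type u) [CommRing S₀] [Algebra R S₀] [Algebra S₀ S] [IsScalarTower R S₀ S]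
  [Algebra.FinitePresentation R S₀] (W : Submonoid S₀) [IsLocalization W S]
  (N : Type u) [AddCommGroup N] [Module S N] [Module R N] [IsScalarTower R S N]
  [Module.FinitePresentation S N] [Module.Flat R N]

include S₀ W in
/-- `R → S` local, essentially of finite presentation, `N` finitely presented over `S` and flat
over `R`, `s` a nonzerodivisor on the closed fibre: multiplication by `s` on `N` is universally
injective over `R`. -/
theorem lTensor_lsmul_injective_of_nzd_closedFibre (s : S)
    (hs : s ∈ nonZeroSMulDivisors S (((maximalIdeal R).ResidueField ⊗[R] S) ⊗[S] N))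
    (Q : Type u) [AddCommGroup Q] [Module R Q] :
    Function.Injective (LinearMap.lTensor Q ((LinearMap.lsmul S N s).restrictScalars R)) := by
  let modS₀ : Module S₀ N := Module.compHom N (algebraMap S₀ S)
  have tow1 : IsScalarTower S₀ S N := IsScalarTower.of_algebraMap_smul (fun _ _ => rfl)
  have tow2 : IsScalarTower R S₀ N := IsScalarTower.of_algebraMap_smul (fun r n => by
    rw [← algebraMap_smul S (algebraMap R S₀ r) n, ← IsScalarTower.algebraMap_apply R S₀ S,
      algebraMap_smul])
  set q : Ideal S₀ := (maximalIdeal S).comap (algebraMap S₀ S) with hq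
  have hqp : q.IsPrime := Ideal.comap_isPrime _ _
  have hWq : W ≤ q.primeCompl := by
    intro w hw hwq
    have h1 : algebraMap S₀ S w ∈ maximalIdeal S := hwq
    exact (mem_maximalIdeal _).mp h1 (IsLocalization.map_units S ⟨w, hw⟩)
  have hlocq : IsLocalization q.primeCompl S :=
    IsLocalization.of_le W q.primeCompl hWq (fun r hr => by
      by_contra h
      exact hr ((mem_maximalIdeal _).mpr h))
  obtain ⟨N₀, _, _, ℓ, hfp, hloc⟩ := exists_fp_descent (A := S₀) (B := S) q.primeCompl N
  have hp : q.comap (algebraMap R S₀) = maximalIdeal R := by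
    rw [hq, Ideal.comap_comap, ← IsScalarTower.algebraMap_eq]
    have hloc' : IsLocalHom (algebraMap R S) := inferInstance
    exact ((local_hom_TFAE (algebraMap R S)).out 0 4 rfl rfl).mp hloc'
  obtain ⟨⟨a, w⟩, haw⟩ := IsLocalization.surj W s
  simp only at haw
  have hwu : IsUnit (algebraMap S₀ S w) := IsLocalization.map_units S w
  -- regularity on the fibre
  have hreg : IsSMulRegular
      (N ⧸ ((q.comap (algebraMap R S₀)).map (algebraMap R S₀)) • (⊤ : Submodule S₀ N)) a := by
    rw [hp, isSMulRegular_iff_right_eq_zero_of_smul]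
    intro x hx
    obtain ⟨x, rfl⟩ := Submodule.mkQ_surjective _ x
    rw [Submodule.mkQ_apply, ← Submodule.Quotient.mk_smul, Submodule.Quotient.mk_eq_zero,
      Groth.Agent.Lib.Helper93.DepthFlat.mem_map_smul_top_iff] at hx
    rw [Submodule.mkQ_apply, Submodule.Quotient.mk_eq_zero,
      Groth.Agent.Lib.Helper93.DepthFlat.mem_map_smul_top_iff]
    have h1 := one_tmul_eq_zero_of_mem (S := S) hx
    have h2 : a • x = s • (algebraMap S₀ S w • x) := by
      rw [← algebraMap_smul S a x, ← haw, mul_smul]
    rw [h2, TensorProduct.tmul_smul] at h1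
    have h3 := (mem_nonZeroSMulDivisors_iff.mp hs) _ h1
    have h4 := mem_of_one_tmul_eq_zero h3
    obtain ⟨u, hu⟩ := hwu
    have h5 : x = (↑u⁻¹ : S) • (algebraMap S₀ S w • x) := by
      rw [← hu, smul_smul, Units.inv_mul, one_smul]
    have h6 : x ∈ ((maximalIdeal R).map (algebraMap R S)) • (⊤ : Submodule S N) := by
      rw [h5]
      exact Submodule.smul_mem _ _ h4
    exact (Groth.Agent.Lib.Helper93.DepthFlat.mem_map_smul_top_iff _ _).mp h6
  obtain ⟨hr, hfl⟩ := step (A := R) q ℓ a hreg
  -- universal injectivity of multiplication by `a`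
  have hinj : Function.Injective
      (LinearMap.lTensor Q ((LinearMap.lsmul S₀ N a).restrictScalars R)) :=
    lTensor_lsmul_injective_of_regular_flat a hr Q
  have hcomp : ((LinearMap.lsmul S N (algebraMap S₀ S w)).restrictScalars R) ∘ₗ
      ((LinearMap.lsmul S N s).restrictScalars R) =
      (LinearMap.lsmul S₀ N a).restrictScalars R := by
    ext n
    change algebraMap S₀ S w • s • n = a • n
    rw [← algebraMap_smul S a n, ← haw, mul_comm, mul_smul]
  rw [← hcomp, LinearMap.lTensor_comp] at hinj
  exact Function.Injective.of_comp hinj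

end UnivInj

section LocUnivInj

variable {R S N : Type*} [CommRing R] [CommRing S] [Algebra R S] [AddCommGroup N] [Module S N]
  [Module R N] [IsScalarTower R S N]

theorem rTensor_lsmul_apply (σ : S) (Q : Type*) [AddCommGroup Q] [Module R Q] (x : N ⊗[R] Q) :
    (LinearMap.rTensor Q ((LinearMap.lsmul S N σ).restrictScalars R)) x = σ • x := by
  induction x with
  | zero => rw [map_zero, smul_zero]
  | tmul n z => rfl
  | add x y hx hy => rw [map_add, hx, hy, smul_add]

/-- Localizing at a multiplicative set of elements acting universally injectively is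
universally injective. -/
theorem lTensor_mkLinearMap_injective (T : Submonoid S)
    (Q : Type*) [AddCommGroup Q] [Module R Q]
    (h : ∀ s ∈ T,
      Function.Injective (LinearMap.lTensor Q ((LinearMap.lsmul S N s).restrictScalars R))) :
    Function.Injective
      (LinearMap.lTensor Q ((LocalizedModule.mkLinearMap T N).restrictScalars R)) := by
  rw [LinearMap.lTensor_inj_iff_rTensor_inj, injective_iff_map_eq_zero]
  intro x hx
  have hloc : IsLocalizedModule T
      (AlgebraTensorModule.rTensor R Q (LocalizedModule.mkLinearMap T N)) := inferInstance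
  have hx' : AlgebraTensorModule.rTensor R Q (LocalizedModule.mkLinearMap T N) x = 0 := hx
  obtain ⟨σ, hσ⟩ := (IsLocalizedModule.eq_zero_iff T _).mp hx'
  have h1 := rTensor_lsmul_apply (R := R) (σ : S) Q x
  refine ((LinearMap.lTensor_inj_iff_rTensor_inj Q _).mp (h σ σ.2)) ?_
  rw [h1, map_zero]
  exact hσ

end LocUnivInj

end Groth.Agent.Lib.Helper62.FibReg
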