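import Mathlib
import Groth.Agent.Lib.Helper93.DepthFlat

/-!
# Transversally regular sequences and their fibres
-/

set_option autoImplicit false

namespace Groth.Agent.Lib.Helper62.CITrans

open RingTheory.Sequence IsLocalRing Pointwise

section Fibre

variable {R S : Type*} [CommRing R] [CommRing S] [Algebra R S]
  (N : Type*) [AddCommGroup N] [Module S N] [Module R N] [IsScalarTower R S N]

/-- If `y` is `N`-regular and `N / y N` is `R`-flat, then `y` is regular on `N / I N`. -/
theorem isSMulRegular_fibre_of_flat_quot (I : Ideal R) {y : S} (hy : IsSMulRegular N y)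
    [Module.Flat R (QuotSMulTop y N)] :
    IsSMulRegular (N ⧸ (I.map (algebraMap R S)) • (⊤ : Submodule S N)) y := by
  rw [isSMulRegular_iff_right_eq_zero_of_smul]
  intro x hx
  obtain ⟨x, rfl⟩ := Submodule.mkQ_surjective _ x
  rw [Submodule.mkQ_apply, ← Submodule.Quotient.mk_smul, Submodule.Quotient.mk_eq_zero,
    Groth.Agent.Lib.Helper93.DepthFlat.mem_map_smul_top_iff] at hx
  rw [Submodule.mkQ_apply, Submodule.Quotient.mk_eq_zero,
    Groth.Agent.Lib.Helper93.DepthFlat.mem_map_smul_top_iff]
  let f : N →ₗ[R] QuotSMulTop y N := ((y • (⊤ : Submodule S N)).mkQ).restrictScalars R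
  have hf : Function.Surjective f := by
    intro z
    obtain ⟨n, rfl⟩ := Submodule.mkQ_surjective _ z
    exact ⟨n, rfl⟩
  have hker : ∀ n : N, n ∈ LinearMap.ker f ↔ ∃ n' : N, y • n' = n := by
    intro n
    rw [LinearMap.mem_ker]
    change Submodule.Quotient.mk n = 0 ↔ _
    rw [Submodule.Quotient.mk_eq_zero, Submodule.mem_smul_pointwise_iff_exists]
    constructor
    · rintro ⟨n', -, h⟩
      exact ⟨n', h⟩
    · rintro ⟨n', h⟩
      exact ⟨n', Submodule.mem_top, h⟩
  have h1 : y • x ∈ LinearMap.ker f ⊓ I • (⊤ : Submodule R N) :=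
    ⟨(hker _).mpr ⟨x, rfl⟩, hx⟩
  rw [LinearMap.ker_inf_smul_top_eq_smul_of_flat I f hf] at h1
  -- elements of `I • ker f` are of the form `y • x'` with `x' ∈ I N`
  have h2 : ∀ z ∈ I • LinearMap.ker f, ∃ x' ∈ I • (⊤ : Submodule R N), y • x' = z := by
    intro z hz
    refine Submodule.smul_induction_on hz ?_ ?_
    · intro r hr n hn
      obtain ⟨n', rfl⟩ := (hker n).mp hn
      exact ⟨r • n', Submodule.smul_mem_smul hr Submodule.mem_top, smul_comm y r n'⟩
    · rintro a b ⟨a', ha', rfl⟩ ⟨b', hb', rfl⟩
      exact ⟨a' + b', Submodule.add_mem _ ha' hb', smul_add y a' b'⟩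
  obtain ⟨x', hx', hxx'⟩ := h2 _ h1
  have : x' = x := hy hxx'
  rw [← this]
  exact hx'

end Fibre

section Lists

universe u

theorem flat_quotSMulTop_of_take_one {R S : Type u} [CommRing R] [CommRing S] [Algebra R S]
    (N : Type u) [AddCommGroup N] [Module S N] [Module R N] [IsScalarTower R S N] (y : S)
    (l : List S)
    (h : Module.Flat R (N ⧸ (Ideal.ofList ((y :: l).take 1) • (⊤ : Submodule S N)))) :
    Module.Flat R (QuotSMulTop y N) := by
  have hbot : Ideal.ofList ([] : List S) • (⊤ : Submodule S (QuotSMulTop y N)) = ⊥ := by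
    rw [Ideal.ofList_nil, Submodule.bot_smul]
  have e1 := (Submodule.quotOfListConsSMulTopEquivQuotSMulTopInner N y ([] : List S)).restrictScalars R
  have e2 := (Submodule.quotEquivOfEqBot _ hbot).restrictScalars R
  have htake : (y :: l).take 1 = y :: ([] : List S) := by simp
  rw [htake] at h
  have h' : Module.Flat R (N ⧸ (Ideal.ofList (y :: ([] : List S)) • (⊤ : Submodule S N))) := h
  exact Module.Flat.of_linearEquiv (e1.trans e2).symm

/-- A transversally regular sequence stays weakly regular on every fibre `N / I N`. -/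
theorem isWeaklyRegular_fibre_of_trans {R S : Type u} [CommRing R] [CommRing S] [Algebra R S]
    (I : Ideal R) (fs : List S) :
    ∀ (N : Type u) [AddCommGroup N] [Module S N] [Module R N] [IsScalarTower R S N],
      IsWeaklyRegular N fs →
      (∀ i ≤ fs.length,
        Module.Flat R (N ⧸ (Ideal.ofList (fs.take i) • (⊤ : Submodule S N)))) →
      IsWeaklyRegular (N ⧸ (I.map (algebraMap R S)) • (⊤ : Submodule S N)) fs := by
  induction fs with
  | nil =>
    intro N _ _ _ _ _ _
    exact IsWeaklyRegular.nil S _
  | cons y l ih =>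
    intro N _ _ _ _ hreg hflat
    rw [isWeaklyRegular_cons_iff] at hreg
    have hfl1 : Module.Flat R (QuotSMulTop y N) :=
      flat_quotSMulTop_of_take_one N y l (hflat 1 (by simp))
    have h1 : IsSMulRegular (N ⧸ (I.map (algebraMap R S)) • (⊤ : Submodule S N)) y :=
      isSMulRegular_fibre_of_flat_quot N I hreg.1
    have hflat' : ∀ j ≤ l.length, Module.Flat R
        (QuotSMulTop y N ⧸ (Ideal.ofList (l.take j) • (⊤ : Submodule S (QuotSMulTop y N)))) := by
      intro j hj
      have := hflat (j + 1) (by simpa using hj)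
      rw [List.take_succ_cons] at this
      exact Module.Flat.of_linearEquiv
        ((Submodule.quotOfListConsSMulTopEquivQuotSMulTopInner N y (l.take j)).restrictScalars R).symm
    have h2 := ih (QuotSMulTop y N) hreg.2 hflat'
    have h3 : IsWeaklyRegular
        (QuotSMulTop y (N ⧸ (I.map (algebraMap R S)) • (⊤ : Submodule S N))) l :=
      ((Groth.Agent.Lib.Helper93.DepthFlat.fibreQuotSMulTopEquiv N
        (I.map (algebraMap R S)) y).isWeaklyRegular_congr l).mp h2
    exact (isWeaklyRegular_cons_iff _ y l).mpr ⟨h1, h3⟩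

/-- Noetherian local criterion, list form: a sequence weakly regular on the closed fibre of a
finite flat module is transversally regular. -/
theorem list_step_noeth {R S : Type u} [CommRing R] [CommRing S] [Algebra R S] [IsLocalRing R]
    [IsLocalRing S] [IsNoetherianRing S] [IsLocalHom (algebraMap R S)] (fs : List S) :
    ∀ (N : Type u) [AddCommGroup N] [Module S N] [Module R N] [IsScalarTower R S N]
      [Module.Finite S N] [Module.Flat R N],
      IsWeaklyRegular
        (N ⧸ ((maximalIdeal R).map (algebraMap R S)) • (⊤ : Submodule S N)) fs →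
      IsWeaklyRegular N fs ∧
        ∀ i ≤ fs.length,
          Module.Flat R (N ⧸ (Ideal.ofList (fs.take i) • (⊤ : Submodule S N))) := by
  induction fs with
  | nil =>
    intro N _ _ _ _ _ _ _
    refine ⟨IsWeaklyRegular.nil S N, fun i _ => ?_⟩
    have hbot : Ideal.ofList (([] : List S).take i) • (⊤ : Submodule S N) = ⊥ := by
      rw [List.take_nil, Ideal.ofList_nil, Submodule.bot_smul]
    exact Module.Flat.of_linearEquiv ((Submodule.quotEquivOfEqBot _ hbot).restrictScalars R)
  | cons y l ih =>
    intro N _ _ _ _ _ _ hreg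
    rw [isWeaklyRegular_cons_iff] at hreg
    obtain ⟨h1, h2⟩ :=
      Groth.Agent.Lib.Helper93.DepthFlat.isSMulRegular_and_flat_of_regular_fibre N hreg.1
    have h3 : IsWeaklyRegular (QuotSMulTop y N ⧸
        (((maximalIdeal R).map (algebraMap R S)) •
          (⊤ : Submodule S (QuotSMulTop y N)))) l :=
      ((Groth.Agent.Lib.Helper93.DepthFlat.fibreQuotSMulTopEquiv N
        ((maximalIdeal R).map (algebraMap R S)) y).isWeaklyRegular_congr l).mpr hreg.2
    obtain ⟨h4, h5⟩ := ih (QuotSMulTop y N) h3
    refine ⟨(isWeaklyRegular_cons_iff N y l).mpr ⟨h1, h4⟩, fun i hi => ?_⟩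
    cases i with
    | zero =>
      have hbot : Ideal.ofList ((y :: l).take 0) • (⊤ : Submodule S N) = ⊥ := by
        rw [List.take_zero, Ideal.ofList_nil, Submodule.bot_smul]
      exact Module.Flat.of_linearEquiv ((Submodule.quotEquivOfEqBot _ hbot).restrictScalars R)
    | succ j =>
      have hj : j ≤ l.length := by simpa using hi
      have := h5 j hj
      rw [List.take_succ_cons]
      exact Module.Flat.of_linearEquiv
        ((Submodule.quotOfListConsSMulTopEquivQuotSMulTopInner N y (l.take j)).restrictScalars R)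

end Lists

end Groth.Agent.Lib.Helper62.CITrans
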