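import Mathlib
import Groth.Prelude.Def_Pi1
import Groth.Agent.Lib.Helper18.ComplMap
import Groth.Agent.Lib.Helper62.CITrans

/-!
# Invariance of `Pi1.IsCompleteIntersection` under ring isomorphisms

(The four lemmas of the section `Equiv` are copied from helper82's `Lib/Helper82/CIOpen.lean`, to
avoid importing the long dependency chain of that file.)
-/

set_option autoImplicit false

namespace Groth.Agent.Lib.Helper62.CITrans

open IsLocalRing RingTheory.Sequence Groth.Agent.Lib.Helper18

universe u

section Equiv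

theorem map_maximalIdeal_le {A A' : Type u} [CommRing A] [CommRing A'] [IsLocalRing A]
    [IsLocalRing A'] (e : A ≃+* A') :
    (maximalIdeal A).map (e : A →+* A') ≤ maximalIdeal A' := by
  rw [Ideal.map_le_iff_le_comap]
  intro x hx
  rw [Ideal.mem_comap, mem_maximalIdeal, mem_nonunits_iff]
  rw [mem_maximalIdeal, mem_nonunits_iff] at hx
  intro hu
  apply hx
  have := hu.map (e.symm : A' →+* A)
  simpa using this

theorem complMap_id {A : Type u} [CommRing A] (I : Ideal A) (f : A →+* A) (hf : ∀ x, f x = x)
    (h : I.map f ≤ I) : FSch.complMap I I f h = RingHom.id _ := by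
  ext x : 1
  apply AdicCompletion.ext_evalₐ
  intro n
  rw [evalₐ_complMap]
  obtain ⟨r, hr⟩ := Ideal.Quotient.mk_surjective (AdicCompletion.evalₐ I n x)
  rw [← hr, Ideal.quotientMap_mk, hf, RingHom.id_apply, hr]

/-- A ring isomorphism of local rings induces an isomorphism of the completions. -/
theorem nonempty_completion_ringEquiv {A A' : Type u} [CommRing A] [CommRing A'] [IsLocalRing A]
    [IsLocalRing A'] (e : A ≃+* A') :
    Nonempty (AdicCompletion (maximalIdeal A) A ≃+* AdicCompletion (maximalIdeal A') A') := by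
  have h1 := map_maximalIdeal_le e
  have h2 := map_maximalIdeal_le e.symm
  have h12 : (maximalIdeal A).map ((e.symm : A' →+* A).comp (e : A →+* A')) ≤ maximalIdeal A := by
    rw [← Ideal.map_map]
    exact (Ideal.map_mono h1).trans h2
  have h21 : (maximalIdeal A').map ((e : A →+* A').comp (e.symm : A' →+* A)) ≤
      maximalIdeal A' := by
    rw [← Ideal.map_map]
    exact (Ideal.map_mono h2).trans h1
  refine ⟨RingEquiv.ofRingHom (FSch.complMap _ _ (e : A →+* A') h1)
    (FSch.complMap _ _ (e.symm : A' →+* A) h2) ?_ ?_⟩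
  · rw [complMap_comp _ _ _ _ _ h2 h1 h21]
    exact complMap_id _ _ (fun x => by simp) _
  · rw [complMap_comp _ _ _ _ _ h1 h2 h12]
    exact complMap_id _ _ (fun x => by simp) _

theorem isCI_of_ringEquiv {A A' : Type u} [CommRing A] [CommRing A'] [IsLocalRing A]
    [IsLocalRing A'] (e : A ≃+* A') (h : Pi1.IsCompleteIntersection A) :
    Pi1.IsCompleteIntersection A' := by
  obtain ⟨B, _, _, rs, hmem, hreg, ⟨φ⟩⟩ := h
  obtain ⟨ψ⟩ := nonempty_completion_ringEquiv e
  exact ⟨B, inferInstance, inferInstance, rs, hmem, hreg, ⟨ψ.symm.trans φ⟩⟩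

end Equiv

section Lift

/-- Lift a list of elements of `J.map f` along a surjection `f` to a list of elements of `J`. -/
theorem exists_list_lift {C D : Type*} [CommRing C] [CommRing D] (f : C →+* D)
    (hf : Function.Surjective f) (J : Ideal C) (l : List D) (hl : ∀ x ∈ l, x ∈ J.map f) :
    ∃ l' : List C, l'.map f = l ∧ ∀ x ∈ l', x ∈ J := by
  induction l with
  | nil => exact ⟨[], rfl, by simp⟩
  | cons a t ih =>
    obtain ⟨t', ht', ht'J⟩ := ih (fun x hx => hl x (List.mem_cons_of_mem _ hx))
    obtain ⟨a', ha'J, ha'⟩ := (Ideal.mem_map_iff_of_surjective f hf).mp (hl a List.mem_cons_self)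
    refine ⟨a' :: t', by rw [List.map_cons, ha', ht'], ?_⟩
    intro x hx
    rcases List.mem_cons.mp hx with rfl | hx
    · exact ha'J
    · exact ht'J x hx

end Lift

end Groth.Agent.Lib.Helper62.CITrans
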