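import Mathlib
import Groth.Agent.Lib.Helper62.CITrans2

/-!
# Transversally regular sequences in a ring: ring-quotient forms
-/

set_option autoImplicit false

namespace Groth.Agent.Lib.Helper62.CITrans

open IsLocalRing RingTheory.Sequence

universe u

section RingForm

variable {A C : Type u} [CommRing A] [CommRing C] [Algebra A C]

theorem smul_top_eq_self (I : Ideal C) : I • (⊤ : Submodule C C) = I := by
  rw [smul_eq_mul, Ideal.mul_top]

/-- Weak regularity on the ring `C / I` of the image sequence, in terms of the `C`-module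
`C / I • ⊤`. -/
theorem isWeaklyRegular_quotient_map_iff (I : Ideal C) (rs : List C) :
    IsWeaklyRegular (C ⧸ I) (rs.map (Ideal.Quotient.mk I)) ↔
      IsWeaklyRegular (C ⧸ (I • (⊤ : Submodule C C))) rs := by
  have h1 : IsWeaklyRegular (C ⧸ I) (rs.map (algebraMap C (C ⧸ I))) ↔ IsWeaklyRegular (C ⧸ I) rs :=
    isWeaklyRegular_map_algebraMap_iff (C ⧸ I) (C ⧸ I) rs
  have h2 : IsWeaklyRegular (C ⧸ (I • (⊤ : Submodule C C))) rs ↔ IsWeaklyRegular (C ⧸ I) rs :=
    (Submodule.quotEquivOfEq _ _ (smul_top_eq_self I)).isWeaklyRegular_congr rs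
  exact h1.trans h2.symm

/-- A transversally regular sequence maps to a weakly regular sequence of the fibre ring. -/
theorem fibre_regular_of_trans (I : Ideal A) (rs : List C) (hw : IsWeaklyRegular C rs)
    (hfl : ∀ j ≤ rs.length, Module.Flat A (C ⧸ Ideal.ofList (rs.take j))) :
    IsWeaklyRegular (C ⧸ I.map (algebraMap A C))
      (rs.map (Ideal.Quotient.mk (I.map (algebraMap A C)))) := by
  rw [isWeaklyRegular_quotient_map_iff]
  refine isWeaklyRegular_fibre_of_trans I rs C hw (fun i hi => ?_)
  have := hfl i hi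
  exact Module.Flat.of_linearEquiv
    ((Submodule.quotEquivOfEq _ _ (smul_top_eq_self (Ideal.ofList (rs.take i)))).restrictScalars A)

/-- Noetherian local criterion: a sequence whose image in the closed fibre ring is weakly regular
is transversally regular. -/
theorem trans_of_fibre_regular [IsLocalRing A] [IsLocalRing C] [IsNoetherianRing C]
    [IsLocalHom (algebraMap A C)] [Module.Flat A C] (rs : List C)
    (h : IsWeaklyRegular (C ⧸ (maximalIdeal A).map (algebraMap A C))
      (rs.map (Ideal.Quotient.mk ((maximalIdeal A).map (algebraMap A C))))) :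
    IsWeaklyRegular C rs ∧
      ∀ j ≤ rs.length, Module.Flat A (C ⧸ Ideal.ofList (rs.take j)) := by
  rw [isWeaklyRegular_quotient_map_iff] at h
  obtain ⟨h1, h2⟩ := list_step_noeth (R := A) rs C h
  refine ⟨h1, fun j hj => ?_⟩
  have := h2 j hj
  exact Module.Flat.of_linearEquiv
    ((Submodule.quotEquivOfEq _ _
      (smul_top_eq_self (Ideal.ofList (rs.take j)))).restrictScalars A).symm

end RingForm

section Generators

variable {A C : Type u} [CommRing A] [CommRing C] [Algebra A C] [IsLocalRing A] [IsLocalRing C]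
  [IsNoetherianRing C] [IsLocalHom (algebraMap A C)]

/-- If `C / J` is flat over `A`, elements of `J` generating `J` modulo `𝔪_A C` generate `J`. -/
theorem ofList_eq_of_map_eq (J : Ideal C) [Module.Flat A (C ⧸ J)] (rs : List C)
    (hrs : ∀ r ∈ rs, r ∈ J)
    (hmap : Ideal.ofList (rs.map (Ideal.Quotient.mk ((maximalIdeal A).map (algebraMap A C)))) =
      J.map (Ideal.Quotient.mk ((maximalIdeal A).map (algebraMap A C)))) :
    Ideal.ofList rs = J := by
  set I : Ideal C := (maximalIdeal A).map (algebraMap A C) with hI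
  have hle : Ideal.ofList rs ≤ J := Ideal.span_le.mpr (fun r hr => hrs r hr)
  refine le_antisymm hle ?_
  let f : C →ₗ[A] C ⧸ J := (Ideal.Quotient.mkₐ A J).toLinearMap
  have hf : Function.Surjective f := Ideal.Quotient.mk_surjective
  have hkerf : ∀ x : C, x ∈ LinearMap.ker f ↔ x ∈ J := by
    intro x
    rw [LinearMap.mem_ker]
    exact Ideal.Quotient.eq_zero_iff_mem
  have hflat := LinearMap.ker_inf_smul_top_eq_smul_of_flat (maximalIdeal A) f hf
  have hsm : ∀ z ∈ (maximalIdeal A) • LinearMap.ker f, z ∈ maximalIdeal C * J := by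
    intro z hz
    refine Submodule.smul_induction_on hz ?_ ?_
    · intro r hr n hn
      rw [Algebra.smul_def]
      refine Ideal.mul_mem_mul ?_ ((hkerf n).mp hn)
      exact ((local_hom_TFAE (algebraMap A C)).out 0 1 rfl rfl).mp inferInstance ⟨r, hr, rfl⟩
    · intro a b ha hb
      exact Ideal.add_mem _ ha hb
  have hJI : ∀ b : C, b ∈ J → b ∈ I → b ∈ maximalIdeal C * J := by
    intro b hbJ hbI
    apply hsm
    rw [← hflat]
    refine ⟨(hkerf b).mpr hbJ, ?_⟩
    rw [Ideal.smul_top_eq_map]
    exact hbI
  apply Submodule.le_of_le_smul_of_le_jacobson_bot (I := maximalIdeal C)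
    (IsNoetherian.noetherian J)
    (le_of_eq (IsLocalRing.jacobson_eq_maximalIdeal ⊥ bot_ne_top).symm)
  intro x hx
  have h1 : Ideal.Quotient.mk I x ∈ (Ideal.ofList rs).map (Ideal.Quotient.mk I) := by
    rw [Ideal.map_ofList, hmap]
    exact Ideal.mem_map_of_mem _ hx
  obtain ⟨a, ha, hax⟩ :=
    (Ideal.mem_map_iff_of_surjective _ Ideal.Quotient.mk_surjective).mp h1
  have h2 : x - a ∈ I := by
    rw [← Ideal.Quotient.eq_zero_iff_mem, map_sub, hax, sub_self]
  have h3 : x - a ∈ J := J.sub_mem hx (hle ha)
  have h4 := hJI _ h3 h2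
  have : x = a + (x - a) := by ring
  rw [this, smul_eq_mul]
  exact Submodule.add_mem_sup ha h4

end Generators

end Groth.Agent.Lib.Helper62.CITrans
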