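import Mathlib.AlgebraicGeometry.Morphisms.WeaklyEtale
import Mathlib.Tactic
import Groth.Agent.Lib.Helper62.PerfectReducedGen

set_option autoImplicit false
universe u

namespace Groth.Agent.Lib.Helper62

open TensorProduct AlgebraicGeometry CategoryTheory Limits

/-- The canonical morphism `Spec O_{X,x} ⟶ X` is flat. -/
instance flat_fromSpecStalk (X : Scheme.{u}) (x : X) : Flat (X.fromSpecStalk x) := by
  obtain ⟨_, ⟨U, hU, rfl⟩, hxU, -⟩ :=
    X.isBasis_affineOpens.exists_subset_of_mem_open (Set.mem_univ x) isOpen_univ
  rw [← hU.fromSpecStalk_eq_fromSpecStalk hxU]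
  dsimp only [IsAffineOpen.fromSpecStalk]
  have : Flat (Spec.map (X.presheaf.germ U x hxU)) := by
    rw [Flat.SpecMap_iff]
    let : Algebra Γ(X, U) (X.presheaf.stalk x) := (X.presheaf.germ U x hxU).hom.toAlgebra
    have := hU.isLocalization_stalk ⟨x, hxU⟩
    exact IsLocalization.flat (X.presheaf.stalk x) (hU.primeIdealOf ⟨x, hxU⟩).asIdeal.primeCompl
  have h2 : Flat hU.fromSpec := by
    have := IsAffineOpen.isOpenImmersion_fromSpec hU
    infer_instance
  exact MorphismProperty.comp_mem _ _ _ this h2

/-- Reducedness of a stalk descends along a flat morphism. -/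
theorem isReduced_stalk_of_flat {W Y : Scheme.{u}} (g : W ⟶ Y) [Flat g] (w : W)
    [_root_.IsReduced (W.presheaf.stalk w)] : _root_.IsReduced (Y.presheaf.stalk (g w)) := by
  algebraize [(g.stalkMap w).hom]
  have : Module.FaithfullyFlat (Y.presheaf.stalk (g w)) (W.presheaf.stalk w) :=
    @Module.FaithfullyFlat.of_flat_of_isLocalHom _ _ _ _ _ _ _
      (Flat.stalkMap g w) (g.toLRSHom.prop w)
  exact isReduced_of_injective (g.stalkMap w).hom ‹RingHom.FaithfullyFlat _›.injective

/-- Pointwise version of "reduced over a perfect field implies geometrically reduced". -/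
theorem isReduced_stalk_pullback_of_perfectField {k : Type u} [Field k] [PerfectField k]
    {X : Scheme.{u}} (f : X ⟶ Spec (CommRingCat.of k)) (x : X)
    [_root_.IsReduced (X.presheaf.stalk x)] (K : Type u) [Field K] [Algebra k K]
    (x' : ↥(pullback f (Spec.map (CommRingCat.ofHom (algebraMap k K)))))
    (hx' : (pullback.fst f (Spec.map (CommRingCat.ofHom (algebraMap k K)))) x' = x) :
    _root_.IsReduced
      ((pullback f (Spec.map (CommRingCat.ofHom (algebraMap k K)))).presheaf.stalk x') := by
  let j := X.fromSpecStalk x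
  let W := pullback j (pullback.fst f (Spec.map (CommRingCat.ofHom (algebraMap k K))))
  let g : W ⟶ pullback f (Spec.map (CommRingCat.ofHom (algebraMap k K))) :=
    pullback.snd j (pullback.fst f (Spec.map (CommRingCat.ofHom (algebraMap k K))))
  have hW : IsReduced W := by
    have h1 : IsReduced (pullback (j ≫ f) (Spec.map (CommRingCat.ofHom (algebraMap k K)))) :=
      isReduced_pullback_spec_of_perfectField (CommRingCat.of (X.presheaf.stalk x)) (j ≫ f) K
    exact isReduced_of_isOpenImmersion
      (pullbackRightPullbackFstIso f (Spec.map (CommRingCat.ofHom (algebraMap k K))) j).hom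
  obtain ⟨w, -, hw⟩ := Scheme.Pullback.exists_preimage_pullback (f := j)
    (g := pullback.fst f (Spec.map (CommRingCat.ofHom (algebraMap k K))))
    (IsLocalRing.closedPoint (X.presheaf.stalk x)) x'
    (by rw [hx']; exact Scheme.fromSpecStalk_closedPoint)
  have := isReduced_stalk_of_flat g w
  rwa [hw] at this

end Groth.Agent.Lib.Helper62
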