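import Mathlib

/-!
# Group-like elements of monoid algebras via the diagonal (helper62)

Pure algebra: an element `f ≠ 0` of `k[M]` (`k` a domain) with `Δ f = ι₁ f * ι₂ f` inside `k[P]`, where
`ι₁, ι₂ : M →* P` have independent images, is `single m 1` for some `m`.
Also: injections of f.g. free abelian groups with torsion-free cokernel split.
-/

set_option autoImplicit false

namespace Groth.Agent.Lib.Helper62.DSCartierAlg

open MonoidAlgebra

section Coeff

variable {k M P : Type*} [CommSemiring k] [Monoid M] [CommMonoid P] (ι₁ ι₂ : M →* P)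
  (hinj : ∀ a b m n, ι₁ a * ι₂ b = ι₁ m * ι₂ n → a = m ∧ b = n)

include hinj in
lemma coeff_mul_indep (f g : MonoidAlgebra k M) (m n : M) :
    (mapDomainRingHom k ι₁ f * mapDomainRingHom k ι₂ g).coeff (ι₁ m * ι₂ n) =
      f.coeff m * g.coeff n := by
  classical
  induction f using MonoidAlgebra.induction_linear with
  | zero => simp
  | add f1 f2 h1 h2 => rw [map_add, add_mul, coeff_add, Finsupp.add_apply, h1, h2, coeff_add,
      Finsupp.add_apply, add_mul]
  | single a r =>
    induction g using MonoidAlgebra.induction_linear with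
    | zero => simp
    | add g1 g2 h1 h2 => rw [map_add, mul_add, coeff_add, Finsupp.add_apply, h1, h2, coeff_add,
        Finsupp.add_apply, mul_add]
    | single b s =>
      rw [mapDomainRingHom_apply, mapDomainRingHom_apply, mapDomain_single, mapDomain_single,
        single_mul_single, coeff_single, coeff_single, coeff_single, Finsupp.single_apply,
        Finsupp.single_apply, Finsupp.single_apply]
      by_cases h : ι₁ a * ι₂ b = ι₁ m * ι₂ n
      · obtain ⟨rfl, rfl⟩ := hinj _ _ _ _ h
        simp
      · rw [if_neg h]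
        by_cases ha : a = m
        · by_cases hb : b = n
          · subst ha hb; exact absurd rfl h
          · rw [if_neg hb, mul_zero]
        · rw [if_neg ha, zero_mul]

open Classical in
include hinj in
lemma coeff_diag_indep (f : MonoidAlgebra k M) (m n : M) :
    (mapDomainRingHom k (ι₁ * ι₂) f).coeff (ι₁ m * ι₂ n) =
      if m = n then f.coeff m else 0 := by
  classical
  induction f using MonoidAlgebra.induction_linear with
  | zero => simp
  | add f1 f2 h1 h2 =>
    rw [map_add, coeff_add, Finsupp.add_apply, h1, h2, coeff_add, Finsupp.add_apply]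
    split_ifs <;> simp
  | single a r =>
    rw [mapDomainRingHom_apply, mapDomain_single, coeff_single, coeff_single, Finsupp.single_apply,
      Finsupp.single_apply, MonoidHom.mul_apply]
    by_cases h : ι₁ a * ι₂ a = ι₁ m * ι₂ n
    · obtain ⟨rfl, rfl⟩ := hinj _ _ _ _ h
      simp
    · rw [if_neg h]
      by_cases hmn : m = n
      · subst hmn
        rw [if_pos rfl]
        by_cases ha : a = m
        · subst ha; exact absurd rfl h
        · rw [if_neg ha]
      · rw [if_neg hmn]

end Coeff

section Main

variable {k M P : Type*} [CommRing k] [IsDomain k] [Monoid M] [CommMonoid P] (ι₁ ι₂ : M →* P)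
  (hinj : ∀ a b m n, ι₁ a * ι₂ b = ι₁ m * ι₂ n → a = m ∧ b = n)

include hinj in
/-- A nonzero "group-like" element of `k[M]` is a monomial `single m 1`. -/
theorem exists_eq_single_of_diag (f : MonoidAlgebra k M) (hf : f ≠ 0)
    (h : mapDomainRingHom k (ι₁ * ι₂) f = mapDomainRingHom k ι₁ f * mapDomainRingHom k ι₂ f) :
    ∃ m, f = single m 1 := by
  classical
  have key : ∀ m n, f.coeff m * f.coeff n = if m = n then f.coeff m else 0 := by
    intro m n
    rw [← coeff_mul_indep (k := k) ι₁ ι₂ hinj, ← coeff_diag_indep (k := k) ι₁ ι₂ hinj, h]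
  obtain ⟨m0, hm0⟩ : ∃ m0, f.coeff m0 ≠ 0 := by
    by_contra hcon
    push Not at hcon
    apply hf
    rw [← coeff_inj]
    ext m
    simpa using hcon m
  refine ⟨m0, ?_⟩
  have h1 : f.coeff m0 = 1 := by
    have := key m0 m0
    rw [if_pos rfl] at this
    have h2 : f.coeff m0 * (f.coeff m0 - 1) = 0 := by rw [mul_sub, this, mul_one, sub_self]
    rcases mul_eq_zero.mp h2 with h3 | h3
    · exact absurd h3 hm0
    · exact sub_eq_zero.mp h3
  rw [← coeff_inj]
  ext n
  rw [coeff_single, Finsupp.single_apply]
  by_cases hn : m0 = n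
  · subst hn; rw [if_pos rfl, h1]
  · rw [if_neg hn]
    have := key m0 n
    rw [if_neg hn, h1, one_mul] at this
    exact this

end Main

section Split

/-- An injection of f.g. free abelian groups whose cokernel is torsion-free has a retraction. -/
theorem exists_retraction {B C : Type*} [AddCommGroup B] [AddCommGroup C]
    [Module.Finite ℤ B] (φ : C →+ B) (hφ : Function.Injective φ)
    (htf : ∀ (n : ℕ) (b : B), 0 < n → n • b ∈ φ.range → b ∈ φ.range) :
    ∃ ρ : B →+ C, ρ.comp φ = AddMonoidHom.id C := by
  let φl : C →ₗ[ℤ] B := φ.toIntLinearMap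
  let D := B ⧸ LinearMap.range φl
  let q : B →ₗ[ℤ] D := (LinearMap.range φl).mkQ
  have hex : Function.Exact φl q := by
    intro b
    rw [Submodule.mkQ_apply, Submodule.Quotient.mk_eq_zero]
    rfl
  have hq : Function.Surjective q := Submodule.mkQ_surjective _
  have htfD : Module.IsTorsionFree ℤ D := by
    apply Module.IsTorsionFree.of_smul_eq_zero
    intro r d hrd
    by_cases hr : r = 0
    · exact Or.inl hr
    right
    obtain ⟨b, rfl⟩ := hq d
    have h1 : r • b ∈ LinearMap.range φl := by
      rw [← Submodule.Quotient.mk_eq_zero]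
      exact hrd
    have h2 : r.natAbs • b ∈ φ.range := by
      rcases Int.natAbs_eq r with h | h
      · obtain ⟨c, hc⟩ := h1
        refine ⟨c, ?_⟩
        rw [h] at hc
        rw [← natCast_zsmul]
        exact hc
      · obtain ⟨c, hc⟩ := h1
        refine ⟨-c, ?_⟩
        rw [h] at hc
        rw [neg_smul] at hc
        have hc' : φ c = -((r.natAbs : ℤ) • b) := hc
        rw [map_neg, hc', neg_neg, natCast_zsmul]
    obtain ⟨c, hc⟩ := htf _ b (Int.natAbs_pos.mpr hr) h2
    rw [Submodule.mkQ_apply, Submodule.Quotient.mk_eq_zero]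
    exact ⟨c, hc⟩
  have : Module.Free ℤ D := Module.free_of_finite_type_torsion_free'
  obtain ⟨σ, hσ⟩ := Module.projective_lifting_property q LinearMap.id hq
  obtain ⟨_, l, hl⟩ := ((hex.split_tfae'.out 0 1 rfl rfl).mp ⟨hφ, σ, hσ⟩)
  refine ⟨l.toAddMonoidHom, ?_⟩
  ext c
  exact congr($hl c)

end Split

end Groth.Agent.Lib.Helper62.DSCartierAlg
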