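import Mathlib

/-!
# Kaplansky: projective modules over local rings — the countably generated case (helper62)

* `exists_basis_smaller_support`: elementary basis change shrinking the support of an element.
* `exists_split_free_of_mem`: every element of a projective module over a local ring lies in a
  finite free direct summand (given as a split injection `(κ → R) → P`).
* `isInternal_of_nat_devissage`: an `ℕ`-indexed dévissage gives an internal direct sum.
* `free_of_countablyGenerated`: a countably generated projective module over a local ring is free.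
-/

set_option autoImplicit false
universe u v

namespace Groth.Agent.Lib.Helper62.KaplanskyLocal

open Module IsLocalRing

section Minimal

variable {R : Type u} [CommRing R] {ι : Type v} {M : Type*} [AddCommGroup M] [Module R M]

/-- Changing a basis `b` by `b j ↦ b j + c j • b i0` (for `j ≠ i0`) gives a basis in which an element
with `i0`-coordinate `∑ c j * a j` loses its `i0`-coordinate. -/
theorem exists_basis_smaller_support [DecidableEq ι] (b : Basis ι R M) (y : M) (i0 : ι)
    (hi0 : i0 ∈ (b.repr y).support) (c : ι → R)
    (hc : b.repr y i0 = ∑ j ∈ (b.repr y).support.erase i0, c j * b.repr y j) :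
    ∃ b' : Basis ι R M, (b'.repr y).support.card < (b.repr y).support.card := by
  classical
  set T := (b.repr y).support with hT
  -- the nilpotent map
  let N : M →ₗ[R] M := b.constr R (fun j => if j ∈ T.erase i0 then c j • b i0 else 0)
  have hNb : ∀ j, N (b j) = if j ∈ T.erase i0 then c j • b i0 else 0 := fun j => by
    simp [N, Basis.constr_basis]
  have hNi0 : N (b i0) = 0 := by
    rw [hNb]; simp
  have hNN : N ∘ₗ N = 0 := by
    apply b.ext
    intro j
    simp only [LinearMap.comp_apply, LinearMap.zero_apply]
    rw [hNb]
    split_ifs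
    · rw [map_smul, hNi0, smul_zero]
    · rw [map_zero]
  let φ : M ≃ₗ[R] M := LinearEquiv.ofLinearMap (LinearMap.id + N) (LinearMap.id - N)
    (by
      ext x
      have := LinearMap.congr_fun hNN x
      simp only [LinearMap.comp_apply, LinearMap.zero_apply] at this
      simp [this])
    (by
      ext x
      have := LinearMap.congr_fun hNN x
      simp only [LinearMap.comp_apply, LinearMap.zero_apply] at this
      simp [this])
  let b' : Basis ι R M := b.map φ
  have hb' : ∀ j, b' j = b j + N (b j) := fun j => by simp [b', φ]
  refine ⟨b', ?_⟩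
  -- y in the new basis
  let v : ι →₀ R := (b.repr y).erase i0
  have hy : Finsupp.linearCombination R b' v = y := by
    have h1 : Finsupp.linearCombination R b (b.repr y) = y := b.linearCombination_repr y
    rw [Finsupp.linearCombination_apply, Finsupp.sum] at h1 ⊢
    have hsupp : v.support = T.erase i0 := by simp [v, hT]
    rw [hsupp]
    have h2 : ∑ j ∈ T.erase i0, v j • b' j =
        ∑ j ∈ T.erase i0, (b.repr y j • b j + (c j * b.repr y j) • b i0) := by
      refine Finset.sum_congr rfl fun j hj => ?_
      have hj' : j ≠ i0 := Finset.ne_of_mem_erase hj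
      rw [hb', hNb, if_pos hj, smul_add, smul_smul]
      simp [v, Finsupp.erase_ne hj', mul_comm]
    rw [h2, Finset.sum_add_distrib, ← Finset.sum_smul, ← hc, add_comm,
      Finset.add_sum_erase T (fun j => b.repr y j • b j) hi0]
    exact h1
  have hrepr : b'.repr y = v := by
    rw [← hy, Basis.repr_linearCombination]
  rw [hrepr]
  have : v.support = T.erase i0 := by simp [v, hT]
  rw [this, Finset.card_erase_of_mem hi0]
  exact Nat.sub_lt (Finset.card_pos.mpr ⟨i0, hi0⟩) one_pos

end Minimal

section Key

variable {R : Type u} [CommRing R] [IsLocalRing R] {P : Type v} [AddCommGroup P] [Module R P]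
  [Module.Projective R P]

/-- Every element of a projective module over a local ring lies in a finite free direct summand. -/
theorem exists_split_free_of_mem (x : P) :
    ∃ (κ : Type v) (_ : Fintype κ) (_ : DecidableEq κ) (i : (κ → R) →ₗ[R] P)
      (r : P →ₗ[R] (κ → R)), r ∘ₗ i = LinearMap.id ∧ x ∈ LinearMap.range i := by
  classical
  obtain ⟨s, hs⟩ := Module.projective_def'.mp ‹Module.Projective R P›
  let π : (P →₀ R) →ₗ[R] P := Finsupp.linearCombination R id
  have hπs : ∀ z, π (s z) = z := fun z => LinearMap.congr_fun hs z
  let y := s x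
  let Sset : Set ℕ := {n | ∃ b : Basis P R (P →₀ R), (b.repr y).support.card = n}
  have hne : Sset.Nonempty := ⟨_, Finsupp.basisSingleOne, rfl⟩
  obtain ⟨b, hb⟩ := Nat.sInf_mem hne
  have hmin : ∀ b' : Basis P R (P →₀ R),
      (b.repr y).support.card ≤ (b'.repr y).support.card := fun b' => by
    rw [hb]; exact Nat.sInf_le ⟨b', rfl⟩
  set T := (b.repr y).support with hT
  let a : P → R := fun i => b.repr y i
  have claim1 : ∀ i0 ∈ T, ∀ (u : Rˣ) (c : P → R),
      a i0 * u ≠ ∑ j ∈ T.erase i0, c j * a j := by
    intro i0 hi0 u c hc
    have hc' : b.repr y i0 = ∑ j ∈ (b.repr y).support.erase i0, (c j * ↑u⁻¹) * b.repr y j := by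
      have : a i0 = (a i0 * u) * ↑u⁻¹ := by rw [mul_assoc, Units.mul_inv, mul_one]
      show a i0 = _
      rw [this, hc, Finset.sum_mul]
      refine Finset.sum_congr rfl fun j _ => ?_
      show c j * a j * ↑u⁻¹ = c j * ↑u⁻¹ * a j
      ring
    obtain ⟨b', hb'⟩ := exists_basis_smaller_support b y i0 hi0 _ hc'
    exact absurd (hmin b') (not_le.mpr hb')
  let p : P → (P →₀ R) := fun i => s (π (b i))
  let cm : P → P → R := fun i j => b.repr (p i) j
  have hy0 : ∑ i ∈ T, a i • b i = y := by
    have h1 : Finsupp.linearCombination R b (b.repr y) = y := b.linearCombination_repr y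
    rwa [Finsupp.linearCombination_apply, Finsupp.sum] at h1
  have hy1 : y = ∑ i ∈ T, a i • p i := by
    have : y = s (π y) := by simp only [y, hπs]
    rw [this, ← hy0]
    simp only [map_sum, map_smul, p]
  have hrel : ∀ j, ∑ i ∈ T, a i * cm i j = a j := by
    intro j
    have := congrArg (fun w => b.repr w j) hy1
    simp only [map_sum, map_smul, Finsupp.coe_finsetSum, Finsupp.coe_smul, Finset.sum_apply,
      Pi.smul_apply, smul_eq_mul] at this
    exact this.symm
  have hdiag : ∀ j ∈ T, 1 - cm j j ∈ maximalIdeal R := by
    intro j hj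
    by_contra hnot
    have hu : IsUnit (1 - cm j j) := by
      by_contra h
      exact hnot ((mem_maximalIdeal _).mpr h)
    obtain ⟨u, hu⟩ := hu
    apply claim1 j hj u (fun i => cm i j)
    have := hrel j
    rw [← Finset.add_sum_erase T _ hj] at this
    rw [hu]
    have h2 : ∑ i ∈ T.erase j, cm i j * a i = ∑ i ∈ T.erase j, a i * cm i j :=
      Finset.sum_congr rfl fun i _ => mul_comm _ _
    rw [h2]
    linear_combination -this
  have hoff : ∀ i ∈ T, ∀ j ∈ T, i ≠ j → cm i j ∈ maximalIdeal R := by
    intro i hi j hj hij
    by_contra hnot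
    have hu : IsUnit (cm i j) := by
      by_contra h
      exact hnot ((mem_maximalIdeal _).mpr h)
    obtain ⟨u, hu⟩ := hu
    apply claim1 i hi u (fun i' => (if i' = j then 1 else 0) - cm i' j)
    have := hrel j
    rw [← Finset.add_sum_erase T _ hi] at this
    rw [hu]
    have hjm : j ∈ T.erase i := Finset.mem_erase.mpr ⟨fun h => hij h.symm, hj⟩
    have h2 : ∑ i' ∈ T.erase i, ((if i' = j then 1 else 0) - cm i' j) * a i' =
        a j - ∑ i' ∈ T.erase i, a i' * cm i' j := by
      simp only [sub_mul, Finset.sum_sub_distrib, ite_mul, one_mul, zero_mul]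
      rw [Finset.sum_ite_eq' (T.erase i) j, if_pos hjm]
      congr 1
      exact Finset.sum_congr rfl fun i' _ => mul_comm _ _
    rw [h2]
    linear_combination this
  -- the matrix on `T`
  let Cm : Matrix T T R := fun i j => cm i j
  have hdet : IsUnit Cm.det := by
    have h1 : (residue R).mapMatrix Cm = 1 := by
      ext i j
      simp only [RingHom.mapMatrix_apply, Matrix.map_apply, Matrix.one_apply]
      show residue R (cm i j) = _
      by_cases hij : i = j
      · subst hij
        rw [if_pos rfl]
        have := (residue_eq_zero_iff _).mpr (hdiag i i.2)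
        rw [map_sub, map_one, sub_eq_zero] at this
        exact this.symm
      · rw [if_neg hij]
        exact (residue_eq_zero_iff _).mpr
          (hoff i i.2 j j.2 (fun h => hij (Subtype.ext h)))
    have h2 : residue R Cm.det = 1 := by
      rw [RingHom.map_det, h1, Matrix.det_one]
    by_contra h
    have := (residue_eq_zero_iff _).mpr ((mem_maximalIdeal _).mpr h)
    rw [h2] at this
    exact one_ne_zero this
  let ιP : (T → R) →ₗ[R] P := Fintype.linearCombination R (fun i : T => π (b i))
  let ρ : (P →₀ R) →ₗ[R] (T → R) := LinearMap.pi (fun j : T => b.coord j)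
  let r : P →ₗ[R] (T → R) := (Matrix.vecMulLinear Cm⁻¹) ∘ₗ ρ ∘ₗ s
  refine ⟨T, inferInstance, inferInstance, ιP, r, ?_, ?_⟩
  · have key : ∀ i : T, r (ιP (Pi.single i 1)) = Pi.single i 1 := by
      intro i
      have h1 : ιP (Pi.single i 1) = π (b i) := by
        simp only [ιP, Fintype.linearCombination_apply]
        rw [Finset.sum_eq_single i]
        · simp
        · intro j _ hj
          simp [hj]
        · intro h
          exact absurd (Finset.mem_univ i) h
      have h2 : ρ (s (π (b i))) = Cm i := by
        funext j
        simp [ρ, Cm, cm, p]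
      have h3 : Matrix.vecMulLinear Cm⁻¹ (Cm i) = Pi.single i 1 := by
        funext j
        have := congrFun (congrFun (Matrix.mul_nonsing_inv Cm hdet) i) j
        simp only [Matrix.mul_apply, Matrix.one_apply] at this
        simp only [Matrix.vecMulLinear_apply, Matrix.vecMul, dotProduct, Pi.single_apply]
        rw [this]
        simp [eq_comm]
      show Matrix.vecMulLinear Cm⁻¹ (ρ (s (ιP (Pi.single i 1)))) = _
      rw [h1, h2, h3]
    apply LinearMap.pi_ext
    intro i c
    have : (Pi.single i c : T → R) = c • Pi.single i 1 := by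
      rw [← Pi.single_smul, smul_eq_mul, mul_one]
    simp only [LinearMap.coe_comp, Function.comp_apply, LinearMap.id_coe, id_eq]
    rw [this, map_smul, map_smul, key]
  · refine ⟨fun i : T => a i, ?_⟩
    have : x = π y := (hπs x).symm
    rw [this, ← hy0]
    simp only [ιP, Fintype.linearCombination_apply, map_sum, map_smul]
    exact Finset.sum_coe_sort T (fun i => a i • π (b i))

end Key

section NatDev

variable {R : Type u} [CommRing R] {M : Type v} [AddCommGroup M] [Module R M]

theorem isInternal_of_nat_devissage (A F : ℕ → Submodule R M) (h0 : A 0 = ⊥)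
    (hdisj : ∀ n, A n ⊓ F n = ⊥) (hsucc : ∀ n, A (n + 1) = A n ⊔ F n) (htop : ⨆ n, A n = ⊤) :
    DirectSum.IsInternal F := by
  classical
  have hmono : Monotone A := monotone_nat_of_le_succ fun n => by rw [hsucc]; exact le_sup_left
  have hFA : ∀ n, F n ≤ A (n + 1) := fun n => by rw [hsucc]; exact le_sup_right
  have hA : ∀ n, A n ≤ ⨆ k, F k := by
    intro n
    induction n with
    | zero => rw [h0]; exact bot_le
    | succ n ih => rw [hsucc]; exact sup_le ih (le_iSup F n)
  apply DirectSum.isInternal_submodule_of_iSupIndep_of_iSup_eq_top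
  · rw [iSupIndep_iff_finsetSum_eq_zero_imp_eq_zero]
    intro s
    induction s using Finset.induction_on_max with
    | empty => intro v _ _ i hi; simp at hi
    | insert a s hlt ih =>
      intro v hv hsum i hi
      have has : a ∉ s := fun h => lt_irrefl a (hlt a h)
      rw [Finset.sum_insert has] at hsum
      have hva : v a ∈ A a := by
        have : v a = -∑ i ∈ s, v i := eq_neg_of_add_eq_zero_left hsum
        rw [this]
        apply Submodule.neg_mem
        apply Submodule.sum_mem
        intro j hj
        exact hmono (Nat.succ_le_of_lt (hlt j hj)) (hFA j (hv j (Finset.mem_insert_of_mem hj)))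
      have hva0 : v a = 0 := by
        have : v a ∈ A a ⊓ F a := ⟨hva, hv a (Finset.mem_insert_self a s)⟩
        rw [hdisj] at this
        exact (Submodule.mem_bot R).mp this
      rw [hva0, zero_add] at hsum
      rcases Finset.mem_insert.mp hi with rfl | hi'
      · exact hva0
      · exact ih v (fun j hj => hv j (Finset.mem_insert_of_mem hj)) hsum i hi'
  · exact top_le_iff.mp (htop ▸ iSup_le hA)

end NatDev

section Countable

variable {R : Type u} [CommRing R] [IsLocalRing R] {P : Type v} [AddCommGroup P] [Module R P]
  [Module.Projective R P]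

theorem exists_step (A B : Submodule R P) (h : IsCompl A B) (x : P) :
    ∃ F B' : Submodule R P, F ≤ B ∧ Module.Free R F ∧ x ∈ A ⊔ F ∧ IsCompl (A ⊔ F) B' := by
  classical
  let pB : P →ₗ[R] B := Submodule.projectionOnto B A h.symm
  let pA : P →ₗ[R] A := Submodule.projectionOnto A B h
  have hsum : ∀ z : P, (pA z : P) + (pB z : P) = z := fun z => by
    simp only [pA, pB, Submodule.coe_projectionOnto_apply]
    exact Submodule.projection_add_projection_eq_self h z
  have : Module.Projective R B :=
    Module.Projective.of_split B.subtype pB (by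
      ext z
      simp [pB, Submodule.projectionOnto_apply_left])
  obtain ⟨κ, _, _, ι, r, hrι, hmem⟩ := exists_split_free_of_mem (R := R) (pB x)
  have hrι' : ∀ u, r (ι u) = u := fun u => LinearMap.congr_fun hrι u
  have hinj : Function.Injective ι := fun u v huv => by
    rw [← hrι' u, ← hrι' v, huv]
  refine ⟨(LinearMap.range ι).map B.subtype, (LinearMap.ker r).map B.subtype,
    Submodule.map_subtype_le _ _, ?_, ?_, ?_⟩
  · have e1 : (κ → R) ≃ₗ[R] LinearMap.range ι := LinearEquiv.ofInjective ι hinj
    have e2 : LinearMap.range ι ≃ₗ[R] (LinearMap.range ι).map B.subtype :=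
      Submodule.equivMapOfInjective B.subtype B.injective_subtype _
    exact Module.Free.of_equiv (e1.trans e2)
  · rw [← hsum x]
    refine Submodule.add_mem_sup (pA x).2 ?_
    exact Submodule.mem_map_of_mem hmem
  · constructor
    · rw [Submodule.disjoint_def]
      intro z hz hz'
      obtain ⟨a, ha, f, hf, rfl⟩ := Submodule.mem_sup.mp hz
      obtain ⟨_, ⟨u, rfl⟩, rfl⟩ := hf
      obtain ⟨w, hw, hwz⟩ := hz'
      have haB : a ∈ B := by
        have : a = (w : P) - (ι u : P) := by
          have := hwz
          simp only [Submodule.subtype_apply] at this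
          rw [this]; simp
        rw [this]
        exact B.sub_mem w.2 (ι u).2
      have ha0 : a = 0 := by
        have : a ∈ A ⊓ B := ⟨ha, haB⟩
        rw [h.inf_eq_bot] at this
        exact (Submodule.mem_bot R).mp this
      subst ha0
      rw [zero_add] at hwz
      have hwu : w = ι u := Subtype.ext hwz
      have hu0 : u = 0 := by
        rw [← hrι' u, ← hwu]
        exact hw
      simp [hu0]
    · rw [codisjoint_iff, eq_top_iff]
      intro z _
      rw [← hsum z]
      have h1 : (pB z : P) = (ι (r (pB z)) : P) + ((pB z - ι (r (pB z)) : B) : P) := by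
        simp
      rw [h1, ← add_assoc]
      refine Submodule.add_mem_sup (Submodule.add_mem_sup (pA z).2 ?_) ?_
      · exact ⟨_, ⟨_, rfl⟩, rfl⟩
      · refine ⟨pB z - ι (r (pB z)), ?_, rfl⟩
        show _ ∈ LinearMap.ker r
        rw [LinearMap.mem_ker, map_sub, hrι', sub_self]

/-- A countably generated projective module over a local ring is free. -/
theorem free_of_countablyGenerated (hc : ∃ s : Set P, s.Countable ∧ Submodule.span R s = ⊤) :
    Module.Free R P := by
  classical
  obtain ⟨s, hs, hspan⟩ := hc
  obtain ⟨g, hg⟩ : ∃ g : ℕ → P, insert (0 : P) s = Set.range g :=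
    (hs.insert 0).exists_eq_range ⟨0, Set.mem_insert _ _⟩
  have hgspan : Submodule.span R (Set.range g) = ⊤ := by
    rw [← hg, eq_top_iff, ← hspan]
    exact Submodule.span_mono (Set.subset_insert _ _)
  have step : ∀ (X : {AB : Submodule R P × Submodule R P // IsCompl AB.1 AB.2}) (x : P),
      ∃ F B' : Submodule R P, F ≤ X.1.2 ∧ Module.Free R F ∧ x ∈ X.1.1 ⊔ F ∧
        IsCompl (X.1.1 ⊔ F) B' := fun X x => exists_step _ _ X.2 x
  choose Fc Bc hFB hFree hmem hcompl using step
  let seq : ℕ → {AB : Submodule R P × Submodule R P // IsCompl AB.1 AB.2} := fun n =>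
    Nat.rec ⟨(⊥, ⊤), isCompl_bot_top⟩
      (fun n X => ⟨(X.1.1 ⊔ Fc X (g n), Bc X (g n)), hcompl X (g n)⟩) n
  let A : ℕ → Submodule R P := fun n => (seq n).1.1
  let F : ℕ → Submodule R P := fun n => Fc (seq n) (g n)
  have h0 : A 0 = ⊥ := rfl
  have hsucc : ∀ n, A (n + 1) = A n ⊔ F n := fun n => rfl
  have hdisj : ∀ n, A n ⊓ F n = ⊥ := fun n =>
    le_bot_iff.mp (le_trans (inf_le_inf_left _ (hFB _ _)) (seq n).2.inf_eq_bot.le)
  have htop : ⨆ n, A n = ⊤ := by
    rw [eq_top_iff, ← hgspan, Submodule.span_le]
    rintro _ ⟨n, rfl⟩
    have : g n ∈ A (n + 1) := hmem (seq n) (g n)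
    exact (le_iSup A (n + 1)) this
  have hint := isInternal_of_nat_devissage A F h0 hdisj hsucc htop
  have : ∀ n, Module.Free R (F n) := fun n => hFree _ _
  exact Module.Free.of_basis (hint.collectedBasis fun n => Module.Free.chooseBasis R (F n))

end Countable

end Groth.Agent.Lib.Helper62.KaplanskyLocal
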