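import Mathlib
import Groth.Prelude.Def_CAlgX
import Groth.Agent.Lib.Helper62.AdicDerivation

/-!
# The Jacobian criterion for adic formal smoothness of a quotient (helper62)

`B` an `A`-algebra, formally smooth for the `I`-adic topology, `K` an ideal of `B`,
`N = K/K²`.  For an ideal `𝔠` of `B` we say `HasRetraction A K 𝔠` if there is an `A`-derivation
`D : B → N/𝔠N` with `D x = [x]` for `x ∈ K` (equivalently `N/𝔠N → Ω_{B/A} ⊗ B/(K+𝔠)` has a left
inverse).
-/

set_option autoImplicit false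
universe u

namespace Groth.Agent.Lib.Helper62.AdicJacobian

open KaehlerDifferential TensorProduct Groth.Agent.Lib.Helper62.AdicDerivation

variable {A B : Type u} [CommRing A] [CommRing B] [Algebra A B]

/-- `N/𝔠N` for `N = K/K²`. -/
abbrev Mc (K 𝔠 : Ideal B) : Type u := K.Cotangent ⧸ (𝔠 • ⊤ : Submodule B K.Cotangent)

/-- There is an `A`-derivation `B → N/𝔠N` restricting to the canonical map on `K`. -/
def HasRetraction (A : Type u) {B : Type u} [CommRing A] [CommRing B] [Algebra A B]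
    (K 𝔠 : Ideal B) : Prop :=
  ∃ D : Derivation A B (Mc K 𝔠), ∀ x : K, D x = Submodule.Quotient.mk (K.toCotangent x)

theorem smul_Mc (K 𝔠 : Ideal B) (c : B) (hc : c ∈ 𝔠) (m : Mc K 𝔠) : c • m = 0 := by
  obtain ⟨n, rfl⟩ := Submodule.Quotient.mk_surjective _ m
  rw [← Submodule.Quotient.mk_smul, Submodule.Quotient.mk_eq_zero]
  exact Submodule.smul_mem_smul hc Submodule.mem_top

/-- the transition map `N/𝔠N → N/𝔠'N`. -/
def trans (K : Ideal B) {𝔠 𝔠' : Ideal B} (h : 𝔠 ≤ 𝔠') : Mc K 𝔠 →ₗ[B] Mc K 𝔠' :=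
  Submodule.mapQ _ _ LinearMap.id (by
    rw [Submodule.comap_id]
    exact Submodule.smul_mono_left h)

@[simp] theorem trans_mk (K : Ideal B) {𝔠 𝔠' : Ideal B} (h : 𝔠 ≤ 𝔠') (n : K.Cotangent) :
    trans K h (Submodule.Quotient.mk n) = Submodule.Quotient.mk n := rfl

theorem trans_surjective (K : Ideal B) {𝔠 𝔠' : Ideal B} (h : 𝔠 ≤ 𝔠') :
    Function.Surjective (trans K h) := by
  intro m
  obtain ⟨n, rfl⟩ := Submodule.Quotient.mk_surjective _ m
  exact ⟨Submodule.Quotient.mk n, rfl⟩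

theorem ker_trans (K : Ideal B) {𝔠 𝔠' : Ideal B} (h : 𝔠 ≤ 𝔠') (m : Mc K 𝔠)
    (hm : trans K h m = 0) : m ∈ (𝔠' • ⊤ : Submodule B (Mc K 𝔠)) := by
  obtain ⟨n, rfl⟩ := Submodule.Quotient.mk_surjective _ m
  rw [trans_mk, Submodule.Quotient.mk_eq_zero] at hm
  have h1 : (Submodule.mkQ (𝔠 • ⊤ : Submodule B K.Cotangent)) n ∈
      Submodule.map (Submodule.mkQ (𝔠 • ⊤ : Submodule B K.Cotangent)) (𝔠' • ⊤) :=
    Submodule.mem_map_of_mem hm
  rw [Submodule.map_smul'', Submodule.map_top, Submodule.range_mkQ] at h1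
  exact h1

theorem HasRetraction.mono {K 𝔠 𝔠' : Ideal B} (h : 𝔠 ≤ 𝔠') (hP : HasRetraction A K 𝔠) :
    HasRetraction A K 𝔠' := by
  obtain ⟨D, hD⟩ := hP
  refine ⟨(trans K h).compDer D, fun x => ?_⟩
  show trans K h (D x) = _
  rw [hD, trans_mk]

theorem HasRetraction.of_nilpotent {I K 𝔠 𝔠' : Ideal B} (hB : CAlgX.IsAdicFormallySmooth A B I)
    (h𝔠 : 𝔠 ≤ 𝔠') (hK : K ≤ 𝔠) {t : ℕ} (ht : 𝔠' ^ t ≤ 𝔠) {k : ℕ} (hk : I ^ k ≤ 𝔠)
    (hP : HasRetraction A K 𝔠') : HasRetraction A K 𝔠 := by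
  obtain ⟨D', hD'⟩ := hP
  obtain ⟨D₁, hD₁⟩ := exists_derivation_lift hB (trans K h𝔠) (trans_surjective K h𝔠) k
    (fun a ha m => smul_Mc K 𝔠 a (hk ha) m) D'
  let w₀ : K →ₗ[B] Mc K 𝔠 :=
    { toFun := fun x => D₁ x
      map_add' := fun x y => by
        show D₁ ((x + y : K) : B) = _
        rw [Submodule.coe_add, map_add]
      map_smul' := fun b x => by
        show D₁ ((b • x : K) : B) = b • D₁ x
        rw [Submodule.coe_smul, smul_eq_mul, Derivation.leibniz,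
          smul_Mc K 𝔠 x (hK x.2), add_zero] }
  have hw₀ : ∀ x : K, w₀ x = D₁ x := fun _ => rfl
  let w : K.Cotangent →ₗ[B] Mc K 𝔠 := Submodule.liftQ _ w₀ (by
    rw [Submodule.smul_le]
    intro a ha x _
    rw [LinearMap.mem_ker, map_smul, smul_Mc K 𝔠 a (hK ha)])
  have hw : ∀ x : K, w (K.toCotangent x) = D₁ x := fun _ => rfl
  let T : Module.End B (Mc K 𝔠) := Submodule.liftQ _ w (by
    rw [Submodule.smul_le]
    intro c hc n _
    rw [LinearMap.mem_ker, map_smul, smul_Mc K 𝔠 c hc])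
  have hT : ∀ x : K, T (Submodule.Quotient.mk (K.toCotangent x)) = D₁ x := fun _ => rfl
  have he : ∀ m, (1 - T) m ∈ (𝔠' • ⊤ : Submodule B (Mc K 𝔠)) := by
    intro m
    obtain ⟨n, rfl⟩ := Submodule.Quotient.mk_surjective _ m
    obtain ⟨x, rfl⟩ := K.toCotangent_surjective n
    apply ker_trans K h𝔠
    rw [LinearMap.sub_apply, Module.End.one_apply, hT, map_sub, hD₁, hD', trans_mk, sub_self]
  have hpow : ∀ j : ℕ, ∀ m, ((1 - T) ^ j) m ∈ (𝔠' ^ j • ⊤ : Submodule B (Mc K 𝔠)) := by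
    intro j
    induction j with
    | zero => intro m; simp
    | succ j ih =>
      intro m
      rw [pow_succ' (1 - T) j, Module.End.mul_apply, pow_succ' 𝔠' j, mul_smul]
      have h1 := ih m
      have h2 : ∀ y ∈ (𝔠' ^ j • ⊤ : Submodule B (Mc K 𝔠)),
          (1 - T) y ∈ (𝔠' • (𝔠' ^ j • ⊤ : Submodule B (Mc K 𝔠)) : Submodule B (Mc K 𝔠)) := by
        intro y hy
        refine Submodule.smul_induction_on hy ?_ ?_
        · intro c hc z _
          rw [map_smul]
          have := Submodule.smul_mem_smul hc (he z)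
          rw [← mul_smul, mul_comm, mul_smul] at this
          exact this
        · intro y z hy hz
          rw [map_add]
          exact Submodule.add_mem _ hy hz
      exact h2 _ h1
  have hnil : IsNilpotent (1 - T) := by
    refine ⟨t, LinearMap.ext fun m => ?_⟩
    have h1 := hpow t m
    have h2 : (𝔠' ^ t • ⊤ : Submodule B (Mc K 𝔠)) ≤ ⊥ := by
      rw [Submodule.smul_le]
      intro c hc z _
      rw [smul_Mc K 𝔠 c (ht hc)]
      exact Submodule.zero_mem _
    have h3 := h2 h1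
    rw [Submodule.mem_bot] at h3
    rw [h3, LinearMap.zero_apply]
  have hunit : IsUnit T := by
    have := hnil.isUnit_one_sub
    rwa [sub_sub_cancel] at this
  obtain ⟨u, hu⟩ := hunit
  have h2 : (↑u⁻¹ : Module.End B (Mc K 𝔠)) * T = 1 := by
    rw [← hu]
    exact u.inv_mul
  refine ⟨(↑u⁻¹ : Module.End B (Mc K 𝔠)).compDer D₁, fun x => ?_⟩
  show (↑u⁻¹ : Module.End B (Mc K 𝔠)) (D₁ x) = _
  rw [← hT]
  show ((↑u⁻¹ : Module.End B (Mc K 𝔠)) * T) _ = _
  rw [h2, Module.End.one_apply]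

section Quot

variable {C : Type u} [CommRing C] [Algebra B C] [Algebra A C] [IsScalarTower A B C]

theorem isAdicFormallySmooth_of_hasRetraction {I : Ideal B}
    (hB : CAlgX.IsAdicFormallySmooth A B I) (hsurj : Function.Surjective (algebraMap B C))
    (hP : ∀ k : ℕ, HasRetraction A (RingHom.ker (algebraMap B C))
      (RingHom.ker (algebraMap B C) ⊔ I ^ k)) :
    CAlgX.IsAdicFormallySmooth A C (I.map (algebraMap B C)) := by
  intro E _ _ K' hK' ψ hψ
  obtain ⟨k, hk⟩ := hψ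
  set K := RingHom.ker (algebraMap B C) with hKdef
  let πC : B →ₐ[A] C := IsScalarTower.toAlgHom A B C
  let ψB : B →ₐ[A] E ⧸ K' := ψ.comp πC
  have hψB : ∀ x ∈ I ^ k, ψB x = 0 := by
    intro x hx
    apply hk
    rw [← Ideal.map_pow]
    exact Ideal.mem_map_of_mem _ hx
  obtain ⟨φ, hφ⟩ := hB E K' hK' ψB ⟨k, hψB⟩
  have hφmk : ∀ b, Ideal.Quotient.mk K' (φ b) = ψ (algebraMap B C b) :=
    fun b => DFunLike.congr_fun hφ b
  let _ : Algebra B E := φ.toRingHom.toAlgebra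
  have hBE : ∀ b, algebraMap B E b = φ b := fun _ => rfl
  have : IsScalarTower A B E :=
    IsScalarTower.of_algebraMap_eq (fun a => by rw [hBE, AlgHom.commutes])
  have hφK : ∀ x ∈ K, φ x ∈ K' := by
    intro x hx
    rw [← Ideal.Quotient.eq_zero_iff_mem, hφmk, RingHom.mem_ker.mp hx, map_zero]
  have hφI : ∀ x ∈ I ^ k, φ x ∈ K' := by
    intro x hx
    rw [← Ideal.Quotient.eq_zero_iff_mem]
    exact (DFunLike.congr_fun hφ x).trans (hψB x hx)
  have hφ𝔠 : ∀ c ∈ K ⊔ I ^ k, φ c ∈ K' := by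
    intro c hc
    obtain ⟨x, hx, a, ha, rfl⟩ := Submodule.mem_sup.mp hc
    rw [map_add]
    exact K'.add_mem (hφK x hx) (hφI a ha)
  have hsq : ∀ y ∈ K', ∀ z ∈ K', y * z = 0 := by
    intro y hy z hz
    have : y * z ∈ K' ^ 2 := by
      rw [pow_two]
      exact Ideal.mul_mem_mul hy hz
    rwa [hK', Ideal.mem_bot] at this
  have hkill : ∀ c ∈ K ⊔ I ^ k, ∀ y : K', c • y = 0 := by
    intro c hc y
    apply Subtype.ext
    show c • (y : E) = 0
    rw [Algebra.smul_def, hBE]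
    exact hsq _ (hφ𝔠 c hc) _ y.2
  let w₀ : K →ₗ[B] K' :=
    { toFun := fun x => ⟨φ x, hφK x x.2⟩
      map_add' := fun x y => Subtype.ext (by simp)
      map_smul' := fun b x => Subtype.ext (by
        show φ ((b • x : K) : B) = b • φ x
        rw [Submodule.coe_smul, smul_eq_mul, map_mul, Algebra.smul_def, hBE]) }
  let w : K.Cotangent →ₗ[B] K' := Submodule.liftQ _ w₀ (by
    rw [Submodule.smul_le]
    intro a ha x _
    rw [LinearMap.mem_ker, map_smul, hkill a (Ideal.mem_sup_left ha)])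
  let wbar : Mc K (K ⊔ I ^ k) →ₗ[B] K' := Submodule.liftQ _ w (by
    rw [Submodule.smul_le]
    intro c hc n _
    rw [LinearMap.mem_ker, map_smul, hkill c hc])
  obtain ⟨D₀, hD₀⟩ := hP k
  let D : Derivation A B K' := wbar.compDer D₀
  have hD : ∀ x : K, ((D x : K') : E) = φ x := by
    intro x
    show ((wbar (D₀ x) : K') : E) = _
    rw [hD₀]
    rfl
  let φ' : B →ₐ[A] E := liftOfDerivationToSquareZero K' hK' (-D)
  have hφ' : ∀ b, φ' b = -(D b : E) + φ b := fun b => rfl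
  have hφ'K : ∀ x ∈ K, φ' x = 0 := by
    intro x hx
    rw [hφ', hD ⟨x, hx⟩, neg_add_cancel]
  let χ : C →ₐ[A] E := AlgHom.liftOfSurjective πC hsurj φ'
    (fun x hx => RingHom.mem_ker.mpr (hφ'K x hx))
  have hχ : ∀ b, χ (πC b) = φ' b := fun b =>
    AlgHom.liftOfSurjective_apply πC hsurj φ' _ b
  refine ⟨χ, AlgHom.ext fun c => ?_⟩
  obtain ⟨b, rfl⟩ := hsurj c
  show Ideal.Quotient.mk K' (χ (πC b)) = ψ (algebraMap B C b)
  rw [hχ, hφ', map_add, map_neg,
    Ideal.Quotient.eq_zero_iff_mem.mpr (D b).2, neg_zero, zero_add, hφmk]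

theorem toCotangent_mem_smul_top_of_mem_mul (K 𝔞 𝔠 : Ideal B) (h𝔞 : 𝔞 ≤ 𝔠) (u : B)
    (hu : u ∈ 𝔞 * K) (huK : u ∈ K) :
    K.toCotangent ⟨u, huK⟩ ∈ (𝔠 • ⊤ : Submodule B K.Cotangent) := by
  let S' : Submodule B K := Submodule.comap K.toCotangent (𝔠 • ⊤ : Submodule B K.Cotangent)
  have hle : 𝔞 * K ≤ Submodule.map K.subtype S' := by
    rw [Ideal.mul_le]
    intro a ha x hx
    refine ⟨a • ⟨x, hx⟩, ?_, by simp⟩
    show K.toCotangent (a • ⟨x, hx⟩) ∈ (𝔠 • ⊤ : Submodule B K.Cotangent)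
    rw [map_smul]
    exact Submodule.smul_mem_smul (h𝔞 ha) Submodule.mem_top
  obtain ⟨⟨u', hu'K⟩, hu'S, hu'⟩ := hle hu
  have : (⟨u, huK⟩ : K) = ⟨u', hu'K⟩ := Subtype.ext hu'.symm
  rw [this]
  exact hu'S

theorem hasRetraction_of_isAdicFormallySmooth [IsNoetherianRing B] {I : Ideal B}
    (hsurj : Function.Surjective (algebraMap B C))
    (hC : CAlgX.IsAdicFormallySmooth A C (I.map (algebraMap B C))) (n : ℕ) :
    HasRetraction A (RingHom.ker (algebraMap B C)) (RingHom.ker (algebraMap B C) ⊔ I ^ n) := by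
  set K := RingHom.ker (algebraMap B C) with hKdef
  -- Artin–Rees
  obtain ⟨c, hc⟩ := Ideal.exists_pow_inf_eq_pow_smul I (K : Submodule B B)
  have hAR : I ^ (n + c) ⊓ K ≤ I ^ n * K := by
    have h1 := hc (n + c) (by omega)
    rw [smul_eq_mul, Ideal.mul_top, Nat.add_sub_cancel] at h1
    rw [h1]
    exact Submodule.smul_mono le_rfl inf_le_right
  let 𝔡 : Ideal B := K ^ 2 ⊔ I ^ n * K ⊔ I ^ (n + c)
  let K' : Ideal (B ⧸ 𝔡) := K.map (Ideal.Quotient.mk 𝔡)
  have hK' : K' ^ 2 = ⊥ := by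
    rw [← Ideal.map_pow, Ideal.map_eq_bot_iff_le_ker, Ideal.mk_ker]
    exact le_sup_of_le_left le_sup_left
  let πC : B →ₐ[A] C := IsScalarTower.toAlgHom A B C
  let g : B →ₐ[A] (B ⧸ 𝔡) ⧸ K' := (Ideal.Quotient.mkₐ A K').comp (Ideal.Quotient.mkₐ A 𝔡)
  have hg : ∀ x ∈ K, g x = 0 := fun x hx =>
    Ideal.Quotient.eq_zero_iff_mem.mpr (Ideal.mem_map_of_mem _ hx)
  let ψ : C →ₐ[A] (B ⧸ 𝔡) ⧸ K' := AlgHom.liftOfSurjective πC hsurj g
    (fun x hx => RingHom.mem_ker.mpr (hg x hx))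
  have hψ : ∀ b, ψ (algebraMap B C b) = g b := fun b =>
    AlgHom.liftOfSurjective_apply πC hsurj g _ b
  have hψkill : ∀ x ∈ (I.map (algebraMap B C)) ^ (n + c), ψ x = 0 := by
    intro x hx
    rw [← Ideal.map_pow] at hx
    obtain ⟨b, hb, rfl⟩ := (Ideal.mem_map_iff_of_surjective _ hsurj).mp hx
    rw [hψ]
    show Ideal.Quotient.mk K' (Ideal.Quotient.mk 𝔡 b) = 0
    rw [Ideal.Quotient.eq_zero_iff_mem.mpr (Ideal.mem_sup_right hb : b ∈ 𝔡), map_zero]
  obtain ⟨χ, hχ⟩ := hC (B ⧸ 𝔡) K' hK' ψ ⟨n + c, hψkill⟩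
  let f : B →ₐ[A] B ⧸ 𝔡 := χ.comp πC
  have hf : (Ideal.Quotient.mkₐ A K').comp f = IsScalarTower.toAlgHom A B ((B ⧸ 𝔡) ⧸ K') := by
    refine AlgHom.ext fun b => ?_
    have h1 := DFunLike.congr_fun hχ (algebraMap B C b)
    have h2 : Ideal.Quotient.mk K' (χ (algebraMap B C b)) = ψ (algebraMap B C b) := h1
    show Ideal.Quotient.mk K' (χ (algebraMap B C b)) = _
    rw [h2, hψ]
    rfl
  let D₁ : Derivation A B K' := derivationToSquareZeroOfLift K' hK' f hf
  have hD₁ : ∀ x ∈ K, ((D₁ x : K') : B ⧸ 𝔡) = - Ideal.Quotient.mk 𝔡 x := by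
    intro x hx
    rw [derivationToSquareZeroOfLift_apply]
    show χ (algebraMap B C x) - _ = _
    rw [RingHom.mem_ker.mp hx, map_zero, zero_sub]
    rfl
  let ρ : K →ₗ[B] K' :=
    { toFun := fun x => ⟨Ideal.Quotient.mk 𝔡 x, Ideal.mem_map_of_mem _ x.2⟩
      map_add' := fun x y => Subtype.ext (by simp)
      map_smul' := fun b x => Subtype.ext (by
        show Ideal.Quotient.mk 𝔡 ((b • x : K) : B) = b • Ideal.Quotient.mk 𝔡 (x : B)
        rw [Submodule.coe_smul, smul_eq_mul, map_mul, Algebra.smul_def]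
        rfl) }
  have hρsurj : Function.Surjective ρ := by
    rintro ⟨y, hy⟩
    obtain ⟨x, hx, rfl⟩ := (Ideal.mem_map_iff_of_surjective _ Ideal.Quotient.mk_surjective).mp hy
    exact ⟨⟨x, hx⟩, rfl⟩
  let v₀ : K →ₗ[B] Mc K (K ⊔ I ^ n) := (Submodule.mkQ _) ∘ₗ K.toCotangent
  have hker : LinearMap.ker ρ ≤ LinearMap.ker v₀ := by
    intro x hx
    rw [LinearMap.mem_ker] at hx ⊢
    have hx𝔡 : (x : B) ∈ 𝔡 := by
      have := congrArg Subtype.val hx
      exact Ideal.Quotient.eq_zero_iff_mem.mp this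
    obtain ⟨yz, hyz, t, ht, hsum⟩ := Submodule.mem_sup.mp hx𝔡
    obtain ⟨y, hy, z, hz, rfl⟩ := Submodule.mem_sup.mp hyz
    have hyK : y ∈ K := Ideal.pow_le_self two_ne_zero hy
    have hzK : z ∈ K := (Ideal.mul_le_right : I ^ n * K ≤ K) hz
    have htK : t ∈ K := by
      have : t = x - (y + z) := by rw [← hsum]; ring
      rw [this]
      exact K.sub_mem x.2 (K.add_mem hyK hzK)
    have ht' : t ∈ I ^ n * K := hAR ⟨ht, htK⟩
    have hzt : z + t ∈ I ^ n * K := Ideal.add_mem _ hz ht'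
    have hztK : z + t ∈ K := K.add_mem hzK htK
    show Submodule.Quotient.mk (K.toCotangent x) = 0
    rw [Submodule.Quotient.mk_eq_zero]
    have hx_eq : x = ⟨y, hyK⟩ + ⟨z + t, hztK⟩ :=
      Subtype.ext (by simp [← hsum, add_assoc])
    rw [hx_eq, map_add]
    refine Submodule.add_mem _ ?_ ?_
    · rw [(K.toCotangent_eq_zero _).mpr hy]
      exact Submodule.zero_mem _
    · exact toCotangent_mem_smul_top_of_mem_mul K (I ^ n) _ le_sup_right _ hzt hztK
  let v : K' →ₗ[B] Mc K (K ⊔ I ^ n) :=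
    (LinearMap.ker ρ).liftQ v₀ hker ∘ₗ (ρ.quotKerEquivOfSurjective hρsurj).symm.toLinearMap
  have hv : ∀ x : K, v (ρ x) = v₀ x := by
    intro x
    show (LinearMap.ker ρ).liftQ v₀ hker ((ρ.quotKerEquivOfSurjective hρsurj).symm (ρ x)) = _
    rw [LinearMap.quotKerEquivOfSurjective_symm_apply, Submodule.liftQ_apply]
  refine ⟨-(v.compDer D₁), fun x => ?_⟩
  have h1 : D₁ x = -ρ x := Subtype.ext (by
    rw [hD₁ x x.2]
    rfl)
  show -(v (D₁ x)) = _
  rw [h1, map_neg, neg_neg, hv]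
  rfl

end Quot

section Translate

variable {C : Type u} [CommRing C] [Algebra B C] [Algebra A C] [IsScalarTower A B C]
variable (R : Type u) [CommRing R] [Algebra B R] [Algebra C R] [IsScalarTower B C R]
  [Algebra A R] [IsScalarTower A B R]

/-- `R ⊗ N ≃ N/𝔮N` for `𝔮 = ker (B → R)`, `B → R` surjective. -/
noncomputable def tensorEquivMc (K : Ideal B) (hsurjR : Function.Surjective (algebraMap B R)) :
    R ⊗[B] K.Cotangent ≃ₗ[B] Mc K (RingHom.ker (algebraMap B R)) :=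
  let e : (B ⧸ RingHom.ker (algebraMap B R)) ≃ₗ[B] R :=
    { RingHom.quotientKerEquivOfSurjective hsurjR with
      map_smul' := fun b x => by
        obtain ⟨y, rfl⟩ := Ideal.Quotient.mk_surjective x
        show RingHom.quotientKerEquivOfSurjective hsurjR (b • Ideal.Quotient.mk _ y) =
          b • RingHom.quotientKerEquivOfSurjective hsurjR (Ideal.Quotient.mk _ y)
        rw [Algebra.smul_def, Algebra.smul_def, map_mul]
        rfl }
  (TensorProduct.congr e.symm (LinearEquiv.refl B K.Cotangent)) ≪≫ₗ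
    TensorProduct.quotTensorEquivQuotSMul K.Cotangent (RingHom.ker (algebraMap B R))

theorem tensorEquivMc_one_tmul (K : Ideal B) (hsurjR : Function.Surjective (algebraMap B R))
    (n : K.Cotangent) :
    tensorEquivMc R K hsurjR (1 ⊗ₜ n) = Submodule.Quotient.mk n := by
  unfold tensorEquivMc
  simp only [LinearEquiv.trans_apply, TensorProduct.congr_tmul, LinearEquiv.refl_apply]
  have : (1 : R) = RingHom.quotientKerEquivOfSurjective hsurjR 1 := (map_one _).symm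
  rw [← TensorProduct.quotTensorEquivQuotSMul_mk_one_tmul]
  congr 2
  rw [LinearEquiv.symm_apply_eq]
  exact this

omit [Algebra A C] [IsScalarTower A B C] in
theorem hasRetraction_iff_exists_leftInverse (hsurjR : Function.Surjective (algebraMap B R)) :
    HasRetraction A (RingHom.ker (algebraMap B C)) (RingHom.ker (algebraMap B R)) ↔
      ∃ g : R ⊗[B] (C ⊗[B] Ω[B⁄A]) →ₗ[R] R ⊗[B] (RingHom.ker (algebraMap B C)).Cotangent,
        g ∘ₗ LinearMap.baseChange R (kerCotangentToTensor A B C) = LinearMap.id := by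
  set K := RingHom.ker (algebraMap B C) with hKdef
  let θ := tensorEquivMc R K hsurjR
  have hθ : ∀ n : K.Cotangent, θ (1 ⊗ₜ n) = Submodule.Quotient.mk n :=
    tensorEquivMc_one_tmul R K hsurjR
  constructor
  · rintro ⟨D, hD⟩
    let D' : Derivation A B (R ⊗[B] K.Cotangent) := θ.symm.toLinearMap.compDer D
    have hD' : ∀ x : K, D' x = 1 ⊗ₜ K.toCotangent x := by
      intro x
      show θ.symm (D x) = _
      rw [hD, ← hθ, LinearEquiv.symm_apply_apply]
    let l : Ω[B⁄A] →ₗ[B] R ⊗[B] K.Cotangent := D'.liftKaehlerDifferential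
    let l₁ : C ⊗[B] Ω[B⁄A] →ₗ[C] R ⊗[B] K.Cotangent := LinearMap.liftBaseChange C l
    let g : R ⊗[B] (C ⊗[B] Ω[B⁄A]) →ₗ[R] R ⊗[B] K.Cotangent :=
      LinearMap.liftBaseChange R (l₁.restrictScalars B)
    refine ⟨g, LinearMap.ext fun y => ?_⟩
    induction y using TensorProduct.induction_on with
    | zero => simp
    | add y z hy hz => rw [map_add, hy, hz, map_add]
    | tmul r n =>
      obtain ⟨x, rfl⟩ := K.toCotangent_surjective n
      rw [LinearMap.comp_apply, LinearMap.baseChange_tmul, kerCotangentToTensor_toCotangent,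
        LinearMap.id_apply]
      show r • l₁ (1 ⊗ₜ KaehlerDifferential.D A B (x : B)) = _
      rw [LinearMap.liftBaseChange_one_tmul]
      show r • D'.liftKaehlerDifferential (KaehlerDifferential.D A B (x : B)) = _
      rw [Derivation.liftKaehlerDifferential_comp_D, hD', TensorProduct.smul_tmul', smul_eq_mul,
        mul_one]
  · rintro ⟨g, hg⟩
    let lin : Ω[B⁄A] →ₗ[B] Mc K (RingHom.ker (algebraMap B R)) :=
      θ.toLinearMap ∘ₗ g.restrictScalars B ∘ₗ
        TensorProduct.mk B R (C ⊗[B] Ω[B⁄A]) 1 ∘ₗ TensorProduct.mk B C Ω[B⁄A] 1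
    refine ⟨lin.compDer (KaehlerDifferential.D A B), fun x => ?_⟩
    show θ (g (1 ⊗ₜ (1 ⊗ₜ KaehlerDifferential.D A B (x : B)))) = _
    have h1 : (1 : R) ⊗ₜ[B] ((1 : C) ⊗ₜ[B] KaehlerDifferential.D A B (x : B)) =
        LinearMap.baseChange R (kerCotangentToTensor A B C) (1 ⊗ₜ K.toCotangent x) := by
      rw [LinearMap.baseChange_tmul, kerCotangentToTensor_toCotangent]
    rw [h1]
    have h2 := LinearMap.congr_fun hg (1 ⊗ₜ K.toCotangent x)
    rw [LinearMap.comp_apply, LinearMap.id_apply] at h2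
    rw [h2, hθ]

end Translate

end Groth.Agent.Lib.Helper62.AdicJacobian
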