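import Mathlib
import Groth.Prelude.Def_CAlgX

set_option autoImplicit false
universe u

namespace Groth.Agent.Lib.Helper62.AdicLift

variable {A B : Type u} [CommRing A] [CommRing B] [Algebra A B] {𝔍 : Ideal B}

/-- adic formal smoothness lifts along nilpotent ideals. -/
theorem exists_lift_of_isNilpotent (hB : CAlgX.IsAdicFormallySmooth A B 𝔍)
    {E : Type u} [CommRing E] [Algebra A E] (N : Ideal E) (hN : IsNilpotent N)
    (ψ : B →ₐ[A] E ⧸ N) (hψ : ∃ k : ℕ, ∀ x ∈ 𝔍 ^ k, ψ x = 0) :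
    ∃ χ : B →ₐ[A] E, (Ideal.Quotient.mkₐ A N).comp χ = ψ := by
  revert ψ
  revert ‹Algebra A E›
  have key := Ideal.IsNilpotent.induction_on (S := E) N hN
    (P := fun S _ N => IsNilpotent N → ∀ [Algebra A S] (ψ : B →ₐ[A] S ⧸ N),
      (∃ k : ℕ, ∀ x ∈ 𝔍 ^ k, ψ x = 0) → ∃ χ : B →ₐ[A] S, (Ideal.Quotient.mkₐ A N).comp χ = ψ)
    ?_ ?_
  · intro _ ψ hψ
    exact key hN ψ hψ
  · intro S _ I hI _ _ ψ hψ
    exact hB S I hI ψ hψ
  · intro S _ I J hIJ h₁ h₂ hJ _ g hg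
    obtain ⟨r, hr⟩ := hJ
    rw [Ideal.zero_eq_bot] at hr
    have hInil : IsNilpotent I := ⟨r, le_bot_iff.mp (hr ▸ Ideal.pow_right_mono hIJ r)⟩
    have hJmap : IsNilpotent (J.map (Ideal.Quotient.mk I)) := ⟨r, by
      rw [← Ideal.map_pow, hr, Ideal.map_bot]; rfl⟩
    let this : ((S ⧸ I) ⧸ J.map (Ideal.Quotient.mk I)) ≃ₐ[A] S ⧸ J :=
      { (DoubleQuot.quotQuotEquivQuotSup I J).trans
          (Ideal.quotEquivOfEq (sup_eq_right.mpr hIJ)) with
        commutes' := fun x => rfl }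
    obtain ⟨k, hk⟩ := hg
    obtain ⟨g', e⟩ := h₂ hJmap (this.symm.toAlgHom.comp g) ⟨k, fun x hx => by
      show this.symm (g x) = 0
      rw [hk x hx, map_zero]⟩
    have hg'mem : ∀ x ∈ 𝔍 ^ k, g' x ∈ J.map (Ideal.Quotient.mk I) := by
      intro x hx
      have h1 := AlgHom.congr_fun e x
      have h2 : Ideal.Quotient.mk (J.map (Ideal.Quotient.mk I)) (g' x) = this.symm (g x) := h1
      rw [hk x hx, map_zero] at h2
      exact Ideal.Quotient.eq_zero_iff_mem.mp h2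
    have hg'cont : ∃ k' : ℕ, ∀ x ∈ 𝔍 ^ k', g' x = 0 := by
      refine ⟨k * r, fun x hx => ?_⟩
      rw [pow_mul] at hx
      have h1 : g' x ∈ ((𝔍 ^ k) ^ r).map g'.toRingHom := Ideal.mem_map_of_mem _ hx
      rw [Ideal.map_pow] at h1
      have h2 : (𝔍 ^ k).map g'.toRingHom ≤ J.map (Ideal.Quotient.mk I) := by
        rw [Ideal.map_le_iff_le_comap]
        intro x hx
        exact hg'mem x hx
      have h3 := Ideal.pow_right_mono h2 r h1
      rw [← Ideal.map_pow, hr, Ideal.map_bot] at h3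
      exact h3
    obtain ⟨g'', rfl⟩ := h₁ hInil g' hg'cont
    replace e := congr_arg this.toAlgHom.comp e
    conv_rhs at e =>
      rw [← AlgHom.comp_assoc, AlgEquiv.comp_symm, AlgHom.id_comp]
    exact ⟨g'', e⟩

/-- surjection form -/
theorem exists_lift_of_surjective (hB : CAlgX.IsAdicFormallySmooth A B 𝔍)
    {E E' : Type u} [CommRing E] [Algebra A E] [CommRing E'] [Algebra A E']
    (g : E →ₐ[A] E') (hg : Function.Surjective g) (hnil : IsNilpotent (RingHom.ker g.toRingHom))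
    (f : B →ₐ[A] E') (hf : ∃ k : ℕ, ∀ x ∈ 𝔍 ^ k, f x = 0) :
    ∃ χ : B →ₐ[A] E, g.comp χ = f := by
  obtain ⟨k, hk⟩ := hf
  obtain ⟨χ, hχ⟩ := exists_lift_of_isNilpotent hB _ hnil
    ((Ideal.quotientKerAlgEquivOfSurjective hg).symm.toAlgHom.comp f) ⟨k, fun x hx => by
      show (Ideal.quotientKerAlgEquivOfSurjective hg).symm (f x) = 0
      rw [hk x hx, map_zero]⟩
  refine ⟨χ, ?_⟩
  ext x
  have h1 := AlgHom.congr_fun hχ x
  have h2 : Ideal.Quotient.mk _ (χ x) = (Ideal.quotientKerAlgEquivOfSurjective hg).symm (f x) := h1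
  have h3 := congrArg (Ideal.quotientKerAlgEquivOfSurjective hg) h2
  rw [AlgEquiv.apply_symm_apply] at h3
  rw [← h3]
  rfl

end Groth.Agent.Lib.Helper62.AdicLift
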