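import Mathlib
import Groth.Prelude.Def_Fitting
import Groth.Agent.Lib.Helper11.PullbackBasis
import Groth.Agent.Lib.Helper11.AmpleFinite

/-!
# Norm of sections of a pulled-back invertible module (helper62)

Let `g : X' ⟶ X` carry a norm of degree `D` (`Nrm.NormOfDegree g D`) and let `M` be an invertible
`O_X`-module.  For every global section `s'` of `g^* M` we construct a global section
`normSec s'` of `M^{⊗ D}`: on an open `U` on which `M` has a basis `e`, write
`s' = a · g^* e` with `a ∈ Γ(X', g⁻¹ U)`; then `normSec s' = Nm(a) · e^{⊗ D}` on `U`.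

Main results:
* `preimage_genLocus_normSec_le` : `g⁻¹ (X_{N s'}) ⊆ X'_{s'}`;
* `mem_genLocus_normSec` : if `g` is a closed map and the whole fibre `g⁻¹(x)` lies in `X'_{s'}`
  then `x ∈ X_{N s'}`.
-/

set_option autoImplicit false
set_option linter.style.haveILetI false
universe u
open AlgebraicGeometry CategoryTheory Limits TopologicalSpace Opposite

namespace Groth.Agent.Lib.Helper62.NormSec

open Groth.Agent.Lib.Helper11 Groth.Agent.Lib.Helper45 Groth.Agent.Lib.Helper49
open Groth.Agent.Lib.Helper11.GenLocus Groth.Agent.Lib.Helper11.PullbackBasis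

variable {X X' : Scheme.{u}} (g : X' ⟶ X) {D : ℕ} (Nm : Nrm.NormOfDegree g D) (M : X.Modules)
  (s' : Coh.structureModule X' ⟶ (Scheme.Modules.pullback g).obj M)

theorem preimage_mono' {U V : X.Opens} (h : V ≤ U) : g ⁻¹ᵁ V ≤ g ⁻¹ᵁ U := fun _ hx => h hx

/-- compatibility of the norm with restriction, in `fres` form. -/
theorem norm_fres {U V : X.Opens} (h : V ≤ U) (a : Γ(X', g ⁻¹ᵁ U)) :
    fres h (Nm.norm U a) = Nm.norm V (fres (preimage_mono' g h) a) :=
  Nm.norm_res (homOfLE h) a

/-- the coefficient of `s'` with respect to the pulled back basis `g^* e` on `g⁻¹ U`. -/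
noncomputable def coef (U : X.Opens) (e : Γ(M, U)) (he : IsBasisOn M U e) : Γ(X', g ⁻¹ᵁ U) :=
  Classical.choose ((isBasisOn_pullS g U M e he).exists_eq_smul (sec s' (g ⁻¹ᵁ U)))

theorem coef_spec (U : X.Opens) (e : Γ(M, U)) (he : IsBasisOn M U e) :
    coef g M s' U e he • pullS g M U e = sec s' (g ⁻¹ᵁ U) :=
  Classical.choose_spec ((isBasisOn_pullS g U M e he).exists_eq_smul (sec s' (g ⁻¹ᵁ U)))

theorem coef_unique (U : X.Opens) (e : Γ(M, U)) (he : IsBasisOn M U e) (a : Γ(X', g ⁻¹ᵁ U))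
    (ha : a • pullS g M U e = sec s' (g ⁻¹ᵁ U)) : a = coef g M s' U e he :=
  (isBasisOn_pullS g U M e he).eq_of_smul_eq (ha.trans (coef_spec g M s' U e he).symm)

theorem coef_res {U W : X.Opens} (h : W ≤ U) (e : Γ(M, U)) (he : IsBasisOn M U e) :
    fres (preimage_mono' g h) (coef g M s' U e he) = coef g M s' W (mres M h e) (he.mono h) := by
  apply coef_unique
  have h1 := congrArg (mres ((Scheme.Modules.pullback g).obj M) (preimage_mono' g h))
    (coef_spec g M s' U e he)
  rw [mres_smul, sec_mres, pullS_res] at h1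
  exact h1

theorem coef_smul (W : X.Opens) (e : Γ(M, W)) (he : IsBasisOn M W e) (u : Γ(X, W))
    (hu : IsBasisOn M W (u • e)) :
    coef g M s' W e he = coef g M s' W (u • e) hu * (g.app W).hom u := by
  symm
  apply coef_unique
  have h1 := coef_spec g M s' W (u • e) hu
  rw [pullS_smul, ← mul_smul] at h1
  exact h1

/-- the local norm section on an open with a basis. -/
noncomputable def locN (U : X.Opens) (e : Γ(M, U)) (he : IsBasisOn M U e) :
    Γ(CohB1.tensorPow M D, U) :=
  Nm.norm U (coef g M s' U e he) • powSec M U e D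

theorem locN_res {U W : X.Opens} (h : W ≤ U) (e : Γ(M, U)) (he : IsBasisOn M U e) :
    mres (CohB1.tensorPow M D) h (locN g Nm M s' U e he) =
      locN g Nm M s' W (mres M h e) (he.mono h) := by
  rw [locN, locN, mres_smul, norm_fres, coef_res, powSec_res]

theorem locN_smul (W : X.Opens) (e : Γ(M, W)) (he : IsBasisOn M W e) (u : Γ(X, W))
    (hu : IsBasisOn M W (u • e)) :
    locN g Nm M s' W (u • e) hu = locN g Nm M s' W e he := by
  rw [locN, locN, coef_smul g M s' W e he u hu, map_mul, Nm.norm_app, powSec_smul, mul_smul]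

theorem locN_compat {U V W : X.Opens} (hU : W ≤ U) (hV : W ≤ V) (e : Γ(M, U))
    (he : IsBasisOn M U e) (e2 : Γ(M, V)) (he2 : IsBasisOn M V e2) :
    mres (CohB1.tensorPow M D) hU (locN g Nm M s' U e he) =
      mres (CohB1.tensorPow M D) hV (locN g Nm M s' V e2 he2) := by
  rw [locN_res, locN_res]
  obtain ⟨u, hu⟩ := (he2.mono hV).exists_eq_smul (mres M hU e)
  have hb : IsBasisOn M W (u • mres M hV e2) := hu ▸ he.mono hU
  have h1 : locN g Nm M s' W (mres M hU e) (he.mono hU) =
      locN g Nm M s' W (u • mres M hV e2) hb := by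
    congr 1
    exact hu.symm
  rw [h1, locN_smul]

/-- the index type of all local bases of `M`. -/
def Idx : Type u := {p : Σ U : X.Opens, Γ(M, U) // IsBasisOn M p.1 p.2}

variable {M}

theorem exists_glue (hM : PicF.IsInvertible M) :
    ∃ T : Γ(CohB1.tensorPow M D, ⊤), ∀ (U : X.Opens) (e : Γ(M, U)) (he : IsBasisOn M U e),
      mres (CohB1.tensorPow M D) (le_top : U ≤ ⊤) T = locN g Nm M s' U e he := by
  let Uo : Idx M → X.Opens := fun i => i.1.1
  have hcov : (⊤ : X.Opens) ≤ iSup Uo := by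
    intro x _
    obtain ⟨V, hxV, t, ht⟩ := exists_isBasisOn_of_isInvertible hM x
    exact Opens.mem_iSup.mpr ⟨⟨⟨V, t⟩, ht⟩, hxV⟩
  obtain ⟨T, hT, -⟩ := TopCat.Sheaf.existsUnique_gluing'
    ⟨(CohB1.tensorPow M D).presheaf, (CohB1.tensorPow M D).isSheaf⟩ Uo ⊤
    (fun i => homOfLE le_top) hcov (fun i => locN g Nm M s' i.1.1 i.1.2 i.2) (by
      intro i j
      change mres (CohB1.tensorPow M D) inf_le_left (locN g Nm M s' i.1.1 i.1.2 i.2) =
        mres (CohB1.tensorPow M D) inf_le_right (locN g Nm M s' j.1.1 j.1.2 j.2)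
      exact locN_compat g Nm M s' inf_le_left inf_le_right _ _ _ _)
  exact ⟨T, fun U e he => hT ⟨⟨U, e⟩, he⟩⟩

/-- the norm of a global section of `g^* M`, a global section of `M^{⊗ D}`. -/
noncomputable def normSec (hM : PicF.IsInvertible M) :
    Coh.structureModule X ⟶ CohB1.tensorPow M D :=
  homOfSection _ (Classical.choose (exists_glue g Nm s' hM))

theorem sec_normSec (hM : PicF.IsInvertible M) (U : X.Opens) (e : Γ(M, U))
    (he : IsBasisOn M U e) :
    sec (normSec g Nm s' hM) U = Nm.norm U (coef g M s' U e he) • powSec M U e D := by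
  rw [normSec, sec_homOfSection]
  exact Classical.choose_spec (exists_glue g Nm s' hM) U e he

/-- `g⁻¹(X_{N s'}) ⊆ X'_{s'}`. -/
theorem preimage_genLocus_normSec_le (hM : PicF.IsInvertible M) :
    g ⁻¹ᵁ (CohB1.genLocus _ (normSec g Nm s' hM)) ≤ CohB1.genLocus _ s' := by
  intro x' hx'
  obtain ⟨U, hxU, e, he⟩ := exists_isBasisOn_of_isInvertible hM (g.base x')
  have h1 := genLocus_inf_le_basicOpen (normSec g Nm s' hM) (powSec M U e D)
    (isBasisOn_powSec he D) _ (sec_normSec g Nm s' hM U e he)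
  have h2 : g.base x' ∈ X.basicOpen (Nm.norm U (coef g M s' U e he)) := h1 ⟨hx', hxU⟩
  have h3 : x' ∈ X'.basicOpen (coef g M s' U e he) := by
    by_contra hcon
    have hmem : X'.presheaf.germ (g ⁻¹ᵁ U) x' hxU (coef g M s' U e he) ∈
        IsLocalRing.maximalIdeal (X'.presheaf.stalk x') := by
      rw [IsLocalRing.mem_maximalIdeal, mem_nonunits_iff]
      intro hu
      exact hcon ((X'.mem_basicOpen _ _ hxU).mpr hu)
    have h4 := Nm.norm_mem U (coef g M s' U e he) x' hxU hmem
    rw [IsLocalRing.mem_maximalIdeal, mem_nonunits_iff] at h4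
    exact h4 ((X.mem_basicOpen _ _ hxU).mp h2)
  exact basicOpen_le_genLocus s' (pullS g M U e) (isBasisOn_pullS g U M e he) _
    (coef_spec g M s' U e he).symm h3

/-- if the whole fibre of `g` over `x` lies in `X'_{s'}` (and `g` is closed), then
`x ∈ X_{N s'}`. -/
theorem mem_genLocus_normSec (hM : PicF.IsInvertible M) (hg : IsClosedMap g.base) (x : X)
    (hx : g.base ⁻¹' {x} ⊆ (CohB1.genLocus _ s' : Set X')) :
    x ∈ CohB1.genLocus _ (normSec g Nm s' hM) := by
  obtain ⟨U, hxU, e, he⟩ := exists_isBasisOn_of_isInvertible hM x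
  have hcl : IsClosed (g.base '' ((CohB1.genLocus _ s' : Set X')ᶜ)) :=
    hg _ (CohB1.genLocus _ s').2.isClosed_compl
  let V₀ : X.Opens := ⟨(g.base '' ((CohB1.genLocus _ s' : Set X')ᶜ))ᶜ, hcl.isOpen_compl⟩
  have hxV₀ : x ∈ V₀ := by
    rintro ⟨x', hx', hx'x⟩
    exact hx' (hx hx'x)
  let V : X.Opens := U ⊓ V₀
  have hVU : V ≤ U := inf_le_left
  have hpre : g ⁻¹ᵁ V ≤ CohB1.genLocus _ s' ⊓ g ⁻¹ᵁ U := by
    intro x' hx'
    refine ⟨?_, hx'.1⟩
    by_contra hcon
    exact hx'.2 ⟨x', hcon, rfl⟩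
  have h1 := genLocus_inf_le_basicOpen s' (pullS g M U e) (isBasisOn_pullS g U M e he) _
    (coef_spec g M s' U e he).symm
  have hle : g ⁻¹ᵁ V ≤ X'.basicOpen (coef g M s' U e he) := hpre.trans h1
  have hunit : IsUnit (fres (preimage_mono' g hVU) (coef g M s' U e he)) :=
    isUnit_res_of_le_basicOpen _ hle
  have hunit2 : IsUnit (fres hVU (Nm.norm U (coef g M s' U e he))) := by
    rw [norm_fres]
    exact hunit.map (Nm.norm V)
  have hVb : V ≤ X.basicOpen (Nm.norm U (coef g M s' U e he)) :=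
    le_basicOpen_of_isUnit_res _ hVU hunit2
  exact basicOpen_le_genLocus (normSec g Nm s' hM) (powSec M U e D) (isBasisOn_powSec he D) _
    (sec_normSec g Nm s' hM U e he) (hVb ⟨hxU, hxV₀⟩)

end Groth.Agent.Lib.Helper62.NormSec
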