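import Mathlib
import Groth.Agent.Lib.Helper62.NormSec
import Groth.Agent.Lib.Helper11.AmpleSeparated
import Groth.Agent.Lib.Helper11.AmpleBasis
import Groth.Agent.Lib.Helper11.PullbackTensor

/-!
# Ampleness descends along a finite surjective morphism with a norm (helper62)

* `exists_genLocus_of_finite_le` : for an ample `L`, a finite set inside an open `W` lies in some
  `X_σ ⊆ W`.
* `isAmple_of_isAmple_pullback_of_norm` : `g : X' ⟶ X` finite surjective carrying a norm, `X`
  quasi-compact, `L` invertible on `X` with `g^* L` ample ⟹ `L` ample  (EGA II 6.6.1 / Stacks 0BD4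
  for pulled back modules).
-/

set_option autoImplicit false
set_option linter.style.haveILetI false
universe u
open AlgebraicGeometry CategoryTheory Limits TopologicalSpace Opposite

namespace Groth.Agent.Lib.Helper62.AmpleNorm

open Groth.Agent.Lib.Helper11 Groth.Agent.Lib.Helper45 Groth.Agent.Lib.Helper49
open Groth.Agent.Lib.Helper11.GenLocus Groth.Agent.Lib.Helper11.PullbackBasis
open Groth.Agent.Lib.Helper11.PullbackTensor Groth.Agent.Lib.Helper62.NormSec

variable {X : Scheme.{u}}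

/-- for an ample `L`, a finite set of points inside an open `W` lies in some `X_σ ⊆ W`. -/
theorem exists_genLocus_of_finite_le [CompactSpace X] {L : X.Modules} (hL : CohB1.IsAmple L)
    (W : X.Opens) (Z : Set X) (hZ : Z.Finite) (hZW : Z ⊆ W) :
    ∃ (N : ℕ) (σ : Coh.structureModule X ⟶ CohB1.tensorPow L (N + 1)),
      Z ⊆ CohB1.genLocus _ σ ∧ CohB1.genLocus _ σ ≤ W := by
  have hqs : QuasiSeparatedSpace X := quasiSeparatedSpace_of_isAmple hL
  obtain ⟨m, t, hZt⟩ := exists_section_of_finite hL Z hZ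
  have hP : PicF.IsInvertible (CohB1.tensorPow L (m + 1)) := isInvertible_tensorPow hL.1 (m + 1)
  have haff : IsAffineHom (CohB1.genLocus _ t).ι := isAffineHom_genLocus_ι hP t
  have hcG : CompactSpace ((CohB1.genLocus _ t : X.Opens) : Scheme.{u}) :=
    QuasiCompact.compactSpace_of_compactSpace (CohB1.genLocus _ t).ι
  have h1 : CohB1.IsAmple (L.restrict (CohB1.genLocus _ t).ι) :=
    isAmple_restrict (CohB1.genLocus _ t).ι hL
  have h2 : CohB1.IsAmple (CohB1.tensorPow (L.restrict (CohB1.genLocus _ t).ι) (m + 1)) :=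
    (Groth.Agent.S2327.main_S2327 _ _ (isInvertible_restrict' (CohB1.genLocus _ t).ι hL.1) (m + 1)
      (Nat.succ_pos m)).mp h1
  have h3 : CohB1.IsAmple ((CohB1.tensorPow L (m + 1)).restrict (CohB1.genLocus _ t).ι) :=
    isAmple_of_iso (restrictTensorPowIso (CohB1.genLocus _ t).ι L (m + 1)) h2
  have h4 : CohB1.IsAmple (Coh.structureModule ((CohB1.genLocus _ t : X.Opens) : Scheme.{u})) :=
    isAmple_of_iso (trivOfLeGenLocus _ t _ le_rfl) h3
  have hqa : ((CohB1.genLocus _ t : X.Opens) : Scheme.{u}).IsQuasiAffine :=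
    (isQuasiAffine_iff_isAmple_structureModule _).mpr h4
  let G : X.Opens := CohB1.genLocus _ t
  obtain ⟨r, -, hE, hrW⟩ := exists_basicOpen_of_finite
    (X := (G : Scheme.{u})) (G.ι ⁻¹ᵁ W) (G.ι ⁻¹' Z)
    (hZ.preimage G.ι.isOpenEmbedding.injective.injOn) (fun z hz => hZW hz)
  -- transport `r` to a function on `G ⊆ X`
  let f0 : Γ(X, G.ι ''ᵁ ⊤) := (G.ι.appIso ⊤).inv r
  have hf0 : G.ι ''ᵁ ((G : Scheme.{u}).basicOpen r) = X.basicOpen f0 := Scheme.image_basicOpen G.ι r
  have hGtop : G ≤ G.ι ''ᵁ ⊤ := le_of_eq G.ι_image_top.symm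
  let f : Γ(X, G) := fres hGtop f0
  have hf : X.basicOpen f = X.basicOpen f0 := by
    rw [basicOpen_fres]
    refine inf_eq_right.mpr ?_
    exact (X.basicOpen_le f0).trans (le_of_eq G.ι_image_top)
  obtain ⟨N, σ, hσ⟩ := exists_genLocus_eq_basicOpen_of_section L hL.1 m t f
  refine ⟨N, σ, ?_, ?_⟩
  · intro z hz
    rw [hσ, hf, ← hf0]
    exact ⟨⟨z, hZt hz⟩, hE hz, rfl⟩
  · intro z hz
    rw [hσ, hf, ← hf0] at hz
    obtain ⟨w, hw, rfl⟩ := hz
    exact hrW hw

/-- **Ampleness descends along a finite surjective morphism with a norm** (pulled back modules). -/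
theorem isAmple_of_isAmple_pullback_of_norm {X' : Scheme.{u}} (g : X' ⟶ X) [IsFinite g]
    [Surjective g] {D : ℕ} (Nm : Nrm.NormOfDegree g D) [CompactSpace X] (L : X.Modules)
    (hL : PicF.IsInvertible L) (hA : CohB1.IsAmple ((Scheme.Modules.pullback g).obj L)) :
    CohB1.IsAmple L := by
  refine ⟨hL, inferInstance, fun x => ?_⟩
  obtain ⟨_, ⟨V, hV, rfl⟩, hxV, -⟩ := X.isBasis_affineOpens.exists_subset_of_mem_open
    (Set.mem_univ x) isOpen_univ
  have hcX' : CompactSpace X' := hA.2.1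
  have hF : (g.base ⁻¹' {x}).Finite := g.finite_preimage_singleton x
  obtain ⟨N, σ, hFσ, hσV⟩ := exists_genLocus_of_finite_le hA (g ⁻¹ᵁ V) (g.base ⁻¹' {x}) hF
    (fun x' hx' => by
      have hx'' : g.base x' = x := hx'
      change g.base x' ∈ V
      rw [hx'']
      exact hxV)
  -- transport `σ` to a section of `g^* (L^{N+1})`
  let M : X.Modules := CohB1.tensorPow L (N + 1)
  have hM : PicF.IsInvertible M := isInvertible_tensorPow hL (N + 1)
  let s'' : Coh.structureModule X' ⟶ (Scheme.Modules.pullback g).obj M :=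
    σ ≫ (pullbackTensorPowIso g hL (N + 1)).inv
  have hs'' : CohB1.genLocus _ s'' = CohB1.genLocus _ σ :=
    genLocus_comp_iso σ (pullbackTensorPowIso g hL (N + 1)).symm
  let t : Coh.structureModule X ⟶ CohB1.tensorPow M D := normSec g Nm s'' hM
  have hxt : x ∈ CohB1.genLocus _ t :=
    mem_genLocus_normSec g Nm s'' hM g.isClosedMap x (by rw [hs'']; exact hFσ)
  have htV : CohB1.genLocus _ t ≤ V := by
    intro y hy
    obtain ⟨x', rfl⟩ := Surjective.surj (f := g) y
    have h1 : x' ∈ CohB1.genLocus _ s'' := preimage_genLocus_normSec_le g Nm s'' hM hy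
    rw [hs''] at h1
    exact hσV h1
  -- rewrite `t` as a section of `L^{K+1}`
  obtain ⟨K, hK⟩ : ∃ K, (N + 1) * D = K + 1 :=
    Nat.exists_eq_succ_of_ne_zero (Nat.mul_ne_zero (Nat.succ_ne_zero _)
      (by have := Nm.one_le; omega))
  let ε : CohB1.tensorPow M D ≅ CohB1.tensorPow L (K + 1) :=
    tensorPowMul L (N + 1) D ≪≫ eqToIso (congrArg (CohB1.tensorPow L) hK)
  have hε : CohB1.genLocus _ (t ≫ ε.hom) = CohB1.genLocus _ t := genLocus_comp_iso t ε
  refine ⟨K, t ≫ ε.hom, by rw [hε]; exact hxt, ?_⟩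
  exact isAffineOpen_genLocus_of_le (isInvertible_tensorPow hL (K + 1)) _ hV (by rw [hε]; exact htV)

end Groth.Agent.Lib.Helper62.AmpleNorm
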