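import Mathlib
import Groth.Agent.Lib.Helper11.FinFreeBasis
import Groth.Prelude.Def_Fitting
import Groth.Agent.Lib.Helper45.NormFree
import Groth.Agent.Lib.Helper62.AmpleNorm

set_option autoImplicit false
set_option linter.style.haveILetI false
universe u
open AlgebraicGeometry CategoryTheory Limits TopologicalSpace Opposite

namespace Groth.Agent.Lib.Helper62.AmpleNormB

open Groth.Agent.Lib.Helper11 Groth.Agent.Lib.Helper45 Groth.Agent.Lib.Helper49
open Groth.Agent.Lib.Helper11.FinFreeBasis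

variable {X X' : Scheme.{u}}

theorem exists_affine_free (g : X' ⟶ X)
    (hfree : FlatMod.IsFinLocFree ((Coh.push g).obj (Coh.structureModule X'))) (x : X) :
    ∃ V : X.Opens, IsAffineOpen V ∧ x ∈ V ∧
      (letI := (g.app V).hom.toAlgebra
       Module.Free Γ(X, V) Γ(X', g ⁻¹ᵁ V) ∧ Module.Finite Γ(X, V) Γ(X', g ⁻¹ᵁ V)) := by
  obtain ⟨V₀, n, e, hxV₀, he⟩ := exists_isBasisFam_of_isFinLocFree hfree x
  obtain ⟨_, ⟨V, hV, rfl⟩, hxV, hVV₀⟩ := X.isBasis_affineOpens.exists_subset_of_mem_open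
    hxV₀ V₀.2
  have hVV₀' : V ≤ V₀ := hVV₀
  have he' := he.mono hVV₀'
  have hbij := he' V le_rfl
  refine ⟨V, hV, hxV, ?_⟩
  letI := (g.app V).hom.toAlgebra
  let τ : Fin n → Γ(X', g ⁻¹ᵁ V) := fun i =>
    mres ((Coh.push g).obj (Coh.structureModule X')) (le_refl V)
      (mres ((Coh.push g).obj (Coh.structureModule X')) hVV₀' (e i))
  have hτ : Function.Bijective (fun a : Fin n → Γ(X, V) => ∑ i, a i • τ i) := hbij
  let b : Module.Basis (Fin n) Γ(X, V) Γ(X', g ⁻¹ᵁ V) := basisOfBij τ hτ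
  exact ⟨Module.Free.of_basis b, Module.Finite.of_basis b⟩

theorem flat_of_isFinLocFree_push (g : X' ⟶ X) [IsAffineHom g]
    (hfree : FlatMod.IsFinLocFree ((Coh.push g).obj (Coh.structureModule X'))) : Flat g := by
  have hQ : RingHom.StableUnderCompositionWithLocalizationAwaySource RingHom.Flat := by
    intro R S T _ _ _ _ r _ f hf
    exact RingHom.Flat.comp (RingHom.Flat.holdsForLocalizationAway S r) hf
  rw [HasRingHomProperty.iff_exists_appLE (P := @Flat) hQ]
  intro x'
  obtain ⟨V, hV, hxV, hfr, hfin⟩ := exists_affine_free g hfree (g.base x')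
  refine ⟨⟨V, hV⟩, ⟨g ⁻¹ᵁ V, hV.preimage g⟩, hxV, le_rfl, ?_⟩
  rw [← Scheme.Hom.app_eq_appLE]
  letI := (g.app V).hom.toAlgebra
  change Module.Flat Γ(X, V) Γ(X', g ⁻¹ᵁ V)
  infer_instance

theorem lfp_of_isFinLocFree_push (g : X' ⟶ X) [IsAffineHom g]
    (hfree : FlatMod.IsFinLocFree ((Coh.push g).obj (Coh.structureModule X'))) :
    LocallyOfFinitePresentation g := by
  have hQ : RingHom.StableUnderCompositionWithLocalizationAwaySource
      @RingHom.FinitePresentation := by
    intro R S T _ _ _ _ r _ f hf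
    exact RingHom.finitePresentation_stableUnderComposition _ _
      (RingHom.finitePresentation_holdsForLocalizationAway S r) hf
  rw [HasRingHomProperty.iff_exists_appLE (P := @LocallyOfFinitePresentation) hQ]
  intro x'
  obtain ⟨V, hV, hxV, hfr, hfin⟩ := exists_affine_free g hfree (g.base x')
  refine ⟨⟨V, hV⟩, ⟨g ⁻¹ᵁ V, hV.preimage g⟩, hxV, le_rfl, ?_⟩
  rw [← Scheme.Hom.app_eq_appLE]
  letI := (g.app V).hom.toAlgebra
  change Algebra.FinitePresentation Γ(X, V) Γ(X', g ⁻¹ᵁ V)
  haveI : Module.FinitePresentation Γ(X, V) Γ(X', g ⁻¹ᵁ V) :=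
    Module.finitePresentation_of_projective _ _
  infer_instance

/-- a finite locally free surjective morphism to a quasi-compact scheme has a norm. -/
theorem exists_hasNorm (g : X' ⟶ X) [IsFinite g] [Flat g] [LocallyOfFinitePresentation g]
    [Surjective g] [CompactSpace X] : ∃ D : ℕ, Nrm.HasNorm g D := by
  classical
  have hlc : IsLocallyConstant g.finrank := Scheme.Hom.isLocallyConstant_finrank g
  have hfin : (Set.range g.finrank).Finite := hlc.range_finite
  have hpos : ∀ y, 1 ≤ g.finrank y := fun y =>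
    (Scheme.Hom.one_le_finrank_iff_surjective g).mpr inferInstance y
  refine ⟨∏ v ∈ hfin.toFinset, v, ?_⟩
  refine Groth.Agent.Lib.Helper45.NormFree.hasNorm_of_dvd g _ ?_ (fun y => ?_)
  · refine Nat.one_le_iff_ne_zero.mpr (Finset.prod_ne_zero_iff.mpr ?_)
    intro v hv
    obtain ⟨y, rfl⟩ := hfin.mem_toFinset.mp hv
    have := hpos y
    omega
  · exact Finset.dvd_prod_of_mem _ (hfin.mem_toFinset.mpr ⟨y, rfl⟩)

/-- **EGA II 6.6.2, absolute form**: `g : X' ⟶ X` finite locally free and surjective, `X`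
quasi-compact, `L` invertible on `X` with `g^* L` ample ⟹ `L` ample. -/
theorem isAmple_of_isAmple_pullback (g : X' ⟶ X) [IsFinite g] [Flat g]
    [LocallyOfFinitePresentation g] [Surjective g] [CompactSpace X] (L : X.Modules)
    (hL : PicF.IsInvertible L) (hA : CohB1.IsAmple ((Scheme.Modules.pullback g).obj L)) :
    CohB1.IsAmple L := by
  obtain ⟨D, ⟨Nm⟩⟩ := exists_hasNorm g
  exact Groth.Agent.Lib.Helper62.AmpleNorm.isAmple_of_isAmple_pullback_of_norm g Nm L hL hA

end Groth.Agent.Lib.Helper62.AmpleNormB
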