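import Mathlib
import Groth.Prelude.Def_Fitting
import Groth.Agent.Lib.Helper62.NormSec

/-!
# Norm-compatible local frames and the norm of sections (helper62)

Let `g : X' ⟶ X` carry a norm `Nm` of degree `D`, let `L'` be an `O_{X'}`-module and `𝒩` an
`O_X`-module.  A system of *norm-compatible frames* `Frames g Nm L' 𝒩 ι` is a family of opens
`V i` covering `X`, bases `t i` of `L'` over `g⁻¹ (V i)` and bases `e i` of `𝒩` over `V i`, such that
whenever `t i = a · t j` on `g⁻¹ (V i ∩ V j)` one has `e i = Nm(a) · e j` on `V i ∩ V j`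
(i.e. `𝒩` is "the norm of `L'`").

For such a system every global section `s'` of `L'` has a norm `normSec s'`, a global section of
`𝒩`, with `g⁻¹ (X_{N s'}) ⊆ X'_{s'}` and `x ∈ X_{N s'}` as soon as the fibre over `x` lies in
`X'_{s'}` (for `g` closed).  Frames pass to tensor powers (`Frames.pow`).
-/

set_option autoImplicit false
set_option linter.style.haveILetI false
universe u
open AlgebraicGeometry CategoryTheory Limits TopologicalSpace Opposite

namespace Groth.Agent.Lib.Helper62.NormPair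

open Groth.Agent.Lib.Helper11 Groth.Agent.Lib.Helper45 Groth.Agent.Lib.Helper49
open Groth.Agent.Lib.Helper11.GenLocus Groth.Agent.Lib.Helper62.NormSec

variable {X X' : Scheme.{u}} (g : X' ⟶ X) {D : ℕ} (Nm : Nrm.NormOfDegree g D)
  (L' : X'.Modules) (𝒩 : X.Modules)

/-- norm-compatible local frames of `L'` (on preimages) and of `𝒩`. -/
structure Frames (ι : Type u) where
  V : ι → X.Opens
  t : ∀ i, Γ(L', g ⁻¹ᵁ V i)
  e : ∀ i, Γ(𝒩, V i)
  ht : ∀ i, IsBasisOn L' (g ⁻¹ᵁ V i) (t i)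
  he : ∀ i, IsBasisOn 𝒩 (V i) (e i)
  cover : ∀ x : X, ∃ i, x ∈ V i
  compat : ∀ (i j : ι) (a : Γ(X', g ⁻¹ᵁ (V i ⊓ V j))),
    mres L' (preimage_mono' g (inf_le_left : V i ⊓ V j ≤ V i)) (t i) =
      a • mres L' (preimage_mono' g (inf_le_right : V i ⊓ V j ≤ V j)) (t j) →
    mres 𝒩 (inf_le_left : V i ⊓ V j ≤ V i) (e i) =
      Nm.norm (V i ⊓ V j) a • mres 𝒩 (inf_le_right : V i ⊓ V j ≤ V j) (e j)

variable {g Nm L' 𝒩} {ι : Type u} (F : Frames g Nm L' 𝒩 ι)

namespace Frames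

/-- compatibility on any open inside `V i ∩ V j`. -/
theorem compat' (i j : ι) {W : X.Opens} (hi : W ≤ F.V i) (hj : W ≤ F.V j)
    (a : Γ(X', g ⁻¹ᵁ W))
    (h : mres L' (preimage_mono' g hi) (F.t i) = a • mres L' (preimage_mono' g hj) (F.t j)) :
    mres 𝒩 hi (F.e i) = Nm.norm W a • mres 𝒩 hj (F.e j) := by
  obtain ⟨a₀, ha₀⟩ := ((F.ht j).mono
    (preimage_mono' g (inf_le_right : F.V i ⊓ F.V j ≤ F.V j))).exists_eq_smul
    (mres L' (preimage_mono' g (inf_le_left : F.V i ⊓ F.V j ≤ F.V i)) (F.t i))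
  have hW : W ≤ F.V i ⊓ F.V j := le_inf hi hj
  have h1 := F.compat i j a₀ ha₀.symm
  have h2 := congrArg (mres L' (preimage_mono' g hW)) ha₀
  rw [mres_smul, mres_mres, mres_mres] at h2
  have h3 : a = fres (preimage_mono' g hW) a₀ :=
    ((F.ht j).mono (preimage_mono' g hj)).eq_of_smul_eq (h.symm.trans h2.symm)
  have h4 := congrArg (mres 𝒩 hW) h1
  rw [mres_smul, mres_mres, mres_mres, norm_fres] at h4
  rw [h3]
  exact h4

variable (s' : Coh.structureModule X' ⟶ L')

/-- the coefficient of `s'` with respect to `t i`. -/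
noncomputable def coef (i : ι) : Γ(X', g ⁻¹ᵁ F.V i) :=
  Classical.choose ((F.ht i).exists_eq_smul (sec s' (g ⁻¹ᵁ F.V i)))

theorem coef_spec (i : ι) : F.coef s' i • F.t i = sec s' (g ⁻¹ᵁ F.V i) :=
  Classical.choose_spec ((F.ht i).exists_eq_smul (sec s' (g ⁻¹ᵁ F.V i)))

/-- the local norm section. -/
noncomputable def locN (i : ι) : Γ(𝒩, F.V i) := Nm.norm (F.V i) (F.coef s' i) • F.e i

theorem locN_compat (i j : ι) :
    mres 𝒩 (inf_le_left : F.V i ⊓ F.V j ≤ F.V i) (F.locN s' i) =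
      mres 𝒩 (inf_le_right : F.V i ⊓ F.V j ≤ F.V j) (F.locN s' j) := by
  have hi : F.V i ⊓ F.V j ≤ F.V i := inf_le_left
  have hj : F.V i ⊓ F.V j ≤ F.V j := inf_le_right
  obtain ⟨a, ha⟩ := ((F.ht j).mono (preimage_mono' g hj)).exists_eq_smul
    (mres L' (preimage_mono' g hi) (F.t i))
  have he := F.compat i j a ha.symm
  -- relation between the coefficients
  have h1 := congrArg (mres L' (preimage_mono' g hi)) (F.coef_spec s' i)
  have h2 := congrArg (mres L' (preimage_mono' g hj)) (F.coef_spec s' j)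
  rw [mres_smul, sec_mres] at h1 h2
  rw [← ha, ← mul_smul] at h1
  have h3 : fres (preimage_mono' g hj) (F.coef s' j) =
      fres (preimage_mono' g hi) (F.coef s' i) * a :=
    ((F.ht j).mono (preimage_mono' g hj)).eq_of_smul_eq (h2.trans h1.symm)
  rw [locN, locN, mres_smul, mres_smul, norm_fres, norm_fres, h3, map_mul, he, mul_smul]

theorem exists_glue : ∃ T : Γ(𝒩, ⊤), ∀ i, mres 𝒩 (le_top : F.V i ≤ ⊤) T = F.locN s' i := by
  have hcov : (⊤ : X.Opens) ≤ iSup F.V := by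
    intro x _
    obtain ⟨i, hi⟩ := F.cover x
    exact Opens.mem_iSup.mpr ⟨i, hi⟩
  obtain ⟨T, hT, -⟩ := TopCat.Sheaf.existsUnique_gluing'
    ⟨𝒩.presheaf, 𝒩.isSheaf⟩ F.V ⊤
    (fun i => homOfLE le_top) hcov (fun i => F.locN s' i) (by
      intro i j
      change mres 𝒩 inf_le_left (F.locN s' i) = mres 𝒩 inf_le_right (F.locN s' j)
      exact F.locN_compat s' i j)
  exact ⟨T, fun i => hT i⟩

/-- the norm of a global section of `L'`, a global section of `𝒩`. -/
noncomputable def normSec : Coh.structureModule X ⟶ 𝒩 :=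
  homOfSection _ (Classical.choose (F.exists_glue s'))

theorem sec_normSec (i : ι) :
    sec (F.normSec s') (F.V i) = Nm.norm (F.V i) (F.coef s' i) • F.e i := by
  rw [normSec, sec_homOfSection]
  exact Classical.choose_spec (F.exists_glue s') i

/-- `g⁻¹(X_{N s'}) ⊆ X'_{s'}`. -/
theorem preimage_genLocus_normSec_le :
    g ⁻¹ᵁ (CohB1.genLocus _ (F.normSec s')) ≤ CohB1.genLocus _ s' := by
  intro x' hx'
  obtain ⟨i, hxU⟩ := F.cover (g.base x')
  have h1 := genLocus_inf_le_basicOpen (F.normSec s') (F.e i) (F.he i) _ (F.sec_normSec s' i)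
  have h2 : g.base x' ∈ X.basicOpen (Nm.norm (F.V i) (F.coef s' i)) := h1 ⟨hx', hxU⟩
  have h3 : x' ∈ X'.basicOpen (F.coef s' i) := by
    by_contra hcon
    have hmem : X'.presheaf.germ (g ⁻¹ᵁ F.V i) x' hxU (F.coef s' i) ∈
        IsLocalRing.maximalIdeal (X'.presheaf.stalk x') := by
      rw [IsLocalRing.mem_maximalIdeal, mem_nonunits_iff]
      intro hu
      exact hcon ((X'.mem_basicOpen _ _ hxU).mpr hu)
    have h4 := Nm.norm_mem (F.V i) (F.coef s' i) x' hxU hmem
    rw [IsLocalRing.mem_maximalIdeal, mem_nonunits_iff] at h4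
    exact h4 ((X.mem_basicOpen _ _ hxU).mp h2)
  exact basicOpen_le_genLocus s' (F.t i) (F.ht i) _ (F.coef_spec s' i).symm h3

/-- if the whole fibre of `g` over `x` lies in `X'_{s'}` (and `g` is closed), then
`x ∈ X_{N s'}`. -/
theorem mem_genLocus_normSec (hg : IsClosedMap g.base) (x : X)
    (hx : g.base ⁻¹' {x} ⊆ (CohB1.genLocus _ s' : Set X')) :
    x ∈ CohB1.genLocus _ (F.normSec s') := by
  obtain ⟨i, hxU⟩ := F.cover x
  have hcl : IsClosed (g.base '' ((CohB1.genLocus _ s' : Set X')ᶜ)) :=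
    hg _ (CohB1.genLocus _ s').2.isClosed_compl
  let V₀ : X.Opens := ⟨(g.base '' ((CohB1.genLocus _ s' : Set X')ᶜ))ᶜ, hcl.isOpen_compl⟩
  have hxV₀ : x ∈ V₀ := by
    rintro ⟨x', hx', hx'x⟩
    exact hx' (hx hx'x)
  let V : X.Opens := F.V i ⊓ V₀
  have hVU : V ≤ F.V i := inf_le_left
  have hpre : g ⁻¹ᵁ V ≤ CohB1.genLocus _ s' ⊓ g ⁻¹ᵁ F.V i := by
    intro x' hx'
    refine ⟨?_, hx'.1⟩
    by_contra hcon
    exact hx'.2 ⟨x', hcon, rfl⟩
  have h1 := genLocus_inf_le_basicOpen s' (F.t i) (F.ht i) _ (F.coef_spec s' i).symm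
  have hle : g ⁻¹ᵁ V ≤ X'.basicOpen (F.coef s' i) := hpre.trans h1
  have hunit : IsUnit (fres (preimage_mono' g hVU) (F.coef s' i)) :=
    isUnit_res_of_le_basicOpen _ hle
  have hunit2 : IsUnit (fres hVU (Nm.norm (F.V i) (F.coef s' i))) := by
    rw [norm_fres]
    exact hunit.map (Nm.norm V)
  have hVb : V ≤ X.basicOpen (Nm.norm (F.V i) (F.coef s' i)) :=
    le_basicOpen_of_isUnit_res _ hVU hunit2
  exact basicOpen_le_genLocus (F.normSec s') (F.e i) (F.he i) _
    (F.sec_normSec s' i) (hVb ⟨hxU, hxV₀⟩)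

/-- frames for the tensor powers. -/
noncomputable def pow (k : ℕ) :
    Frames g Nm (CohB1.tensorPow L' k) (CohB1.tensorPow 𝒩 k) ι where
  V := F.V
  t i := powSec L' (g ⁻¹ᵁ F.V i) (F.t i) k
  e i := powSec 𝒩 (F.V i) (F.e i) k
  ht i := isBasisOn_powSec (F.ht i) k
  he i := isBasisOn_powSec (F.he i) k
  cover := F.cover
  compat i j a h := by
    have hi : F.V i ⊓ F.V j ≤ F.V i := inf_le_left
    have hj : F.V i ⊓ F.V j ≤ F.V j := inf_le_right
    obtain ⟨a₀, ha₀⟩ := ((F.ht j).mono (preimage_mono' g hj)).exists_eq_smul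
      (mres L' (preimage_mono' g hi) (F.t i))
    have he := F.compat i j a₀ ha₀.symm
    rw [powSec_res, powSec_res, ← ha₀, powSec_smul] at h
    have h3 : a = a₀ ^ k :=
      ((isBasisOn_powSec ((F.ht j).mono (preimage_mono' g hj)) k).eq_of_smul_eq h).symm
    rw [powSec_res, powSec_res, he, powSec_smul, h3, map_pow]

end Frames

end Groth.Agent.Lib.Helper62.NormPair
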