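import Mathlib
import Groth.Agent.Lib.Helper62.NormPair
import Groth.Agent.Lib.Helper20.CocycleMod

/-!
# The norm of an invertible module along a morphism with a norm (helper62)

Let `g : X' ⟶ X` carry a norm `Nm` of degree `D`, and let `L'` be an `O_{X'}`-module which has bases
`t i` over the preimages `g⁻¹ (V i)` of an open cover `V` of `X`.  With the transition functions
`t i = α i j · t j` on `g⁻¹ (V i ∩ V j)`, the functions `η i j = Nm (α i j)` form a cocycle of units,
and `normMod` is the invertible `O_X`-module it defines (via `Helper20.CocycleMod`).  It comes with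
norm-compatible frames `frames : Frames g Nm L' normMod ι` in the sense of `NormPair`.
-/

set_option autoImplicit false
set_option linter.style.haveILetI false
universe u
open AlgebraicGeometry CategoryTheory Limits TopologicalSpace Opposite

noncomputable section

namespace Groth.Agent.Lib.Helper62.NormMod

open Groth.Agent.Lib.Helper11 Groth.Agent.Lib.Helper45 Groth.Agent.Lib.Helper49
open Groth.Agent.Lib.Helper11.GenLocus Groth.Agent.Lib.Helper62.NormSec
open Groth.Agent.Lib.Helper62.NormPair Groth.Agent.Lib.Helper20.CocycleMod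

variable {X X' : Scheme.{u}} (g : X' ⟶ X) {D : ℕ} (Nm : Nrm.NormOfDegree g D)
  (L' : X'.Modules) {ι : Type u} (V : ι → X.Opens) (t : ∀ i, Γ(L', g ⁻¹ᵁ V i))
  (ht : ∀ i, IsBasisOn L' (g ⁻¹ᵁ V i) (t i))

include ht in
theorem exists_alpha (i j : ι) : ∃ a : Γ(X', g ⁻¹ᵁ (V i ⊓ V j)),
    mres L' (preimage_mono' g (inf_le_left : V i ⊓ V j ≤ V i)) (t i) =
      a • mres L' (preimage_mono' g (inf_le_right : V i ⊓ V j ≤ V j)) (t j) := by
  obtain ⟨a, ha⟩ := ((ht j).mono (preimage_mono' g (inf_le_right : V i ⊓ V j ≤ V j))).exists_eq_smul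
    (mres L' (preimage_mono' g (inf_le_left : V i ⊓ V j ≤ V i)) (t i))
  exact ⟨a, ha.symm⟩

/-- the transition functions of the frames `t`. -/
def alpha (i j : ι) : Γ(X', g ⁻¹ᵁ (V i ⊓ V j)) := (exists_alpha g L' V t ht i j).choose

theorem alpha_spec (i j : ι) :
    mres L' (preimage_mono' g (inf_le_left : V i ⊓ V j ≤ V i)) (t i) =
      alpha g L' V t ht i j • mres L' (preimage_mono' g (inf_le_right : V i ⊓ V j ≤ V j)) (t j) :=
  (exists_alpha g L' V t ht i j).choose_spec

theorem alpha_spec' (i j : ι) {W : X.Opens} (hi : W ≤ V i) (hj : W ≤ V j) :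
    mres L' (preimage_mono' g hi) (t i) =
      fres (preimage_mono' g (le_inf hi hj)) (alpha g L' V t ht i j) •
        mres L' (preimage_mono' g hj) (t j) := by
  have := congrArg (mres L' (preimage_mono' g (le_inf hi hj))) (alpha_spec g L' V t ht i j)
  rw [mres_smul, mres_mres, mres_mres] at this
  exact this

theorem alpha_unique (i j : ι) {W : X.Opens} (hi : W ≤ V i) (hj : W ≤ V j) (a : Γ(X', g ⁻¹ᵁ W))
    (h : mres L' (preimage_mono' g hi) (t i) = a • mres L' (preimage_mono' g hj) (t j)) :
    a = fres (preimage_mono' g (le_inf hi hj)) (alpha g L' V t ht i j) :=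
  ((ht j).mono (preimage_mono' g hj)).eq_of_smul_eq
    (h.symm.trans (alpha_spec' g L' V t ht i j hi hj))

theorem alpha_cocycle (i j k : ι) :
    fres (preimage_mono' g (inf_le_inf_right (V k) inf_le_left : V i ⊓ V j ⊓ V k ≤ V i ⊓ V k))
        (alpha g L' V t ht i k) =
      fres (preimage_mono' g (inf_le_left : V i ⊓ V j ⊓ V k ≤ V i ⊓ V j)) (alpha g L' V t ht i j) *
        fres (preimage_mono' g (inf_le_inf_right (V k) inf_le_right : V i ⊓ V j ⊓ V k ≤ V j ⊓ V k))
          (alpha g L' V t ht j k) := by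
  have hi : V i ⊓ V j ⊓ V k ≤ V i := inf_le_left.trans inf_le_left
  have hj : V i ⊓ V j ⊓ V k ≤ V j := inf_le_left.trans inf_le_right
  have hk : V i ⊓ V j ⊓ V k ≤ V k := inf_le_right
  have h1 := alpha_spec' g L' V t ht i j hi hj
  have h2 := alpha_spec' g L' V t ht j k hj hk
  rw [h2, ← mul_smul] at h1
  exact (alpha_unique g L' V t ht i k hi hk _ h1).symm

theorem alpha_isUnit (i j : ι) : IsUnit (alpha g L' V t ht i j) :=
  isUnit_of_isBasisOn_smul
    ((ht j).mono (preimage_mono' g (inf_le_right : V i ⊓ V j ≤ V j))) _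
    (alpha_spec g L' V t ht i j ▸
      (ht i).mono (preimage_mono' g (inf_le_left : V i ⊓ V j ≤ V i)))

/-- the cocycle defining the norm module. -/
def eta (i j : ι) : Γ(X, V i ⊓ V j) := Nm.norm (V i ⊓ V j) (alpha g L' V t ht i j)

theorem eta_cocycle (i j k : ι) :
    fres (inf_le_inf_right (V k) inf_le_left : V i ⊓ V j ⊓ V k ≤ V i ⊓ V k)
        (eta g Nm L' V t ht i k) =
      fres (inf_le_left : V i ⊓ V j ⊓ V k ≤ V i ⊓ V j) (eta g Nm L' V t ht i j) *
        fres (inf_le_inf_right (V k) inf_le_right : V i ⊓ V j ⊓ V k ≤ V j ⊓ V k)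
          (eta g Nm L' V t ht j k) := by
  rw [eta, eta, eta, norm_fres, norm_fres, norm_fres, alpha_cocycle, map_mul]

theorem eta_isUnit (i j : ι) : IsUnit (eta g Nm L' V t ht i j) :=
  (alpha_isUnit g L' V t ht i j).map (Nm.norm (V i ⊓ V j))

/-- the norm of `L'` (with respect to the frames `t`). -/
def normMod : X.Modules := cocycleMod V (eta g Nm L' V t ht)

theorem isInvertible_normMod (hV : ∀ x : X, ∃ i, x ∈ V i) :
    PicF.IsInvertible (normMod g Nm L' V t ht) :=
  isInvertible_cocycleMod V _ (eta_cocycle g Nm L' V t ht) (eta_isUnit g Nm L' V t ht)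
    (eq_top_iff.mpr fun x _ => by
      obtain ⟨i, hi⟩ := hV x
      exact Opens.mem_iSup.mpr ⟨i, hi⟩)

/-- the canonical norm-compatible frames. -/
def frames (hV : ∀ x : X, ∃ i, x ∈ V i) : Frames g Nm L' (normMod g Nm L' V t ht) ι where
  V := V
  t := t
  e i := basisSec V _ (eta_cocycle g Nm L' V t ht) i
  ht := ht
  he i := isBasisOn_basisSec V _ (eta_cocycle g Nm L' V t ht) (eta_isUnit g Nm L' V t ht) i
  cover := hV
  compat i j a h := by
    have h1 := alpha_unique g L' V t ht i j inf_le_left inf_le_right a h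
    rw [Groth.Agent.Lib.Helper20.CocycleMod.fres_self'] at h1
    rw [h1]
    exact basisSec_transition V _ (eta_cocycle g Nm L' V t ht) i j

end Groth.Agent.Lib.Helper62.NormMod
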