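import Mathlib
import Groth.Agent.Lib.Helper62.NormMod
import Groth.Agent.Lib.Helper62.AmpleNorm

/-!
# The norm of an ample invertible module is ample (helper62)

* `surjective_of_norm` : a closed morphism carrying a norm (of degree `≥ 1`) is surjective.
* `isAmple_of_frames` : if `L'` on `X'` and `𝒩` on `X` have norm-compatible frames, `g` is finite
  surjective and `L'` is ample, then `𝒩` is ample.
* `exists_frames_of_isAmple` : for `g` finite and `L'` ample, some power `L'^{⊗ (n+1)}` has bases over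
  the preimages of an open cover of `X`.
* `exists_isAmple_of_finite_norm` : `g : X' ⟶ X` finite with a norm, `X'` with an ample invertible
  module ⟹ `X` has an ample invertible module (Stacks 0BCY, existence form).
-/

set_option autoImplicit false
set_option linter.style.haveILetI false
universe u
open AlgebraicGeometry CategoryTheory Limits TopologicalSpace Opposite

namespace Groth.Agent.Lib.Helper62.AmpleNormC

open Groth.Agent.Lib.Helper11 Groth.Agent.Lib.Helper45 Groth.Agent.Lib.Helper49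
open Groth.Agent.Lib.Helper11.GenLocus Groth.Agent.Lib.Helper62.NormSec
open Groth.Agent.Lib.Helper62.NormPair Groth.Agent.Lib.Helper62.NormMod
open Groth.Agent.Lib.Helper62.AmpleNorm

variable {X X' : Scheme.{u}}

/-- a closed morphism carrying a norm is surjective. -/
theorem surjective_of_norm (g : X' ⟶ X) (hg : IsClosedMap g.base) {D : ℕ}
    (Nm : Nrm.NormOfDegree g D) : Function.Surjective g.base := by
  intro y
  by_contra hy
  have hcl : IsClosed (Set.range g.base) := hg.isClosed_range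
  let U : X.Opens := ⟨(Set.range g.base)ᶜ, hcl.isOpen_compl⟩
  have hyU : y ∈ U := fun ⟨x', hx'⟩ => hy ⟨x', hx'⟩
  have hpre : g ⁻¹ᵁ U = ⊥ := by
    ext x'
    constructor
    · intro hx'
      exact (hx' ⟨x', rfl⟩).elim
    · intro hx'
      exact hx'.elim
  have hsub : Subsingleton Γ(X', g ⁻¹ᵁ U) := by
    rw [hpre]
    infer_instance
  have h1 : Nm.norm U (g.app U (0 : Γ(X, U))) = 0 := by
    rw [Nm.norm_app, zero_pow]
    have := Nm.one_le
    omega
  have h2 : (g.app U (0 : Γ(X, U))) = 1 := Subsingleton.elim _ _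
  rw [h2, map_one] at h1
  have h3 : X.basicOpen (1 : Γ(X, U)) = U := X.basicOpen_of_isUnit isUnit_one
  rw [h1, X.basicOpen_zero] at h3
  rw [← h3] at hyU
  exact hyU.elim

/-- **The norm of an ample module is ample**, in terms of norm-compatible frames. -/
theorem isAmple_of_frames (g : X' ⟶ X) [IsFinite g] [Surjective g] {D : ℕ}
    (Nm : Nrm.NormOfDegree g D) [CompactSpace X] (L' : X'.Modules) (𝒩 : X.Modules)
    (h𝒩 : PicF.IsInvertible 𝒩) {ι : Type u} (F : Frames g Nm L' 𝒩 ι)
    (hA : CohB1.IsAmple L') : CohB1.IsAmple 𝒩 := by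
  refine ⟨h𝒩, inferInstance, fun x => ?_⟩
  obtain ⟨_, ⟨V, hV, rfl⟩, hxV, -⟩ := X.isBasis_affineOpens.exists_subset_of_mem_open
    (Set.mem_univ x) isOpen_univ
  have hcX' : CompactSpace X' := hA.2.1
  have hF : (g.base ⁻¹' {x}).Finite := g.finite_preimage_singleton x
  obtain ⟨N, σ, hFσ, hσV⟩ := exists_genLocus_of_finite_le hA (g ⁻¹ᵁ V) (g.base ⁻¹' {x}) hF
    (fun x' hx' => by
      have hx'' : g.base x' = x := hx'
      change g.base x' ∈ V
      rw [hx'']
      exact hxV)
  let t : Coh.structureModule X ⟶ CohB1.tensorPow 𝒩 (N + 1) := (F.pow (N + 1)).normSec σ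
  have hxt : x ∈ CohB1.genLocus _ t :=
    (F.pow (N + 1)).mem_genLocus_normSec σ g.isClosedMap x hFσ
  have htV : CohB1.genLocus _ t ≤ V := by
    intro y hy
    obtain ⟨x', rfl⟩ := Surjective.surj (f := g) y
    exact hσV ((F.pow (N + 1)).preimage_genLocus_normSec_le σ hy)
  exact ⟨N, t, hxt, isAffineOpen_genLocus_of_le (isInvertible_tensorPow h𝒩 (N + 1)) _ hV htV⟩

/-- for `g` finite and `L'` ample on the source, a uniform positive power of `L'` has bases over the
preimages of the members of an open cover of the target. -/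
theorem exists_frames_of_isAmple (g : X' ⟶ X) [IsFinite g] [CompactSpace X] {L' : X'.Modules}
    (hA : CohB1.IsAmple L') :
    ∃ (n : ℕ) (ι : Type u) (V : ι → X.Opens)
      (t : ∀ i, Γ(CohB1.tensorPow L' (n + 1), g ⁻¹ᵁ V i)),
      (∀ i, IsBasisOn (CohB1.tensorPow L' (n + 1)) (g ⁻¹ᵁ V i) (t i)) ∧ ∀ x : X, ∃ i, x ∈ V i := by
  classical
  have hcX' : CompactSpace X' := hA.2.1
  have hloc : ∀ x : X, ∃ (m : ℕ) (σ : Coh.structureModule X' ⟶ CohB1.tensorPow L' (m + 1))
      (V : X.Opens), x ∈ V ∧ g ⁻¹ᵁ V ≤ CohB1.genLocus _ σ := by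
    intro x
    obtain ⟨m, σ, hσ⟩ := exists_section_of_finite hA (g.base ⁻¹' {x}) (g.finite_preimage_singleton x)
    have hcl : IsClosed (g.base '' ((CohB1.genLocus _ σ : Set X')ᶜ)) :=
      g.isClosedMap _ (CohB1.genLocus _ σ).2.isClosed_compl
    refine ⟨m, σ, ⟨(g.base '' ((CohB1.genLocus _ σ : Set X')ᶜ))ᶜ, hcl.isOpen_compl⟩, ?_, ?_⟩
    · rintro ⟨x', hx', hx'x⟩
      exact hx' (hσ hx'x)
    · intro x' hx'
      by_contra hcon
      exact hx' ⟨x', hcon, rfl⟩
  choose m σ V hxV hVσ using hloc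
  obtain ⟨T, hT⟩ := isCompact_univ.elim_finite_subcover (fun x => (V x : Set X))
    (fun x => (V x).2) (fun x _ => Set.mem_iUnion.mpr ⟨x, hxV x⟩)
  have hpos : 0 < ∏ x ∈ T, (m x + 1) := Finset.prod_pos fun x _ => Nat.succ_pos _
  obtain ⟨n, hn⟩ : ∃ n, ∏ x ∈ T, (m x + 1) = n + 1 := Nat.exists_eq_succ_of_ne_zero hpos.ne'
  -- sections of the uniform power
  have hsec : ∀ x ∈ T, ∃ σ' : Coh.structureModule X' ⟶ CohB1.tensorPow L' (n + 1),
      CohB1.genLocus _ σ' = CohB1.genLocus _ (σ x) := by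
    intro x hx
    obtain ⟨b, hb⟩ : (m x + 1) ∣ n + 1 := hn ▸ Finset.dvd_prod_of_mem (fun x => m x + 1) hx
    obtain ⟨c, rfl⟩ : ∃ c, b = c + 1 := by
      refine Nat.exists_eq_succ_of_ne_zero ?_
      rintro rfl
      simp at hb
    let ε : CohB1.tensorPow (CohB1.tensorPow L' (m x + 1)) (c + 1) ≅ CohB1.tensorPow L' (n + 1) :=
      tensorPowMul L' (m x + 1) (c + 1) ≪≫ eqToIso (congrArg (CohB1.tensorPow L') hb.symm)
    refine ⟨SecTwist.powHom (σ x) (c + 1) ≫ ε.hom, ?_⟩
    rw [genLocus_comp_iso, genLocus_powHom (isInvertible_tensorPow hA.1 (m x + 1))]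
  choose σ' hσ' using hsec
  refine ⟨n, {x // x ∈ T}, fun i => V i.1,
    fun i => sec (σ' i.1 i.2) (g ⁻¹ᵁ V i.1), fun i => ?_, fun x => ?_⟩
  · rw [← le_genLocus_iff_isBasisOn, hσ' i.1 i.2]
    exact hVσ i.1
  · have hx := hT (Set.mem_univ x)
    simp only [Set.mem_iUnion] at hx
    obtain ⟨y, hy, hxy⟩ := hx
    exact ⟨⟨y, hy⟩, hxy⟩

/-- **Stacks 0BCY (existence form)**: if `g : X' ⟶ X` is finite and carries a norm, and `X'` has an
ample invertible module, then so does `X`. -/
theorem exists_isAmple_of_finite_norm (g : X' ⟶ X) [IsFinite g] {D : ℕ}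
    (Nm : Nrm.NormOfDegree g D) (L' : X'.Modules) (hA : CohB1.IsAmple L') :
    ∃ N : X.Modules, CohB1.IsAmple N := by
  have hsurj : Surjective g := ⟨surjective_of_norm g g.isClosedMap Nm⟩
  have hcX' : CompactSpace X' := hA.2.1
  have hcX : CompactSpace X := by
    constructor
    have h1 : IsCompact (Set.range g.base) := isCompact_range g.continuous
    rwa [(surjective_of_norm g g.isClosedMap Nm).range_eq] at h1
  obtain ⟨n, ι, V, t, ht, hV⟩ := exists_frames_of_isAmple g hA
  have hM : CohB1.IsAmple (CohB1.tensorPow L' (n + 1)) :=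
    (Groth.Agent.S2327.main_S2327 _ _ hA.1 (n + 1) (Nat.succ_pos n)).mp hA
  exact ⟨normMod g Nm (CohB1.tensorPow L' (n + 1)) V t ht,
    isAmple_of_frames g Nm _ _ (isInvertible_normMod g Nm _ V t ht hV)
      (frames g Nm _ V t ht hV) hM⟩

end Groth.Agent.Lib.Helper62.AmpleNormC
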