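import Groth.Agent.Lib.Helper97.ZeroScheme
import Groth.Agent.Lib.Helper11.TensorMap
import Groth.Agent.Lib.Helper11.AmpleBasis
import Groth.Agent.Lib.Helper11.GenLocusBasis
import Groth.Agent.Lib.Helper11.TensorBasis
import Groth.Agent.Lib.Helper17.HZero
import Groth.Agent.Lib.Helper49.StalkNbhd
import Groth.Prelude.Def_Curv2

/-!
# Nonzero sections of invertible modules on integral schemes (helper62)

* `mono_of_ne_zero`: on an integral scheme a nonzero section `O ⟶ M` of an invertible module is mono.
* `exists_mul_ne_zero`: product of nonzero sections of invertible modules is nonzero.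
* `exists_ne_zero_of_globallyGenerated`: a globally generated invertible module on a nonempty scheme
  has a nonzero section.
* `exists_pow_ne_zero_of`: semigroup argument.
-/

set_option autoImplicit false
set_option linter.style.haveILetI false
universe u
open CategoryTheory CategoryTheory.Limits AlgebraicGeometry TopologicalSpace Opposite
open Groth.Agent.Lib.Helper45 Groth.Agent.Lib.Helper49 Groth.Agent.Lib.Helper11.GenLocus
open Groth.Agent.Lib.Helper11.TensorMap
open Groth.Agent.Lib.Helper97.ZeroScheme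

namespace Groth.Agent.Lib.Helper62.BigSections

variable {X : Scheme.{u}}

/-- on an integral scheme, a nonzero section of an invertible module is a monomorphism. -/
theorem mono_of_ne_zero [IsIntegral X] {M : X.Modules} (hM : PicF.IsInvertible M)
    (s : Coh.structureModule X ⟶ M) (hs : s ≠ 0) : Mono s := by
  apply mono_of_app_injective
  intro U r r' hrr
  apply TopCat.Presheaf.section_ext
    ⟨(Coh.structureModule X).presheaf, (Coh.structureModule X).isSheaf⟩
  intro x hx
  have hne : (U : Set X).Nonempty := ⟨x, hx⟩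
  have h1 : (s.app U).hom (toO U (ofO U r)) = (s.app U).hom (toO U (ofO U r')) := hrr
  rw [app_eq_smul_sec, app_eq_smul_sec] at h1
  have h2 : (ofO U r - ofO U r') • sv M s U = 0 := by
    rw [sub_smul, sub_eq_zero]
    exact h1
  have h3 := eq_zero_of_smul_sv hM hs hne _ h2
  have h4 : r = r' := sub_eq_zero.mp h3
  rw [h4]

/-- product of nonzero sections of invertible modules on an integral scheme is nonzero. -/
theorem exists_mul_ne_zero [IsIntegral X] {M N : X.Modules} (hM : PicF.IsInvertible M)
    (hN : PicF.IsInvertible N) (s : Coh.structureModule X ⟶ M) (hs : s ≠ 0)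
    (t : Coh.structureModule X ⟶ N) (ht : t ≠ 0) :
    ∃ u : Coh.structureModule X ⟶ CohB1.tensorMod M N, u ≠ 0 := by
  haveI := mono_of_ne_zero hM s hs
  haveI := mono_tensorModMap s hN
  refine ⟨(t ≫ (unitTensorIso N).inv) ≫ tensorModMap s (𝟙 N), fun h => ht ?_⟩
  have h1 := zero_of_comp_mono _ h
  have h2 := congrArg (· ≫ (unitTensorIso N).hom) h1
  simpa using h2

/-- a globally generated invertible module on a nonempty scheme has a nonzero section. -/
theorem exists_ne_zero_of_globallyGenerated [Nonempty X] {F : X.Modules}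
    (hF : PicF.IsInvertible F) (hgg : Curv2.IsGloballyGenerated F) :
    ∃ s : Coh.structureModule X ⟶ F, s ≠ 0 := by
  by_contra hcon
  push Not at hcon
  obtain ⟨ι, p, hp⟩ := hgg
  let G : X.Modules := SheafOfModules.free ι
  let p' : G ⟶ F := p
  have hp' : Epi p' := hp
  have hp0 : p' = 0 := by
    apply (SheafOfModules.freeHomEquiv F).injective
    funext i
    apply F.unitHomEquiv.symm.injective
    exact (hcon _).trans (hcon _).symm
  have hz : IsZero F := IsZero.of_epi_eq_zero p' hp0
  obtain ⟨x⟩ := ‹Nonempty X›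
  obtain ⟨V, hxV, t, ht⟩ := exists_isBasisOn_of_isInvertible hF x
  have ht0 : t = 0 := by
    have h1 : (𝟙 F : F ⟶ F) = 0 := hz.eq_of_src _ _
    have h2 : ((𝟙 F : F ⟶ F).app V).hom t = ((0 : F ⟶ F).app V).hom t := by rw [h1]
    simpa using h2
  have h10 : (1 : Γ(X, V)) = 0 := ht.eq_of_smul_eq (by rw [ht0, smul_zero, smul_zero])
  haveI : Nonempty V := ⟨⟨x, hxV⟩⟩
  exact one_ne_zero h10

/-- a nonzero section gives a nontrivial `H⁰`. -/
theorem nontrivial_HH_zero_of_ne_zero {F : X.Modules} (s : Coh.structureModule X ⟶ F)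
    (hs : s ≠ 0) : Nontrivial (Coh.HH X F 0) := by
  have : Nontrivial Γ(F, ⊤) := by
    refine ⟨⟨sec s ⊤, 0, fun h => hs ?_⟩⟩
    apply eq_zero_of_sv
    intro W
    have h1 := sec_res s (le_top : W ≤ ⊤)
    change sec s W = 0
    rw [← h1, h, map_zero]
  exact (Groth.Agent.Lib.Helper17.HZero.hh0Equiv F).toEquiv.nontrivial

/-- numerical semigroup generated by `m` and `m + 1`. -/
theorem nat_semigroup (S : ℕ → Prop) (h0 : S 0) (hadd : ∀ a b, S a → S b → S (a + b)) (m : ℕ)
    (hm : 0 < m) (h1 : S m) (h2 : S (m + 1)) : ∀ k, m * m ≤ k → S k := by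
  have hmul : ∀ a n, S a → S (n * a) := by
    intro a n ha
    induction n with
    | zero => simpa using h0
    | succ n ih => rw [Nat.succ_mul]; exact hadd _ _ ih ha
  intro k hk
  have hq : m ≤ k / m := (Nat.le_div_iff_mul_le hm).mpr hk
  have hr : k % m < m := Nat.mod_lt k hm
  have hk' : k = (k / m - k % m) * m + (k % m) * (m + 1) := by
    have h3 : k / m - k % m + k % m = k / m := Nat.sub_add_cancel (by omega)
    calc k = m * (k / m) + k % m := (Nat.div_add_mod k m).symm
      _ = m * (k / m - k % m + k % m) + k % m := by rw [h3]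
      _ = _ := by ring
  rw [hk']
  exact hadd _ _ (hmul _ _ h1) (hmul _ _ h2)

/-- if `L^m` and `L^{m+1}` have nonzero sections (`m > 0`), so does `L^k` for all `k ≥ m²`. -/
theorem exists_pow_ne_zero_of [IsIntegral X] {L : X.Modules} (hL : PicF.IsInvertible L) (m : ℕ)
    (hm : 0 < m) (s : Coh.structureModule X ⟶ CohB1.tensorPow L m) (hs : s ≠ 0)
    (t : Coh.structureModule X ⟶ CohB1.tensorPow L (m + 1)) (ht : t ≠ 0) :
    ∀ k, m * m ≤ k → ∃ u : Coh.structureModule X ⟶ CohB1.tensorPow L k, u ≠ 0 := by
  apply nat_semigroup (fun k => ∃ u : Coh.structureModule X ⟶ CohB1.tensorPow L k, u ≠ 0) ?_ ?_ m hm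
    ⟨s, hs⟩ ⟨t, ht⟩
  · refine ⟨𝟙 _, fun h => hs ?_⟩
    have h3 : s = 𝟙 _ ≫ s := (Category.id_comp s).symm
    rw [h3, h]
    exact zero_comp
  · rintro a b ⟨u, hu⟩ ⟨v, hv⟩
    obtain ⟨w, hw⟩ := exists_mul_ne_zero (isInvertible_tensorPow hL a) (isInvertible_tensorPow hL b)
      u hu v hv
    refine ⟨w ≫ (tensorPowAdd L a b).inv, fun h => hw ?_⟩
    have h2 := congrArg (· ≫ (tensorPowAdd L a b).hom) h
    simpa using h2

end Groth.Agent.Lib.Helper62.BigSections
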