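import Mathlib

/-!
# Chevalley's lemma (general form) and symbolic powers (helper62)

The `Chevalley` section is copied verbatim from helper58's `Lib/Helper58/SchlAmbient.lean`
(to avoid importing its unrelated dependencies); the rest is new:

* `iInf_sup_pow_eq` : ideals of a Noetherian local ring are closed for the `m`-adic topology.
* `chevalley_general` : for an antitone sequence of ideals `J q` of a complete Noetherian local ring
  with `⨅ q, J q = ⊥`, every power of the maximal ideal contains some `J q`.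
-/

set_option autoImplicit false
universe u v

namespace Groth.Agent.Lib.Helper62.ChevalleySymbolic

open IsLocalRing

section Chevalley

variable {S : Type*} [CommRing S] [IsLocalRing S] [IsNoetherianRing S]

theorem isArtinianRing_quot_pow (M : ℕ) (hM : 1 ≤ M) :
    IsArtinianRing (S ⧸ maximalIdeal S ^ M) := by
  have hle : maximalIdeal S ^ M ≤ maximalIdeal S := Ideal.pow_le_self (by omega)
  have : Nontrivial (S ⧸ maximalIdeal S ^ M) :=
    Ideal.Quotient.nontrivial_iff.2 (fun h =>
      (IsLocalRing.maximalIdeal.isMaximal S).ne_top (top_le_iff.1 (h ▸ hle)))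
  have : IsLocalRing (S ⧸ maximalIdeal S ^ M) :=
    IsLocalRing.of_surjective' (Ideal.Quotient.mk _) Ideal.Quotient.mk_surjective
  rw [isArtinianRing_iff_isNilpotent_maximalIdeal]
  refine ⟨M, ?_⟩
  rw [Ideal.zero_eq_bot, ← le_bot_iff]
  have h1 : maximalIdeal (S ⧸ maximalIdeal S ^ M) ≤
      (maximalIdeal S).map (Ideal.Quotient.mk (maximalIdeal S ^ M)) := by
    intro x hx
    obtain ⟨a, rfl⟩ := Ideal.Quotient.mk_surjective x
    have ha : a ∈ maximalIdeal S := by
      rw [IsLocalRing.mem_maximalIdeal] at hx ⊢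
      exact fun hu => hx (hu.map (Ideal.Quotient.mk _))
    exact Ideal.mem_map_of_mem _ ha
  calc maximalIdeal (S ⧸ maximalIdeal S ^ M) ^ M
      ≤ ((maximalIdeal S).map (Ideal.Quotient.mk (maximalIdeal S ^ M))) ^ M :=
        Ideal.pow_right_mono h1 _
    _ = (maximalIdeal S ^ M).map (Ideal.Quotient.mk (maximalIdeal S ^ M)) := by
        rw [← Ideal.map_pow]
    _ = ⊥ := Ideal.map_quotient_self _

theorem sup_pow_stabilizes (J : ℕ → Ideal S) (hanti : Antitone J) (M : ℕ) (hM : 1 ≤ M) :
    ∃ q₀, ∀ q, q₀ ≤ q → J q ⊔ maximalIdeal S ^ M = J q₀ ⊔ maximalIdeal S ^ M := by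
  have := isArtinianRing_quot_pow (S := S) M hM
  let f : ℕ →o (Ideal (S ⧸ maximalIdeal S ^ M))ᵒᵈ :=
    ⟨fun q => OrderDual.toDual ((J q).map (Ideal.Quotient.mk (maximalIdeal S ^ M))),
      fun a b hab => Ideal.map_mono (hanti hab)⟩
  obtain ⟨q₀, hq₀⟩ := IsArtinian.monotone_stabilizes f
  refine ⟨q₀, fun q hq => ?_⟩
  have h1 : (J q₀).map (Ideal.Quotient.mk (maximalIdeal S ^ M)) =
      (J q).map (Ideal.Quotient.mk (maximalIdeal S ^ M)) := hq₀ q hq
  have h2 := congrArg (Ideal.comap (Ideal.Quotient.mk (maximalIdeal S ^ M))) h1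
  rw [Ideal.comap_map_of_surjective' _ Ideal.Quotient.mk_surjective,
    Ideal.comap_map_of_surjective' _ Ideal.Quotient.mk_surjective, Ideal.mk_ker] at h2
  exact h2.symm

/-- Chevalley's lemma for a decreasing sequence of open ideals in a complete Noetherian local
ring. -/
theorem chevalley [IsAdicComplete (maximalIdeal S) S] (J : ℕ → Ideal S) (hanti : Antitone J)
    (hopen : ∀ q, ∃ N, maximalIdeal S ^ N ≤ J q) (N : ℕ) :
    ∃ q, J q ≤ (⨅ q, J q) ⊔ maximalIdeal S ^ N := by
  rcases Nat.eq_zero_or_pos N with hN0 | hNpos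
  · subst hN0
    refine ⟨0, ?_⟩
    rw [pow_zero, Ideal.one_eq_top, sup_top_eq]
    exact le_top
  -- stabilization indices
  have hst : ∀ M : ℕ, ∃ q₀, 1 ≤ M → ∀ q, q₀ ≤ q →
      J q ⊔ maximalIdeal S ^ M = J q₀ ⊔ maximalIdeal S ^ M := by
    intro M
    by_cases hM : 1 ≤ M
    · obtain ⟨q₀, h⟩ := sup_pow_stabilizes J hanti M hM
      exact ⟨q₀, fun _ => h⟩
    · exact ⟨0, fun h => absurd h hM⟩
  choose q0 hq0 using hst
  let Q : ℕ → ℕ := fun M => (Finset.range (M + 1)).sup q0 + M
  have hQmono : Monotone Q := by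
    intro a b hab
    have : (Finset.range (a + 1)).sup q0 ≤ (Finset.range (b + 1)).sup q0 :=
      Finset.sup_mono (Finset.range_mono (by omega))
    change (Finset.range (a + 1)).sup q0 + a ≤ (Finset.range (b + 1)).sup q0 + b
    omega
  have hQq0 : ∀ M, q0 M ≤ Q M := by
    intro M
    have : q0 M ≤ (Finset.range (M + 1)).sup q0 :=
      Finset.le_sup (f := q0) (Finset.mem_range.mpr (Nat.lt_succ_self M))
    change q0 M ≤ (Finset.range (M + 1)).sup q0 + M
    omega
  have hQM : ∀ M, M ≤ Q M := fun M => Nat.le_add_left _ _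
  have hstar : ∀ M, 1 ≤ M → J (Q M) ≤ J (Q (M + 1)) ⊔ maximalIdeal S ^ M := by
    intro M hM
    calc J (Q M) ≤ J (Q M) ⊔ maximalIdeal S ^ M := le_sup_left
      _ = J (q0 M) ⊔ maximalIdeal S ^ M := hq0 M hM _ (hQq0 M)
      _ = J (Q (M + 1)) ⊔ maximalIdeal S ^ M :=
        (hq0 M hM _ ((hQq0 M).trans (hQmono (Nat.le_succ M)))).symm
  refine ⟨Q N, fun x hx => ?_⟩
  -- the approximating sequence
  have hnext : ∀ (j : ℕ) (y : {y : S // y ∈ J (Q (N + j))}),
      ∃ y' : {y : S // y ∈ J (Q (N + (j + 1)))}, y.1 - y'.1 ∈ maximalIdeal S ^ (N + j) := by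
    intro j y
    have := hstar (N + j) (by omega) y.2
    obtain ⟨a, ha, b, hb, hab⟩ := Submodule.mem_sup.mp this
    refine ⟨⟨a, ha⟩, ?_⟩
    have : y.1 - a = b := by rw [← hab]; ring
    rw [this]; exact hb
  choose nxt hnxt using hnext
  let s : (j : ℕ) → {y : S // y ∈ J (Q (N + j))} :=
    fun j => Nat.rec (motive := fun j => {y : S // y ∈ J (Q (N + j))}) ⟨x, hx⟩
      (fun j y => nxt j y) j
  have hs0 : (s 0).1 = x := rfl
  have hs1 : ∀ j, (s j).1 - (s (j + 1)).1 ∈ maximalIdeal S ^ (N + j) := fun j => hnxt j (s j)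
  have htel : ∀ i j, i ≤ j → (s i).1 - (s j).1 ∈ maximalIdeal S ^ (N + i) := by
    intro i j hij
    induction j, hij using Nat.le_induction with
    | base => simp
    | succ j hij ih =>
      have h1 := hs1 j
      have h2 : (s j).1 - (s (j + 1)).1 ∈ maximalIdeal S ^ (N + i) :=
        Ideal.pow_le_pow_right (by omega) h1
      have := Ideal.add_mem _ ih h2
      have e : (s i).1 - (s j).1 + ((s j).1 - (s (j + 1)).1) = (s i).1 - (s (j + 1)).1 := by ring
      rwa [e] at this
  let f : ℕ → S := fun a => (s (a - N)).1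
  have hf : ∀ {a b : ℕ}, a ≤ b →
      f a ≡ f b [SMOD (maximalIdeal S ^ a • ⊤ : Submodule S S)] := by
    intro a b hab
    rw [SModEq.sub_mem, smul_eq_mul, Ideal.mul_top]
    exact Ideal.pow_le_pow_right (by omega) (htel (a - N) (b - N) (by omega))
  obtain ⟨L, hL⟩ := IsPrecomplete.prec (inferInstance : IsPrecomplete (maximalIdeal S) S) hf
  have hL' : ∀ a, f a - L ∈ maximalIdeal S ^ a := by
    intro a
    have := hL a
    rwa [SModEq.sub_mem, smul_eq_mul, Ideal.mul_top] at this
  have hxL : x - L ∈ maximalIdeal S ^ N := by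
    have := hL' N
    have e : f N = x := by
      change (s (N - N)).1 = x
      rw [Nat.sub_self]
      exact hs0
    rwa [e] at this
  have hLJ : L ∈ ⨅ q, J q := by
    rw [Ideal.mem_iInf]
    intro q
    obtain ⟨Nq, hNq⟩ := hopen q
    let a := Nq + N + q
    have h1 : f a ∈ J q := by
      have h2 : (s (a - N)).1 ∈ J (Q (N + (a - N))) := (s (a - N)).2
      refine hanti ?_ h2
      have := hQM (N + (a - N))
      omega
    have h3 : f a - L ∈ J q := hNq (Ideal.pow_le_pow_right (by omega) (hL' a))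
    have := Ideal.sub_mem _ h1 h3
    simpa using this
  have : x = L + (x - L) := by ring
  rw [this]
  exact Ideal.add_mem _ (Ideal.mem_sup_left hLJ) (Ideal.mem_sup_right hxL)

end Chevalley

section General

variable {S : Type*} [CommRing S] [IsLocalRing S] [IsNoetherianRing S]

/-- ideals of a Noetherian local ring are closed -/
theorem iInf_sup_pow_eq (J : Ideal S) : ⨅ k : ℕ, J ⊔ maximalIdeal S ^ k = J := by
  apply le_antisymm _ (le_iInf fun k => le_sup_left)
  intro x hx
  rw [Ideal.mem_iInf] at hx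
  have h := Ideal.iInf_pow_smul_eq_bot_of_isLocalRing (R := S) (M := S ⧸ J) (maximalIdeal S)
    (IsLocalRing.maximalIdeal.isMaximal S).ne_top
  have hx' : (Ideal.Quotient.mk J x : S ⧸ J) ∈
      (⨅ i : ℕ, maximalIdeal S ^ i • ⊤ : Submodule S (S ⧸ J)) := by
    rw [Submodule.mem_iInf]
    intro k
    obtain ⟨a, ha, b, hb, hab⟩ := Submodule.mem_sup.mp (hx k)
    have : (Ideal.Quotient.mk J x : S ⧸ J) = b • (Ideal.Quotient.mk J 1 : S ⧸ J) := by
      rw [← hab, map_add, Ideal.Quotient.eq_zero_iff_mem.mpr ha, zero_add, Algebra.smul_def,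
        map_one, mul_one]
      rfl
    rw [this]
    exact Submodule.smul_mem_smul hb Submodule.mem_top
  rw [h, Submodule.mem_bot] at hx'
  exact Ideal.Quotient.eq_zero_iff_mem.mp hx'

/-- **Chevalley's lemma**, general form. -/
theorem chevalley_general [IsAdicComplete (maximalIdeal S) S] (J : ℕ → Ideal S)
    (hanti : Antitone J) (hbot : ⨅ q, J q = ⊥) (N : ℕ) :
    ∃ q, J q ≤ maximalIdeal S ^ N := by
  let J' : ℕ → Ideal S := fun q => J q ⊔ maximalIdeal S ^ q
  have hanti' : Antitone J' := fun a b hab =>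
    sup_le_sup (hanti hab) (Ideal.pow_le_pow_right hab)
  have hopen : ∀ q, ∃ N, maximalIdeal S ^ N ≤ J' q := fun q => ⟨q, le_sup_right⟩
  have hbot' : ⨅ q, J' q = ⊥ := by
    rw [eq_bot_iff]
    intro x hx
    rw [Ideal.mem_iInf] at hx
    rw [← hbot, Ideal.mem_iInf]
    intro r
    rw [← iInf_sup_pow_eq (J r), Ideal.mem_iInf]
    intro k
    have h1 := hx (max r k)
    have h2 : J' (max r k) ≤ J r ⊔ maximalIdeal S ^ k :=
      sup_le_sup (hanti (le_max_left r k)) (Ideal.pow_le_pow_right (le_max_right r k))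
    exact h2 h1
  obtain ⟨q, hq⟩ := chevalley J' hanti' hopen N
  rw [hbot', bot_sup_eq] at hq
  exact ⟨q, le_trans le_sup_left hq⟩

end General

end Groth.Agent.Lib.Helper62.ChevalleySymbolic
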