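import Mathlib

/-!
# The universal derivation extended to the adic completion (helper62)

`A₀ → A` a ring map, `I` an ideal of `A`, `Ω = Ω[A⁄A₀]`.  The universal derivation `d : A → Ω`
maps `I^(n+1)` into `I^n Ω`, hence induces an additive map
`Dhat : AdicCompletion I A → AdicCompletion I Ω` with `Dhat (of a) = of (d a)` and the Leibniz rule.
-/

set_option autoImplicit false
universe u

namespace Groth.Agent.Lib.Helper62.CompletionDerivation

open KaehlerDifferential

variable {A₀ A : Type u} [CommRing A₀] [CommRing A] [Algebra A₀ A] (I : Ideal A)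

theorem D_mem (n : ℕ) (x : A) (hx : x ∈ I ^ (n + 1)) :
    KaehlerDifferential.D A₀ A x ∈ (I ^ n • ⊤ : Submodule A Ω[A⁄A₀]) := by
  induction n generalizing x with
  | zero => simp
  | succ n ih =>
    rw [pow_succ' I (n + 1)] at hx
    refine Submodule.mul_induction_on hx ?_ ?_
    · intro a ha y hy
      rw [Derivation.leibniz]
      refine Submodule.add_mem _ ?_ ?_
      · rw [pow_succ' I n, mul_smul]
        exact Submodule.smul_mem_smul ha (ih y hy)
      · exact Submodule.smul_mem_smul hy Submodule.mem_top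
    · intro y z hy hz
      rw [map_add]
      exact Submodule.add_mem _ hy hz

/-- the map `A/I^(n+1) → Ω/I^nΩ` induced by `d`. -/
noncomputable def En (n : ℕ) (y : A ⧸ (I ^ (n + 1) • ⊤ : Ideal A)) :
    Ω[A⁄A₀] ⧸ (I ^ n • ⊤ : Submodule A Ω[A⁄A₀]) :=
  Quotient.liftOn' y (fun a => Submodule.Quotient.mk (KaehlerDifferential.D A₀ A a)) (by
    intro a b hab
    have h1 : a - b ∈ (I ^ (n + 1) • ⊤ : Ideal A) := (Submodule.quotientRel_def _).mp hab
    have h2 : a - b ∈ I ^ (n + 1) := by simpa using h1
    show Submodule.Quotient.mk (KaehlerDifferential.D A₀ A a) =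
      Submodule.Quotient.mk (KaehlerDifferential.D A₀ A b)
    rw [Submodule.Quotient.eq, ← map_sub]
    exact D_mem I n _ h2)

theorem En_mk (n : ℕ) (a : A) :
    En (A₀ := A₀) I n (Submodule.Quotient.mk a) =
      Submodule.Quotient.mk (KaehlerDifferential.D A₀ A a) := rfl

/-- The extension of `d` to the completion. -/
noncomputable def Dhat (x : AdicCompletion I A) : AdicCompletion I Ω[A⁄A₀] :=
  ⟨fun n => En (A₀ := A₀) I n (x.val (n + 1)), by
    intro m n hmn
    induction x using AdicCompletion.induction_on with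
    | h f =>
      simp only [AdicCompletion.mk_apply_coe, Submodule.mkQ_apply]
      rw [En_mk, En_mk]
      show Submodule.Quotient.mk _ = _
      rw [Submodule.Quotient.eq, LinearMap.id_apply, ← map_sub]
      apply D_mem I m
      have h := AdicCompletion.AdicCauchySequence.mk_eq_mk (Nat.succ_le_succ hmn) f
      rw [Submodule.Quotient.eq] at h
      simpa using h⟩

theorem Dhat_val (x : AdicCompletion I A) (n : ℕ) :
    (Dhat (A₀ := A₀) I x).val n = En (A₀ := A₀) I n (x.val (n + 1)) := rfl

theorem Dhat_mk_val (f : AdicCompletion.AdicCauchySequence I A) (n : ℕ) :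
    (Dhat (A₀ := A₀) I (AdicCompletion.mk I A f)).val n =
      Submodule.Quotient.mk (KaehlerDifferential.D A₀ A (f (n + 1))) := rfl

theorem val_of_val_succ (M : Type u) [AddCommGroup M] [Module A M] (x : AdicCompletion I M)
    (n : ℕ) (a : M) (h : x.val (n + 1) = Submodule.Quotient.mk a) :
    x.val n = Submodule.Quotient.mk a := by
  rw [← AdicCompletion.transitionMap_comp_eval_apply I M (Nat.le_succ n) x, h]
  rfl

theorem Dhat_of (a : A) :
    Dhat (A₀ := A₀) I (AdicCompletion.of I A a) =
      AdicCompletion.of I Ω[A⁄A₀] (KaehlerDifferential.D A₀ A a) := by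
  ext n
  rfl

theorem Dhat_add (x y : AdicCompletion I A) :
    Dhat (A₀ := A₀) I (x + y) = Dhat (A₀ := A₀) I x + Dhat (A₀ := A₀) I y := by
  ext n
  obtain ⟨a, ha⟩ := Submodule.Quotient.mk_surjective _ (x.val (n + 1))
  obtain ⟨b, hb⟩ := Submodule.Quotient.mk_surjective _ (y.val (n + 1))
  rw [AdicCompletion.val_add_apply, Dhat_val, Dhat_val, Dhat_val, AdicCompletion.val_add_apply,
    ← ha, ← hb, ← Submodule.Quotient.mk_add, En_mk, En_mk, En_mk, map_add,
    Submodule.Quotient.mk_add]

theorem Dhat_mul (x y : AdicCompletion I A) :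
    Dhat (A₀ := A₀) I (x * y) = x • Dhat (A₀ := A₀) I y + y • Dhat (A₀ := A₀) I x := by
  ext n
  obtain ⟨a, ha⟩ := Submodule.Quotient.mk_surjective _ (x.val (n + 1))
  obtain ⟨b, hb⟩ := Submodule.Quotient.mk_surjective _ (y.val (n + 1))
  have ha' : x.val n = Submodule.Quotient.mk a := val_of_val_succ I A x n a ha.symm
  have hb' : y.val n = Submodule.Quotient.mk b := val_of_val_succ I A y n b hb.symm
  have hab : (x * y).val (n + 1) = Submodule.Quotient.mk (a * b) := by
    rw [AdicCompletion.val_mul, ← ha, ← hb]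
    rfl
  rw [AdicCompletion.val_add_apply, AdicCompletion.smul_eval, AdicCompletion.smul_eval,
    Dhat_val, Dhat_val, Dhat_val, hab, ← ha, ← hb, ha', hb', En_mk, En_mk, En_mk,
    Derivation.leibniz, Submodule.Quotient.mk_add]
  rfl

end Groth.Agent.Lib.Helper62.CompletionDerivation
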