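import Mathlib
import Groth.Agent.Lib.Helper62.LocalJacobian

/-!
# Formal smoothness of a localized quotient via injectivity of the conormal map on the fibre
(helper62)

`formallySmooth_atPrime_iff_injective`: `B` Noetherian, formally smooth over `A`, `B → C`
surjective with kernel `J`, `p` a prime of `C`.  Then `C_p` is formally smooth over `A` iff
`κ(p) ⊗ J/J² → κ(p) ⊗ (C ⊗_B Ω_{B/A})` is injective.
-/

set_option autoImplicit false
universe u v w

namespace Groth.Agent.Lib.Helper62.CotangentInjective

open KaehlerDifferential TensorProduct IsLocalRing Groth.Agent.Lib.Helper62.JacobianFS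
  Groth.Agent.Lib.Helper62.LocalJacobian

section Suff

variable {R : Type u} {P : Type v} {C : Type w} [CommRing R] [CommRing P] [CommRing C]
  [Algebra R P] [Algebra R C] [Algebra P C] [IsScalarTower R P C]

/-- Local sufficiency: functionals with values in a model `F` of the residue field. -/
theorem formallySmooth_of_functionals' [IsLocalRing P] [Algebra.FormallySmooth R P]
    (hsurj : Function.Surjective (algebraMap P C)) {m : ℕ} (f : Fin m → P)
    (hspan : Ideal.span (Set.range f) = RingHom.ker (algebraMap P C))
    {F : Type*} [CommRing F] [Nontrivial F] [Algebra P F]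
    (hF : Function.Surjective (algebraMap P F))
    (hFm : ∀ x ∈ maximalIdeal P, algebraMap P F x = 0)
    (μ : Fin m → Ω[P⁄R] →ₗ[P] F)
    (hμ : ∀ i j, μ j (D R P (f i)) = if i = j then 1 else 0) :
    Algebra.FormallySmooth R C := by
  classical
  have hres : Function.Surjective (Algebra.linearMap P F) := hF
  choose ν hν using fun j =>
    Module.projective_lifting_property (Algebra.linearMap P F) (μ j) hres
  let δ : Fin m → Derivation R P C := fun j =>
    ((Algebra.linearMap P C) ∘ₗ (ν j)).compDer (D R P)
  refine formallySmooth_of_derivations hsurj f hspan δ ?_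
  let M₀ : Matrix (Fin m) (Fin m) P := Matrix.of fun i j => ν j (D R P (f i))
  have hmat : (Matrix.of fun i j => δ j (f i)) = (algebraMap P C).mapMatrix M₀ := by
    ext i j
    rfl
  rw [hmat, ← RingHom.map_det]
  apply RingHom.isUnit_map
  have hres1 : (algebraMap P F).mapMatrix M₀ = 1 := by
    ext i j
    simp only [RingHom.mapMatrix_apply, Matrix.map_apply, M₀, Matrix.of_apply, Matrix.one_apply]
    have := LinearMap.congr_fun (hν j) (D R P (f i))
    simp only [LinearMap.coe_comp, Function.comp_apply, Algebra.linearMap_apply] at this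
    rw [hμ] at this
    exact this
  have hdet : algebraMap P F M₀.det = 1 := by
    rw [RingHom.map_det, hres1, Matrix.det_one]
  by_contra hnu
  have : algebraMap P F M₀.det = 0 := hFm _ ((IsLocalRing.mem_maximalIdeal _).mpr hnu)
  rw [hdet] at this
  exact one_ne_zero this

end Suff

section Main

variable {A B C : Type u} [CommRing A] [CommRing B] [CommRing C] [Algebra A B] [Algebra B C]
  [Algebra A C] [IsScalarTower A B C] [IsNoetherianRing B] [Algebra.FormallySmooth A B]

theorem formallySmooth_atPrime_iff_injective (hsurj : Function.Surjective (algebraMap B C))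
    (p : Ideal C) [p.IsPrime] :
    Algebra.FormallySmooth A (Localization.AtPrime p) ↔
      Function.Injective ((kerCotangentToTensor A B C).lTensor p.ResidueField) := by
  classical
  let J : Ideal B := RingHom.ker (algebraMap B C)
  let q' : Ideal B := p.comap (algebraMap B C)
  have : q'.IsPrime := Ideal.comap_isPrime _ _
  have : p.LiesOver q' := ⟨rfl⟩
  let _ := Localization.AtPrime.algebraOfLiesOver q' p
  let P := Localization.AtPrime q'
  let Cp := Localization.AtPrime p
  let κ := p.ResidueField
  have hsurjP : Function.Surjective (algebraMap P Cp) := localRingHom_surjective q' p hsurj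
  have hkerP : RingHom.ker (algebraMap P Cp) = J.map (algebraMap B P) :=
    ker_localRingHom q' p hsurj
  have : Algebra.FormallyEtale B P := Algebra.FormallyEtale.of_isLocalization q'.primeCompl
  have : Algebra.FormallySmooth A P := Algebra.FormallySmooth.comp A B P
  have : IsNoetherianRing P := IsLocalization.isNoetherianRing q'.primeCompl _ inferInstance
  have hloc : IsLocalHom (algebraMap P Cp) := by
    show IsLocalHom (Localization.localRingHom q' p (algebraMap B C) Ideal.LiesOver.over)
    infer_instance
  let S : Set P := (algebraMap B P) '' (J : Set B)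
  have hS : Ideal.span S = RingHom.ker (algebraMap P Cp) := by rw [hkerP]; rfl
  have hJκ : ∀ x ∈ J, algebraMap B κ x = 0 := by
    intro x hx
    rw [IsScalarTower.algebraMap_apply B C κ, (RingHom.mem_ker).mp hx, map_zero]
  have hunitκ : ∀ w : B, w ∉ q' → algebraMap B κ w ≠ 0 := by
    intro w hw h
    rw [IsScalarTower.algebraMap_apply B C κ, Ideal.algebraMap_residueField_eq_zero] at h
    exact hw h
  have hPκ : ∀ x : B, algebraMap P κ (algebraMap B P x) = algebraMap B κ x := fun x =>
    (IsScalarTower.algebraMap_apply B P κ x).symm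
  constructor
  · intro hfs
    have : Algebra.FormallySmooth A Cp := hfs
    obtain ⟨m, f, hfS, hspan, μ, hμ⟩ :=
      exists_functionals_of_formallySmooth (R := A) (P := P) (A := Cp) hsurjP S hS
    choose g hgJ hg using hfS
    -- spanning
    have hspanξ : ∀ ξ : κ ⊗[B] J.Cotangent, ∃ c : Fin m → κ,
        ξ = ∑ i, c i ⊗ₜ[B] J.toCotangent ⟨g i, hgJ i⟩ := by
      intro ξ
      induction ξ using TensorProduct.induction_on with
      | zero => exact ⟨0, by simp⟩
      | add y z hy hz =>
        obtain ⟨c, rfl⟩ := hy
        obtain ⟨c', rfl⟩ := hz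
        refine ⟨c + c', ?_⟩
        rw [← Finset.sum_add_distrib]
        refine Finset.sum_congr rfl fun i _ => ?_
        rw [Pi.add_apply, TensorProduct.add_tmul]
      | tmul k y =>
        obtain ⟨⟨x, hx⟩, rfl⟩ := Ideal.toCotangent_surjective _ y
        have hxP : algebraMap B P x ∈ Ideal.span (Set.range f) := by
          rw [hspan, hkerP]
          exact Ideal.mem_map_of_mem _ hx
        obtain ⟨r, hr⟩ := (Ideal.mem_span_range_iff_exists_fun).mp hxP
        obtain ⟨s, hs⟩ := IsLocalization.exist_integer_multiples_of_finset q'.primeCompl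
          (Finset.univ.image r)
        have hs' : ∀ i, ∃ a : B, algebraMap B P a = (s : B) • r i := fun i =>
          hs (r i) (Finset.mem_image_of_mem r (Finset.mem_univ i))
        choose a ha using hs'
        have h1 : algebraMap B P ((s : B) * x) = algebraMap B P (∑ i, a i * g i) := by
          rw [map_mul, ← hr, Finset.mul_sum, map_sum]
          refine Finset.sum_congr rfl fun i _ => ?_
          rw [map_mul, ha, hg, Algebra.smul_def]
          ring
        obtain ⟨u, hu⟩ := (IsLocalization.eq_iff_exists q'.primeCompl P).mp h1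
        let w : B := u * s
        have hw : w ∉ q' := (u * s).2
        have hwx : w • (⟨x, hx⟩ : J) = ∑ i, ((u : B) * a i) • (⟨g i, hgJ i⟩ : J) := by
          apply Subtype.ext
          simp only [Submodule.coe_smul_of_tower, smul_eq_mul, Submodule.coe_sum, w]
          rw [mul_assoc, hu, Finset.mul_sum]
          refine Finset.sum_congr rfl fun i _ => ?_
          ring
        have hwκ := hunitκ w hw
        refine ⟨fun i => k * (algebraMap B κ w)⁻¹ * algebraMap B κ ((u : B) * a i), ?_⟩
        have h2 : (algebraMap B κ w) ⊗ₜ[B] J.toCotangent ⟨x, hx⟩ =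
            ∑ i, (algebraMap B κ ((u : B) * a i)) ⊗ₜ[B] J.toCotangent ⟨g i, hgJ i⟩ := by
          have e1 : (algebraMap B κ w) ⊗ₜ[B] J.toCotangent ⟨x, hx⟩ =
              (1 : κ) ⊗ₜ[B] J.toCotangent (w • ⟨x, hx⟩) := by
            rw [map_smul, TensorProduct.tmul_smul, TensorProduct.smul_tmul', Algebra.smul_def,
              mul_one]
          rw [e1, hwx, map_sum, TensorProduct.tmul_sum]
          refine Finset.sum_congr rfl fun i _ => ?_
          rw [map_smul, TensorProduct.tmul_smul, TensorProduct.smul_tmul', Algebra.smul_def,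
            mul_one]
        have h3 : k ⊗ₜ[B] J.toCotangent ⟨x, hx⟩ =
            (k * (algebraMap B κ w)⁻¹) • ((algebraMap B κ w) ⊗ₜ[B] J.toCotangent ⟨x, hx⟩) := by
          rw [TensorProduct.smul_tmul', smul_eq_mul, mul_assoc, inv_mul_cancel₀ hwκ, mul_one]
        rw [h3, h2, Finset.smul_sum]
        refine Finset.sum_congr rfl fun i _ => ?_
        rw [TensorProduct.smul_tmul', smul_eq_mul]
    -- functionals
    let ιF : ResidueField P →ₗ[P] κ :=
      (Algebra.linearMap (ResidueField P) κ).restrictScalars P
    let ω : Fin m → Ω[B⁄A] →ₗ[B] κ := fun j =>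
      ((ιF ∘ₗ μ j).restrictScalars B) ∘ₗ (KaehlerDifferential.map A A B P)
    have hω : ∀ i j, ω j (D A B (g i)) = if i = j then 1 else 0 := by
      intro i j
      show ιF (μ j (KaehlerDifferential.map A A B P (D A B (g i)))) = _
      rw [KaehlerDifferential.map_D, hg, hμ]
      split_ifs
      · exact map_one (algebraMap (ResidueField P) κ)
      · exact map_zero (algebraMap (ResidueField P) κ)
    let ℓ : Fin m → C ⊗[B] Ω[B⁄A] →ₗ[C] κ := fun j => (ω j).liftBaseChange C
    let lam : Fin m → κ ⊗[B] (C ⊗[B] Ω[B⁄A]) →ₗ[κ] κ := fun j =>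
      ((ℓ j).restrictScalars B).liftBaseChange κ
    rw [injective_iff_map_eq_zero]
    intro ξ hξ
    obtain ⟨c, rfl⟩ := hspanξ ξ
    have hc : ∀ j, c j = 0 := by
      intro j
      have h1 := congrArg (lam j) hξ
      rw [map_zero, map_sum, map_sum] at h1
      rw [← h1]
      symm
      rw [Finset.sum_eq_single j]
      · rw [LinearMap.lTensor_tmul, kerCotangentToTensor_toCotangent]
        show c j • ((1 : C) • ω j (D A B (g j))) = c j
        rw [hω, if_pos rfl, one_smul, smul_eq_mul, mul_one]
      · intro i _ hij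
        rw [LinearMap.lTensor_tmul, kerCotangentToTensor_toCotangent]
        show c i • ((1 : C) • ω j (D A B (g i))) = 0
        rw [hω, if_neg hij, smul_zero, smul_zero]
      · intro h; exact absurd (Finset.mem_univ j) h
    simp [hc]
  · intro hinj
    obtain ⟨m, f, hfK, hfS, hspan, b, hb⟩ :=
      exists_minimal_generators (RingHom.ker (algebraMap P Cp)) S hS
    choose g hgJ hg using hfS
    let ιF : ResidueField P →ₗ[P] κ :=
      (Algebra.linearMap (ResidueField P) κ).restrictScalars P
    -- inclusion `J → K`
    let incl : J →ₗ[B] (RingHom.ker (algebraMap P Cp)) :=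
      { toFun := fun x => ⟨algebraMap B P x.1, by
          rw [hkerP]; exact Ideal.mem_map_of_mem _ x.2⟩
        map_add' := fun x y => by
          apply Subtype.ext
          simp
        map_smul' := fun r x => by
          apply Subtype.ext
          simp [Algebra.smul_def] }
    let ψ0 : Fin m → J →ₗ[B] κ := fun j =>
      ((ιF ∘ₗ ((b.coord j).restrictScalars P) ∘ₗ
        (TensorProduct.mk P (ResidueField P) (RingHom.ker (algebraMap P Cp)) 1)).restrictScalars B)
        ∘ₗ incl
    have hψ0 : ∀ i j, ψ0 j ⟨g i, hgJ i⟩ = if i = j then 1 else 0 := by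
      intro i j
      have h1 : incl ⟨g i, hgJ i⟩ = ⟨f i, hfK i⟩ := Subtype.ext (hg i)
      show ιF (b.coord j ((1 : ResidueField P) ⊗ₜ[P] incl ⟨g i, hgJ i⟩)) = _
      rw [h1, ← hb i, Module.Basis.coord_apply, Module.Basis.repr_self, Finsupp.single_apply]
      split_ifs
      · exact map_one (algebraMap (ResidueField P) κ)
      · exact map_zero (algebraMap (ResidueField P) κ)
    have hψker : ∀ j, (J • ⊤ : Submodule B J) ≤ LinearMap.ker (ψ0 j) := by
      intro j
      rw [Submodule.smul_le]
      intro r hr n _
      rw [LinearMap.mem_ker, map_smul, Algebra.smul_def, hJκ r hr, zero_mul]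
    let ψ : Fin m → J.Cotangent →ₗ[B] κ := fun j => Submodule.liftQ _ (ψ0 j) (hψker j)
    let Ψ : Fin m → κ ⊗[B] J.Cotangent →ₗ[κ] κ := fun j => (ψ j).liftBaseChange κ
    let e : Fin m → κ ⊗[B] J.Cotangent := fun i => (1 : κ) ⊗ₜ[B] J.toCotangent ⟨g i, hgJ i⟩
    have hΨe : ∀ i j, Ψ j (e i) = if i = j then 1 else 0 := by
      intro i j
      show (1 : κ) • ψ0 j ⟨g i, hgJ i⟩ = _
      rw [one_smul, hψ0]
    have hlie : LinearIndependent κ e := by
      rw [Fintype.linearIndependent_iff]
      intro c hc j
      have h1 := congrArg (Ψ j) hc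
      rw [map_zero, map_sum] at h1
      rw [← h1]
      symm
      rw [Finset.sum_eq_single j]
      · rw [map_smul, hΨe, if_pos rfl, smul_eq_mul, mul_one]
      · intro i _ hij
        rw [map_smul, hΨe, if_neg hij, smul_zero]
      · intro h; exact absurd (Finset.mem_univ j) h
    let Φκ : κ ⊗[B] J.Cotangent →ₗ[κ] κ ⊗[B] (C ⊗[B] Ω[B⁄A]) :=
      (kerCotangentToTensor A B C).baseChange κ
    have hΦκ : Function.Injective Φκ := hinj
    have hliw : LinearIndependent κ (fun i => Φκ (e i)) :=
      hlie.map' Φκ (LinearMap.ker_eq_bot.mpr hΦκ)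
    obtain ⟨g₀, hg₀⟩ := LinearMap.exists_leftInverse_of_injective
      (Finsupp.linearCombination κ (fun i => Φκ (e i))) (LinearMap.ker_eq_bot.mpr hliw)
    let ω : Fin m → Ω[B⁄A] →ₗ[B] κ := fun j =>
      (((Finsupp.lapply j) ∘ₗ g₀).restrictScalars B) ∘ₗ
        (TensorProduct.mk B κ (C ⊗[B] Ω[B⁄A]) 1) ∘ₗ (TensorProduct.mk B C (Ω[B⁄A]) 1)
    have hω : ∀ i j, ω j (D A B (g i)) = if i = j then 1 else 0 := by
      intro i j
      have h1 : g₀ (Φκ (e i)) = Finsupp.single i 1 := by
        have := LinearMap.congr_fun hg₀ (Finsupp.single i 1)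
        simpa using this
      have h2 : Φκ (e i) = (1 : κ) ⊗ₜ[B] ((1 : C) ⊗ₜ[B] D A B (g i)) := rfl
      show (g₀ ((1 : κ) ⊗ₜ[B] ((1 : C) ⊗ₜ[B] D A B (g i)))) j = _
      rw [← h2, h1, Finsupp.single_apply]
    let μ : Fin m → Ω[P⁄A] →ₗ[P] κ := fun j =>
      (KaehlerDifferential.isBaseChange_of_formallyEtale A B P).lift (ω j)
    have hμ : ∀ i j, μ j (D A P (f i)) = if i = j then 1 else 0 := by
      intro i j
      have h1 : D A P (f i) = KaehlerDifferential.map A A B P (D A B (g i)) := by
        rw [KaehlerDifferential.map_D, hg]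
      rw [h1, IsBaseChange.lift_eq, hω]
    have hF : Function.Surjective (algebraMap P κ) := by
      intro k
      obtain ⟨y, rfl⟩ := IsLocalRing.residue_surjective k
      obtain ⟨x, rfl⟩ := hsurjP y
      exact ⟨x, (IsScalarTower.algebraMap_apply P Cp κ x)⟩
    have hFm : ∀ x ∈ maximalIdeal P, algebraMap P κ x = 0 := by
      intro x hx
      rw [IsScalarTower.algebraMap_apply P Cp κ]
      apply (IsLocalRing.residue_eq_zero_iff _).mpr
      rw [IsLocalRing.mem_maximalIdeal, mem_nonunits_iff] at hx ⊢
      intro hu
      exact hx (hloc.map_nonunit x hu)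
    exact formallySmooth_of_functionals' (R := A) hsurjP f hspan hF hFm μ hμ

end Main

end Groth.Agent.Lib.Helper62.CotangentInjective
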