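import Mathlib
import Groth.Agent.Lib.Helper43.DSMap
import Groth.Agent.Lib.Helper62.DSCartierAlg

/-!
# Cartier duality for diagonalisable groups over a field (helper62)

* `uPt k M : Red.diag k M ⟶ Red.DS (Spec k) M`: the universal point, `chr (uPt k M) m = single m 1`.
* `exists_factor`: every point of `D_k(M)` factors through `uPt`.
* `exists_chi_eq`: over a domain `k`, every character of `D_k(M)` is `chi m`.
* `exists_DSmap_eq`: every homomorphism `D_k(B) ⟶ D_k(C)` is `DSmap φ`.
* `DSmap_injective`, `DSmap_comp`, `DSmap_id`, `DSmap_zero`.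
-/

set_option autoImplicit false
set_option linter.unusedSectionVars false
set_option linter.style.haveILetI false
universe u
open CategoryTheory CategoryTheory.Limits MonoidalCategory CartesianMonoidalCategory MonObj GrpObj AlgebraicGeometry

namespace Groth.Agent.Lib.Helper62.DSCartier

open Groth.Agent.Lib.Helper43

section General

variable {S : Scheme.{u}} {M N L : Type} [AddCommGroup M] [AddCommGroup N] [AddCommGroup L]

lemma DSmap_comp (φ : M →+ N) (ψ : N →+ L) :
    Red.DSmap S ψ ≫ Red.DSmap S φ = Red.DSmap S (ψ.comp φ) := by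
  apply chr_injective
  intro m
  rw [chr_DSmap, ← Category.id_comp (Red.DSmap S ψ), chr_DSmap,
    ← Category.id_comp (Red.DSmap S (ψ.comp φ)), chr_DSmap]
  rfl

lemma DSmap_id : Red.DSmap S (AddMonoidHom.id M) = 𝟙 _ := by
  apply chr_injective
  intro m
  rw [← Category.id_comp (Red.DSmap S (AddMonoidHom.id M)), chr_DSmap]
  rfl

lemma DSmap_zero : Red.DSmap S (0 : M →+ N) = 1 := by
  apply chr_injective
  intro m
  rw [← Category.id_comp (Red.DSmap S (0 : M →+ N)), chr_DSmap, chr_one_pt]
  exact chr_one_arg _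

instance isMonHom_chi (m : M) : IsMonHom (Red.chi S m) := by
  unfold Red.chi
  infer_instance

end General

section Field

variable (k : Type u) [CommRing k] (M : Type) [AddCommGroup M]

/-- `Spec k`. -/
noncomputable abbrev Sk : Scheme.{u} := Spec (CommRingCat.of k)

/-- the group algebra `k[M]`. -/
abbrev kM : Type u := MonoidAlgebra k (Multiplicative M)

/-- `Γ(Spec k[M]) ≃ k[M]`, inverse direction as a ring hom. -/
noncomputable def gInv : kM k M →+* Γ((Red.diag k M).left, ⊤) :=
  (Scheme.ΓSpecIso (CommRingCat.of (kM k M))).inv.hom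

lemma gInv_injective : Function.Injective (gInv k M) := by
  intro a b h
  have h1 : ∀ c : kM k M, (Scheme.ΓSpecIso (CommRingCat.of (kM k M))).hom.hom (gInv k M c) = c :=
    fun c => Iso.inv_hom_id_apply (C := CommRingCat) (Scheme.ΓSpecIso (CommRingCat.of (kM k M))) c
  rw [← h1 a, ← h1 b, h]

/-- the universal character. -/
noncomputable def uChar : Multiplicative M →* Γ((Red.diag k M).left, ⊤) :=
  ((gInv k M : kM k M →* Γ((Red.diag k M).left, ⊤))).comp (MonoidAlgebra.of k (Multiplicative M))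

/-- The universal point of `D_k(M)` with values in `Spec k[M]`. -/
noncomputable def uPt : Red.diag k M ⟶ Red.DS (Sk k) M :=
  (chr_surjective (S := Sk k) (X := Red.diag k M) (uChar k M)).choose

lemma chr_uPt (m : Multiplicative M) :
    chr (uPt k M) m = gInv k M (MonoidAlgebra.single m 1) :=
  (chr_surjective (S := Sk k) (X := Red.diag k M) (uChar k M)).choose_spec m

variable {k M}

/-- evaluation of elements of `k[M]` at a point of `D_k(M)`. -/
noncomputable def evalHom {X : Over (Sk k)} (x : X ⟶ Red.DS (Sk k) M) : kM k M →+* Γ(X.left, ⊤) :=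
  MonoidAlgebra.liftNCRingHom (ptFnHom (A := k) X.hom) (chrHom x) (fun _ _ => Commute.all _ _)

lemma evalHom_single {X : Over (Sk k)} (x : X ⟶ Red.DS (Sk k) M) (m : Multiplicative M) (a : k) :
    evalHom x (MonoidAlgebra.single m a) = ptFnHom (A := k) X.hom a * chr x m := by
  simp [evalHom, MonoidAlgebra.liftNCRingHom]

lemma exists_factor {X : Over (Sk k)} (x : X ⟶ Red.DS (Sk k) M) :
    ∃ x' : X ⟶ Red.diag k M, x' ≫ uPt k M = x ∧
      ∀ f : kM k M, x'.left.appTop (gInv k M f) = evalHom x f := by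
  have w : ptOfHom (evalHom x) ≫ (Red.diag k M).hom = X.hom := by
    apply ext_of_ptFnHom
    ext a
    change ptFn (ptOfHom (evalHom x) ≫ Spec.map (CommRingCat.ofHom (algebraMap k (kM k M)))) a = _
    rw [ptFn_specMap, ptFn_ptOfHom]
    rw [MonoidAlgebra.coe_algebraMap]
    simp only [Function.comp_apply, Algebra.algebraMap_self, RingHom.id_apply]
    rw [evalHom_single, chr_one_arg, _root_.mul_one]
  refine ⟨Over.homMk (ptOfHom (evalHom x)) w, ?_, ?_⟩
  · apply chr_injective
    intro m
    rw [chr_comp, chr_uPt]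
    change ptFn (ptOfHom (evalHom x)) _ = _
    rw [ptFn_ptOfHom, evalHom_single, map_one, _root_.one_mul]
  · intro f
    change ptFn (ptOfHom (evalHom x)) _ = _
    rw [ptFn_ptOfHom]

/-- the function on `Spec k[M]` defined by a morphism `D_k(M) ⟶ 𝔾_m`. -/
noncomputable def fnOf (χ : Red.DS (Sk k) M ⟶ Red.Gm (Sk k)) : kM k M :=
  (Scheme.ΓSpecIso (CommRingCat.of (kM k M))).hom.hom (Red.gmFn (uPt k M ≫ χ))

lemma gInv_fnOf (χ : Red.DS (Sk k) M ⟶ Red.Gm (Sk k)) :
    gInv k M (fnOf χ) = Red.gmFn (uPt k M ≫ χ) :=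
  Iso.hom_inv_id_apply (C := CommRingCat) (Scheme.ΓSpecIso (CommRingCat.of (kM k M))) _

lemma gmFn_comp_eq_evalHom (χ : Red.DS (Sk k) M ⟶ Red.Gm (Sk k)) {X : Over (Sk k)}
    (x : X ⟶ Red.DS (Sk k) M) : Red.gmFn (x ≫ χ) = evalHom x (fnOf χ) := by
  obtain ⟨x', hx', hev⟩ := exists_factor x
  rw [← hev, gInv_fnOf, ← gmFn_comp, ← Category.assoc, hx']

lemma isUnit_fnOf (χ : Red.DS (Sk k) M ⟶ Red.Gm (Sk k)) : IsUnit (fnOf χ) := by
  unfold fnOf
  exact (isUnit_gmFn (uPt k M ≫ χ)).map (Scheme.ΓSpecIso (CommRingCat.of (kM k M))).hom.hom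

end Field

section Test

variable {k : Type u} [CommRing k] {M N : Type} [AddCommGroup M] [AddCommGroup N]

/-- the test point of `D_k(M)` with values in `Spec k[N]` attached to `θ : M →+ N`. -/
noncomputable def tPt (θ : M →+ N) : Red.diag k N ⟶ Red.DS (Sk k) M :=
  uPt k N ≫ Red.DSmap (Sk k) θ

lemma chr_tPt (θ : M →+ N) (m : Multiplicative M) :
    chr (tPt (k := k) θ) m = gInv k N (MonoidAlgebra.single (AddMonoidHom.toMultiplicative θ m) 1) := by
  unfold tPt
  rw [chr_DSmap, chr_uPt]

lemma tPt_add (θ₁ θ₂ : M →+ N) : tPt (k := k) (θ₁ + θ₂) = tPt θ₁ * tPt θ₂ := by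
  apply chr_injective
  intro m
  rw [chr_mul_pt, chr_tPt, chr_tPt, chr_tPt, ← map_mul, MonoidAlgebra.single_mul_single, _root_.mul_one]
  rfl

lemma evalHom_tPt (θ : M →+ N) :
    evalHom (tPt (k := k) θ) =
      (gInv k N).comp (MonoidAlgebra.mapDomainRingHom k (AddMonoidHom.toMultiplicative θ)) := by
  apply MonoidAlgebra.ringHom_ext
  · intro a
    rw [evalHom_single, chr_one_arg, _root_.mul_one, RingHom.comp_apply,
      MonoidAlgebra.mapDomainRingHom_apply, MonoidAlgebra.mapDomain_single, map_one]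
    change ptFn (Spec.map (CommRingCat.ofHom (algebraMap k (kM k N)))) a = _
    rw [← Category.id_comp (Spec.map (CommRingCat.ofHom (algebraMap k (kM k N)))), ptFn_specMap]
    rw [MonoidAlgebra.coe_algebraMap]
    simp only [Function.comp_apply, Algebra.algebraMap_self, RingHom.id_apply]
    unfold ptFn gInv
    simp
    rfl
  · intro m
    rw [evalHom_single, map_one, _root_.one_mul, chr_tPt, RingHom.comp_apply,
      MonoidAlgebra.mapDomainRingHom_apply, MonoidAlgebra.mapDomain_single]

end Test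

section Characters

variable {k : Type u} [CommRing k] [IsDomain k] {M : Type} [AddCommGroup M]

/-- **Characters of `D_k(M)`**: over a domain every character is `chi m`. -/
theorem exists_chi_eq (χ : Red.DS (Sk k) M ⟶ Red.Gm (Sk k)) [IsMonHom χ] :
    ∃ m : M, χ = Red.chi (Sk k) m := by
  let θ₁ : M →+ M × M := AddMonoidHom.inl M M
  let θ₂ : M →+ M × M := AddMonoidHom.inr M M
  let f := fnOf χ
  have hmul : evalHom (tPt (k := k) (θ₁ + θ₂)) f = evalHom (tPt θ₁) f * evalHom (tPt θ₂) f := by
    have h := MonObj.mul_comp (tPt (k := k) θ₁) (tPt θ₂) χ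
    rw [← gmFn_comp_eq_evalHom, ← gmFn_comp_eq_evalHom, ← gmFn_comp_eq_evalHom, tPt_add,
      h, gmFn_mul]
  rw [evalHom_tPt, evalHom_tPt, evalHom_tPt] at hmul
  simp only [RingHom.comp_apply] at hmul
  rw [← map_mul] at hmul
  have hmul' := gInv_injective k (M × M) hmul
  have hne : f ≠ 0 := by
    have : Nontrivial (kM k M) := inferInstance
    exact (isUnit_fnOf χ).ne_zero
  have hinj : ∀ a b m n : Multiplicative M,
      AddMonoidHom.toMultiplicative θ₁ a * AddMonoidHom.toMultiplicative θ₂ b =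
        AddMonoidHom.toMultiplicative θ₁ m * AddMonoidHom.toMultiplicative θ₂ n → a = m ∧ b = n := by
    intro a b m n h
    have h' := congrArg Multiplicative.toAdd h
    simp only [θ₁, θ₂, toAdd_mul, AddMonoidHom.toMultiplicative_apply_apply, toAdd_ofAdd,
      AddMonoidHom.inl_apply, AddMonoidHom.inr_apply, Prod.mk_add_mk, add_zero, zero_add,
      Prod.mk.injEq] at h'
    exact ⟨Multiplicative.toAdd.injective h'.1, Multiplicative.toAdd.injective h'.2⟩
  have hθ : AddMonoidHom.toMultiplicative (θ₁ + θ₂) =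
      AddMonoidHom.toMultiplicative θ₁ * AddMonoidHom.toMultiplicative θ₂ := rfl
  rw [hθ] at hmul'
  obtain ⟨m0, hm0⟩ := DSCartierAlg.exists_eq_single_of_diag _ _ hinj f hne hmul'
  refine ⟨Multiplicative.toAdd m0, ?_⟩
  apply gmFn_injective
  rw [← Category.id_comp χ, gmFn_comp_eq_evalHom, ← Category.id_comp (Red.chi _ _), gmFn_chi]
  change evalHom _ f = _
  rw [hm0, evalHom_single, map_one, _root_.one_mul]
  rfl

end Characters

section Homs

variable {k : Type u} [CommRing k] [Nontrivial k] {B C : Type} [AddCommGroup B] [AddCommGroup C]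

lemma chi_injective {m m' : B} (h : Red.chi (Sk k) m = Red.chi (Sk k) m') : m = m' := by
  have h1 : Red.gmFn (uPt k B ≫ Red.chi (Sk k) m) = Red.gmFn (uPt k B ≫ Red.chi (Sk k) m') := by rw [h]
  rw [gmFn_chi, gmFn_chi, chr_uPt, chr_uPt] at h1
  have h2 := gInv_injective k B h1
  rw [MonoidAlgebra.single_left_inj one_ne_zero] at h2
  exact Multiplicative.ofAdd.injective h2

lemma DSmap_injective {φ φ' : C →+ B} (h : Red.DSmap (Sk k) φ = Red.DSmap (Sk k) φ') : φ = φ' := by
  ext c
  have h1 : chr (uPt k B ≫ Red.DSmap (Sk k) φ) (Multiplicative.ofAdd c) =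
      chr (uPt k B ≫ Red.DSmap (Sk k) φ') (Multiplicative.ofAdd c) := by rw [h]
  rw [chr_DSmap, chr_DSmap, chr_uPt, chr_uPt] at h1
  have h2 := gInv_injective k B h1
  rw [MonoidAlgebra.single_left_inj one_ne_zero] at h2
  exact Multiplicative.ofAdd.injective h2

lemma chi_add (m m' : B) {S : Scheme.{u}} : Red.chi S (m + m') = Red.chi S m * Red.chi S m' := by
  apply gmFn_injective
  rw [gmFn_mul, ← Category.id_comp (Red.chi S (m + m')), ← Category.id_comp (Red.chi S m),
    ← Category.id_comp (Red.chi S m'), gmFn_chi, gmFn_chi, gmFn_chi, ofAdd_add, chr_mul_arg]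

end Homs

section HomClass

variable {k : Type u} [CommRing k] [IsDomain k] {B C : Type} [AddCommGroup B] [AddCommGroup C]

/-- **Homomorphisms of diagonalisable groups over a domain** are induced by homomorphisms of the
character groups. -/
theorem exists_DSmap_eq (ψ : Red.DS (Sk k) B ⟶ Red.DS (Sk k) C) [IsMonHom ψ] :
    ∃ φ : C →+ B, ψ = Red.DSmap (Sk k) φ := by
  have hex : ∀ c : C, ∃ b : B, ψ ≫ Red.chi (Sk k) c = Red.chi (Sk k) b := fun c => exists_chi_eq _
  choose φ hφ using hex
  have hadd : ∀ c c', φ (c + c') = φ c + φ c' := by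
    intro c c'
    apply chi_injective (k := k)
    rw [← hφ, chi_add, chi_add, MonObj.comp_mul, hφ, hφ]
  refine ⟨AddMonoidHom.mk' φ hadd, ?_⟩
  apply chr_injective
  intro c
  obtain ⟨c, rfl⟩ := Multiplicative.ofAdd.surjective c
  rw [← gmFn_chi, hφ, ← Category.id_comp (Red.chi _ _), gmFn_chi,
    ← Category.id_comp (Red.DSmap _ _), chr_DSmap]
  rfl

end HomClass

end Groth.Agent.Lib.Helper62.DSCartier
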