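import Mathlib
import Groth.Prelude.Def_PP16
import Groth.Agent.Lib.Helper81.DiffSmoothBridge

set_option autoImplicit false
universe u

open scoped TensorProduct

namespace Groth.Agent.Lib.Helper62.DiffQReg

open Groth.Agent.Lib.Helper81.SymPow Groth.Agent.Lib.Helper81.SymGr
  Groth.Agent.Lib.Helper81.SymPowCompare Groth.Agent.Lib.Helper81.DiffSmoothBridge

section multi

variable {R : Type*} [CommRing R] {ι : Type*} [Fintype ι] {M N : Type*} [AddCommGroup M]
  [Module R M] [AddCommGroup N] [Module R N]

/-- A multilinear map takes values in a submodule as soon as it does on a spanning set. -/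
theorem multilinear_mem_of_span (f : MultilinearMap R (fun _ : ι => M) N) (S : Set M)
    (hS : Submodule.span R S = ⊤) (Q : Submodule R N)
    (h : ∀ v : ι → M, (∀ i, v i ∈ S) → f v ∈ Q) (v : ι → M) : f v ∈ Q := by
  classical
  have key : ∀ t : Finset ι, ∀ v : ι → M, (∀ i, i ∉ t → v i ∈ S) → f v ∈ Q := by
    intro t
    induction t using Finset.induction_on with
    | empty => intro v hv; exact h v (fun i => hv i (Finset.notMem_empty i))
    | insert j t' hj ih =>
      intro v hv
      have hvj : v j ∈ Submodule.span R S := by rw [hS]; trivial
      have : ∀ m ∈ Submodule.span R S, f (Function.update v j m) ∈ Q := by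
        intro m hm
        induction hm using Submodule.span_induction with
        | mem m hm =>
          apply ih
          intro i hi
          by_cases hij : i = j
          · subst hij; rw [Function.update_self]; exact hm
          · rw [Function.update_of_ne hij]
            exact hv i (by rw [Finset.mem_insert]; push Not; exact ⟨hij, hi⟩)
        | zero => rw [f.map_update_zero]; exact Q.zero_mem
        | add x y _ _ hx hy => rw [f.map_update_add]; exact Q.add_mem hx hy
        | smul c x _ hx => rw [f.map_update_smul]; exact Q.smul_mem c hx
      have h2 := this (v j) hvj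
      rwa [Function.update_eq_self] at h2
  exact key Finset.univ v (fun i hi => absurd (Finset.mem_univ i) hi)

end multi

section spanSym

variable {R ι : Type u} [CommRing R] [Fintype ι] {M : Type u} [AddCommGroup M] [Module R M]

theorem span_tprod_of_span (S : Set M) (hS : Submodule.span R S = ⊤) :
    Submodule.span R {t | ∃ v : ι → M, (∀ i, v i ∈ S) ∧ SymmetricPower.tprod R v = t} = ⊤ := by
  rw [eq_top_iff, ← SymmetricPower.span_tprod_eq_top, Submodule.span_le]
  rintro _ ⟨v, rfl⟩
  exact multilinear_mem_of_span (SymmetricPower.tprod R) S hS
    (Submodule.span R {t | ∃ v : ι → M, (∀ i, v i ∈ S) ∧ SymmetricPower.tprod R v = t})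
    (fun v hv => Submodule.subset_span ⟨v, hv, rfl⟩) v

end spanSym

end Groth.Agent.Lib.Helper62.DiffQReg
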