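import Mathlib
import Groth.Prelude.Def_PP16
import Groth.Agent.Lib.Helper62.DiffQReg0

set_option autoImplicit false
universe u

open scoped TensorProduct

namespace Groth.Agent.Lib.Helper62.DiffQReg

open Groth.Agent.Lib.Helper81.SymPow Groth.Agent.Lib.Helper81.SymGr
  Groth.Agent.Lib.Helper81.SymPowCompare Groth.Agent.Lib.Helper81.DiffSmoothBridge

variable (A B : Type u) [CommRing A] [CommRing B] [Algebra A B]

theorem symGrBijective_of_isDiffSmooth (h : PP16.IsDiffSmooth A B) :
    PP16.SymGrBijective (B ⊗[A] B) (KaehlerDifferential.ideal A B) := by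
  rw [symGrBijective_iff]
  intro ι _ _
  obtain ⟨φ, hφ, hbij⟩ := h.2 ι
  have hφeq : φ = phi A B ι := by
    apply LinearMap.ext_on (span_tprod_of_span (R := B) (ι := ι)
      (Set.range (KaehlerDifferential.D A B)) (KaehlerDifferential.span_range_derivation A B))
    rintro _ ⟨v, hv, rfl⟩
    choose b hb using hv
    have : v = fun i => KaehlerDifferential.D A B (b i) := funext fun i => (hb i).symm
    rw [this, hφ]
    exact (phi_tprod A B ι b).symm
  rw [hφeq] at hbij
  intro x y hxy
  obtain ⟨x', rfl⟩ := compare_surjective (mu A B) ι (smul_eq_mu A B) x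
  obtain ⟨y', rfl⟩ := compare_surjective (mu A B) ι (smul_eq_mu A B) y
  have : phi A B ι x' = phi A B ι y' := by
    rw [phi_apply, phi_apply, hxy]
  rw [hbij.1 this]

end Groth.Agent.Lib.Helper62.DiffQReg
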