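import Mathlib
import Groth.Prelude.Def_PP16
import Groth.Agent.Lib.Helper62.DiffQReg1

set_option autoImplicit false
universe u

open scoped TensorProduct

namespace Groth.Agent.Lib.Helper62.DiffQReg

open Groth.Agent.Lib.Helper81.DiffSmoothBridge

variable (A B : Type u) [CommRing A] [CommRing B] [Algebra A B]

noncomputable def sig : B →+* (B ⊗[A] B) ⧸ KaehlerDifferential.ideal A B :=
  (Ideal.Quotient.mk (KaehlerDifferential.ideal A B)).comp (algebraMap B (B ⊗[A] B))

theorem mu_eq_zero (x : B ⊗[A] B) (hx : x ∈ KaehlerDifferential.ideal A B) : mu A B x = 0 := hx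

noncomputable def sig' : (B ⊗[A] B) ⧸ KaehlerDifferential.ideal A B →+* B :=
  Ideal.Quotient.lift (KaehlerDifferential.ideal A B) (mu A B) (mu_eq_zero A B)

instance invPair1 : RingHomInvPair (sig A B) (sig' A B) where
  comp_eq := by
    apply RingHom.ext
    intro b
    show Ideal.Quotient.lift (KaehlerDifferential.ideal A B) (mu A B) (mu_eq_zero A B)
      (Ideal.Quotient.mk (KaehlerDifferential.ideal A B) (algebraMap B (B ⊗[A] B) b)) = b
    rw [Ideal.Quotient.lift_mk, mu_algebraMap]
  comp_eq₂ := by
    apply Ideal.Quotient.ringHom_ext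
    apply RingHom.ext
    intro x
    show Ideal.Quotient.mk (KaehlerDifferential.ideal A B) (algebraMap B (B ⊗[A] B) (mu A B x)) =
      Ideal.Quotient.mk (KaehlerDifferential.ideal A B) x
    rw [Ideal.Quotient.eq]
    have := sub_mu_mem A B x
    rw [← Ideal.neg_mem_iff] at this
    rwa [neg_sub] at this

instance invPair2 : RingHomInvPair (sig' A B) (sig A B) where
  comp_eq := (invPair1 A B).comp_eq₂
  comp_eq₂ := (invPair1 A B).comp_eq

/-- `Ω_{B/A}` over `B` and `I/I²` over `(B ⊗ B)/I` are the same module. -/
noncomputable def kaehlerEquiv :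
    Ω[B⁄A] ≃ₛₗ[sig A B] (KaehlerDifferential.ideal A B).Cotangent where
  toFun := fun x => x
  invFun := fun x => x
  map_add' := fun _ _ => rfl
  map_smul' := fun b x => by
    refine Eq.trans (algebraMap_smul (B ⊗[A] B) b x).symm ?_
    exact (algebraMap_smul (M := (KaehlerDifferential.ideal A B).Cotangent)
      ((B ⊗[A] B) ⧸ KaehlerDifferential.ideal A B) (algebraMap B (B ⊗[A] B) b) x).symm
  left_inv := fun _ => rfl
  right_inv := fun _ => rfl

theorem projective_iff :
    Module.Projective B (Ω[B⁄A]) ↔
      Module.Projective ((B ⊗[A] B) ⧸ KaehlerDifferential.ideal A B)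
        (KaehlerDifferential.ideal A B).Cotangent := by
  constructor
  · intro h
    exact Module.Projective.of_equiv (kaehlerEquiv A B)
  · intro h
    exact Module.Projective.of_equiv (kaehlerEquiv A B).symm

end Groth.Agent.Lib.Helper62.DiffQReg
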