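import Mathlib

set_option linter.style.haveILetI false

/-!
# Quotient of a formally smooth algebra by elements whose differentials form a basis is
formally étale
-/

namespace Groth.Agent.Lib.Helper62.EtaleQuot

open TensorProduct KaehlerDifferential

variable {C P T : Type*} [CommRing C] [CommRing P] [CommRing T]
  [Algebra C P] [Algebra P T] [Algebra C T] [IsScalarTower C P T]

omit [Algebra C T] [IsScalarTower C P T] in
/-- Bijectivity of `I/I² → T ⊗ Ω[P/C]` when `I` is generated by elements whose differentials form
a basis of `Ω[P/C]`. -/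
theorem kerCotangentToTensor_bijective_of_basis
    (hsurj : Function.Surjective (algebraMap P T))
    {κ : Type*} [Fintype κ] (gP : κ → P)
    (h1 : ∀ i, gP i ∈ RingHom.ker (algebraMap P T))
    (h2 : RingHom.ker (algebraMap P T) ≤ Ideal.span (Set.range gP))
    (bP : Module.Basis κ P Ω[P⁄C]) (hb : ∀ i, bP i = D C P (gP i)) :
    Function.Bijective (kerCotangentToTensor C P T) := by
  classical
  let bT : Module.Basis κ T (T ⊗[P] Ω[P⁄C]) := bP.baseChange T
  have hk : ∀ i, kerCotangentToTensor C P T (Ideal.toCotangent _ ⟨gP i, h1 i⟩) = bT i := by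
    intro i
    rw [kerCotangentToTensor_toCotangent, Module.Basis.baseChange_apply, hb]
  constructor
  · rw [← LinearMap.ker_eq_bot, Submodule.eq_bot_iff]
    intro z hz
    obtain ⟨⟨y, hy⟩, rfl⟩ := Ideal.toCotangent_surjective _ z
    obtain ⟨c, hc⟩ := (Ideal.mem_span_range_iff_exists_fun).mp (h2 hy)
    have hz' : (∑ i, (algebraMap P T (c i)) • bT i) = 0 := by
      rw [LinearMap.mem_ker, kerCotangentToTensor_toCotangent] at hz
      simp only at hz
      rw [← hz, ← hc, map_sum, TensorProduct.tmul_sum]
      refine Finset.sum_congr rfl fun i _ => ?_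
      rw [Derivation.leibniz, TensorProduct.tmul_add, TensorProduct.tmul_smul,
        TensorProduct.tmul_smul, algebraMap_smul, ← hb, Module.Basis.baseChange_apply]
      have : (gP i • ((1 : T) ⊗ₜ[P] (D C P) (c i))) = 0 := by
        rw [TensorProduct.smul_tmul', Algebra.smul_def, mul_one, (RingHom.mem_ker).mp (h1 i),
          TensorProduct.zero_tmul]
      rw [this, add_zero]
    have hci : ∀ i, algebraMap P T (c i) = 0 := by
      have := (Fintype.linearIndependent_iff.mp bT.linearIndependent) _ hz'
      exact this
    rw [Ideal.toCotangent_eq_zero]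
    simp only
    rw [← hc]
    refine Ideal.sum_mem _ fun i _ => ?_
    rw [pow_two]
    exact Ideal.mul_mem_mul ((RingHom.mem_ker).mpr (hci i)) (h1 i)
  · intro w
    choose p hp using fun i => hsurj (bT.repr w i)
    refine ⟨∑ i, p i • Ideal.toCotangent _ ⟨gP i, h1 i⟩, ?_⟩
    rw [map_sum]
    conv_rhs => rw [← bT.sum_repr w]
    refine Finset.sum_congr rfl fun i _ => ?_
    rw [map_smul, hk, ← hp i, algebraMap_smul]

theorem formallyEtale_of_kerCotangentToTensor_bijective [Algebra.FormallySmooth C P]
    (hsurj : Function.Surjective (algebraMap P T))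
    (hbij : Function.Bijective (kerCotangentToTensor C P T)) : Algebra.FormallyEtale C T := by
  have hsm : Algebra.FormallySmooth C T := by
    rw [Algebra.FormallySmooth.iff_split_injection hsurj]
    let e := LinearEquiv.ofBijective (kerCotangentToTensor C P T) hbij
    refine ⟨e.symm.toLinearMap, ?_⟩
    ext z
    exact e.symm_apply_apply z
  have hunr : Algebra.FormallyUnramified C T := by
    refine ⟨?_⟩
    have hex := KaehlerDifferential.exact_kerCotangentToTensor_mapBaseChange C P T hsurj
    have hs := KaehlerDifferential.mapBaseChange_surjective C P T hsurj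
    refine ⟨fun a b => ?_⟩
    obtain ⟨a', rfl⟩ := hs a
    obtain ⟨b', rfl⟩ := hs b
    obtain ⟨a'', rfl⟩ := hbij.2 a'
    obtain ⟨b'', rfl⟩ := hbij.2 b'
    rw [hex.apply_apply_eq_zero, hex.apply_apply_eq_zero]
  exact Algebra.FormallyEtale.of_formallyUnramified_and_formallySmooth

theorem formallyEtale_of_basis [Algebra.FormallySmooth C P]
    (hsurj : Function.Surjective (algebraMap P T))
    {κ : Type*} [Fintype κ] (gP : κ → P)
    (h1 : ∀ i, gP i ∈ RingHom.ker (algebraMap P T))
    (h2 : RingHom.ker (algebraMap P T) ≤ Ideal.span (Set.range gP))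
    (bP : Module.Basis κ P Ω[P⁄C]) (hb : ∀ i, bP i = D C P (gP i)) :
    Algebra.FormallyEtale C T :=
  formallyEtale_of_kerCotangentToTensor_bijective hsurj
    (kerCotangentToTensor_bijective_of_basis hsurj gP h1 h2 bP hb)

end Groth.Agent.Lib.Helper62.EtaleQuot
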