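import Groth.Agent.Lib.Helper62.EtaleQuot1

set_option linter.style.haveILetI false

/-!
# Local étale quotients of smooth algebras
-/

namespace Groth.Agent.Lib.Helper62.EtaleQuot

open TensorProduct KaehlerDifferential

universe v w

set_option backward.isDefEq.respectTransparency.types false in
/-- `C → B` smooth, `J` an ideal of `B` with `C → B/J` surjective, `𝔮` a prime of `B`.  Near `𝔮`
the module of differentials has a basis `d a_i` with `a_i ∈ J`. -/
theorem exists_away_basis {C : Type v} {B : Type w} [CommRing C] [CommRing B] [Algebra C B]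
    [Algebra.Smooth C B] (J : Ideal B) (hCJ : ∀ b : B, ∃ c : C, b - algebraMap C B c ∈ J)
    (𝔮 : Ideal B) [𝔮.IsPrime] :
    ∃ (f : B) (_ : f ∉ 𝔮) (κ : Type w) (_ : Finite κ) (a : κ → B) (_ : ∀ i, a i ∈ J)
      (b : Module.Basis κ (Localization.Away f) Ω[Localization.Away f⁄C]),
      ∀ i, b i = D C _ (algebraMap B (Localization.Away f) (a i)) := by
  let Bq := Localization.AtPrime 𝔮
  haveI : Algebra.FormallySmooth B Bq := Algebra.FormallySmooth.of_isLocalization 𝔮.primeCompl
  haveI : Algebra.FormallySmooth C Bq := Algebra.FormallySmooth.comp C B Bq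
  have hspanB : Submodule.span B (Set.range (fun g : J => D C B (g : B))) = ⊤ := by
    rw [eq_top_iff, ← span_range_derivation C B, Submodule.span_le]
    rintro _ ⟨b, rfl⟩
    obtain ⟨c, hc⟩ := hCJ b
    have : D C B b = D C B (b - algebraMap C B c) := by
      rw [map_sub, Derivation.map_algebraMap, sub_zero]
    rw [this]
    exact Submodule.subset_span ⟨⟨_, hc⟩, rfl⟩
  have hspan : Submodule.span Bq (Set.range (fun g : J => map C C B Bq (D C B (g : B)))) = ⊤ := by
    have := span_eq_top_of_isLocalizedModule Bq 𝔮.primeCompl (map C C B Bq) hspanB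
    rw [← Set.range_comp] at this
    exact this
  obtain ⟨κ, a, b, hb⟩ := Module.exists_basis_of_span_of_flat _ hspan
  let e : (κ →₀ B) →ₗ[B] Ω[B⁄C] :=
    Finsupp.linearCombination B fun i : κ ↦ D C B (a i : B)
  let l₁ : (κ →₀ B) →ₗ[B] (κ →₀ Bq) :=
    Finsupp.mapRange.linearMap (Algebra.linearMap B Bq)
  let l₂ : Ω[B⁄C] →ₗ[B] Ω[Bq⁄C] := map C C B Bq
  let eₚ : (κ →₀ Bq) →ₗ[Bq] Ω[Bq⁄C] :=
    IsLocalizedModule.mapExtendScalars 𝔮.primeCompl l₁ l₂ Bq e
  have : eₚ = b.repr.symm := by
    ext i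
    trans IsLocalizedModule.map 𝔮.primeCompl l₁ l₂ e <| l₁ <| Finsupp.single i 1
    · simp [eₚ, -IsLocalizedModule.map_apply, l₁]
    · simp [l₂, e, hb]
  have heₚ : Function.Bijective eₚ := this ▸ b.repr.symm.bijective
  have : Finite κ := Module.Finite.finite_basis b
  obtain ⟨g, hg, h⟩ := Module.FinitePresentation.exists_notMem_bijective e 𝔮 l₁ l₂ heₚ
  let l₁ₜ : (κ →₀ B) →ₗ[B] (κ →₀ Localization.Away g) :=
    Finsupp.mapRange.linearMap (Algebra.linearMap B _)
  let l₂ₜ : Ω[B⁄C] →ₗ[B] Ω[Localization.Away g⁄C] :=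
    map C C B (Localization.Away g)
  rw [← IsLocalizedModule.map_bijective_iff_localizedModuleMap_bijective l₁ₜ l₂ₜ] at h
  let eₜ' : (κ →₀ Localization.Away g) →ₗ[Localization.Away g] Ω[Localization.Away g⁄C] :=
    IsLocalizedModule.mapExtendScalars (Submonoid.powers g) l₁ₜ l₂ₜ (Localization.Away g) e
  refine ⟨g, hg, κ, inferInstance, fun i => (a i : B), fun i => (a i).2,
    .ofRepr (LinearEquiv.ofBijective eₜ' h).symm, ?_⟩
  intro i
  simp +zetaDelta [IsLocalizedModule.map_linearCombination]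

end Groth.Agent.Lib.Helper62.EtaleQuot
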