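import Mathlib
import Groth.Agent.Lib.Helper62.FibReg13

/-!
# Smoothness of a quotient by a sequence which is quasi-regular modulo a locally nilpotent ideal
(helper62)
-/

set_option autoImplicit false
universe u

open TensorProduct
open scoped Pointwise

namespace Groth.Agent.Lib.Helper62.FibReg

section DQ

variable {A' B' : Type u} [CommRing A'] [CommRing B'] [Algebra A' B'] (I : Ideal A')
  {r : ℕ} (f' : Fin r → B')

/-- `(B'/IB')/(f̄) ≅ (B'/(f'))/I(B'/(f'))` as `A'`-algebras. -/
noncomputable def dqEquiv :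
    ((B' ⧸ Ideal.map (algebraMap A' B') I) ⧸
      Ideal.span (Set.range (fun i => Ideal.Quotient.mk (Ideal.map (algebraMap A' B') I) (f' i))))
      ≃ₐ[A'] ((B' ⧸ Ideal.span (Set.range f')) ⧸
        Ideal.map (algebraMap A' (B' ⧸ Ideal.span (Set.range f'))) I) :=
  (Ideal.quotientEquivAlgOfEq A' (by
    rw [Ideal.map_span]
    congr 1
    ext x
    simp only [Set.mem_range, Set.mem_image]
    constructor
    · rintro ⟨i, rfl⟩
      exact ⟨f' i, ⟨i, rfl⟩, rfl⟩
    · rintro ⟨_, ⟨i, rfl⟩, rfl⟩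
      exact ⟨i, rfl⟩)).trans <|
  (DoubleQuot.quotQuotEquivCommₐ A' (Ideal.map (algebraMap A' B') I)
    (Ideal.span (Set.range f'))).trans <|
  Ideal.quotientEquivAlgOfEq A' (by
    change Ideal.map (Ideal.Quotient.mk (Ideal.span (Set.range f')))
      (Ideal.map (algebraMap A' B') I) = _
    rw [Ideal.map_map]
    rfl)

end DQ

section Smooth

variable {A' B' : Type u} [CommRing A'] [CommRing B'] [Algebra A' B'] [Module.Flat A' B']
  [Algebra.FinitePresentation A' B'] (I : Ideal A') (hI : ∀ x ∈ I, IsNilpotent x)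
  {r : ℕ} (f' : Fin r → B')

include hI in
/-- The smooth version: if moreover `(B'/IB')/(f̄)` is smooth over `A'/I`, then `B'/(f')` is smooth
over `A'`. -/
theorem smooth_quotient_of_quasiRegular_mod
    (hq : CAlgX.IsQuasiRegular
      (fun i => Ideal.Quotient.mk (Ideal.map (algebraMap A' B') I) (f' i)))
    (hsm : Algebra.Smooth (A' ⧸ I)
      ((B' ⧸ Ideal.map (algebraMap A' B') I) ⧸
        Ideal.span (Set.range (fun i => Ideal.Quotient.mk (Ideal.map (algebraMap A' B') I) (f' i))))) :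
    Algebra.Smooth A' (B' ⧸ Ideal.span (Set.range f')) := by
  classical
  have hflat' : Module.Flat A' (B' ⧸ Ideal.span (Set.range f')) :=
    flat_quotient_of_quasiRegular_mod I hI f' hq inferInstance
  have hfpB : Algebra.FinitePresentation B' (B' ⧸ Ideal.span (Set.range f')) :=
    Algebra.FinitePresentation.quotient
      ⟨(Finset.univ.image f'), by rw [Finset.coe_image, Finset.coe_univ, Set.image_univ]⟩
  have hfp : Algebra.FinitePresentation A' (B' ⧸ Ideal.span (Set.range f')) :=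
    Algebra.FinitePresentation.trans A' B' _
  refine Algebra.Smooth.of_formallySmooth_fiber (fun p' _ => ?_)
  have hIp : I ≤ p' := by
    intro x hx
    obtain ⟨n, hn⟩ := hI x hx
    exact Ideal.IsPrime.mem_of_pow_mem inferInstance n (by rw [hn]; exact Ideal.zero_mem _)
  let _ : Algebra (A' ⧸ I) p'.ResidueField := (quotToResidueField I p' hIp).toAlgebra
  have _ : IsScalarTower A' (A' ⧸ I) p'.ResidueField :=
    IsScalarTower.of_algebraMap_eq (fun x => rfl)
  set C' := B' ⧸ Ideal.span (Set.range f') with hC'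
  set C₀ := (B' ⧸ Ideal.map (algebraMap A' B') I) ⧸
    Ideal.span (Set.range (fun i => Ideal.Quotient.mk (Ideal.map (algebraMap A' B') I) (f' i)))
    with hC₀
  let e0 : C₀ ≃ₐ[A' ⧸ I] (C' ⧸ Ideal.map (algebraMap A' C') I) :=
    AlgEquiv.extendScalarsOfSurjective Ideal.Quotient.mk_surjective (dqEquiv I f')
  let e1 : C₀ ≃ₐ[A' ⧸ I] (A' ⧸ I) ⊗[A'] C' :=
    e0.trans (Algebra.TensorProduct.quotIdealMapEquivQuotTensor C' I)
  let E1 : p'.ResidueField ⊗[A' ⧸ I] C₀ ≃ₐ[p'.ResidueField]
      p'.ResidueField ⊗[A' ⧸ I] ((A' ⧸ I) ⊗[A'] C') :=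
    Algebra.TensorProduct.congr AlgEquiv.refl e1
  let E2 : p'.ResidueField ⊗[A' ⧸ I] ((A' ⧸ I) ⊗[A'] C') ≃ₐ[p'.ResidueField]
      p'.ResidueField ⊗[A'] C' :=
    Algebra.TensorProduct.cancelBaseChange A' (A' ⧸ I) p'.ResidueField p'.ResidueField C'
  have h1 : Algebra.FormallySmooth p'.ResidueField (p'.ResidueField ⊗[A' ⧸ I] C₀) :=
    inferInstance
  have h2 : Algebra.FormallySmooth p'.ResidueField (p'.ResidueField ⊗[A'] C') :=
    Algebra.FormallySmooth.of_equiv (R := p'.ResidueField)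
      (A := p'.ResidueField ⊗[A' ⧸ I] C₀) (B := p'.ResidueField ⊗[A'] C') (E1.trans E2)
  exact h2

end Smooth

end Groth.Agent.Lib.Helper62.FibReg
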