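import Mathlib
import Groth.Prelude.Def_ProCons
import Groth.Agent.Lib.Helper23.FibreIndCons

/-!
# Ind-constructibility of fibrewise properties, for families of properties (helper62)

A generalisation of `Helper23.isIndConstructible_setOf_fibreMap` (EGA IV 9.6.1, ind-constructible
half): instead of a morphism property evaluated on the fibre map, an arbitrary family `Q β` of
properties of base changes `β : T ⟶ S`, stable under further base change and descending through
cofiltered limits of affine schemes.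
-/

set_option autoImplicit false
set_option linter.style.haveILetI false
universe u
open CategoryTheory Limits AlgebraicGeometry

namespace Groth.Agent.Lib.Helper62.FibreIndConsQ

open Groth.Agent.Lib.Helper23

variable {S : Scheme.{u}}

/-- the descent hypothesis for a family of properties of base changes. -/
def Descends (Q : ∀ ⦃T : Scheme.{u}⦄, (T ⟶ S) → Prop) : Prop :=
  ∀ {I : Type u} [SmallCategory I] [IsCofiltered I] (D : I ⥤ Scheme.{u}) (c : Cone D)
    (_ : IsLimit c) [∀ (i j : I) (f : i ⟶ j), IsAffineHom (D.map f)] [∀ i, IsAffine (D.obj i)]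
    (i₀ : I) (β₀ : D.obj i₀ ⟶ S), Q (c.π.app i₀ ≫ β₀) → ∃ (i : I) (φ : i ⟶ i₀), Q (D.map φ ≫ β₀)

theorem exists_isConstructible_nhd_of_family (Q : ∀ ⦃T : Scheme.{u}⦄, (T ⟶ S) → Prop)
    (hbc : ∀ ⦃T T' : Scheme.{u}⦄ (β : T ⟶ S) (h : T' ⟶ T), Q β → Q (h ≫ β))
    (hdesc : Descends Q)
    {U : S.Opens} (hU : IsAffineOpen U) (s : S) (hs : s ∈ U)
    (hQ : Q (S.fromSpecResidueField s)) :
    ∃ C : Set (U : Set S), Topology.IsConstructible C ∧ (⟨s, hs⟩ : (U : Set S)) ∈ C ∧
      ∀ t ∈ C, Q (S.fromSpecResidueField t.1) := by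
  classical
  let φ : Γ(S, U) →+* S.residueField s := (S.evaluation U s hs).hom
  let F : Finset Γ(S, U) ⥤ Under Γ(S, U) := resDiagram φ
  let cc : Cocone F := resCocone φ
  have hcc : IsColimit cc := isColimitResCocone φ (evaluation_surj hU s hs)
  let β : ∀ j : (Finset Γ(S, U))ᵒᵖ, (specDiagram F).obj j ⟶ S :=
    fun j => Spec.map (F.obj j.unop).hom ≫ hU.fromSpec
  have hβ : ∀ {i j : (Finset Γ(S, U))ᵒᵖ} (a : i ⟶ j), (specDiagram F).map a ≫ β j = β i := by
    intro i j a
    have hw : (F.obj j.unop).hom ≫ (F.map a.unop).right = (F.obj i.unop).hom :=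
      Under.w (F.map a.unop)
    change Spec.map (F.map a.unop).right ≫ Spec.map (F.obj j.unop).hom ≫ hU.fromSpec =
      Spec.map (F.obj i.unop).hom ≫ hU.fromSpec
    rw [← Category.assoc, ← Spec.map_comp, hw]
  let i₀ : (Finset Γ(S, U))ᵒᵖ := Opposite.op ∅
  have hβc : (specCone F cc).π.app i₀ ≫ β i₀ = S.fromSpecResidueField s := by
    have hw : (F.obj i₀.unop).hom ≫ (cc.ι.app i₀.unop).right = cc.pt.hom :=
      Under.w (cc.ι.app i₀.unop)
    change Spec.map (cc.ι.app i₀.unop).right ≫ Spec.map (F.obj i₀.unop).hom ≫ hU.fromSpec = _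
    rw [← Category.assoc, ← Spec.map_comp, hw]
    exact SpecMap_evaluation_fromSpec hU s hs
  have hinst : ∀ (i j : (Finset Γ(S, U))ᵒᵖ) (a : i ⟶ j), IsAffineHom ((specDiagram F).map a) :=
    fun i j a => inferInstance
  have hQ' : Q ((specCone F cc).π.app i₀ ≫ β i₀) := by rw [hβc]; exact hQ
  obtain ⟨i, φ', hi⟩ := hdesc (specDiagram F) (specCone F cc) (isLimitSpecCone F hcc) i₀ (β i₀) hQ'
  rw [hβ φ'] at hi
  refine ⟨stageSet s hs i.unop, isConstructible_stageSet hU s hs i.unop,
    mem_stageSet_self s hs i.unop, ?_⟩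
  rintro ⟨t, htU⟩ ⟨ht0, htu⟩
  let γ : Spec (S.residueField t) ⟶ (specDiagram F).obj i :=
    Spec.map (CommRingCat.ofHom (stageLift φ i.unop (S.evaluation U t htU).hom ht0 htu.isUnit))
  have hγ : γ ≫ β i = S.fromSpecResidueField t := by
    change Spec.map (CommRingCat.ofHom (stageLift φ i.unop (S.evaluation U t htU).hom ht0
      htu.isUnit)) ≫ Spec.map (CommRingCat.ofHom (stageMap φ i.unop)) ≫ hU.fromSpec = _
    rw [← Category.assoc, ← Spec.map_comp, ← CommRingCat.ofHom_comp, stageLift_comp]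
    exact SpecMap_evaluation_fromSpec hU t htU
  have := hbc (β i) γ hi
  rw [hγ] at this
  exact this

/-- **Ind-constructibility of fibrewise properties**, for a family of properties. -/
theorem isIndConstructible_setOf_family (Q : ∀ ⦃T : Scheme.{u}⦄, (T ⟶ S) → Prop)
    (hbc : ∀ ⦃T T' : Scheme.{u}⦄ (β : T ⟶ S) (h : T' ⟶ T), Q β → Q (h ≫ β))
    (hdesc : Descends Q) :
    ProCons.IsIndConstructible {s : S | Q (S.fromSpecResidueField s)} := by
  intro x
  obtain ⟨U, hU, hxU⟩ := Groth.Agent.Lib.Helper16.exists_affine_nhd x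
  refine ⟨U, U.2, hxU, {C | Topology.IsLocallyConstructible C ∧
    C ⊆ Subtype.val ⁻¹' {s : S | Q (S.fromSpecResidueField s)}},
    fun C hC => hC.1, ?_⟩
  ext t
  constructor
  · intro ht
    obtain ⟨C, hC, htC, hCE⟩ := exists_isConstructible_nhd_of_family Q hbc hdesc hU t.1 t.2 ht
    exact Set.mem_sUnion.mpr ⟨C, ⟨hC.isLocallyConstructible, fun t' ht' => hCE t' ht'⟩, htC⟩
  · rintro ⟨C, ⟨_, hCE⟩, htC⟩
    exact hCE htC

end Groth.Agent.Lib.Helper62.FibreIndConsQ
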