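import Mathlib
import Groth.Prelude.Def_FlatFun
import Groth.Prelude.Def_CohB1
import Groth.Agent.Lib.Helper18.LimModEpi
import Groth.Agent.Lib.Helper19.FpqcModDesc2

/-!
# Limit preservation of the subfunctors of the final functor cut out by a condition on a
# base-changed morphism of modules

* `isLimitPreserving_genPSp`: for a condition `P` on `Over S` stable under morphisms over `S`,
  `genPSp S P` is limit preserving as soon as `P` descends to a finite stage of every cofiltered
  limit of affine schemes over `S`.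
* `isLimitPreserving_of_arrowProp`: the same for `P T = Q (u_T)`, `u_T` the base change to
  `X ×_S T` of a fixed morphism of modules `u` on `X`, `f : X ⟶ S` quasi-compact.
* the three instances `zero`, `epi`, `iso` (through helper18's descent of vanishing, surjectivity,
  bijectivity to a finite stage).
-/

set_option autoImplicit false
set_option linter.style.haveILetI false
universe u
open CategoryTheory CategoryTheory.Limits AlgebraicGeometry Opposite

noncomputable section

namespace Groth.Agent.Lib.Helper62.LimPres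

open Groth.Agent.Helper19.FpqcModDesc

section General

variable {S : Scheme.{u}}

/-- A condition stable under morphisms over `S` and descending to a finite stage of cofiltered limits
of affine schemes generates a limit preserving subfunctor of the final functor. -/
theorem isLimitPreserving_genPSp (P : Over S → Prop)
    (hP : ∀ ⦃T T₀ : Over S⦄ (_ : T ⟶ T₀), P T₀ → P T)
    (hdesc : ∀ ⦃I : Type u⦄ [SmallCategory I] [IsCofiltered I] (D : I ⥤ Over S) (c : Cone D),
      IsLimit ((Over.forget S).mapCone c) → (∀ i, IsAffine (D.obj i).left) → IsAffine c.pt.left →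
      P c.pt → ∃ i, P (D.obj i)) :
    AlgSp.IsLimitPreserving (FlatFun.genPSp S P) := by
  intro I _ _ D c hc hD hT
  refine ⟨Types.FilteredColimit.isColimitOf _ _ ?_ ?_⟩
  · intro x
    have hx : P c.pt := by
      obtain ⟨T₀, k, hk⟩ := (show ULift.{u + 1} (PLift (∃ (T₀ : Over S) (_ : c.pt ⟶ T₀), P T₀))
        from x).down.down
      exact hP k hk
    obtain ⟨i, hi⟩ := hdesc D c hc hD hT hx
    refine ⟨op i, (⟨⟨⟨D.obj i, 𝟙 _, hi⟩⟩⟩ :
      ULift.{u + 1} (PLift (∃ (T₀ : Over S) (_ : D.obj i ⟶ T₀), P T₀))), ?_⟩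
    exact @Subsingleton.elim _ (FlatFun.genPSp_subsingleton S P (op c.pt)) _ _
  · intro i j xi xj _
    refine ⟨IsFiltered.max i j, IsFiltered.leftToMax i j, IsFiltered.rightToMax i j, ?_⟩
    exact @Subsingleton.elim _
      (FlatFun.genPSp_subsingleton S P (op (D.obj (unop (IsFiltered.max i j))))) _ _

end General

section Arrow

variable {X S : Scheme.{u}} (f : X ⟶ S)

/-- base change along `f`, as a functor to schemes -/
def G : Over S ⥤ Scheme.{u} := Over.pullback f ⋙ Over.forget X

theorem G_map_fst {T T' : Over S} (h : T' ⟶ T) :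
    (G f).map h ≫ pullback.fst T.hom f = pullback.fst T'.hom f ≫ h.left :=
  pullback.lift_fst _ _ _

theorem G_map_snd {T T' : Over S} (h : T' ⟶ T) :
    (G f).map h ≫ pullback.snd T.hom f = pullback.snd T'.hom f :=
  pullback.lift_snd _ _ _

def isLimitGMapCone {I : Type u} [SmallCategory I] [IsCofiltered I] (D : I ⥤ Over S) (c : Cone D)
    (hc : IsLimit ((Over.forget S).mapCone c)) : IsLimit ((G f).mapCone c) := by
  have : IsConnected I := IsCofiltered.isConnected I
  have h1 : IsLimit c := isLimitOfReflects (Over.forget S) hc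
  have : PreservesLimitsOfSize.{u, u} (Over.pullback f) :=
    (Over.mapPullbackAdj f).rightAdjoint_preservesLimits
  have h2 : IsLimit ((Over.pullback f).mapCone c) := isLimitOfPreserves _ h1
  exact isLimitOfPreserves (Over.forget X) h2

theorem isPullback_G_map {T T' : Over S} (h : T' ⟶ T) :
    IsPullback ((G f).map h) (pullback.fst T'.hom f) (pullback.fst T.hom f) h.left := by
  have big : IsPullback ((G f).map h ≫ pullback.snd T.hom f) (pullback.fst T'.hom f) f
      (h.left ≫ T.hom) := by
    rw [G_map_snd, Over.w h]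
    exact (IsPullback.of_hasPullback T'.hom f).flip
  exact IsPullback.of_right big (G_map_fst f h) (IsPullback.of_hasPullback T.hom f).flip

theorem isAffineHom_G_map {T T' : Over S} (h : T' ⟶ T) [IsAffine T.left] [IsAffine T'.left] :
    IsAffineHom ((G f).map h) :=
  MorphismProperty.of_isPullback (P := @IsAffineHom) (isPullback_G_map f h).flip inferInstance

variable [QuasiCompact f] {F F' : X.Modules} (u : F ⟶ F')

theorem isLimitPreserving_of_arrowProp
    (Q : ∀ ⦃Z : Scheme.{u}⦄ ⦃A B : Z.Modules⦄, (A ⟶ B) → Prop)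
    (hstage : ∀ ⦃Z₁ Z₂ Z₃ : Scheme.{u}⦄ (a : Z₁ ⟶ Z₂) (g : Z₂ ⟶ Z₃) (h : Z₁ ⟶ Z₃), a ≫ g = h →
      ∀ ⦃A B : Z₃.Modules⦄ (v : A ⟶ B),
        (Q ((Scheme.Modules.pullback a).map ((Scheme.Modules.pullback g).map v)) ↔
          Q ((Scheme.Modules.pullback h).map v)))
    (hpull : ∀ ⦃Z₁ Z₂ : Scheme.{u}⦄ (a : Z₁ ⟶ Z₂) ⦃A B : Z₂.Modules⦄ (v : A ⟶ B),
      Q v → Q ((Scheme.Modules.pullback a).map v))
    (hdesc : ∀ ⦃I : Type u⦄ [SmallCategory I] [IsCofiltered I] (D : I ⥤ Scheme.{u}) (c : Cone D)
      (_ : IsLimit c) [∀ (i j : I) (φ : i ⟶ j), IsAffineHom (D.map φ)] (i₀ : I)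
      [CompactSpace (D.obj i₀)] (p : D.obj i₀ ⟶ X),
      Q ((Scheme.Modules.pullback (c.π.app i₀)).map ((Scheme.Modules.pullback p).map u)) →
      ∃ (j : I) (φ : j ⟶ i₀),
        Q ((Scheme.Modules.pullback (D.map φ)).map ((Scheme.Modules.pullback p).map u))) :
    AlgSp.IsLimitPreserving (FlatFun.genPSp S
      (fun T => Q ((Scheme.Modules.pullback (pullback.fst f T.hom)).map u))) := by
  apply isLimitPreserving_genPSp
  · intro T T₀ k hk
    exact (hstage (bcMap f k) (pullback.fst f T₀.hom) (pullback.fst f T.hom) (bcMap_fst f k) u).mp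
      (hpull _ _ hk)
  · intro I _ _ D c hc hD hT hx
    have hc' := isLimitGMapCone f D c hc
    haveI : ∀ (i j : I) (φ : i ⟶ j), IsAffineHom ((D ⋙ G f).map φ) := fun i j φ => by
      haveI := hD i
      haveI := hD j
      exact isAffineHom_G_map f (D.map φ)
    haveI : Nonempty I := IsCofiltered.nonempty
    let i₀ : I := Classical.arbitrary I
    haveI := hD i₀
    have hqc : QuasiCompact (@pullback.fst Scheme _ (D.obj i₀).left X S (D.obj i₀).hom f _) :=
      inferInstance
    haveI : CompactSpace ((D ⋙ G f).obj i₀) :=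
      @QuasiCompact.compactSpace_of_compactSpace _ _
        (@pullback.fst Scheme _ (D.obj i₀).left X S (D.obj i₀).hom f _) hqc inferInstance
    -- pass to the flipped fibre product
    have hx' : Q ((Scheme.Modules.pullback (pullback.snd c.pt.hom f)).map u) :=
      (hstage (pullbackSymmetry c.pt.hom f).hom (pullback.fst f c.pt.hom)
        (pullback.snd c.pt.hom f) (pullbackSymmetry_hom_comp_fst _ _) u).mp (hpull _ _ hx)
    have hx'' : Q ((Scheme.Modules.pullback (((G f).mapCone c).π.app i₀)).map
        ((Scheme.Modules.pullback (pullback.snd (D.obj i₀).hom f)).map u)) :=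
      (hstage (((G f).mapCone c).π.app i₀) (pullback.snd (D.obj i₀).hom f)
        (pullback.snd c.pt.hom f) (G_map_snd f (c.π.app i₀)) u).mpr hx'
    obtain ⟨j, φ, hj⟩ := hdesc (D ⋙ G f) ((G f).mapCone c) hc' i₀
      (pullback.snd (D.obj i₀).hom f) hx''
    refine ⟨j, ?_⟩
    have hj' : Q ((Scheme.Modules.pullback (pullback.snd (D.obj j).hom f)).map u) :=
      (hstage ((D ⋙ G f).map φ) (pullback.snd (D.obj i₀).hom f)
        (pullback.snd (D.obj j).hom f) (G_map_snd f (D.map φ)) u).mp hj
    exact (hstage (pullbackSymmetry f (D.obj j).hom).hom (pullback.snd (D.obj j).hom f)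
      (pullback.fst f (D.obj j).hom) (pullbackSymmetry_hom_comp_snd _ _) u).mp (hpull _ _ hj')

end Arrow

end Groth.Agent.Lib.Helper62.LimPres
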