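import Groth.Prelude.Def_FlatFun
import Groth.Agent.Lib.Helper18.LimFinLocFree
import Groth.Agent.Lib.Helper49.FreeNear
import Groth.Agent.Lib.Helper49.FinLocFreeSections
import Groth.Agent.S8913
import Groth.Agent.Lib.Helper62.LimPres

/-!
# Freeness near generic points of fibres (helper62)

* `isFreeOfRankNear_iff_rankAt`: pointwise comparison of `FlatFun.IsFreeOfRankNear` with helper18's
  `RankAt`.
* `freeAtGenericPts_iff`: for `q` with geometrically irreducible fibres, `FlatFun.FreeAtGenericPts q F p`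
  holds iff over every point there is *some* point near which `F` is free of rank `p`.
* `exists_rankAt_stage`: local descent of `RankAt` through a cofiltered limit with affine transition maps.
-/

set_option autoImplicit false
set_option linter.style.haveILetI false
universe u
open AlgebraicGeometry CategoryTheory Limits TopologicalSpace Opposite TensorProduct

namespace Groth.Agent.Lib.Helper62.FreeGen

open Groth.Agent.Lib.Helper49 Groth.Agent.Lib.Helper45 Groth.Agent.Lib.Helper18.LimFinLocFree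

section Pointwise

variable {X : Scheme.{u}}

theorem isFreeOfRankNear_iff_rankAt (F : X.Modules) [F.IsQuasicoherent] (n : ℕ) (x : X) :
    FlatFun.IsFreeOfRankNear F n x ↔ RankAt F n x := by
  constructor
  · rintro ⟨U, hxU, ⟨e⟩⟩
    obtain ⟨_, ⟨V, hV : IsAffineOpen V, rfl⟩, hxV, hVU⟩ :=
      X.isBasis_affineOpens.exists_subset_of_mem_open hxU U.2
    exact ⟨V, hV, hxV, ⟨sectionsEquivOfIsoFree F n (isoFreeOfLE hVU F n e)⟩⟩
  · rintro ⟨U, hU, hxU, ⟨e⟩⟩
    exact ⟨U, hxU, nonempty_iso_restrict_freeMod_of_linearEquiv hU F n e⟩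

end Pointwise

section Generic

variable {Y T : Scheme.{u}}

/-- with geometrically irreducible fibres, freeness near the generic point of a fibre may be tested at any
point of the fibre. -/
theorem freeAtGenericPts_iff (q : Y ⟶ T) [GeometricallyIrreducible q] (F : Y.Modules) (p : ℕ) :
    FlatFun.FreeAtGenericPts q F p ↔
      ∀ t : T, ∃ x : Y, q.base x = t ∧ FlatFun.IsFreeOfRankNear F p x := by
  constructor
  · intro h t
    obtain ⟨x, hx, -, hfree⟩ := h t
    exact ⟨x, hx, hfree⟩
  · intro h t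
    obtain ⟨x, hx, U, hxU, e⟩ := h t
    let ξ : q.fiber t := genericPoint (q.fiber t)
    have hξ : ∀ z : q.fiber t, ξ ⤳ z := fun z =>
      (genericPoint_spec (q.fiber t)).specializes (Set.mem_univ z)
    have hrange := Scheme.Hom.range_fiberι q t
    have hmem : ∀ z : q.fiber t, q.base ((q.fiberι t).base z) = t := fun z => by
      have : (q.fiberι t).base z ∈ Set.range (q.fiberι t).base := ⟨z, rfl⟩
      rw [hrange] at this
      exact this
    have hlift : ∀ x' : Y, q.base x' = t → ∃ z : q.fiber t, (q.fiberι t).base z = x' := fun x' hx' => by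
      have : x' ∈ Set.range (q.fiberι t).base := by
        rw [hrange]
        exact hx'
      exact this
    refine ⟨(q.fiberι t).base ξ, hmem ξ, ?_, U, ?_, e⟩
    · intro x' hx'
      rw [hmem ξ] at hx'
      obtain ⟨z, rfl⟩ := hlift x' hx'
      exact (hξ z).map (q.fiberι t).base.hom.2
    · obtain ⟨z, rfl⟩ := hlift x hx
      exact ((hξ z).map (q.fiberι t).base.hom.2).mem_open U.2 hxU

end Generic

section Descent

open Groth.Agent.Lib.Helper18.LimTensor Groth.Agent.Lib.Helper18.LimSystem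
  Groth.Agent.Lib.Helper18.TransSec

variable {I : Type u} [SmallCategory I] [IsCofiltered I] (D : I ⥤ Scheme.{u}) (c : Cone D)
  [∀ (i j : I) (f : i ⟶ j), IsAffineHom (D.map f)]

attribute [local instance] algA algB
attribute [local instance] Helper45.stalkModuleSections Helper45.sectionsBasicOpenModule

/-- finite projective sections over an affine open give freeness (of some rank) near each of its points. -/
theorem exists_rankAt_of_projective_sections {X : Scheme.{u}} (F : X.Modules)
    (hF : SheafOfModules.IsFinitePresentation (R := X.ringCatSheaf) F) {U : X.Opens}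
    (hU : IsAffineOpen U) (hproj : Module.Projective Γ(X, U) Γ(F, U)) (x : X) (hxU : x ∈ U) :
    ∃ n : ℕ, RankAt F n x := by
  haveI : F.IsQuasicoherent := isQuasicoherent_of_isFinitePresentation F hF
  have hfin : Module.Finite Γ(X, U) Γ(F, U) :=
    have := finitePresentation_sections_of_isFinitePresentation F hF hU
    inferInstance
  obtain ⟨xU, rfl⟩ : ∃ xU : U, (xU : X) = x := ⟨⟨x, hxU⟩, rfl⟩
  have := Helper45.isLocalizedModule_germₗ hU F xU
  have := hU.isLocalization_stalk xU
  have : Module.Projective (X.presheaf.stalk (xU : X)) ↑(F.presheaf.stalk (xU : X)) :=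
    Module.projective_of_isLocalizedModule (hU.primeIdealOf xU).asIdeal.primeCompl
      (Helper45.germₗ F xU)
  have : Module.Finite (X.presheaf.stalk (xU : X)) ↑(F.presheaf.stalk (xU : X)) :=
    Module.Finite.of_isLocalizedModule (hU.primeIdealOf xU).asIdeal.primeCompl
      (Helper45.germₗ F xU)
  have hfree : Module.Free (X.presheaf.stalk (xU : X)) ↑(F.presheaf.stalk (xU : X)) :=
    Module.free_of_flat_of_isLocalRing
  obtain ⟨V, n, hxV, e⟩ := exists_iso_restrict_freeMod_of_stalk_free F hF (xU : X) hfree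
  exact ⟨n, (isFreeOfRankNear_iff_rankAt F n _).mp ⟨V, hxV, e⟩⟩

/-- **local descent of freeness of given rank**: if the pullback to the limit of a finitely presented
module on a stage is free of rank `n` near `x`, so is its pullback to some stage near the image of `x`. -/
theorem exists_rankAt_stage (hc : IsLimit c) (i₀ : I) (F₀ : (D.obj i₀).Modules) [F₀.IsQuasicoherent]
    (hF₀ : SheafOfModules.IsFinitePresentation (R := (D.obj i₀).ringCatSheaf) F₀) (n : ℕ) (x : c.pt)
    (h : RankAt ((Scheme.Modules.pullback (c.π.app i₀)).obj F₀) n x) :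
    ∃ j : Over i₀,
      RankAt ((Scheme.Modules.pullback (D.map j.hom)).obj F₀) n (c.π.app j.left x) := by
  classical
  obtain ⟨U₀, hU₀, hxU₀, ⟨e₀⟩⟩ := h
  let U : c.pt.Opens := U₀
  have hU : IsAffineOpen U := hU₀
  have hxU : x ∈ U := hxU₀
  let e : Γ((Scheme.Modules.pullback (c.π.app i₀)).obj F₀, U) ≃ₗ[Γ(c.pt, U)]
      (Fin n → Γ(c.pt, U)) := e₀
  -- a basic open from a stage inside `U`
  obtain ⟨_, ⟨k, V, hV, rfl⟩, hxV, hVU⟩ :=
    (Opens.isBasis_iff_nbhd.mp (isBasis_preimage_isAffineOpen D c hc)) hxU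
  let m : I := IsCofiltered.min k i₀
  let a : m ⟶ k := IsCofiltered.minToLeft k i₀
  let b : m ⟶ i₀ := IsCofiltered.minToRight k i₀
  let Vm : (D.obj m).Opens := D.map a ⁻¹ᵁ V
  have hVm : IsAffineOpen Vm := hV.preimage (D.map a)
  have hWeq : c.π.app m ⁻¹ᵁ Vm = c.π.app k ⁻¹ᵁ V := by
    rw [← Scheme.Hom.comp_preimage, c.w]
  have hW : IsAffineOpen (c.π.app m ⁻¹ᵁ Vm) := by
    have := isAffineHom_π_app D c hc m
    exact hVm.preimage (c.π.app m)
  have hxW : x ∈ c.π.app m ⁻¹ᵁ Vm := by rw [hWeq]; exact hxV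
  have hWU : c.π.app m ⁻¹ᵁ Vm ≤ U := by rw [hWeq]; exact hVU
  let Fm : (D.obj m).Modules := (Scheme.Modules.pullback (D.map b)).obj F₀
  haveI hFmq : Fm.IsQuasicoherent :=
    Groth.Agent.Lib.Helper16.FlatPull.isQuasicoherent_pullback (D.map b) F₀
  have hFm : SheafOfModules.IsFinitePresentation (R := (D.obj m).ringCatSheaf) Fm :=
    Groth.Agent.S8913.isFinitePresentation_pullback (D.map b) F₀ hF₀
  let FT : c.pt.Modules := (Scheme.Modules.pullback (c.π.app m)).obj Fm
  haveI hFTq : FT.IsQuasicoherent :=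
    Groth.Agent.Lib.Helper16.FlatPull.isQuasicoherent_pullback (c.π.app m) Fm
  let φ : FT ≅ (Scheme.Modules.pullback (c.π.app i₀)).obj F₀ :=
    compIso (X' := c.pt) (c.π.app m) (D.map b) (c.π.app i₀) (c.w b) F₀
  have hrank : RankAt FT n x := ⟨U, hU, hxU, ⟨(secEquivOfIso φ U).trans e⟩⟩
  -- sections over the smaller affine open are free of rank `n`
  obtain ⟨ε⟩ := nonempty_iso_restrict_freeMod_of_linearEquiv hU FT n ((secEquivOfIso φ U).trans e)
  have eW : Γ(FT, c.π.app m ⁻¹ᵁ Vm) ≃ₗ[Γ(c.pt, c.π.app m ⁻¹ᵁ Vm)]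
      (Fin n → Γ(c.pt, c.π.app m ⁻¹ᵁ Vm)) :=
    sectionsEquivOfIsoFree FT n (isoFreeOfLE hWU FT n ε)
  have hfp : Module.FinitePresentation Γ(D.obj m, Vm) Γ(Fm, Vm) :=
    finitePresentation_sections_of_isFinitePresentation Fm hFm hVm
  have hsys := isColimSystem D c m Vm hc hVm
  have hprojT : Module.Projective Γ(c.pt, c.π.app m ⁻¹ᵁ Vm) Γ(FT, c.π.app m ⁻¹ᵁ Vm) :=
    Module.Projective.of_equiv eW.symm
  have hB : Module.Projective Γ(c.pt, c.π.app m ⁻¹ᵁ Vm)
      (Γ(c.pt, c.π.app m ⁻¹ᵁ Vm) ⊗[Γ(D.obj m, Vm)] Γ(Fm, Vm)) :=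
    Module.Projective.of_equiv
      (pullbackSectionsEquiv (X' := c.pt) (c.π.app m) hVm hW le_rfl Fm)
  obtain ⟨j, -, hj⟩ := exists_projective_stage hsys Γ(Fm, Vm) hB (Over.mk (𝟙 m))
  have hPj := hj j (𝟙 j)
  let Fj : (D.obj j.left).Modules := (Scheme.Modules.pullback (D.map j.hom)).obj Fm
  haveI hFjq : Fj.IsQuasicoherent :=
    Groth.Agent.Lib.Helper16.FlatPull.isQuasicoherent_pullback (D.map j.hom) Fm
  have hFj : SheafOfModules.IsFinitePresentation (R := (D.obj j.left).ringCatSheaf) Fj :=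
    Groth.Agent.S8913.isFinitePresentation_pullback (D.map j.hom) Fm hFm
  have hVj : IsAffineOpen (D.map j.hom ⁻¹ᵁ Vm) := hVm.preimage (D.map j.hom)
  let ej : Γ(Fj, D.map j.hom ⁻¹ᵁ Vm) ≃ₗ[Γ(D.obj j.left, D.map j.hom ⁻¹ᵁ Vm)]
      (Γ(D.obj j.left, D.map j.hom ⁻¹ᵁ Vm) ⊗[Γ(D.obj m, Vm)] Γ(Fm, Vm)) :=
    pullbackSectionsEquiv (D.map j.hom) hVm hVj le_rfl Fm
  have hprojj : Module.Projective Γ(D.obj j.left, D.map j.hom ⁻¹ᵁ Vm) Γ(Fj, D.map j.hom ⁻¹ᵁ Vm) :=
    Module.Projective.of_equiv ej.symm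
  have hyV : c.π.app j.left x ∈ D.map j.hom ⁻¹ᵁ Vm := by
    change (c.π.app j.left ≫ D.map j.hom) x ∈ Vm
    rw [c.w j.hom]
    exact hxW
  obtain ⟨n', hn'⟩ := exists_rankAt_of_projective_sections Fj hFj hVj hprojj _ hyV
  -- compare ranks on the limit
  have h1 := hn'.pullback (c.π.app j.left) Fj
  have h2 : RankAt FT n' x :=
    h1.of_iso (compIso (X' := c.pt) (c.π.app j.left) (D.map j.hom) (c.π.app m) (c.w j.hom) Fm)
  have hnn : n' = n := h2.unique hrank
  subst hnn
  refine ⟨Over.mk (j.hom ≫ b), ?_⟩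
  exact hn'.of_iso (compIso (D.map j.hom) (D.map b) (D.map (j.hom ≫ b)) (D.map_comp j.hom b).symm F₀)

end Descent

section Transport

open Groth.Agent.Lib.Helper18.TransSec

/-- transport of `RankAt` along a commutative triangle. -/
theorem rankAt_of_comp {Y Y' X : Scheme.{u}} (σ : Y ⟶ Y') (a' : Y' ⟶ X) (a : Y ⟶ X) (e : σ ≫ a' = a)
    (F : X.Modules) [F.IsQuasicoherent] {n : ℕ} {y : Y}
    (h : RankAt ((Scheme.Modules.pullback a').obj F) n (σ y)) :
    RankAt ((Scheme.Modules.pullback a).obj F) n y := by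
  haveI : ((Scheme.Modules.pullback a').obj F).IsQuasicoherent :=
    Groth.Agent.Lib.Helper16.FlatPull.isQuasicoherent_pullback a' F
  exact (h.pullback σ _).of_iso (compIso σ a' a e F)

end Transport

section Good

open Groth.Agent.Lib.Helper62.LimPres

variable {X S : Scheme.{u}} (f : X ⟶ S) (F : X.Modules) (p : ℕ)

/-- over the point `t` of `T` there is a point of `T ×_S X` near which `F_T` is free of rank `p`. -/
def Good (T : Over S) (t : T.left) : Prop :=
  ∃ x : ↥(pullback T.hom f), (pullback.fst T.hom f).base x = t ∧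
    RankAt ((Scheme.Modules.pullback (pullback.snd T.hom f)).obj F) p x

variable [F.IsQuasicoherent]

theorem Good.of_hom {T' T : Over S} (h : T' ⟶ T) (t' : T'.left)
    (hg : Good f F p T (h.left.base t')) : Good f F p T' t' := by
  obtain ⟨x, hx, hr⟩ := hg
  obtain ⟨w, hw1, hw2⟩ := Scheme.Pullback.exists_preimage_pullback
    (f := pullback.fst T.hom f) (g := h.left) x t' hx
  let e := (isPullback_G_map f h).isoPullback
  have h1 : e.inv ≫ (G f).map h = pullback.fst _ _ := (isPullback_G_map f h).isoPullback_inv_fst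
  have h2 : e.inv ≫ pullback.fst T'.hom f = pullback.snd _ _ :=
    (isPullback_G_map f h).isoPullback_inv_snd
  refine ⟨e.inv.base w, ?_, ?_⟩
  · exact (congrArg (fun k => k.base w) h2).trans hw2
  · apply rankAt_of_comp ((G f).map h) (pullback.snd T.hom f) (pullback.snd T'.hom f)
      (G_map_snd f h) F
    have h4 : ((G f).map h).base (e.inv.base w) = x :=
      (congrArg (fun k => k.base w) h1).trans hw1
    rw [h4]
    exact hr

omit [F.IsQuasicoherent] in
theorem isOpen_setOf_good [Smooth f] (T : Over S) : IsOpen {t : T.left | Good f F p T t} := by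
  have h : {t : T.left | Good f F p T t} = (pullback.fst T.hom f).base ''
      {x | RankAt ((Scheme.Modules.pullback (pullback.snd T.hom f)).obj F) p x} := by
    ext t
    constructor
    · rintro ⟨x, hx, hr⟩
      exact ⟨x, hr, hx⟩
    · rintro ⟨x, hr, hx⟩
      exact ⟨x, hx, hr⟩
  rw [h]
  exact (pullback.fst T.hom f).isOpenMap _ (isOpen_setOf_rankAt _ p)

end Good

section GoodDescent

open Groth.Agent.Lib.Helper62.LimPres Groth.Agent.Lib.Helper18.TransSec

variable {X S : Scheme.{u}} (f : X ⟶ S) (F : X.Modules) (p : ℕ) [F.IsQuasicoherent]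

theorem Good.exists_stage (hF : SheafOfModules.IsFinitePresentation (R := X.ringCatSheaf) F)
    {I : Type u} [SmallCategory I] [IsCofiltered I] (D : I ⥤ Over S) (c : Cone D)
    (hc : IsLimit ((Over.forget S).mapCone c)) (hD : ∀ i, IsAffine (D.obj i).left)
    (t : c.pt.left) (hg : Good f F p c.pt t) :
    ∃ i, Good f F p (D.obj i) ((c.π.app i).left.base t) := by
  have hc' := isLimitGMapCone f D c hc
  haveI : ∀ (i j : I) (φ : i ⟶ j), IsAffineHom ((D ⋙ G f).map φ) := fun i j φ => by
    haveI := hD i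
    haveI := hD j
    exact isAffineHom_G_map f (D.map φ)
  haveI : Nonempty I := IsCofiltered.nonempty
  let i₀ : I := Classical.arbitrary I
  let F₀ : ((D ⋙ G f).obj i₀).Modules :=
    (Scheme.Modules.pullback (pullback.snd (D.obj i₀).hom f)).obj F
  haveI : F₀.IsQuasicoherent :=
    Groth.Agent.Lib.Helper16.FlatPull.isQuasicoherent_pullback _ F
  have hF₀ : SheafOfModules.IsFinitePresentation (R := ((D ⋙ G f).obj i₀).ringCatSheaf) F₀ :=
    Groth.Agent.S8913.isFinitePresentation_pullback _ F hF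
  obtain ⟨x, hx, hr⟩ := hg
  have hr' : RankAt ((Scheme.Modules.pullback (((G f).mapCone c).π.app i₀)).obj F₀) p x :=
    hr.of_iso (compIso ((G f).map (c.π.app i₀)) (pullback.snd (D.obj i₀).hom f)
      (pullback.snd c.pt.hom f) (G_map_snd f (c.π.app i₀)) F).symm
  obtain ⟨j, hj⟩ := exists_rankAt_stage (D ⋙ G f) ((G f).mapCone c) hc' i₀ F₀ hF₀ p x hr'
  refine ⟨j.left, ((G f).map (c.π.app j.left)).base x, ?_, ?_⟩
  · exact (congrArg (fun k => k.base x) (G_map_fst f (c.π.app j.left))).trans
      (congrArg (c.π.app j.left).left.base hx)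
  · exact hj.of_iso (compIso ((G f).map (D.map j.hom)) (pullback.snd (D.obj i₀).hom f)
      (pullback.snd (D.obj j.left).hom f) (G_map_snd f (D.map j.hom)) F)

theorem forall_good_descent [Smooth f]
    (hF : SheafOfModules.IsFinitePresentation (R := X.ringCatSheaf) F)
    {I : Type u} [SmallCategory I] [IsCofiltered I] (D : I ⥤ Over S) (c : Cone D)
    (hc : IsLimit ((Over.forget S).mapCone c)) (hD : ∀ i, IsAffine (D.obj i).left)
    (hT : IsAffine c.pt.left) (h : ∀ t, Good f F p c.pt t) :
    ∃ i, ∀ t, Good f F p (D.obj i) t := by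
  haveI : Nonempty I := IsCofiltered.nonempty
  let V : I → Set c.pt.left := fun i => {t | Good f F p (D.obj i) ((c.π.app i).left.base t)}
  have hVo : ∀ i, IsOpen (V i) := fun i =>
    (isOpen_setOf_good f F p (D.obj i)).preimage (c.π.app i).left.base.hom.2
  have hcov : (Set.univ : Set c.pt.left) ⊆ ⋃ i, V i := fun t _ => by
    obtain ⟨i, hi⟩ := Good.exists_stage f F p hF D c hc hD t (h t)
    exact Set.mem_iUnion.mpr ⟨i, hi⟩
  have hmono : ∀ (k i : I) (φ : k ⟶ i), V i ⊆ V k := by
    intro k i φ t ht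
    have h1 : (c.π.app i).left.base t = (D.map φ).left.base ((c.π.app k).left.base t) := by
      rw [← c.w φ]
      rfl
    change Good f F p (D.obj i) ((c.π.app i).left.base t) at ht
    rw [h1] at ht
    exact Good.of_hom f F p (D.map φ) _ ht
  have hdir : Directed (· ⊆ ·) V := fun i₁ i₂ =>
    ⟨IsCofiltered.min i₁ i₂, hmono _ _ (IsCofiltered.minToLeft i₁ i₂),
      hmono _ _ (IsCofiltered.minToRight i₁ i₂)⟩
  obtain ⟨i, hi⟩ := isCompact_univ.elim_directed_cover V hVo hcov hdir
  haveI : ∀ {i j : I} (φ : i ⟶ j), IsAffineHom ((D ⋙ Over.forget S).map φ) := fun {i j} φ => by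
    haveI := hD i
    haveI := hD j
    exact inferInstanceAs (IsAffineHom (D.map φ).left)
  let W : ((D ⋙ Over.forget S).obj i).Opens :=
    ⟨{t | Good f F p (D.obj i) t}, isOpen_setOf_good f F p (D.obj i)⟩
  have hcomp : IsCompact ((⊤ : ((D ⋙ Over.forget S).obj i).Opens) :
      Set ((D ⋙ Over.forget S).obj i)) := by
    haveI := hD i
    haveI : CompactSpace ((D ⋙ Over.forget S).obj i) := inferInstanceAs (CompactSpace (D.obj i).left)
    exact isCompact_univ
  have H : ((Over.forget S).mapCone c).π.app i ⁻¹ᵁ ⊤ ≤ ((Over.forget S).mapCone c).π.app i ⁻¹ᵁ W :=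
    fun t _ => hi (Set.mem_univ t)
  obtain ⟨k, φ, hk⟩ := exists_map_preimage_le_map_preimage (D ⋙ Over.forget S)
    ((Over.forget S).mapCone c) hc (i := i) (U := ⊤) (V := W) hcomp H
  exact ⟨k, fun t => Good.of_hom f F p (D.map φ) t (hk (show t ∈ _ from trivial))⟩

theorem freeAtGenericPts_iff_good [GeometricallyIrreducible f] (T : Over S) :
    FlatFun.FreeAtGenericPts (pullback.snd f T.hom)
      ((Scheme.Modules.pullback (pullback.fst f T.hom)).obj F) p ↔ ∀ t, Good f F p T t := by
  haveI : ((Scheme.Modules.pullback (pullback.fst f T.hom)).obj F).IsQuasicoherent :=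
    Groth.Agent.Lib.Helper16.FlatPull.isQuasicoherent_pullback _ F
  haveI : ((Scheme.Modules.pullback (pullback.snd T.hom f)).obj F).IsQuasicoherent :=
    Groth.Agent.Lib.Helper16.FlatPull.isQuasicoherent_pullback _ F
  rw [freeAtGenericPts_iff]
  let σ := pullbackSymmetry f T.hom
  constructor
  · intro h t
    obtain ⟨x, hx, hfree⟩ := h t
    have hr := (isFreeOfRankNear_iff_rankAt _ p x).mp hfree
    refine ⟨σ.hom.base x, ?_, ?_⟩
    · exact (congrArg (fun k => k.base x) (pullbackSymmetry_hom_comp_fst f T.hom)).trans hx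
    · apply rankAt_of_comp σ.inv (pullback.fst f T.hom) (pullback.snd T.hom f)
        (pullbackSymmetry_inv_comp_fst f T.hom) F
      have h4 : σ.inv.base (σ.hom.base x) = x :=
        congrArg (fun k => k.base x) σ.hom_inv_id
      rw [h4]
      exact hr
  · intro h t
    obtain ⟨x, hx, hr⟩ := h t
    refine ⟨σ.inv.base x, ?_, ?_⟩
    · exact (congrArg (fun k => k.base x) (pullbackSymmetry_inv_comp_snd f T.hom)).trans hx
    · rw [isFreeOfRankNear_iff_rankAt]
      apply rankAt_of_comp σ.hom (pullback.snd T.hom f) (pullback.fst f T.hom)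
        (pullbackSymmetry_hom_comp_snd f T.hom) F
      have h4 : σ.hom.base (σ.inv.base x) = x :=
        congrArg (fun k => k.base x) σ.inv_hom_id
      rw [h4]
      exact hr

end GoodDescent

end Groth.Agent.Lib.Helper62.FreeGen
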