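import Mathlib

/-!
# Lifting Frobenius along a square-zero thickening of a formally smooth algebra (helper62)
-/

set_option autoImplicit false
set_option linter.style.haveILetI false
universe u

namespace Groth.Agent.Lib.Helper62.FrobLiftSmooth

/-- `x ↦ x ^ p` as a ring hom, for a commutative ring in which `p = 0` (possibly the zero ring). -/
def powHom (p : ℕ) [hp : Fact p.Prime] (C : Type*) [CommRing C] (hpC : (p : C) = 0) : C →+* C where
  toFun x := x ^ p
  map_one' := one_pow p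
  map_mul' x y := mul_pow x y p
  map_zero' := zero_pow hp.out.ne_zero
  map_add' x y := by
    obtain ⟨r, hr⟩ := exists_add_pow_prime_eq hp.out x y
    rw [hr, hpC]
    ring

@[simp] theorem powHom_apply (p : ℕ) [Fact p.Prime] (C : Type*) [CommRing C] (hpC : (p : C) = 0)
    (x : C) : powHom p C hpC x = x ^ p := rfl

/-- A copy of `B`, to carry a twisted algebra structure. -/
def Tw (B : Type u) : Type u := B

instance (B : Type u) [CommRing B] : CommRing (Tw B) := inferInstanceAs (CommRing B)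

/-- Let `B` be a formally smooth `W`-algebra, `σ` an endomorphism of `W`, and `𝔟` an ideal of `B` of
square zero containing `p` and all `σ(w) - w^p`. Then `b ↦ b^p` on `B/𝔟` lifts to a `σ`-semilinear
endomorphism of `B`. -/
theorem exists_frob_lift (p : ℕ) [Fact p.Prime] {W B : Type u} [CommRing W] [CommRing B]
    [Algebra W B] [Algebra.FormallySmooth W B] (σ : W →+* W) (𝔟 : Ideal B) (h𝔟 : 𝔟 ^ 2 = ⊥)
    (hp : (p : B) ∈ 𝔟) (hσ : ∀ w, algebraMap W B (σ w) - algebraMap W B w ^ p ∈ 𝔟) :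
    ∃ Φ : B →+* B, Φ.comp (algebraMap W B) = (algebraMap W B).comp σ ∧ ∀ b, Φ b - b ^ p ∈ 𝔟 := by
  let tw : W →+* Tw B := (algebraMap W B).comp σ
  letI : Algebra W (Tw B) := tw.toAlgebra
  let 𝔟' : Ideal (Tw B) := 𝔟
  have hpq : ((p : ℕ) : Tw B ⧸ 𝔟') = 0 := by
    have : ((p : ℕ) : Tw B ⧸ 𝔟') = Ideal.Quotient.mk 𝔟' ((p : ℕ) : Tw B) := (map_natCast _ p).symm
    rw [this, Ideal.Quotient.eq_zero_iff_mem]
    exact hp
  let toTw : B →+* Tw B := RingHom.id B
  let g₀ : B →+* Tw B ⧸ 𝔟' := ((powHom p (Tw B ⧸ 𝔟') hpq).comp (Ideal.Quotient.mk 𝔟')).comp toTw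
  have hg₀ : ∀ b : B, g₀ b = Ideal.Quotient.mk 𝔟' (toTw b ^ p) := fun b => by
    simp only [g₀, RingHom.comp_apply, powHom_apply, map_pow]
  let g : B →ₐ[W] Tw B ⧸ 𝔟' :=
    { g₀ with
      commutes' := fun w => by
        change g₀ (algebraMap W B w) = Ideal.Quotient.mk 𝔟' (tw w)
        rw [hg₀, Ideal.Quotient.eq]
        have := hσ w
        rw [← neg_sub] at this
        exact (Ideal.neg_mem_iff 𝔟).mp this }
  let Φ' : B →ₐ[W] Tw B := Algebra.FormallySmooth.lift 𝔟' ⟨2, h𝔟⟩ g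
  have hΦ' : ∀ b, Ideal.Quotient.mk 𝔟' (Φ' b) = g b := fun b =>
    Algebra.FormallySmooth.mk_lift 𝔟' ⟨2, h𝔟⟩ g b
  refine ⟨(Φ' : B →+* Tw B), ?_, ?_⟩
  · ext w
    exact Φ'.commutes w
  · intro b
    have h1 := hΦ' b
    change _ = g₀ b at h1
    rw [hg₀, Ideal.Quotient.eq] at h1
    exact h1

end Groth.Agent.Lib.Helper62.FrobLiftSmooth
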