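import Mathlib

/-!
# Modules isomorphic to their Frobenius pull-back are free (helper62)

Pure linear-algebra core: `R` Noetherian local of characteristic `p`, `M` finite, `N` an `R`-module
with a `p`-semilinear additive map `τ : M → N` that is universal (`N = F^* M`), and `N ≃ M`.
Then `M` is free.
-/

set_option autoImplicit false
universe u

namespace Groth.Agent.Lib.Helper62.FrobeniusFree

open IsLocalRing TensorProduct

section Coord

variable {R : Type u} [CommRing R] {n : ℕ}

theorem coord_mem_of_mem_smul_top (J : Ideal R) (a : Fin n → R)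
    (ha : a ∈ (J • ⊤ : Submodule R (Fin n → R))) (i : Fin n) : a i ∈ J := by
  refine Submodule.smul_induction_on ha ?_ ?_
  · intro r hr b _
    rw [Pi.smul_apply, smul_eq_mul]
    exact Ideal.mul_mem_right _ _ hr
  · intro b c hb hc
    rw [Pi.add_apply]
    exact Ideal.add_mem _ hb hc

theorem mem_smul_top_of_coord_mem (J : Ideal R) (a : Fin n → R) (ha : ∀ i, a i ∈ J) :
    a ∈ (J • ⊤ : Submodule R (Fin n → R)) := by
  have h : a = ∑ i, a i • (Pi.single i (1 : R) : Fin n → R) := by
    ext j
    simp [Finset.sum_apply, Pi.single_apply]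
  rw [h]
  exact Submodule.sum_mem _ fun i _ => Submodule.smul_mem_smul (ha i) Submodule.mem_top

theorem map_smul_top_le (J : Ideal R) (E : (Fin n → R) →ₗ[R] (Fin n → R))
    (L : Submodule R (Fin n → R)) (hE : LinearMap.range E ≤ L) (a : Fin n → R)
    (ha : a ∈ (J • ⊤ : Submodule R (Fin n → R))) : E a ∈ J • L := by
  refine Submodule.smul_induction_on ha ?_ ?_
  · intro r hr b _
    rw [map_smul]
    exact Submodule.smul_mem_smul hr (hE ⟨b, rfl⟩)
  · intro b c hb hc
    rw [map_add]
    exact Submodule.add_mem _ hb hc

end Coord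

variable {R : Type u} [CommRing R] [IsLocalRing R] [IsNoetherianRing R] (p : ℕ) [hp : Fact p.Prime]
  [CharP R p]

theorem free_of_semilinear_data
    (M N : Type u) [AddCommGroup M] [Module R M] [Module.Finite R M] [AddCommGroup N] [Module R N]
    (τ : M →+ N) (hτ : ∀ (r : R) (m : M), τ (r • m) = r ^ p • τ m)
    (hspan : Submodule.span R (Set.range τ) = ⊤)
    (huniv : ∀ (P : Type u) [AddCommGroup P] [Module R P] (g : M →+ P),
      (∀ (r : R) (m : M), g (r • m) = r ^ p • g m) → ∃ G : N →ₗ[R] P, ∀ m, G (τ m) = g m)
    (φ : N ≃ₗ[R] M) : Module.Free R M := by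
  classical
  -- minimal generators
  let k := ResidueField R
  let n := Module.finrank k (k ⊗[R] M)
  let b : Module.Basis (Fin n) k (k ⊗[R] M) := Module.finBasis k (k ⊗[R] M)
  have hsurj : Function.Surjective (TensorProduct.mk R k M 1) :=
    TensorProduct.mk_surjective R M k Ideal.Quotient.mk_surjective
  choose x hx using fun i => hsurj (b i)
  have hxspan : Submodule.span R (Set.range x) = ⊤ :=
    IsLocalRing.span_eq_top_of_tmul_eq_basis x b hx
  let π : (Fin n → R) →ₗ[R] M := Fintype.linearCombination R x
  have hπ : Function.Surjective π := by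
    rw [← LinearMap.range_eq_top, Fintype.range_linearCombination]
    exact hxspan
  let K := LinearMap.ker π
  have hK1 : K ≤ (maximalIdeal R • ⊤ : Submodule R (Fin n → R)) := by
    intro a ha
    refine mem_smul_top_of_coord_mem _ a fun i => ?_
    have h0 : π a = 0 := ha
    have h1 : TensorProduct.mk R k M 1 (π a) = 0 := by rw [h0, map_zero]
    rw [Fintype.linearCombination_apply, map_sum] at h1
    have h2 : ∑ j, (algebraMap R k (a j)) • b j = 0 := by
      rw [← h1]
      refine Finset.sum_congr rfl fun j _ => ?_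
      rw [map_smul, hx, algebraMap_smul]
    have h3 := Fintype.linearIndependent_iff.mp b.linearIndependent _ h2 i
    exact (residue_eq_zero_iff _).mp h3
  -- the second generating family
  let y : Fin n → M := fun i => φ (τ (x i))
  let π' : (Fin n → R) →ₗ[R] M := Fintype.linearCombination R y
  have hτπ : ∀ a : Fin n → R, τ (π a) = ∑ i, (a i) ^ p • τ (x i) := by
    intro a
    rw [Fintype.linearCombination_apply, map_sum]
    exact Finset.sum_congr rfl fun i _ => hτ _ _
  have hπ'eq : ∀ c : Fin n → R, π' c = φ (∑ i, c i • τ (x i)) := by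
    intro c
    rw [Fintype.linearCombination_apply, map_sum]
    exact Finset.sum_congr rfl fun i _ => (map_smul φ _ _).symm
  have hτspan : Submodule.span R (Set.range fun i => τ (x i)) = ⊤ := by
    rw [eq_top_iff, ← hspan, Submodule.span_le]
    rintro _ ⟨m, rfl⟩
    obtain ⟨a, rfl⟩ := hπ m
    rw [hτπ]
    exact Submodule.sum_mem _ fun i _ => Submodule.smul_mem _ _ (Submodule.subset_span ⟨i, rfl⟩)
  have hπ' : Function.Surjective π' := by
    rw [← LinearMap.range_eq_top, Fintype.range_linearCombination]
    have h1 : Set.range y = (φ : N →ₗ[R] M) '' (Set.range fun i => τ (x i)) := by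
      rw [← Set.range_comp]
      rfl
    rw [h1, ← Submodule.map_span (φ : N →ₗ[R] M), hτspan, Submodule.map_top,
      LinearMap.range_eq_top]
    exact φ.surjective
  obtain ⟨V, hV⟩ := Module.projective_lifting_property π' π hπ'
  obtain ⟨U, hU⟩ := Module.projective_lifting_property π π' hπ
  have claimB : ∀ J : Ideal R, K ≤ (J • ⊤ : Submodule R (Fin n → R)) → J ≤ maximalIdeal R →
      ∀ c ∈ LinearMap.ker π', ∀ i, c i ∈ maximalIdeal R * J := by
    intro J hKJ hJm c hc i
    let g₀ : (Fin n → R) →+ (Fin n → R ⧸ (maximalIdeal R * J)) :=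
      { toFun := fun a j => Ideal.Quotient.mk _ (a j ^ p)
        map_zero' := by
          funext j
          show Ideal.Quotient.mk (maximalIdeal R * J) ((0 : R) ^ p) = 0
          rw [zero_pow hp.out.ne_zero, map_zero]
        map_add' := fun a a' => by
          funext j
          show Ideal.Quotient.mk (maximalIdeal R * J) ((a j + a' j) ^ p) =
            Ideal.Quotient.mk (maximalIdeal R * J) (a j ^ p) +
              Ideal.Quotient.mk (maximalIdeal R * J) (a' j ^ p)
          rw [add_pow_char, map_add] }
    have hg₀K : ∀ a ∈ K, g₀ a = 0 := by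
      intro a ha
      ext j
      show Ideal.Quotient.mk _ (a j ^ p) = 0
      rw [Ideal.Quotient.eq_zero_iff_mem]
      have haj : a j ∈ J := coord_mem_of_mem_smul_top J a (hKJ ha) j
      have h1 : a j ^ p = a j ^ (p - 1) * a j := by
        rw [← pow_succ, Nat.sub_add_cancel hp.out.one_le]
      rw [h1]
      refine Ideal.mul_mem_mul ?_ haj
      exact Ideal.pow_mem_of_mem _ (hJm haj) _ (Nat.sub_pos_of_lt hp.out.one_lt)
    let s := Function.surjInv hπ
    have hs : ∀ m, π (s m) = m := Function.surjInv_eq hπ
    let gfun : M → (Fin n → R ⧸ (maximalIdeal R * J)) := fun m => g₀ (s m)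
    have hgπ : ∀ a, gfun (π a) = g₀ a := by
      intro a
      have h1 : s (π a) - a ∈ K := by
        show π (s (π a) - a) = 0
        rw [map_sub, hs, sub_self]
      have h2 := hg₀K _ h1
      rw [map_sub, sub_eq_zero] at h2
      exact h2
    let g : M →+ (Fin n → R ⧸ (maximalIdeal R * J)) :=
      { toFun := gfun
        map_zero' := by
          have h1 := hgπ 0
          rw [map_zero, map_zero] at h1
          exact h1
        map_add' := fun m m' => by
          have h1 := hgπ (s m + s m')
          rw [map_add, hs, hs, map_add] at h1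
          exact h1 }
    have hgsemi : ∀ (r : R) (m : M), g (r • m) = r ^ p • g m := by
      intro r m
      have h1 := hgπ (r • s m)
      rw [map_smul, hs] at h1
      show gfun (r • m) = r ^ p • gfun m
      rw [h1]
      ext j
      show Ideal.Quotient.mk _ ((r • s m) j ^ p) = (r ^ p • g₀ (s m)) j
      rw [Pi.smul_apply, smul_eq_mul, mul_pow, Pi.smul_apply, Algebra.smul_def, map_mul]
      rfl
    obtain ⟨G, hG⟩ := huniv (Fin n → R ⧸ (maximalIdeal R * J)) g hgsemi
    have hrel : ∑ j, c j • τ (x j) = 0 := by
      have h1 : π' c = 0 := hc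
      rw [hπ'eq] at h1
      exact (LinearEquiv.map_eq_zero_iff φ).mp h1
    have hGx : ∀ j, G (τ (x j)) = (Pi.single j (1 : R ⧸ (maximalIdeal R * J)) :
        Fin n → R ⧸ (maximalIdeal R * J)) := by
      intro j
      rw [hG]
      have h1 : x j = π (Pi.single j 1) := by
        simp [π, Fintype.linearCombination_apply_single]
      rw [h1]
      show gfun _ = _
      rw [hgπ]
      ext l
      show Ideal.Quotient.mk _ ((Pi.single j (1 : R) : Fin n → R) l ^ p) =
        (Pi.single j (1 : R ⧸ (maximalIdeal R * J)) : Fin n → R ⧸ (maximalIdeal R * J)) l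
      by_cases h : l = j
      · subst h
        simp
      · rw [Pi.single_apply, if_neg h, Pi.single_apply, if_neg h, zero_pow hp.out.ne_zero, map_zero]
    have h3 := congrArg G hrel
    rw [map_sum, map_zero] at h3
    have h4 := congrFun h3 i
    simp only [map_smul, hGx, Finset.sum_apply, Pi.smul_apply, Pi.zero_apply] at h4
    rw [Finset.sum_eq_single i (fun j _ hji => by
      rw [Pi.single_apply, if_neg (Ne.symm hji), smul_zero]) (fun h => absurd (Finset.mem_univ i) h),
      Pi.single_eq_same, Algebra.smul_def, mul_one] at h4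
    exact Ideal.Quotient.eq_zero_iff_mem.mp h4
  have step : ∀ J : Ideal R, K ≤ (J • ⊤ : Submodule R (Fin n → R)) → J ≤ maximalIdeal R →
      K ≤ ((maximalIdeal R * J) • ⊤ : Submodule R (Fin n → R)) := by
    intro J hKJ hJm a ha
    let E : (Fin n → R) →ₗ[R] (Fin n → R) := LinearMap.id - U ∘ₗ V
    have hUV : ∀ b', π (U (V b')) = π b' := by
      intro b'
      have h1 := congrArg (fun f => f (V b')) hU
      have h2 := congrArg (fun f => f b') hV
      simp only [LinearMap.comp_apply] at h1 h2
      rw [h1, h2]
    have hE : LinearMap.range E ≤ K := by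
      rintro _ ⟨b', rfl⟩
      show π (E b') = 0
      simp only [E, LinearMap.sub_apply, LinearMap.id_apply, LinearMap.comp_apply, map_sub, hUV,
        sub_self]
    have h1 : E a ∈ (J • K : Submodule R (Fin n → R)) := map_smul_top_le J E K hE a (hKJ ha)
    have h2 : (J • K : Submodule R (Fin n → R)) ≤ (maximalIdeal R * J) • ⊤ := by
      calc (J • K : Submodule R (Fin n → R)) ≤ J • (J • ⊤) := Submodule.smul_mono le_rfl hKJ
        _ = (J * J) • ⊤ := by rw [Submodule.mul_smul]
        _ ≤ (maximalIdeal R * J) • ⊤ := Submodule.smul_mono (Ideal.mul_mono_left hJm) le_rfl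
    have hVa : V a ∈ LinearMap.ker π' := by
      show π' (V a) = 0
      have h2 := congrArg (fun f => f a) hV
      simp only [LinearMap.comp_apply] at h2
      rw [h2]
      exact ha
    have h3 : V a ∈ ((maximalIdeal R * J) • ⊤ : Submodule R (Fin n → R)) :=
      mem_smul_top_of_coord_mem _ _ (claimB J hKJ hJm _ hVa)
    have h4 : U (V a) ∈ ((maximalIdeal R * J) • ⊤ : Submodule R (Fin n → R)) :=
      map_smul_top_le (maximalIdeal R * J) U ⊤ le_top (V a) h3
    have h5 : a = E a + U (V a) := by simp [E]
    rw [h5]
    exact Submodule.add_mem _ (h2 h1) h4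
  have hpow : ∀ j : ℕ, K ≤ ((maximalIdeal R) ^ j • ⊤ : Submodule R (Fin n → R)) := by
    intro j
    induction j with
    | zero =>
      rw [pow_zero, Ideal.one_eq_top, Submodule.top_smul]
      exact le_top
    | succ j ih =>
      rcases Nat.eq_zero_or_pos j with rfl | hj
      · simpa using hK1
      · have h1 := step _ ih (Ideal.pow_le_self (by omega))
        rwa [← pow_succ'] at h1
  have hKbot : K = ⊥ := by
    rw [eq_bot_iff, ← Ideal.iInf_pow_smul_eq_bot_of_isLocalRing (R := R) (M := Fin n → R)
      (maximalIdeal R) (IsLocalRing.maximalIdeal.isMaximal R).ne_top]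
    exact le_iInf hpow
  have hinj : Function.Injective π := LinearMap.ker_eq_bot.mp hKbot
  exact Module.Free.of_equiv (LinearEquiv.ofBijective π ⟨hinj, hπ⟩)

end Groth.Agent.Lib.Helper62.FrobeniusFree
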