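import Mathlib
import Groth.Agent.Lib.Helper11.GGInvertible
import Groth.Agent.Lib.Helper11.CounitEpi3
import Groth.Agent.Lib.Helper18.LimHomSys
import Groth.Agent.Lib.Helper18.LimModEpi
import Groth.Agent.Lib.Helper18.LimFinLocFree
import Groth.Agent.Lib.Helper49.FinLocFreeRetract
import Groth.Agent.Lib.Helper62.LimPres
import Groth.Agent.Lib.Helper11.PullbackTensor

/-!
# Global generation of invertible modules descends to a finite stage (helper62)

* `exists_finite_epi`: a globally generated invertible module on a quasi-compact scheme is a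
  quotient of a free module on a finite index type.
* `pullbackFreeIso`: `f^* (free ι) ≅ free ι`.
* `isFinitePresentation_free`: free modules on finite index types are finitely presented.
* `epi_counit_of_locally_isGloballyGenerated`: the counit `f^* f_* F ⟶ F` is epi as soon as `F` is
  globally generated over the preimages of an open cover of the base.
* `exists_stage_isGloballyGenerated`: the core limit statement.
-/

set_option autoImplicit false
set_option linter.style.haveILetI false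
set_option linter.unusedSectionVars false
universe u
open CategoryTheory CategoryTheory.Limits AlgebraicGeometry TopologicalSpace Opposite

noncomputable section

namespace Groth.Agent.Lib.Helper62.GGStage

open Groth.Agent.Lib.Helper11 Groth.Agent.Lib.Helper45 Groth.Agent.Lib.Helper49
  Groth.Agent.Lib.Helper45.RefHullBasic Groth.Agent.Lib.Helper11.GenLocus
  Groth.Agent.Lib.Helper11.IdealGen Groth.Agent.Lib.Helper11.MulHom
  Groth.Agent.Lib.Helper11.CounitEpi Groth.Agent.Lib.Helper11.CounitEpi2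
  Groth.Agent.Lib.Helper11.CounitEpi3

section Finite

variable {X : Scheme.{u}}

/-- a globally generated invertible module on a quasi-compact scheme is a quotient of a free
module on a finite index type. -/
theorem exists_finite_epi [CompactSpace X] {L : X.Modules} (hL : PicF.IsInvertible L)
    (hg : Curv2.IsGloballyGenerated L) :
    ∃ (ι : Type u) (_ : Finite ι) (σ : (SheafOfModules.free ι : X.Modules) ⟶ L), Epi σ := by
  classical
  choose s hs using fun x =>
    Groth.Agent.Lib.Helper11.GGInvertible.exists_mem_genLocus_of_isGloballyGenerated hL hg x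
  obtain ⟨S, hS⟩ := isCompact_univ.elim_finite_subcover
    (fun x => ((CohB1.genLocus L (s x) : X.Opens) : Set X))
    (fun x => (CohB1.genLocus _ (s x)).isOpen) (fun x _ => Set.mem_iUnion.mpr ⟨x, hs x⟩)
  refine ⟨S, inferInstance, Sigma.desc (fun i : S => s i.1), ?_⟩
  apply Groth.Agent.S4407.epi_sigma_desc
  intro V a x hxV
  obtain ⟨i, hi⟩ : ∃ i : S, x ∈ CohB1.genLocus L (s i.1) := by
    have := hS (Set.mem_univ x)
    simp only [Set.mem_iUnion] at this
    obtain ⟨y, hyS, hxy⟩ := this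
    exact ⟨⟨y, hyS⟩, hxy⟩
  refine ⟨V ⊓ CohB1.genLocus L (s i.1), inf_le_left, ⟨hxV, hi⟩, ?_⟩
  have hb := (le_genLocus_iff_isBasisOn (s i.1) (V ⊓ CohB1.genLocus L (s i.1))).mp inf_le_right
  obtain ⟨r, hr⟩ := hb.exists_eq_smul (mres L inf_le_left a)
  rw [← hr]
  exact Submodule.smul_mem _ _ (Submodule.subset_span ⟨i, rfl⟩)

/-- `f^* (free ι) ≅ free ι`. -/
def pullbackFreeIso {Y : Scheme.{u}} (f : X ⟶ Y) (ι : Type u) :
    (Scheme.Modules.pullback f).obj (SheafOfModules.free ι : Y.Modules) ≅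
      (SheafOfModules.free ι : X.Modules) :=
  haveI _h1 : IsIso (sigmaComparison (Scheme.Modules.pullback f)
      (fun _ : ι => Coh.structureModule Y)) := inferInstance
  (asIso (sigmaComparison (Scheme.Modules.pullback f)
      (fun _ : ι => Coh.structureModule Y))).symm ≪≫
    Sigma.mapIso (fun _ : ι => pullbackUnitIso f)

/-- free modules on finite index types are finite locally free. -/
theorem isFinLocFree_free (X : Scheme.{u}) (ι : Type u) [Finite ι] :
    FlatMod.IsFinLocFree (SheafOfModules.free ι : X.Modules) := by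
  obtain ⟨n, ⟨e⟩⟩ := Finite.exists_equiv_fin ι
  have e' : (FlatMod.freeMod X n) ≅ (∐ fun _ : ι => Coh.structureModule X) :=
    (Sigma.reindex e.symm (fun _ : ι => Coh.structureModule X))
  exact Groth.Agent.Lib.Helper18.LimFinLocFree.isFinLocFree_of_iso e' (isFinLocFree_freeMod X n)

theorem isFinitePresentation_free (X : Scheme.{u}) (ι : Type u) [Finite ι] :
    SheafOfModules.IsFinitePresentation (R := X.ringCatSheaf)
      (SheafOfModules.free ι : X.Modules) :=
  isFinitePresentation_of_isFinLocFree _ (isFinLocFree_free X ι)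

theorem isGloballyGenerated_free (X : Scheme.{u}) (ι : Type u) :
    Curv2.IsGloballyGenerated (SheafOfModules.free ι : X.Modules) :=
  ⟨ι, 𝟙 _, inferInstance⟩

end Finite

section Counit

variable {X Y : Scheme.{u}}

/-- if every point of `X` maps into an open `U` of the base with `F|_{f⁻¹ U}` globally generated,
then the counit `f^* f_* F ⟶ F` is an epimorphism. -/
theorem epi_counit_of_locally_isGloballyGenerated (f : X ⟶ Y) (F : X.Modules)
    (h : ∀ x : X, ∃ U : Y.Opens, f.base x ∈ U ∧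
      Curv2.IsGloballyGenerated (F.restrict (f ⁻¹ᵁ U).ι)) :
    Epi ((Scheme.Modules.pullbackPushforwardAdjunction f).counit.app F) := by
  rw [epi_iff_isLocallySurjective, TopCat.Presheaf.isLocallySurjective_iff]
  intro V a x hxV
  obtain ⟨U, hxU, ι, p, hp⟩ := h x
  have hxW : x ∈ f ⁻¹ᵁ U := hxU
  let ε := (Scheme.Modules.pullbackPushforwardAdjunction f).counit.app F
  let εW : ((Scheme.Modules.pullback f).obj ((Scheme.Modules.pushforward f).obj F)).restrict
      (f ⁻¹ᵁ U).ι ⟶ F.restrict (f ⁻¹ᵁ U).ι := (Scheme.Modules.restrictFunctor (f ⁻¹ᵁ U).ι).map ε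
  have htop : f ⁻¹ᵁ U ≤ (f ⁻¹ᵁ U).ι ''ᵁ ⊤ := le_of_eq (f ⁻¹ᵁ U).ι_image_top.symm
  have htop' : (f ⁻¹ᵁ U).ι ''ᵁ ⊤ ≤ f ⁻¹ᵁ U := le_of_eq (f ⁻¹ᵁ U).ι_image_top
  have hlift : ∀ j : ι, ∃ t : Γ(((Scheme.Modules.pullback f).obj
      ((Scheme.Modules.pushforward f).obj F)).restrict (f ⁻¹ᵁ U).ι, ⊤),
      (εW.app ⊤).hom t = sec (freeInj ι j ≫ p) ⊤ := by
    intro j
    obtain ⟨t', ht'⟩ := exists_counit_app_eq f F U
      (mres F htop (show Γ(F, (f ⁻¹ᵁ U).ι ''ᵁ ⊤) from sec (freeInj ι j ≫ p) ⊤))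
    refine ⟨mres _ htop' t', ?_⟩
    have h1 := app_res ε htop' t'
    refine h1.symm.trans ?_
    rw [ht']
    exact (mres_mres F htop' htop _).trans (mres_self F _)
  choose t ht using hlift
  let q : (SheafOfModules.free ι : ((f ⁻¹ᵁ U : X.Opens) : Scheme.{u}).Modules) ⟶
      ((Scheme.Modules.pullback f).obj ((Scheme.Modules.pushforward f).obj F)).restrict
        (f ⁻¹ᵁ U).ι :=
    Cofan.IsColimit.desc (SheafOfModules.isColimitFreeCofan ι) (fun j => homOfSection _ (t j))
  have hq : q ≫ εW = p := by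
    refine free_hom_ext fun j => ?_
    have e1 : freeInj ι j ≫ q = homOfSection _ (t j) :=
      Cofan.IsColimit.fac (SheafOfModules.isColimitFreeCofan ι) _ j
    have e2 : freeInj ι j ≫ q ≫ εW = (freeInj ι j ≫ q) ≫ εW := (Category.assoc _ _ _).symm
    refine e2.trans ((congrArg (fun z => z ≫ εW) e1).trans ?_)
    apply unit_hom_ext
    rw [sec_comp, sec_homOfSection, ← ht j]
    exact congrArg _ (mres_self _ (t j))
  have hle : (f ⁻¹ᵁ U).ι ''ᵁ ((f ⁻¹ᵁ U).ι ⁻¹ᵁ V) ≤ V := (f ⁻¹ᵁ U).ι.image_preimage_le V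
  obtain ⟨V'', hV'', hxV'', m, hm⟩ := @exists_app_eq_of_epi _ _ _ p hp ((f ⁻¹ᵁ U).ι ⁻¹ᵁ V)
    (show Γ(F.restrict (f ⁻¹ᵁ U).ι, (f ⁻¹ᵁ U).ι ⁻¹ᵁ V) from mres F hle a) ⟨x, hxW⟩ hxV
  have hW₂ : (f ⁻¹ᵁ U).ι ''ᵁ V'' ≤ V := ((f ⁻¹ᵁ U).ι.image_mono hV'').trans hle
  refine ⟨(f ⁻¹ᵁ U).ι ''ᵁ V'', hW₂, ⟨(Scheme.Modules.Hom.app q V'').hom m, ?_⟩,
    ⟨⟨x, hxW⟩, hxV'', rfl⟩⟩
  have h1 : (εW.app V'').hom ((Scheme.Modules.Hom.app q V'').hom m) =
      (Scheme.Modules.Hom.app p V'').hom m := by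
    rw [← hq]; rfl
  refine Eq.trans h1 (hm.trans ?_)
  exact mres_mres F ((f ⁻¹ᵁ U).ι.image_mono hV'') hle a

end Counit

open Groth.Agent.Lib.Helper62.LimPres Groth.Agent.Lib.Helper18.TransSec

section Core

variable {I : Type u} [SmallCategory I] (D : I ⥤ Scheme.{u}) (c : Cone D) (i₀ : I)

/-- the stages over `i₀`, as objects over `D.obj i₀`. -/
def DOver : Over i₀ ⥤ Over (D.obj i₀) where
  obj k := Over.mk (D.map k.hom)
  map {k k'} a := Over.homMk (D.map a.left) (by
    change D.map a.left ≫ D.map k'.hom = D.map k.hom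
    rw [← D.map_comp, Over.w a])
  map_id k := by
    ext
    exact D.map_id _
  map_comp a b := by
    ext
    exact D.map_comp _ _

/-- the limit cone, as a cone over `DOver`. -/
def coneOver : Cone (DOver D i₀) where
  pt := Over.mk (c.π.app i₀)
  π :=
    { app := fun k => Over.homMk (c.π.app k.left) (c.w k.hom)
      naturality := fun k k' a => by
        ext
        change 𝟙 _ ≫ c.π.app k'.left = c.π.app k.left ≫ D.map a.left
        rw [Category.id_comp, c.w] }

variable [IsCofiltered I]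

def isLimitForgetConeOver (hc : IsLimit c) :
    IsLimit ((Over.forget (D.obj i₀)).mapCone (coneOver D c i₀)) :=
  (Functor.Initial.isLimitWhiskerEquiv (Over.forget i₀) c).symm hc


variable [∀ (i j : I) (f : i ⟶ j), IsAffineHom (D.map f)] {Z₀ : Scheme.{u}} (h : Z₀ ⟶ D.obj i₀)

/-- the system of base changes of `Z₀`. -/
abbrev DZ : Over i₀ ⥤ Scheme.{u} := DOver D i₀ ⋙ G h

abbrev cZ : Cone (DZ D i₀ h) := (G h).mapCone (coneOver D c i₀)

def isLimitCZ (hc : IsLimit c) : IsLimit (cZ D c i₀ h) :=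
  isLimitGMapCone h (DOver D i₀) (coneOver D c i₀) (isLimitForgetConeOver D c i₀ hc)

instance isAffineHom_DZ_map {k k' : Over i₀} (a : k ⟶ k') : IsAffineHom ((DZ D i₀ h).map a) :=
  MorphismProperty.of_isPullback (P := @IsAffineHom)
    (isPullback_G_map h ((DOver D i₀).map a)).flip
    (inferInstanceAs (IsAffineHom (D.map a.left)))

/-- the projection of a stage to `Z₀`. -/
abbrev eZ (k : Over i₀) : (DZ D i₀ h).obj k ⟶ Z₀ := pullback.snd (D.map k.hom) h

theorem DZ_map_eZ {k k' : Over i₀} (a : k ⟶ k') : (DZ D i₀ h).map a ≫ eZ D i₀ h k' = eZ D i₀ h k :=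
  G_map_snd h ((DOver D i₀).map a)

theorem cZ_π_eZ (k : Over i₀) :
    (cZ D c i₀ h).π.app k ≫ eZ D i₀ h k = pullback.snd (c.π.app i₀) h :=
  G_map_snd h ((coneOver D c i₀).π.app k)

instance isAffineHom_eZ (k : Over i₀) : IsAffineHom (eZ D i₀ h k) :=
  MorphismProperty.of_isPullback (P := @IsAffineHom)
    (IsPullback.of_hasPullback (D.map k.hom) h) (inferInstanceAs (IsAffineHom (D.map k.hom)))

theorem compactSpace_DZ [CompactSpace Z₀] (k : Over i₀) : CompactSpace ((DZ D i₀ h).obj k) :=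
  QuasiCompact.compactSpace_of_compactSpace (eZ D i₀ h k)

theorem quasiSeparatedSpace_DZ [QuasiSeparatedSpace Z₀] (k : Over i₀) :
    QuasiSeparatedSpace ((DZ D i₀ h).obj k) :=
  quasiSeparatedSpace_of_quasiSeparated (eZ D i₀ h k)


theorem exists_stage_isGloballyGenerated (hc : IsLimit c) [CompactSpace Z₀]
    [QuasiSeparatedSpace Z₀] (M₀ : Z₀.Modules) (hM₀ : PicF.IsInvertible M₀)
    (hgg : Curv2.IsGloballyGenerated
      ((Scheme.Modules.pullback (pullback.snd (c.π.app i₀) h)).obj M₀)) :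
    ∃ k : Over i₀, Curv2.IsGloballyGenerated
      ((Scheme.Modules.pullback (pullback.snd (D.map k.hom) h)).obj M₀) := by
  let j₀ : Over i₀ := Over.mk (𝟙 i₀)
  haveI := compactSpace_DZ D i₀ h j₀
  haveI := quasiSeparatedSpace_DZ D i₀ h j₀
  let G₀ : ((DZ D i₀ h).obj j₀).Modules := (Scheme.Modules.pullback (eZ D i₀ h j₀)).obj M₀
  have hG₀inv : PicF.IsInvertible G₀ :=
    Groth.Agent.Lib.Helper11.PullbackTensor.isInvertible_pullback _ hM₀
  haveI hG₀q : G₀.IsQuasicoherent := isQuasicoherent_of_isInvertible hG₀inv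
  let π₀ : (cZ D c i₀ h).pt ⟶ (DZ D i₀ h).obj j₀ := (cZ D c i₀ h).π.app j₀
  have hπ₀ : π₀ ≫ eZ D i₀ h j₀ = pullback.snd (c.π.app i₀) h := cZ_π_eZ D c i₀ h j₀
  let Mlim := (Scheme.Modules.pullback π₀).obj G₀
  have hMlim_inv : PicF.IsInvertible Mlim :=
    Groth.Agent.Lib.Helper11.PullbackTensor.isInvertible_pullback _ hG₀inv
  have hMlim_gg : Curv2.IsGloballyGenerated Mlim :=
    IsGloballyGenerated.of_iso (compIso π₀ (eZ D i₀ h j₀) _ hπ₀ M₀).symm hgg
  haveI : IsAffineHom (pullback.snd (c.π.app i₀) h) :=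
    MorphismProperty.of_isPullback (P := @IsAffineHom)
      (IsPullback.of_hasPullback (c.π.app i₀) h) (isAffineHom_π_app D c hc i₀)
  have hqc : QuasiCompact (pullback.snd (c.π.app i₀) h) := inferInstance
  haveI : CompactSpace (cZ D c i₀ h).pt :=
    @QuasiCompact.compactSpace_of_compactSpace _ _ (pullback.snd (c.π.app i₀) h) hqc _
  obtain ⟨ι, hι, σ, hσ⟩ := exists_finite_epi hMlim_inv hMlim_gg
  let F₀ : ((DZ D i₀ h).obj j₀).Modules := SheafOfModules.free ι
  haveI : F₀.IsQuasicoherent :=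
    isQuasicoherent_of_isFinLocFree _ (isFinLocFree_free _ ι)
  let h' : (Scheme.Modules.pullback π₀).obj F₀ ⟶ (Scheme.Modules.pullback π₀).obj G₀ :=
    (pullbackFreeIso π₀ ι).hom ≫ σ
  haveI : Epi h' :=
    @epi_comp _ _ _ _ _ (pullbackFreeIso π₀ ι).hom
      (@IsIso.epi_of_iso _ _ _ _ _ (Iso.isIso_hom (pullbackFreeIso π₀ ι))) σ hσ
  obtain ⟨j, hj, hhj⟩ := Groth.Agent.Lib.Helper18.LimHomSys.exists_hom_stage (DZ D i₀ h)
    (cZ D c i₀ h) j₀ G₀ (isLimitCZ D c i₀ h hc) F₀ (isFinitePresentation_free _ ι) h'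
  -- the pullback of `hj` to the limit is an epimorphism
  have hepi : Epi ((Scheme.Modules.pullback ((cZ D c i₀ h).π.app j.left)).map hj) := by
    have h2 : (Scheme.Modules.pullback ((cZ D c i₀ h).π.app j.left)).map hj =
        (compIso (X' := (cZ D c i₀ h).pt) ((cZ D c i₀ h).π.app j.left)
          ((DZ D i₀ h).map j.hom) ((cZ D c i₀ h).π.app j₀) ((cZ D c i₀ h).w j.hom) F₀).hom ≫ h' ≫
        (compIso (X' := (cZ D c i₀ h).pt) ((cZ D c i₀ h).π.app j.left)
          ((DZ D i₀ h).map j.hom) ((cZ D c i₀ h).π.app j₀) ((cZ D c i₀ h).w j.hom) G₀).inv := by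
      rw [← hhj]
      simp only [Category.assoc, Iso.hom_inv_id, Category.comp_id, Iso.hom_inv_id_assoc]
    rw [h2]
    infer_instance
  let F₁ := (Scheme.Modules.pullback ((DZ D i₀ h).map j.hom)).obj F₀
  let G₁ := (Scheme.Modules.pullback ((DZ D i₀ h).map j.hom)).obj G₀
  haveI : F₁.IsQuasicoherent :=
    Groth.Agent.Lib.Helper16.FlatPull.isQuasicoherent_pullback _ _
  have hG₁inv : PicF.IsInvertible G₁ :=
    Groth.Agent.Lib.Helper11.PullbackTensor.isInvertible_pullback _ hG₀inv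
  haveI : G₁.IsQuasicoherent := isQuasicoherent_of_isInvertible hG₁inv
  have hG₁ft := isFiniteType_of_isInvertible hG₁inv
  haveI := compactSpace_DZ D i₀ h j.left
  obtain ⟨k, φ, hk⟩ := Groth.Agent.Lib.Helper18.LimModEpi.exists_epi_pullback_map (DZ D i₀ h)
    (cZ D c i₀ h) (isLimitCZ D c i₀ h hc) j.left hj hG₁ft hepi
  refine ⟨k, ?_⟩
  have h1 : Curv2.IsGloballyGenerated ((Scheme.Modules.pullback ((DZ D i₀ h).map φ)).obj F₁) :=
    isGloballyGenerated_pullback _ _
      (isGloballyGenerated_pullback _ _ (isGloballyGenerated_free _ ι))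
  have h2 : Curv2.IsGloballyGenerated ((Scheme.Modules.pullback ((DZ D i₀ h).map φ)).obj G₁) :=
    IsGloballyGenerated.of_epi _ hk h1
  exact IsGloballyGenerated.of_iso
    ((Scheme.Modules.pullback ((DZ D i₀ h).map φ)).mapIso
        (compIso ((DZ D i₀ h).map j.hom) (eZ D i₀ h j₀) (eZ D i₀ h j.left)
          (DZ_map_eZ D i₀ h j.hom) M₀) ≪≫
      compIso ((DZ D i₀ h).map φ) (eZ D i₀ h j.left) (eZ D i₀ h k) (DZ_map_eZ D i₀ h φ) M₀) h2


/-- **Global generation of an invertible module descends to a finite stage**, in a form that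
allows arbitrary fibre squares. -/
theorem exists_stage_forall (hc : IsLimit c) [CompactSpace Z₀] [QuasiSeparatedSpace Z₀]
    (M₀ : Z₀.Modules) (hM₀ : PicF.IsInvertible M₀)
    {Z : Scheme.{u}} (q : Z ⟶ Z₀) (r : Z ⟶ c.pt) (hsq : IsPullback q r h (c.π.app i₀))
    (hgg : Curv2.IsGloballyGenerated ((Scheme.Modules.pullback q).obj M₀)) :
    ∃ j : Over i₀, ∀ (k : Over i₀) (_ : k ⟶ j) {Zk : Scheme.{u}} (p : Zk ⟶ Z₀)
      (rk : Zk ⟶ D.obj k.left), p ≫ h = rk ≫ D.map k.hom →
        Curv2.IsGloballyGenerated ((Scheme.Modules.pullback p).obj M₀) := by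
  let ε : pullback (c.π.app i₀) h ⟶ Z :=
    hsq.lift (pullback.snd (c.π.app i₀) h) (pullback.fst (c.π.app i₀) h) pullback.condition.symm
  have hε : ε ≫ q = pullback.snd (c.π.app i₀) h := hsq.lift_fst _ _ _
  have hgg' : Curv2.IsGloballyGenerated
      ((Scheme.Modules.pullback (pullback.snd (c.π.app i₀) h)).obj M₀) :=
    IsGloballyGenerated.of_iso (compIso ε q _ hε M₀) (isGloballyGenerated_pullback ε _ hgg)
  obtain ⟨j, hj⟩ := exists_stage_isGloballyGenerated D c i₀ h hc M₀ hM₀ hgg'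
  refine ⟨j, fun k ψ Zk p rk hcomm => ?_⟩
  have hw : (rk ≫ D.map ψ.left) ≫ D.map j.hom = p ≫ h := by
    rw [Category.assoc, ← D.map_comp, Over.w ψ, hcomm]
  let ℓ : Zk ⟶ pullback (D.map j.hom) h := pullback.lift (rk ≫ D.map ψ.left) p hw
  have hℓ : ℓ ≫ pullback.snd (D.map j.hom) h = p := pullback.lift_snd _ _ _
  exact IsGloballyGenerated.of_iso (compIso ℓ _ p hℓ M₀) (isGloballyGenerated_pullback ℓ _ hj)

end Core

end Groth.Agent.Lib.Helper62.GGStage
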