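import Mathlib
import Groth.Agent.Lib.Helper62.InvDescent

/-!
# Variants of `InvDescent.main`; invertible modules on semilocal affine schemes (helper62)

* `main'`: as `InvDescent.main` but assuming `IsIso (unitToPush f)` instead of sectionwise
  bijectivity.
* `isIso_unitToPush_toSpecΓ`: `O ≅ (toSpecΓ)_* O_X` for `X` qcqs.
* `nonempty_iso_structureModule_of_semilocal`: an invertible module on `Spec R`, `R` semilocal,
  is trivial.
-/

set_option autoImplicit false
set_option linter.style.haveILetI false
universe u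
open CategoryTheory CategoryTheory.Limits AlgebraicGeometry TopologicalSpace

namespace Groth.Agent.Lib.Helper62.InvDescent

open Groth.Agent.Lib.Helper45 Groth.Agent.Lib.Helper49 Groth.Agent.Lib.Helper18.LimFinLocFree
  Groth.Agent.Lib.Helper11.GenLocus Groth.Agent.Lib.Helper11.PullbackBasis
  Groth.Agent.Lib.Helper11.CounitEpi

section Main'

variable {X Y X' Y' : Scheme.{u}} {f : X ⟶ Y} {g : Y' ⟶ Y} {g' : X' ⟶ X} {f' : X' ⟶ Y'}

open Groth.Agent.Lib.Helper49.AffineBaseChange in
theorem nonempty_unit_iso_push' (hpb : IsPullback g' f' f g) [QuasiCompact f] [QuasiSeparated f]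
    [Flat g] [IsIso (unitToPush f)] :
    Nonempty (Coh.structureModule Y' ≅
      (Scheme.Modules.pushforward f').obj (Coh.structureModule X')) := by
  haveI : (Coh.structureModule X).IsQuasicoherent :=
    isQuasicoherent_of_isInvertible (isInvertible_structureModule X)
  haveI := Groth.Agent.Lib.Helper11.FlatBC.isIso_bcMap_of_flat hpb (Coh.structureModule X)
  exact ⟨(pullbackUnitIso g).symm ≪≫ (Scheme.Modules.pullback g).mapIso (asIso (unitToPush f)) ≪≫
    asIso (bcMap f g g' f' hpb.w (Coh.structureModule X)) ≪≫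
    (Scheme.Modules.pushforward f').mapIso (pullbackUnitIso g')⟩

open Groth.Agent.Lib.Helper49.AffineBaseChange in
theorem main' (hpb : IsPullback g' f' f g) [QuasiCompact f] [QuasiSeparated f] [Flat g]
    [Surjective g] [QuasiCompact g] [IsIso (unitToPush f)]
    (L : X.Modules) (hL : PicF.IsInvertible L) (N' : Y'.Modules) (hN' : PicF.IsInvertible N')
    (e : (Scheme.Modules.pullback g').obj L ≅ (Scheme.Modules.pullback f').obj N') :
    PicF.IsInvertible ((Scheme.Modules.pushforward f).obj L) ∧
      IsIso ((Scheme.Modules.pullbackPushforwardAdjunction f).counit.app L) := by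
  haveI hLq : L.IsQuasicoherent := isQuasicoherent_of_isInvertible hL
  haveI hN'q : N'.IsQuasicoherent := isQuasicoherent_of_isInvertible hN'
  haveI : Flat g' := MorphismProperty.of_isPullback (P := @Flat) hpb.flip inferInstance
  haveI : Surjective g' := MorphismProperty.of_isPullback (P := @Surjective) hpb.flip inferInstance
  haveI : QuasiCompact g' :=
    MorphismProperty.of_isPullback (P := @QuasiCompact) hpb.flip inferInstance
  haveI : QuasiCompact f' := MorphismProperty.of_isPullback (P := @QuasiCompact) hpb inferInstance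
  haveI : QuasiSeparated f' :=
    MorphismProperty.of_isPullback (P := @QuasiSeparated) hpb inferInstance
  haveI hL'q : ((Scheme.Modules.pullback g').obj L).IsQuasicoherent :=
    Groth.Agent.Lib.Helper16.FlatPull.isQuasicoherent_pullback g' L
  haveI hpushq : ((Scheme.Modules.pushforward f).obj L).IsQuasicoherent :=
    isQuasicoherent_pushforward L f
  haveI hppq : ((Scheme.Modules.pullback f).obj ((Scheme.Modules.pushforward f).obj L)).IsQuasicoherent :=
    Groth.Agent.Lib.Helper16.FlatPull.isQuasicoherent_pullback f _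
  have hA1 : Epi ((Scheme.Modules.pullbackPushforwardAdjunction f').counit.app
      ((Scheme.Modules.pullback g').obj L)) :=
    (Groth.Agent.S10869.result f' _ hL'q).1.mpr ⟨N', hN'q, e.inv, inferInstance⟩
  have hA2 : Epi ((Scheme.Modules.pullback g').map
      ((Scheme.Modules.pullbackPushforwardAdjunction f).counit.app L)) :=
    Groth.Agent.Lib.Helper11.AmpleDescent.epi_pullback_counit hpb L hA1
  have hA3 : Epi ((Scheme.Modules.pullbackPushforwardAdjunction f).counit.app L) :=
    @Groth.Agent.Lib.Helper11.AmpleDescent.epi_of_epi_pullback _ _ g' _ _ _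
      ((Scheme.Modules.pullback f).obj ((Scheme.Modules.pushforward f).obj L)) L hppq hLq
      ((Scheme.Modules.pullbackPushforwardAdjunction f).counit.app L) hA2
  obtain ⟨θ'⟩ := nonempty_unit_iso_push' hpb
  have hB1 : PicF.IsInvertible
      ((Scheme.Modules.pushforward f').obj ((Scheme.Modules.pullback f').obj N')) :=
    isInvertible_push_pull f' θ' N' hN'
  haveI := Groth.Agent.Lib.Helper11.FlatBC.isIso_bcMap_of_flat hpb L
  have hB2 : PicF.IsInvertible
      ((Scheme.Modules.pullback g).obj ((Scheme.Modules.pushforward f).obj L)) :=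
    isInvertible_of_iso ((asIso (bcMap f g g' f' hpb.w L) ≪≫
      (Scheme.Modules.pushforward f').mapIso e).symm) hB1
  have hB : PicF.IsInvertible ((Scheme.Modules.pushforward f).obj L) :=
    isInvertible_of_pullback g _ hB2
  refine ⟨hB, ?_⟩
  haveI := hA3
  exact isIso_of_epi_of_isInvertible
    (Groth.Agent.Lib.Helper11.PullbackTensor.isInvertible_pullback f hB) hL _

end Main'

section ToSpecΓ

variable (X : Scheme.{u}) [CompactSpace X] [QuasiSeparatedSpace X]

instance isIso_unitToPush_toSpecΓ : IsIso (unitToPush X.toSpecΓ) := by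
  haveI : (Coh.structureModule X).IsQuasicoherent :=
    isQuasicoherent_of_isInvertible (isInvertible_structureModule X)
  haveI : (Coh.structureModule (Spec Γ(X, ⊤))).IsQuasicoherent :=
    isQuasicoherent_of_isInvertible (isInvertible_structureModule _)
  haveI : ((Scheme.Modules.pushforward X.toSpecΓ).obj (Coh.structureModule X)).IsQuasicoherent :=
    isQuasicoherent_pushforward _ X.toSpecΓ
  apply Groth.Agent.Lib.Helper42.isIso_of_app_bijective_of_cover
  intro y
  refine ⟨⊤, isAffineOpen_top _, trivial, ?_⟩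
  have hfun : ⇑((unitToPush X.toSpecΓ).app ⊤).hom =
      fun a : Γ(Coh.structureModule (Spec Γ(X, ⊤)), ⊤) =>
      (show Γ((Scheme.Modules.pushforward X.toSpecΓ).obj (Coh.structureModule X), ⊤) from
        (toO (X.toSpecΓ ⁻¹ᵁ ⊤) ((X.toSpecΓ.app ⊤).hom (ofO ⊤ a)) :
          Γ(Coh.structureModule X, X.toSpecΓ ⁻¹ᵁ ⊤))) := by
    funext a
    exact unitToPush_app X.toSpecΓ ⊤ (ofO ⊤ a)
  change Function.Bijective ⇑((unitToPush X.toSpecΓ).app ⊤).hom
  rw [hfun]
  have h1 : IsIso (X.toSpecΓ.app ⊤) := by
    have : X.toSpecΓ.app ⊤ = X.toSpecΓ.appTop := rfl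
    rw [this, Scheme.toSpecΓ_appTop]
    exact Iso.isIso_hom _
  exact (ConcreteCategory.isIso_iff_bijective (X.toSpecΓ.app ⊤)).mp h1

end ToSpecΓ

section Semilocal

/-- **An invertible module on the spectrum of a semilocal ring is trivial.** -/
theorem nonempty_iso_structureModule_of_semilocal (R : CommRingCat.{u})
    [Finite (MaximalSpectrum R)] (N : (Spec R).Modules) (hN : PicF.IsInvertible N) :
    Nonempty (N ≅ Coh.structureModule (Spec R)) := by
  classical
  haveI := isQuasicoherent_of_isInvertible hN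
  haveI : Fintype (MaximalSpectrum R) := Fintype.ofFinite _
  let ptP : MaximalSpectrum R → PrimeSpectrum R := fun m => ⟨m.asIdeal, m.isMaximal.isPrime⟩
  let pt : MaximalSpectrum R → ↥(Spec R) := fun m => ptP m
  let T : Finset ↥(Spec R) := Finset.univ.image pt
  have hsp : ∀ x ∈ T, ∀ z ∈ T, z ⤳ x → z = x := by
    intro x hx z hz hzx
    obtain ⟨m, -, rfl⟩ := Finset.mem_image.mp hx
    obtain ⟨m', -, rfl⟩ := Finset.mem_image.mp hz
    have hzx' : ptP m' ⤳ ptP m := hzx
    have hle : ptP m' ≤ ptP m := (PrimeSpectrum.le_iff_specializes _ _).mpr hzx'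
    have hle' : m'.asIdeal ≤ m.asIdeal := hle
    have heq : m'.asIdeal = m.asIdeal :=
      m'.isMaximal.eq_of_le m.isMaximal.ne_top hle'
    exact PrimeSpectrum.ext heq
  obtain ⟨W, hW, p, hTW, hb⟩ := exists_isBasisOn_of_finset (L := N) (U₀ := ⊤)
    (isAffineOpen_top (Spec R)) (fun x _ => exists_isBasisOn_of_isInvertible hN x) T
    (fun x _ => trivial) hsp
  have hWtop : W = ⊤ := by
    refine top_le_iff.mp (fun y _ => ?_)
    obtain ⟨M, hM, hyM⟩ := Ideal.exists_le_maximal (y : PrimeSpectrum R).asIdeal
      (y : PrimeSpectrum R).isPrime.ne_top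
    have hz : pt ⟨M, hM⟩ ∈ W := hTW _ (Finset.mem_image.mpr ⟨⟨M, hM⟩, Finset.mem_univ _, rfl⟩)
    have hsp'' : (y : PrimeSpectrum R) ⤳ ptP ⟨M, hM⟩ :=
      (PrimeSpectrum.le_iff_specializes (y : PrimeSpectrum R) (ptP ⟨M, hM⟩)).mp hyM
    have hsp' : y ⤳ pt ⟨M, hM⟩ := hsp''
    exact hsp'.mem_open W.2 hz
  have hb' := hb.congr_open hWtop
  rw [mres_mres] at hb'
  have hb'' : IsBasisOn N ⊤ p := by
    have := hb'
    rwa [mres_self] at this
  haveI := isIso_homOfSection_of_isBasisOn p hb''
  exact ⟨(asIso (homOfSection N p)).symm⟩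

end Semilocal

end Groth.Agent.Lib.Helper62.InvDescent
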