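import Mathlib
import Groth.Agent.Lib.Helper62.GGStage
import Groth.Agent.Lib.Helper62.InvDescent
import Groth.Agent.S4788
import Groth.Agent.S4792

/-!
# Invertible modules on a limit of base changes descend to a finite stage (helper62)

`exists_invertible_stage`: for the base change system `DZ` of `GGStage` (base changes of a qcqs
scheme `Z₀ ⟶ D.obj i₀` along the stages of a cofiltered limit with affine transition maps), every
invertible module on the limit is the pullback of an invertible module on a finite stage.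
(Uses the landed milestones S4788 and S4792 of helper18.)
-/

set_option autoImplicit false
set_option linter.style.haveILetI false
set_option linter.unusedSectionVars false
universe u
open CategoryTheory CategoryTheory.Limits AlgebraicGeometry TopologicalSpace Opposite

noncomputable section

namespace Groth.Agent.Lib.Helper62.InvStage

open Groth.Agent.Lib.Helper62.GGStage Groth.Agent.Lib.Helper62.LimPres
  Groth.Agent.Lib.Helper18.TransSec

variable {I : Type u} [SmallCategory I] (D : I ⥤ Scheme.{u}) (c : Cone D) (i₀ : I)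
  [IsCofiltered I] [∀ (i j : I) (f : i ⟶ j), IsAffineHom (D.map f)] {Z₀ : Scheme.{u}}
  (h : Z₀ ⟶ D.obj i₀)

theorem exists_invertible_stage (hc : IsLimit c) [CompactSpace Z₀] [QuasiSeparatedSpace Z₀]
    {Z : Scheme.{u}} (q : Z ⟶ Z₀) (r : Z ⟶ c.pt) (hsq : IsPullback q r h (c.π.app i₀))
    (M : Z.Modules) (hM : PicF.IsInvertible M) :
    ∃ (k : Over i₀) (L'' : (pullback (D.map k.hom) h).Modules), PicF.IsInvertible L'' ∧
      ∀ (ρ : Z ⟶ pullback (D.map k.hom) h),
        ρ ≫ pullback.fst (D.map k.hom) h = r ≫ c.π.app k.left →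
        ρ ≫ pullback.snd (D.map k.hom) h = q →
        Nonempty ((Scheme.Modules.pullback ρ).obj L'' ≅ M) := by
  classical
  let π : ∀ i : I, c.pt ⟶ D.obj i := fun i => c.π.app i
  let e : Z ≅ pullback (π i₀) h := hsq.flip.isoPullback
  have he1 : e.hom ≫ pullback.fst (π i₀) h = r := hsq.flip.isoPullback_hom_fst
  have he2 : e.hom ≫ pullback.snd (π i₀) h = q := hsq.flip.isoPullback_hom_snd
  let DZ' : Over i₀ ⥤ Scheme.{u} := DZ D i₀ h
  let cZ' : Cone DZ' := cZ D c i₀ h
  have hcZ : IsLimit cZ' := isLimitCZ D c i₀ h hc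
  let M₁ : cZ'.pt.Modules := (Scheme.Modules.pullback e.inv).obj M
  have hM₁ : PicF.IsInvertible M₁ :=
    Groth.Agent.Lib.Helper11.PullbackTensor.isInvertible_pullback e.inv hM
  haveI hM₁q : Coh.IsQCoh M₁ := Groth.Agent.Lib.Helper45.isQuasicoherent_of_isInvertible hM₁
  have hM₁fp : CohB1.IsFP M₁ :=
    Groth.Agent.Lib.Helper49.isFinitePresentation_of_isFinLocFree _
      (Groth.Agent.Lib.Helper18.LimFinLocFree.isFinLocFree_of_isFinLocFreeOfRank
        (Groth.Agent.Lib.Helper62.InvDescent.isFinLocFreeOfRank_one_of_isInvertible hM₁))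
  let j₀ : Over i₀ := Over.mk (𝟙 i₀)
  haveI : CompactSpace (DZ'.obj j₀) := compactSpace_DZ D i₀ h j₀
  haveI : QuasiSeparatedSpace (DZ'.obj j₀) := quasiSeparatedSpace_DZ D i₀ h j₀
  obtain ⟨k, _, Fk, hFq, hFfp, ⟨e1⟩⟩ := Groth.Agent.S4788.result DZ' cZ' hcZ j₀ M₁ hM₁fp
  haveI : CompactSpace (DZ'.obj k) := compactSpace_DZ D i₀ h k
  haveI : Coh.IsQCoh Fk := hFq
  have hrk : FlatMod.IsFinLocFreeOfRank 1 ((Scheme.Modules.pullback (cZ'.π.app k)).obj Fk) :=
    Groth.Agent.Lib.Helper18.LimFinLocFree.isFinLocFreeOfRank_of_iso e1.symm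
      (Groth.Agent.Lib.Helper62.InvDescent.isFinLocFreeOfRank_one_of_isInvertible hM₁)
  obtain ⟨k', φ, hk'⟩ := (Groth.Agent.S4792.result DZ' cZ' hcZ k Fk hFfp 1).mp hrk
  let Fk' : (pullback (D.map k.hom) h).Modules := Fk
  let δ : pullback (D.map k'.hom) h ⟶ pullback (D.map k.hom) h := DZ'.map φ
  let L'' : (pullback (D.map k'.hom) h).Modules := (Scheme.Modules.pullback δ).obj Fk'
  have hL'' : PicF.IsInvertible L'' :=
    Groth.Agent.Lib.Helper62.InvDescent.isInvertible_of_isFinLocFreeOfRank_one hk'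
  refine ⟨k', L'', hL'', fun ρ hρ1 hρ2 => ?_⟩
  let γ : pullback (π i₀) h ⟶ pullback (D.map k.hom) h := cZ'.π.app k
  have h1 : δ ≫ pullback.fst (D.map k.hom) h =
      pullback.fst (D.map k'.hom) h ≫ D.map φ.left := G_map_fst h ((DOver D i₀).map φ)
  have h2 : γ ≫ pullback.fst (D.map k.hom) h =
      pullback.fst (π i₀) h ≫ π k.left := G_map_fst h ((coneOver D c i₀).π.app k)
  have h3 : δ ≫ pullback.snd (D.map k.hom) h = pullback.snd (D.map k'.hom) h :=
    DZ_map_eZ D i₀ h φ
  have h4 : γ ≫ pullback.snd (D.map k.hom) h = pullback.snd (π i₀) h :=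
    cZ_π_eZ D c i₀ h k
  have hw : π k'.left ≫ D.map φ.left = π k.left := c.w φ.left
  have key : ρ ≫ δ = e.hom ≫ γ := by
    refine pullback.hom_ext ?_ ?_
    · calc (ρ ≫ δ) ≫ pullback.fst (D.map k.hom) h
          = (ρ ≫ pullback.fst (D.map k'.hom) h) ≫ D.map φ.left := by
            rw [Category.assoc, h1, Category.assoc]
        _ = r ≫ π k.left := by rw [hρ1, Category.assoc, hw]
        _ = (e.hom ≫ pullback.fst (π i₀) h) ≫ π k.left := by rw [he1]
        _ = (e.hom ≫ γ) ≫ pullback.fst (D.map k.hom) h := by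
            rw [Category.assoc e.hom γ, h2, Category.assoc]
    · calc (ρ ≫ δ) ≫ pullback.snd (D.map k.hom) h
          = ρ ≫ pullback.snd (D.map k'.hom) h := by rw [Category.assoc, h3]
        _ = q := hρ2
        _ = e.hom ≫ pullback.snd (π i₀) h := he2.symm
        _ = (e.hom ≫ γ) ≫ pullback.snd (D.map k.hom) h := by
            rw [Category.assoc e.hom γ, h4]
  refine ⟨?_⟩
  exact compIso ρ δ _ key Fk' ≪≫ (compIso e.hom γ _ rfl Fk').symm ≪≫
    (Scheme.Modules.pullback e.hom).mapIso e1 ≪≫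
    compIso e.hom e.inv (𝟙 _) e.hom_inv_id M ≪≫ (Scheme.Modules.pullbackId _).app M

end Groth.Agent.Lib.Helper62.InvStage
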