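import Mathlib
import Groth.Agent.Lib.Helper62.JacobianFS

/-!
# Jacobian data at a prime (helper62)

`B` Noetherian and formally smooth over `R`, `B → C` surjective with kernel `J`.

* `exists_jacobian_data`: if `C_p` is formally smooth over `R` then there are `f_i ∈ J` generating
  `J B_q` and `R`-derivations `D_j` of `B` with `det (D_j f_i) ∉ q` (`q` the preimage of `p`).
* `exists_denominator`: a common denominator `h ∉ q` with `h J ⊆ (f i)`.
-/

set_option autoImplicit false
universe u

namespace Groth.Agent.Lib.Helper62.JacobianNbhd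

open KaehlerDifferential TensorProduct Groth.Agent.Lib.Helper62.JacobianFS

variable {R B C : Type u} [CommRing R] [CommRing B] [CommRing C] [Algebra R B] [Algebra R C]
  [Algebra B C] [IsScalarTower R B C]

theorem exists_jacobian_data [Algebra.FormallySmooth R B] [IsNoetherianRing B]
    (hsurj : Function.Surjective (algebraMap B C)) (p : Ideal C) [p.IsPrime]
    (hfs : Algebra.FormallySmooth R (Localization.AtPrime p)) :
    ∃ (m : ℕ) (f : Fin m → B) (D : Fin m → Derivation R B B),
      (∀ i, f i ∈ RingHom.ker (algebraMap B C)) ∧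
      (RingHom.ker (algebraMap B C)).map
          (algebraMap B (Localization.AtPrime (p.comap (algebraMap B C)))) =
        Ideal.span (Set.range fun i =>
          algebraMap B (Localization.AtPrime (p.comap (algebraMap B C))) (f i)) ∧
      Matrix.det (Matrix.of fun i j => D j (f i)) ∉ p.comap (algebraMap B C) := by
  classical
  let J : Ideal B := RingHom.ker (algebraMap B C)
  let q : Ideal B := p.comap (algebraMap B C)
  have : q.IsPrime := Ideal.comap_isPrime _ _
  have : p.LiesOver q := ⟨rfl⟩
  let _ := Localization.AtPrime.algebraOfLiesOver q p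
  have hsurjP : Function.Surjective
      (algebraMap (Localization.AtPrime q) (Localization.AtPrime p)) :=
    localRingHom_surjective q p hsurj
  have hker : RingHom.ker (algebraMap (Localization.AtPrime q) (Localization.AtPrime p)) =
      J.map (algebraMap B (Localization.AtPrime q)) := ker_localRingHom q p hsurj
  have : Algebra.FormallyEtale B (Localization.AtPrime q) :=
    Algebra.FormallyEtale.of_isLocalization q.primeCompl
  have : Algebra.FormallySmooth R (Localization.AtPrime q) :=
    Algebra.FormallySmooth.comp R B (Localization.AtPrime q)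
  have : IsNoetherianRing (Localization.AtPrime q) :=
    IsLocalization.isNoetherianRing q.primeCompl _ inferInstance
  have hS : Ideal.span ((algebraMap B (Localization.AtPrime q)) '' (J : Set B)) =
      RingHom.ker (algebraMap (Localization.AtPrime q) (Localization.AtPrime p)) := by
    rw [hker]; rfl
  obtain ⟨m, f', hf'S, hspan', μ', hμ'⟩ :=
    exists_functionals_of_formallySmooth (R := R) (P := Localization.AtPrime q)
      (A := Localization.AtPrime p) hsurjP
      ((algebraMap B (Localization.AtPrime q)) '' (J : Set B)) hS
  choose g hgJ hg using hf'S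
  let μ : Fin m → Ω[B⁄R] →ₗ[B] q.ResidueField := fun j =>
    ((μ' j).restrictScalars B) ∘ₗ (KaehlerDifferential.map R R B (Localization.AtPrime q))
  have hμ : ∀ i j, μ j (D R B (g i)) = if i = j then 1 else 0 := by
    intro i j
    simp only [μ, LinearMap.coe_comp, Function.comp_apply, LinearMap.coe_restrictScalars,
      KaehlerDifferential.map_D]
    rw [hg i]
    exact hμ' i j
  obtain ⟨ν, hν⟩ := exists_linearMaps_det_notMem q (fun i => D R B (g i)) μ hμ
  refine ⟨m, g, fun j => (ν j).compDer (D R B), hgJ, ?_, hν⟩
  rw [← hker, ← hspan']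
  congr 1
  ext x
  simp only [Set.mem_range]
  constructor
  · rintro ⟨i, rfl⟩
    exact ⟨i, hg i⟩
  · rintro ⟨i, rfl⟩
    exact ⟨i, (hg i).symm⟩

/-- A common denominator: if the `f i` generate `J B_q` then `h * J ⊆ (f i)` for some `h ∉ q`. -/
theorem exists_denominator [IsNoetherianRing B] (J q : Ideal B) [q.IsPrime]
    {m : ℕ} (f : Fin m → B)
    (hspan : J.map (algebraMap B (Localization.AtPrime q)) =
      Ideal.span (Set.range fun i => algebraMap B (Localization.AtPrime q) (f i))) :
    ∃ h : B, h ∉ q ∧ ∀ x ∈ J, h * x ∈ Ideal.span (Set.range f) := by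
  classical
  have hfg : J.FG := IsNoetherian.noetherian J
  obtain ⟨T, hT⟩ := hfg
  have hTJ : ∀ x ∈ T, x ∈ J := fun x hx => hT ▸ Ideal.subset_span hx
  have hex : ∀ x ∈ T, ∃ s : B, s ∉ q ∧ s * x ∈ Ideal.span (Set.range f) := by
    intro x hx
    have h1 : algebraMap B (Localization.AtPrime q) x ∈
        (Ideal.span (Set.range f)).map (algebraMap B (Localization.AtPrime q)) := by
      rw [Ideal.map_span, ← Set.range_comp]
      have := Ideal.mem_map_of_mem (algebraMap B (Localization.AtPrime q)) (hTJ x hx)
      rw [hspan] at this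
      exact this
    obtain ⟨s, hs, hsx⟩ := (IsLocalization.algebraMap_mem_map_algebraMap_iff q.primeCompl
      (Localization.AtPrime q) _ x).mp h1
    exact ⟨s, hs, hsx⟩
  choose! s hsq hsx using hex
  refine ⟨∏ x ∈ T, s x, ?_, ?_⟩
  · intro hmem
    obtain ⟨x, hx, hxq⟩ := (Ideal.IsPrime.prod_mem_iff).mp hmem
    exact hsq x hx hxq
  · intro x hx
    rw [← hT] at hx
    induction hx using Submodule.span_induction with
    | mem y hy =>
      have hy' : y ∈ T := Finset.mem_coe.mp hy
      rw [← Finset.prod_erase_mul T s hy', mul_assoc]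
      exact Ideal.mul_mem_left _ _ (hsx y hy')
    | zero => rw [mul_zero]; exact Ideal.zero_mem _
    | add y z _ _ hy hz => rw [mul_add]; exact Ideal.add_mem _ hy hz
    | smul r y _ hy =>
      rw [smul_eq_mul, mul_left_comm]
      exact Ideal.mul_mem_left _ _ hy

end Groth.Agent.Lib.Helper62.JacobianNbhd
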