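import Mathlib
import Groth.Agent.Lib.Helper62.JacobianNbhd

/-!
# Formal smoothness of a quotient is local at the maximal ideals (helper62)

`B` Noetherian and formally smooth over `R`, `B → C` surjective.  If `C_m` is formally smooth over
`R` for every maximal ideal `m` of `C`, then `C` is formally smooth over `R`
(`formallySmooth_of_forall_isMaximal`).  No finiteness of `B` over `R` is assumed, so `Ω[B⁄R]` may
be of infinite rank; the proof glues retractions of `J/J² → C ⊗ Ω[B⁄R]` obtained from Jacobian data
at each maximal ideal (the scalars `g` with `g • id` factoring through the conormal map form an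
ideal).
-/

set_option autoImplicit false
universe u

namespace Groth.Agent.Lib.Helper62.JacobianGlobal

open KaehlerDifferential TensorProduct Groth.Agent.Lib.Helper62.JacobianFS
  Groth.Agent.Lib.Helper62.JacobianNbhd

variable {R B C : Type u} [CommRing R] [CommRing B] [CommRing C] [Algebra R B] [Algebra R C]
  [Algebra B C] [IsScalarTower R B C]

theorem formallySmooth_of_forall_isMaximal [Algebra.FormallySmooth R B] [IsNoetherianRing B]
    (hsurj : Function.Surjective (algebraMap B C))
    (h : ∀ (m : Ideal C) [m.IsMaximal], Algebra.FormallySmooth R (Localization.AtPrime m)) :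
    Algebra.FormallySmooth R C := by
  classical
  let E : Algebra.Extension.{u} R C := ⟨B, _, Function.surjInv_eq hsurj⟩
  have : Algebra.FormallySmooth R E.Ring := ‹_›
  rw [Algebra.Extension.formallySmooth_iff_split_injection E]
  -- the ideal of scalars `g` such that `g • id` factors through the cotangent complex
  let 𝔞 : Ideal C :=
    { carrier := {g | ∃ l : E.CotangentSpace →ₗ[C] E.Cotangent,
        l ∘ₗ E.cotangentComplex = g • LinearMap.id}
      add_mem' := by
        rintro g₁ g₂ ⟨l₁, h₁⟩ ⟨l₂, h₂⟩
        exact ⟨l₁ + l₂, by rw [LinearMap.add_comp, h₁, h₂, add_smul]⟩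
      zero_mem' := ⟨0, by rw [LinearMap.zero_comp, zero_smul]⟩
      smul_mem' := by
        rintro c g ⟨l, hl⟩
        exact ⟨c • l, by rw [LinearMap.smul_comp, hl, smul_smul, smul_eq_mul]⟩ }
  suffices h𝔞 : 𝔞 = ⊤ by
    have h1 : (1 : C) ∈ 𝔞 := h𝔞 ▸ Submodule.mem_top
    obtain ⟨l, hl⟩ := h1
    exact ⟨l, by rw [hl, one_smul]⟩
  by_contra hne
  obtain ⟨m, hm, hle⟩ := Ideal.exists_le_maximal 𝔞 hne
  have hfs := h m
  obtain ⟨n, f, D, hfJ, hspan, hdet⟩ := exists_jacobian_data hsurj m hfs
  have : (m.comap (algebraMap B C)).IsPrime := Ideal.comap_isPrime _ _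
  obtain ⟨h₁, hh₁q, hh₁J⟩ :=
    exists_denominator (RingHom.ker (algebraMap B C)) (m.comap (algebraMap B C)) f hspan
  have hfK : ∀ i, f i ∈ E.ker := hfJ
  let nn : Fin n → E.Cotangent := fun i => Algebra.Extension.Cotangent.mk ⟨f i, hfK i⟩
  let δ : Fin n → Derivation R B C := fun j => (Algebra.linearMap B C).compDer (D j)
  let ψ : Fin n → (E.CotangentSpace →ₗ[C] C) := fun j =>
    LinearMap.liftBaseChange C ((δ j).liftKaehlerDifferential)
  let MB : Matrix (Fin n) (Fin n) B := Matrix.of fun i j => D j (f i)
  let Mat : Matrix (Fin n) (Fin n) C := (algebraMap B C).mapMatrix MB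
  let l1 : E.CotangentSpace →ₗ[C] (Fin n → C) := LinearMap.pi ψ
  let l2 : (Fin n → C) →ₗ[C] (Fin n → C) := Matrix.vecMulLinear Mat.adjugate
  let l3 : (Fin n → C) →ₗ[C] E.Cotangent := Fintype.linearCombination C nn
  let l : E.CotangentSpace →ₗ[C] E.Cotangent := l3 ∘ₗ l2 ∘ₗ l1
  -- on the span of the `nn i`
  have hl_span : ∀ y ∈ Submodule.span C (Set.range nn),
      l (E.cotangentComplex y) = Mat.det • y := by
    intro y hy
    induction hy using Submodule.span_induction with
    | mem y hy =>
      obtain ⟨i, rfl⟩ := hy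
      have h1 : E.cotangentComplex (nn i) = 1 ⊗ₜ KaehlerDifferential.D R B (f i) := rfl
      have h2 : l1 (E.cotangentComplex (nn i)) = Mat i := by
        rw [h1]
        funext j
        simp [l1, ψ, Mat, MB, δ]
      have h3 : l2 (Mat i) = Mat.det • Pi.single i 1 := by
        funext j
        have := congrFun (congrFun (Matrix.mul_adjugate Mat) i) j
        simp only [Matrix.mul_apply, Matrix.smul_apply, Matrix.one_apply, smul_eq_mul] at this
        simp only [l2, Matrix.vecMulLinear_apply, Matrix.vecMul, dotProduct, Pi.smul_apply,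
          Pi.single_apply, smul_eq_mul]
        rw [this]
        simp [eq_comm]
      have h4 : l3 (Mat.det • Pi.single i 1) = Mat.det • nn i := by
        rw [map_smul]
        simp [l3, Fintype.linearCombination_apply]
      show l3 (l2 (l1 _)) = _
      rw [h2, h3, h4]
    | zero => simp
    | add y z _ _ hy hz => rw [map_add, map_add, hy, hz, smul_add]
    | smul c y _ hy => rw [map_smul, map_smul, hy, smul_comm]
  have hmem_span : ∀ y : E.Cotangent,
      algebraMap B C h₁ • y ∈ Submodule.span C (Set.range nn) := by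
    intro y
    obtain ⟨⟨x, hx⟩, rfl⟩ := Algebra.Extension.Cotangent.mk_surjective y
    obtain ⟨c, hc⟩ := (Ideal.mem_span_range_iff_exists_fun).mp (hh₁J x hx)
    have hker : (h₁ • (⟨x, hx⟩ : E.ker) : E.ker) = ∑ i, c i • (⟨f i, hfK i⟩ : E.ker) := by
      apply Subtype.ext
      simp only [Submodule.coe_smul_of_tower, smul_eq_mul, Submodule.coe_sum]
      exact hc.symm
    have : algebraMap B C h₁ • Algebra.Extension.Cotangent.mk (⟨x, hx⟩ : E.ker) =
        ∑ i, algebraMap B C (c i) • nn i := by
      rw [algebraMap_smul, ← map_smul, hker, map_sum]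
      refine Finset.sum_congr rfl fun i _ => ?_
      rw [map_smul, algebraMap_smul]
    rw [this]
    exact Submodule.sum_mem _ fun i _ =>
      Submodule.smul_mem _ _ (Submodule.subset_span ⟨i, rfl⟩)
  have hg : algebraMap B C h₁ * Mat.det ∈ 𝔞 := by
    refine ⟨algebraMap B C h₁ • l, ?_⟩
    ext y
    simp only [LinearMap.coe_comp, Function.comp_apply, LinearMap.smul_apply, LinearMap.id_coe,
      id_eq]
    rw [← map_smul, ← map_smul, hl_span _ (hmem_span y), smul_smul, mul_comm]
  have hgm : algebraMap B C h₁ * Mat.det ∉ m := by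
    intro hmem
    rcases (Ideal.IsPrime.mem_or_mem hm.isPrime hmem) with h1 | h1
    · exact hh₁q h1
    · apply hdet
      show algebraMap B C _ ∈ m
      rw [RingHom.map_det]
      exact h1
  exact hgm (hle hg)

end Groth.Agent.Lib.Helper62.JacobianGlobal
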