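import Mathlib

/-!
# Splitting of the Jacobi–Zariski sequence for a formally smooth algebra (helper62)
-/

set_option autoImplicit false
universe u

namespace Groth.Agent.Lib.Helper62.KaehlerSplit

open KaehlerDifferential TensorProduct

/-- If `T` is formally smooth over `S`, then `Ω[T/R] ≃ (T ⊗[S] Ω[S/R]) × Ω[T/S]`. -/
theorem nonempty_equiv_prod (R S T : Type u) [CommRing R] [CommRing S] [CommRing T]
    [Algebra R S] [Algebra S T] [Algebra R T] [IsScalarTower R S T] [Algebra.FormallySmooth S T] :
    Nonempty (Ω[T⁄R] ≃ₗ[T] (T ⊗[S] Ω[S⁄R]) × Ω[T⁄S]) := by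
  have hinj : Function.Injective (mapBaseChange R S T) := by
    rw [injective_iff_map_eq_zero]
    intro x hx
    obtain ⟨y, rfl⟩ := (Algebra.H1Cotangent.exact_δ_mapBaseChange R S T x).mp hx
    rw [Subsingleton.elim y 0, map_zero]
  have hex := KaehlerDifferential.exact_mapBaseChange_map R S T
  have hsurj := KaehlerDifferential.map_surjective R S T
  obtain ⟨l, hl⟩ := Module.projective_lifting_property (KaehlerDifferential.map R S T T)
    LinearMap.id hsurj
  exact ⟨(hex.splitSurjectiveEquiv hinj ⟨l, hl⟩).1⟩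

end Groth.Agent.Lib.Helper62.KaehlerSplit
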