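import Mathlib

set_option autoImplicit false
universe u

open TensorProduct

namespace Groth.Agent.Lib.Helper62.SymPow

/-- Use the semiring structure of the symmetric algebra coming from its commutative ring
structure (this is the one quotients by ideals expect). -/
scoped instance (priority := 2000) instSemiringSym (R M : Type*) [CommRing R] [AddCommGroup M]
    [Module R M] : Semiring (SymmetricAlgebra R M) :=
  (inferInstance : CommRing (SymmetricAlgebra R M)).toCommSemiring.toSemiring

section lift

variable {R : Type u} [CommRing R] {ι : Type u} {M : Type u} [AddCommGroup M] [Module R M]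
  {N : Type u} [AddCommGroup N] [Module R N]

theorem mk_surjective : Function.Surjective (SymmetricPower.mk R ι M) :=
  AddCon.mk'_surjective

/-- additive lift -/
noncomputable def liftAux (f : MultilinearMap R (fun _ : ι => M) N)
    (hf : ∀ (e : Equiv.Perm ι) (v : ι → M), f (fun i => v (e i)) = f v) :
    SymmetricPower R ι M →+ N :=
  AddCon.lift _ (PiTensorProduct.lift f).toAddMonoidHom (by
      rw [AddCon.addConGen_le]
      intro x y h
      cases h with
      | perm e v =>
        rw [AddCon.ker_rel]
        simp only [LinearMap.toAddMonoidHom_coe, PiTensorProduct.lift.tprod, hf])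

theorem liftAux_mk (f : MultilinearMap R (fun _ : ι => M) N)
    (hf : ∀ (e : Equiv.Perm ι) (v : ι → M), f (fun i => v (e i)) = f v)
    (x : PiTensorProduct R fun _ : ι => M) :
    liftAux f hf (SymmetricPower.mk R ι M x) = PiTensorProduct.lift f x := rfl

/-- Lift a symmetric multilinear map to the symmetric power. -/
noncomputable def lift (f : MultilinearMap R (fun _ : ι => M) N)
    (hf : ∀ (e : Equiv.Perm ι) (v : ι → M), f (fun i => v (e i)) = f v) :
    SymmetricPower R ι M →ₗ[R] N :=
  { toFun := liftAux f hf
    map_add' := fun x y => map_add _ x y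
    map_smul' := fun r x => by
      obtain ⟨x, rfl⟩ := mk_surjective x
      rw [← map_smul, liftAux_mk, liftAux_mk, map_smul, RingHom.id_apply] }

@[simp] theorem lift_tprod (f : MultilinearMap R (fun _ : ι => M) N)
    (hf : ∀ (e : Equiv.Perm ι) (v : ι → M), f (fun i => v (e i)) = f v) (v : ι → M) :
    lift f hf (SymmetricPower.tprod R v) = f v := by
  show liftAux f hf (SymmetricPower.mk R ι M (PiTensorProduct.tprod R v)) = _
  rw [liftAux_mk, PiTensorProduct.lift.tprod]

theorem hom_ext {f g : SymmetricPower R ι M →ₗ[R] N}
    (h : ∀ v : ι → M, f (SymmetricPower.tprod R v) = g (SymmetricPower.tprod R v)) : f = g := by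
  apply LinearMap.ext_on_range (SymmetricPower.span_tprod_eq_top R ι M)
  exact h

theorem smul_tprod [DecidableEq ι] (r : R) (v : ι → M) (i : ι) :
    r • SymmetricPower.tprod R v = SymmetricPower.tprod R (Function.update v i (r • v i)) := by
  rw [MultilinearMap.map_update_smul, Function.update_eq_self]

theorem addHom_ext [Nonempty ι] {N' : Type*} [AddCommMonoid N'] {f g : SymmetricPower R ι M →+ N'}
    (h : ∀ v : ι → M, f (SymmetricPower.tprod R v) = g (SymmetricPower.tprod R v)) : f = g := by
  classical
  ext x
  have hx : x ∈ Submodule.span R (Set.range (SymmetricPower.tprod R (ι := ι) (M := M))) := by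
    rw [SymmetricPower.span_tprod_eq_top]; trivial
  have key : ∀ r : R, f (r • x) = g (r • x) := by
    induction hx using Submodule.span_induction with
    | mem x hx =>
      obtain ⟨v, rfl⟩ := hx
      intro r
      rw [smul_tprod r v (Classical.arbitrary ι)]
      exact h _
    | zero => simp
    | add x y _ _ hx hy => intro r; rw [smul_add, map_add, map_add, hx, hy]
    | smul s x _ hx => intro r; rw [smul_smul]; exact hx _
  simpa using key 1

end lift

end Groth.Agent.Lib.Helper62.SymPow
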