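import Mathlib
import Groth.Agent.Lib.Helper62.SymPow0

set_option autoImplicit false
set_option linter.unusedSectionVars false
universe u

namespace Groth.Agent.Lib.Helper62.PPBasis

open Groth.Agent.Lib.Helper62.SymPow

section comb

variable {ι' : Type*} [Fintype ι'] {κ : Type*} [Fintype κ] [DecidableEq κ]

/-- number of indices sent to `i`. -/
def cnt (s : ι' → κ) (i : κ) : ℕ := Fintype.card {k // s k = i}

theorem cnt_eq_sum (s : ι' → κ) (i : κ) : cnt s i = ∑ k, if s k = i then 1 else 0 := by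
  unfold cnt
  rw [Fintype.card_subtype, Finset.card_filter]

theorem sum_cnt (s : ι' → κ) : ∑ i, cnt s i = Fintype.card ι' := by
  simp_rw [cnt_eq_sum]
  rw [Finset.sum_comm]
  simp

theorem exists_cnt_eq (p : κ → ℕ) (hp : ∑ i, p i = Fintype.card ι') :
    ∃ s : ι' → κ, cnt s = p := by
  classical
  have hcard : Fintype.card ι' = Fintype.card (Σ i : κ, Fin (p i)) := by
    rw [Fintype.card_sigma]
    simp only [Fintype.card_fin]
    exact hp.symm
  let e : ι' ≃ Σ i : κ, Fin (p i) := Fintype.equivOfCardEq hcard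
  refine ⟨fun k => (e k).1, ?_⟩
  funext i
  rw [cnt_eq_sum]
  rw [Fintype.sum_equiv e (fun k => if (e k).1 = i then 1 else 0)
    (fun x : Σ i : κ, Fin (p i) => if x.1 = i then 1 else 0) (fun _ => rfl)]
  rw [Fintype.sum_sigma]
  have hj : ∀ j : κ, (∑ y : Fin (p j), if (⟨j, y⟩ : Σ i : κ, Fin (p i)).1 = i then 1 else 0) =
      if j = i then p j else 0 := by
    intro j
    by_cases h : j = i
    · simp [h]
    · simp [h]
  simp_rw [hj]
  rw [Finset.sum_ite_eq' Finset.univ i p]
  simp

theorem prod_comp_cnt {R : Type*} [CommMonoid R] (a : κ → R) (s : ι' → κ) :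
    ∏ k, a (s k) = ∏ i, a i ^ cnt s i := by
  rw [← Fintype.prod_fiberwise s (fun k => a (s k))]
  refine Finset.prod_congr rfl (fun i _ => ?_)
  have : ∀ k : {k // s k = i}, a (s k.1) = a i := fun k => by rw [k.2]
  simp_rw [this]
  rw [Finset.prod_const, Finset.card_univ]
  rfl

theorem exists_perm_of_cnt_eq (s s' : ι' → κ) (h : cnt s = cnt s') :
    ∃ e : Equiv.Perm ι', ∀ k, s' k = s (e k) := by
  refine ⟨Equiv.ofFiberEquiv (f := s') (g := s) fun i =>
    Fintype.equivOfCardEq (congrFun h i).symm, fun k => ?_⟩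
  exact (Equiv.ofFiberEquiv_map _ k).symm

end comb

section phi

variable {R : Type u} [CommRing R] {M : Type u} [AddCommGroup M] [Module R M]
  {S : Type u} [CommRing S] [Algebra R S] {κ : Type} [Fintype κ] [DecidableEq κ]

/-- the linear form `m ↦ Σ λ_i(m) X_i`. -/
noncomputable def linG (lam : κ → (M →ₗ[R] S)) : M →ₗ[R] MvPolynomial κ S :=
  ∑ i, (LinearMap.mulRight R (MvPolynomial.X i : MvPolynomial κ S)).comp
    (((Algebra.linearMap S (MvPolynomial κ S)).restrictScalars R).comp (lam i))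

theorem linG_apply (lam : κ → (M →ₗ[R] S)) (m : M) :
    linG lam m = ∑ i, MvPolynomial.C (lam i m) * MvPolynomial.X i := by
  unfold linG
  rw [LinearMap.sum_apply]
  rfl

/-- the map `Sym^ι(M) → S[X]`, `⊗ m_k ↦ ∏ L(m_k)`. -/
noncomputable def PhiG (lam : κ → (M →ₗ[R] S)) (ι' : Type u) [Fintype ι'] :
    SymmetricPower R ι' M →ₗ[R] MvPolynomial κ S :=
  lift ((MultilinearMap.mkPiAlgebra R ι' (MvPolynomial κ S)).compLinearMap
    (fun _ => linG lam)) (fun e v => by
      simp only [MultilinearMap.compLinearMap_apply, MultilinearMap.mkPiAlgebra_apply]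
      exact Equiv.prod_comp e (fun k => linG lam (v k)))

theorem PhiG_tprod (lam : κ → (M →ₗ[R] S)) (ι' : Type u) [Fintype ι'] (v : ι' → M) :
    PhiG lam ι' (SymmetricPower.tprod R v) = ∏ k, linG lam (v k) := by
  unfold PhiG
  rw [lift_tprod]
  simp only [MultilinearMap.compLinearMap_apply, MultilinearMap.mkPiAlgebra_apply]

theorem PhiG_tprod_comp (lam : κ → (M →ₗ[R] S)) (ι' : Type u) [Fintype ι'] (x : κ → M)
    (hlam : ∀ i j, lam i (x j) = if i = j then 1 else 0) (s : ι' → κ) :
    PhiG lam ι' (SymmetricPower.tprod R (fun k => x (s k))) =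
      ∏ i, (MvPolynomial.X i : MvPolynomial κ S) ^ cnt s i := by
  rw [PhiG_tprod]
  have h1 : ∀ k, linG lam (x (s k)) = MvPolynomial.X (s k) := by
    intro k
    rw [linG_apply, Finset.sum_eq_single (s k)]
    · rw [hlam, if_pos rfl, map_one, one_mul]
    · intro i _ hi
      rw [hlam, if_neg hi, map_zero, zero_mul]
    · intro h; exact absurd (Finset.mem_univ _) h
  simp_rw [h1]
  exact prod_comp_cnt (fun i => (MvPolynomial.X i : MvPolynomial κ S)) s

end phi

end Groth.Agent.Lib.Helper62.PPBasis
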