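import Mathlib
import Groth.Prelude.Def_PP16
import Groth.Agent.Lib.Helper62.PPBasis0
import Groth.Agent.Lib.Helper62.DiffQReg0

set_option autoImplicit false
set_option linter.unusedSectionVars false
universe u

open scoped TensorProduct

namespace Groth.Agent.Lib.Helper62.PPBasis

open Groth.Agent.Lib.Helper62.SymPow

section defs

variable (A : Type u) {B : Type u} [CommRing A] [CommRing B] [Algebra A B]
  {ι : Type} [Fintype ι] [DecidableEq ι] (z : ι → B)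

/-- `ζ_i = 1 ⊗ z_i - z_i ⊗ 1`. -/
def zeta (i : ι) : B ⊗[A] B := (1 : B) ⊗ₜ[A] z i - z i ⊗ₜ[A] (1 : B)

theorem zeta_mem (i : ι) : zeta A z i ∈ KaehlerDifferential.ideal A B :=
  KaehlerDifferential.one_smul_sub_smul_one_mem_ideal A (z i)

/-- `ζ^p`. -/
def Z (p : ι → ℕ) : B ⊗[A] B := ∏ i, zeta A z i ^ p i

theorem Z_mem (p : ι → ℕ) : Z A z p ∈ KaehlerDifferential.ideal A B ^ (∑ i, p i) := by
  unfold Z
  rw [← Finset.prod_pow_eq_pow_sum]
  exact Ideal.prod_mem_prod (fun i _ => Ideal.pow_mem_pow (zeta_mem A z i) (p i))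

/-- exponents of degree `n`. -/
def E (ι : Type) [Fintype ι] [DecidableEq ι] (n : ℕ) : Finset (ι → ℕ) :=
  Finset.piAntidiag Finset.univ n

theorem mem_E {n : ℕ} {p : ι → ℕ} : p ∈ E ι n ↔ ∑ i, p i = n := by
  unfold E
  rw [Finset.mem_piAntidiag]
  simp

/-- `c ↦ Σ_{|p| = n} c_p ζ^p`. -/
noncomputable def Psi (n : ℕ) : ((ι → ℕ) → B) →ₗ[B] B ⊗[A] B :=
  ∑ p ∈ E ι n, (LinearMap.toSpanSingleton B (B ⊗[A] B) (Z A z p)).comp (LinearMap.proj p)

theorem Psi_apply (n : ℕ) (c : (ι → ℕ) → B) : Psi A z n c = ∑ p ∈ E ι n, c p • Z A z p := by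
  unfold Psi
  rw [LinearMap.sum_apply]
  rfl

theorem Psi_mem (n : ℕ) (c : (ι → ℕ) → B) : Psi A z n c ∈ KaehlerDifferential.ideal A B ^ n := by
  rw [Psi_apply]
  refine Ideal.sum_mem _ (fun p hp => ?_)
  rw [Algebra.smul_def]
  refine Ideal.mul_mem_left _ _ ?_
  have := Z_mem A z p
  rwa [mem_E.mp hp] at this

end defs

end Groth.Agent.Lib.Helper62.PPBasis
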