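import Mathlib
import Groth.Prelude.Def_PP16
import Groth.Agent.Lib.Helper62.PPBasis1

set_option autoImplicit false
set_option linter.unusedSectionVars false
universe u

open scoped TensorProduct

namespace Groth.Agent.Lib.Helper62.PPBasis

open Groth.Agent.Lib.Helper62.SymPow

section graded

variable (A : Type u) {B : Type u} [CommRing A] [CommRing B] [Algebra A B]
  {ι : Type} [Fintype ι] [DecidableEq ι] (z : ι → B)

theorem prod_X_pow_eq (q : ι → ℕ) :
    ∏ i, (MvPolynomial.X i : MvPolynomial ι B) ^ q i =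
      MvPolynomial.monomial (Finsupp.equivFunOnFinite.symm q) 1 := by
  rw [MvPolynomial.monomial_eq, map_one, one_mul, Finsupp.prod_fintype]
  · rfl
  · intro i; exact pow_zero _

theorem Z_mem_restrict (p : ι → ℕ) {n : ℕ} (hp : p ∈ E ι n) :
    Z A z p ∈ (KaehlerDifferential.ideal A B ^ n).restrictScalars B := by
  have := Z_mem A z p
  rwa [mem_E.mp hp] at this

theorem zetaProd_comp {ι' : Type u} [Fintype ι'] (s : ι' → ι) (p : ι → ℕ) (hs : cnt s = p)
    (hp : p ∈ E ι (Fintype.card ι')) :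
    PP16.zetaProd A B (fun k => z (s k)) =
      (Submodule.mkQ _) (⟨Z A z p, Z_mem_restrict A z p hp⟩ :
        ↥((KaehlerDifferential.ideal A B ^ Fintype.card ι').restrictScalars B)) := by
  unfold PP16.zetaProd
  rw [Submodule.mkQ_apply]
  congr 1
  apply Subtype.ext
  show ∏ k, zeta A z (s k) = Z A z p
  rw [prod_comp_cnt (zeta A z) s, hs]
  rfl

theorem indep_graded_aux (hB : PP16.IsDiffSmooth A B) (b : Module.Basis ι B (Ω[B⁄A]))
    (hb : ∀ i, b i = KaehlerDifferential.D A B (z i))
    (ι' : Type u) [Fintype ι'] (n : ℕ) (hcard : Fintype.card ι' = n) (c : (ι → ℕ) → B)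
    (h : Psi A z n c ∈ KaehlerDifferential.ideal A B ^ (n + 1)) : ∀ p ∈ E ι n, c p = 0 := by
  classical
  subst hcard
  obtain ⟨φ, hφ, hbij⟩ := hB.2 ι'
  choose sp hsp using fun p : {p // p ∈ E ι (Fintype.card ι')} =>
    exists_cnt_eq (ι' := ι') p.1 (mem_E.mp p.2)
  set t : SymmetricPower B ι' (Ω[B⁄A]) := ∑ p : {p // p ∈ E ι (Fintype.card ι')},
    c p.1 • SymmetricPower.tprod B (fun k => KaehlerDifferential.D A B (z (sp p k))) with ht
  have hφt : φ t = 0 := by
    rw [ht, map_sum]
    simp_rw [map_smul, hφ]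
    have h1 : ∀ p : {p // p ∈ E ι (Fintype.card ι')},
        c p.1 • PP16.zetaProd A B (fun k => z (sp p k)) =
        (Submodule.mkQ _) (c p.1 • (⟨Z A z p.1, Z_mem_restrict A z p.1 p.2⟩ :
          ↥((KaehlerDifferential.ideal A B ^ Fintype.card ι').restrictScalars B))) := by
      intro p
      rw [zetaProd_comp A z (sp p) p.1 (hsp p) p.2, map_smul]
    simp_rw [h1]
    rw [← map_sum, Submodule.mkQ_apply, Submodule.Quotient.mk_eq_zero, Submodule.mem_comap]
    show _ ∈ KaehlerDifferential.ideal A B ^ (Fintype.card ι' + 1)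
    convert h using 1
    rw [map_sum, Psi_apply, ← Finset.sum_coe_sort (E ι (Fintype.card ι'))]
    rfl
  have ht0 : t = 0 := hbij.1 (by rw [hφt, map_zero])
  have hlam : ∀ i j, (b.coord i) (KaehlerDifferential.D A B (z j)) = if i = j then 1 else 0 := by
    intro i j
    rw [← hb j, Module.Basis.coord_apply, Module.Basis.repr_self, Finsupp.single_apply]
    simp only [eq_comm]
  have hΦ : PhiG (fun i => b.coord i) ι' t = 0 := by rw [ht0, map_zero]
  rw [ht, map_sum] at hΦ
  simp_rw [map_smul, PhiG_tprod_comp (fun i => b.coord i) ι'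
    (fun j => KaehlerDifferential.D A B (z j)) hlam, hsp, prod_X_pow_eq] at hΦ
  intro p₀ hp₀
  have hco := congrArg (MvPolynomial.coeff (Finsupp.equivFunOnFinite.symm p₀)) hΦ
  rw [MvPolynomial.coeff_sum, MvPolynomial.coeff_zero,
    Finset.sum_eq_single (⟨p₀, hp₀⟩ : {p // p ∈ E ι (Fintype.card ι')})] at hco
  · rw [MvPolynomial.coeff_smul, MvPolynomial.coeff_monomial, if_pos rfl, smul_eq_mul,
      mul_one] at hco
    exact hco
  · intro p _ hp
    rw [MvPolynomial.coeff_smul, MvPolynomial.coeff_monomial, if_neg, smul_zero]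
    intro e
    exact hp (Subtype.ext (Finsupp.equivFunOnFinite.symm.injective e))
  · intro hd; exact absurd (Finset.mem_univ _) hd

theorem indep_graded (hB : PP16.IsDiffSmooth A B) (b : Module.Basis ι B (Ω[B⁄A]))
    (hb : ∀ i, b i = KaehlerDifferential.D A B (z i)) (n : ℕ) (c : (ι → ℕ) → B)
    (h : Psi A z n c ∈ KaehlerDifferential.ideal A B ^ (n + 1)) : ∀ p ∈ E ι n, c p = 0 :=
  indep_graded_aux A z hB b hb (ULift.{u} (Fin n)) n (by simp) c h

end graded

end Groth.Agent.Lib.Helper62.PPBasis
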