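import Mathlib
import Groth.Prelude.Def_PP16
import Groth.Agent.Lib.Helper62.PPBasis2

set_option autoImplicit false
set_option linter.unusedSectionVars false
universe u

open scoped TensorProduct

namespace Groth.Agent.Lib.Helper62.PPBasis

open Groth.Agent.Lib.Helper62.SymPow Groth.Agent.Lib.Helper62.DiffQReg

section graded

variable (A : Type u) {B : Type u} [CommRing A] [CommRing B] [Algebra A B]
  {ι : Type} [Fintype ι] [DecidableEq ι] (z : ι → B)

/-- `Psi` with values in `I^n`. -/
noncomputable def PsiI (n : ℕ) :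
    ((ι → ℕ) → B) →ₗ[B] ↥((KaehlerDifferential.ideal A B ^ n).restrictScalars B) :=
  LinearMap.codRestrict _ (Psi A z n) (fun c => Psi_mem A z n c)

theorem PsiI_coe (n : ℕ) (c : (ι → ℕ) → B) :
    ((PsiI A z n c : ↥((KaehlerDifferential.ideal A B ^ n).restrictScalars B)) : B ⊗[A] B) =
      Psi A z n c := rfl

theorem Psi_single {n : ℕ} {p : ι → ℕ} (hp : p ∈ E ι n) :
    Psi A z n (Pi.single p 1) = Z A z p := by
  rw [Psi_apply, Finset.sum_eq_single p]
  · rw [Pi.single_eq_same, one_smul]
  · intro q _ hq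
    rw [Pi.single_eq_of_ne hq, zero_smul]
  · intro h; exact absurd hp h

theorem span_graded_aux (hB : PP16.IsDiffSmooth A B) (b : Module.Basis ι B (Ω[B⁄A]))
    (hb : ∀ i, b i = KaehlerDifferential.D A B (z i))
    (ι' : Type u) [Fintype ι'] (n : ℕ) (hcard : Fintype.card ι' = n) (y : B ⊗[A] B)
    (hy : y ∈ KaehlerDifferential.ideal A B ^ n) :
    ∃ c : (ι → ℕ) → B, y - Psi A z n c ∈ KaehlerDifferential.ideal A B ^ (n + 1) := by
  classical
  subst hcard
  obtain ⟨φ, hφ, hbij⟩ := hB.2 ι'
  set G := (Submodule.mkQ (((KaehlerDifferential.ideal A B ^ (Fintype.card ι' + 1)).restrictScalars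
    B).comap ((KaehlerDifferential.ideal A B ^ Fintype.card ι').restrictScalars B).subtype)).comp
    (PsiI A z (Fintype.card ι')) with hG
  have hrange : ∀ t, φ t ∈ LinearMap.range G := by
    intro t
    have ht : t ∈ Submodule.span B {t | ∃ v : ι' → Ω[B⁄A], (∀ k, v k ∈ Set.range b) ∧
        SymmetricPower.tprod B v = t} := by
      rw [span_tprod_of_span (R := B) (ι := ι') (Set.range b) b.span_eq]; trivial
    induction ht using Submodule.span_induction with
    | mem t ht =>
      obtain ⟨v, hv, rfl⟩ := ht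
      choose s hs using hv
      have hv' : v = fun k => KaehlerDifferential.D A B (z (s k)) := by
        funext k; rw [← hs k, hb]
      have hmem : cnt s ∈ E ι (Fintype.card ι') := mem_E.mpr (sum_cnt s)
      rw [hv', hφ, zetaProd_comp A z s (cnt s) rfl hmem]
      refine ⟨Pi.single (cnt s) 1, ?_⟩
      rw [hG, LinearMap.comp_apply]
      congr 1
      apply Subtype.ext
      rw [PsiI_coe, Psi_single A z hmem]
    | zero => rw [map_zero]; exact Submodule.zero_mem _
    | add t₁ t₂ _ _ h₁ h₂ => rw [map_add]; exact Submodule.add_mem _ h₁ h₂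
    | smul x t _ h₁ => rw [map_smul]; exact Submodule.smul_mem _ x h₁
  obtain ⟨t, ht⟩ := hbij.2 ((Submodule.mkQ _)
    (⟨y, hy⟩ : ↥((KaehlerDifferential.ideal A B ^ Fintype.card ι').restrictScalars B)))
  obtain ⟨c, hc⟩ := hrange t
  refine ⟨c, ?_⟩
  rw [ht, hG, LinearMap.comp_apply] at hc
  have := (Submodule.Quotient.eq _).mp hc
  rw [Submodule.mem_comap] at this
  have h3 : Psi A z (Fintype.card ι') c - y ∈
      KaehlerDifferential.ideal A B ^ (Fintype.card ι' + 1) := this
  have h4 := Ideal.neg_mem_iff _ |>.mpr h3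
  rwa [neg_sub] at h4

theorem span_graded (hB : PP16.IsDiffSmooth A B) (b : Module.Basis ι B (Ω[B⁄A]))
    (hb : ∀ i, b i = KaehlerDifferential.D A B (z i)) (n : ℕ) (y : B ⊗[A] B)
    (hy : y ∈ KaehlerDifferential.ideal A B ^ n) :
    ∃ c : (ι → ℕ) → B, y - Psi A z n c ∈ KaehlerDifferential.ideal A B ^ (n + 1) :=
  span_graded_aux A z hB b hb (ULift.{u} (Fin n)) n (by simp) y hy

end graded

end Groth.Agent.Lib.Helper62.PPBasis
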