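import Mathlib
import Groth.Prelude.Def_PP16
import Groth.Agent.Lib.Helper62.PPBasis3

set_option autoImplicit false
set_option linter.unusedSectionVars false
universe u

open scoped TensorProduct

namespace Groth.Agent.Lib.Helper62.PPBasis

section filt

variable (A : Type u) {B : Type u} [CommRing A] [CommRing B] [Algebra A B]
  {ι : Type} [Fintype ι] [DecidableEq ι] (z : ι → B)

theorem Psi_congr {n : ℕ} {c c' : (ι → ℕ) → B} (h : ∀ p ∈ E ι n, c p = c' p) :
    Psi A z n c = Psi A z n c' := by
  rw [Psi_apply, Psi_apply]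
  exact Finset.sum_congr rfl (fun p hp => by rw [h p hp])

/-- `c ↦ Σ_{|p| ≤ m} c_p ζ^p`. -/
noncomputable def PsiLE (m : ℕ) : ((ι → ℕ) → B) →ₗ[B] B ⊗[A] B :=
  ∑ n ∈ Finset.range (m + 1), Psi A z n

theorem PsiLE_apply (m : ℕ) (c : (ι → ℕ) → B) :
    PsiLE A z m c = ∑ n ∈ Finset.range (m + 1), Psi A z n c := by
  unfold PsiLE
  rw [LinearMap.sum_apply]

theorem indep_filt (hB : PP16.IsDiffSmooth A B) (b : Module.Basis ι B (Ω[B⁄A]))
    (hb : ∀ i, b i = KaehlerDifferential.D A B (z i)) (m : ℕ) (c : (ι → ℕ) → B)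
    (h : PsiLE A z m c ∈ KaehlerDifferential.ideal A B ^ (m + 1)) :
    ∀ p : ι → ℕ, ∑ i, p i ≤ m → c p = 0 := by
  classical
  have key : ∀ N, N ≤ m → ∀ p ∈ E ι N, c p = 0 := by
    intro N
    induction N using Nat.strong_induction_on with
    | _ N ih =>
      intro hN
      apply indep_graded A z hB b hb N c
      have hNmem : N ∈ Finset.range (m + 1) := Finset.mem_range.mpr (by omega)
      have hsplit := Finset.add_sum_erase (Finset.range (m + 1)) (fun n => Psi A z n c) hNmem
      rw [← PsiLE_apply] at hsplit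
      have hrest : ∑ n ∈ (Finset.range (m + 1)).erase N, Psi A z n c ∈
          KaehlerDifferential.ideal A B ^ (N + 1) := by
        refine Ideal.sum_mem _ (fun n hn => ?_)
        rw [Finset.mem_erase, Finset.mem_range] at hn
        rcases Nat.lt_or_gt_of_ne hn.1 with h1 | h1
        · have : Psi A z n c = 0 := by
            rw [Psi_apply]
            refine Finset.sum_eq_zero (fun p hp => ?_)
            rw [ih n h1 (by omega) p hp, zero_smul]
          rw [this]; exact Ideal.zero_mem _
        · exact Ideal.pow_le_pow_right (by omega) (Psi_mem A z n c)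
      have htot : PsiLE A z m c ∈ KaehlerDifferential.ideal A B ^ (N + 1) :=
        Ideal.pow_le_pow_right (by omega) h
      have : Psi A z N c = PsiLE A z m c - ∑ n ∈ (Finset.range (m + 1)).erase N, Psi A z n c := by
        rw [← hsplit]; ring
      rw [this]
      exact Ideal.sub_mem _ htot hrest
  intro p hp
  exact key _ hp p (mem_E.mpr rfl)

theorem span_filt (hB : PP16.IsDiffSmooth A B) (b : Module.Basis ι B (Ω[B⁄A]))
    (hb : ∀ i, b i = KaehlerDifferential.D A B (z i)) (x : B ⊗[A] B) (n : ℕ) :
    ∃ c : (ι → ℕ) → B, x - ∑ j ∈ Finset.range n, Psi A z j c ∈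
      KaehlerDifferential.ideal A B ^ n := by
  classical
  induction n with
  | zero => exact ⟨0, by rw [pow_zero, Ideal.one_eq_top]; trivial⟩
  | succ n ih =>
    obtain ⟨c, hc⟩ := ih
    obtain ⟨c', hc'⟩ := span_graded A z hB b hb n _ hc
    refine ⟨fun p => if ∑ i, p i = n then c' p else c p, ?_⟩
    rw [Finset.sum_range_succ]
    have h1 : ∀ j ∈ Finset.range n,
        Psi A z j (fun p => if ∑ i, p i = n then c' p else c p) = Psi A z j c := by
      intro j hj
      apply Psi_congr
      intro p hp
      rw [Finset.mem_range] at hj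
      rw [if_neg]
      rw [mem_E.mp hp]; omega
    have h2 : Psi A z n (fun p => if ∑ i, p i = n then c' p else c p) = Psi A z n c' := by
      apply Psi_congr
      intro p hp
      rw [if_pos (mem_E.mp hp)]
    rw [Finset.sum_congr rfl h1, h2, ← sub_sub]
    exact hc'

end filt

end Groth.Agent.Lib.Helper62.PPBasis
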