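import Mathlib
import Groth.Prelude.Def_PP16
import Groth.Agent.Lib.Helper62.PPBasis4

set_option autoImplicit false
set_option linter.unusedSectionVars false
universe u

open scoped TensorProduct

namespace Groth.Agent.Lib.Helper62.PPBasis

section basis

variable (A : Type u) {B : Type u} [CommRing A] [CommRing B] [Algebra A B]
  {ι : Type} [Fintype ι] [DecidableEq ι] (z : ι → B)

/-- exponents of degree `≤ m`. -/
def F (ι : Type) [Fintype ι] [DecidableEq ι] (m : ℕ) : Finset (ι → ℕ) :=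
  (Finset.range (m + 1)).biUnion (E ι)

theorem mem_F {m : ℕ} {p : ι → ℕ} : p ∈ F ι m ↔ ∑ i, p i ≤ m := by
  unfold F
  rw [Finset.mem_biUnion]
  constructor
  · rintro ⟨n, hn, hp⟩
    rw [mem_E.mp hp]
    exact Nat.lt_succ_iff.mp (Finset.mem_range.mp hn)
  · intro h
    exact ⟨_, Finset.mem_range.mpr (Nat.lt_succ_iff.mpr h), mem_E.mpr rfl⟩

/-- a `Fintype` structure on the index set. -/
@[instance_reducible]
noncomputable def fintypeIdx (m : ℕ) : Fintype {p : ι → ℕ // ∑ i, p i ≤ m} :=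
  Fintype.subtype (F ι m) (fun _ => mem_F)

theorem sum_Idx {M : Type*} [AddCommMonoid M] (m : ℕ) (f : (ι → ℕ) → M) :
    letI := fintypeIdx (ι := ι) m
    ∑ p : {p : ι → ℕ // ∑ i, p i ≤ m}, f p.1 = ∑ n ∈ Finset.range (m + 1), ∑ p ∈ E ι n, f p := by
  let _ := fintypeIdx (ι := ι) m
  rw [← Finset.sum_subtype (F ι m) (fun _ => mem_F) f]
  unfold F
  rw [Finset.sum_biUnion]
  intro n _ n' _ hnn'
  rw [Function.onFun, Finset.disjoint_left]
  intro p hp hp'
  exact hnn' ((mem_E.mp hp).symm.trans (mem_E.mp hp'))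

theorem PsiLE_eq_sum (m : ℕ) (c : (ι → ℕ) → B) :
    letI := fintypeIdx (ι := ι) m
    PsiLE A z m c = ∑ p : {p : ι → ℕ // ∑ i, p i ≤ m}, c p.1 • Z A z p.1 := by
  let _ := fintypeIdx (ι := ι) m
  rw [sum_Idx m (fun p => c p • Z A z p), PsiLE_apply]
  exact Finset.sum_congr rfl (fun n _ => Psi_apply A z n c)

/-- the monomials in `P^m`. -/
noncomputable def vP (m : ℕ) (p : {p : ι → ℕ // ∑ i, p i ≤ m}) : PP16.P m A B :=
  ∏ i, (PP16.dn m A B (z i) - algebraMap B (PP16.P m A B) (z i)) ^ (p.1 i)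

theorem vP_eq (m : ℕ) (p : {p : ι → ℕ // ∑ i, p i ≤ m}) :
    vP A z m p = Ideal.Quotient.mk (KaehlerDifferential.ideal A B ^ (m + 1)) (Z A z p.1) := by
  unfold vP Z
  rw [map_prod]
  refine Finset.prod_congr rfl (fun i _ => ?_)
  rw [map_pow]
  congr 1

theorem smul_mk (m : ℕ) (b : B) (x : B ⊗[A] B) :
    b • (Ideal.Quotient.mk (KaehlerDifferential.ideal A B ^ (m + 1)) x : PP16.P m A B) =
      Ideal.Quotient.mk (KaehlerDifferential.ideal A B ^ (m + 1)) (b • x) := rfl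

theorem sum_smul_vP (m : ℕ) (c : (ι → ℕ) → B) :
    letI := fintypeIdx (ι := ι) m
    ∑ p : {p : ι → ℕ // ∑ i, p i ≤ m}, c p.1 • vP A z m p =
      Ideal.Quotient.mk (KaehlerDifferential.ideal A B ^ (m + 1)) (PsiLE A z m c) := by
  let _ := fintypeIdx (ι := ι) m
  rw [PsiLE_eq_sum, map_sum]
  refine Finset.sum_congr rfl (fun p _ => ?_)
  rw [vP_eq, smul_mk]

theorem exists_basis (hB : PP16.IsDiffSmooth A B) (b : Module.Basis ι B (Ω[B⁄A]))
    (hb : ∀ i, b i = KaehlerDifferential.D A B (z i)) (m : ℕ) :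
    ∃ bP : Module.Basis {p : ι → ℕ // ∑ i, p i ≤ m} B (PP16.P m A B),
      ∀ p, bP p = vP A z m p := by
  classical
  let _ := fintypeIdx (ι := ι) m
  have hli : LinearIndependent B (vP A z m) := by
    rw [Fintype.linearIndependent_iff]
    intro g hg
    let c : (ι → ℕ) → B := fun p => if h : ∑ i, p i ≤ m then g ⟨p, h⟩ else 0
    have hc : ∀ p : {p : ι → ℕ // ∑ i, p i ≤ m}, c p.1 = g p := fun p => dif_pos p.2
    have h1 : ∑ p : {p : ι → ℕ // ∑ i, p i ≤ m}, c p.1 • vP A z m p = 0 := by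
      simp_rw [hc]; exact hg
    rw [sum_smul_vP, Ideal.Quotient.eq_zero_iff_mem] at h1
    intro p
    rw [← hc p]
    exact indep_filt A z hB b hb m c h1 p.1 p.2
  have hsp : ⊤ ≤ Submodule.span B (Set.range (vP A z m)) := by
    rintro x -
    obtain ⟨x', rfl⟩ := Ideal.Quotient.mk_surjective x
    obtain ⟨c, hc⟩ := span_filt A z hB b hb x' (m + 1)
    rw [← PsiLE_apply] at hc
    have : Ideal.Quotient.mk (KaehlerDifferential.ideal A B ^ (m + 1)) x' =
        Ideal.Quotient.mk (KaehlerDifferential.ideal A B ^ (m + 1)) (PsiLE A z m c) :=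
      Ideal.Quotient.eq.mpr hc
    rw [this, ← sum_smul_vP]
    exact Submodule.sum_mem _ (fun p _ => Submodule.smul_mem _ _ (Submodule.subset_span ⟨p, rfl⟩))
  exact ⟨Module.Basis.mk hli hsp, fun p => Module.Basis.mk_apply hli hsp p⟩

end basis

end Groth.Agent.Lib.Helper62.PPBasis
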