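import Mathlib
import Groth.Prelude.Def_PP16
import Groth.Prelude.Def_DiffOp
import Groth.Agent.Lib.Helper62.PPBasis5
import Groth.Agent.Lib.Helper14.DivPowBasis

set_option autoImplicit false
set_option linter.unusedSectionVars false
universe u

open scoped TensorProduct

namespace Groth.Agent.Lib.Helper62.PPBasis

open Groth.Agent.Lib.Helper14

section ab

variable (A : Type u) {B : Type u} [CommRing A] [CommRing B] [Algebra A B]
  {ι : Type} [Fintype ι] [DecidableEq ι] (z : ι → B)

theorem linearize_coord (m : ℕ) (lam : PP16.P m A B →ₗ[B] B) (x : B ⊗[A] B) :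
    Diff16.linearize A B B B ((lam.restrictScalars A).comp (PP16.dn m A B).toLinearMap) x =
      lam (Ideal.Quotient.mk (KaehlerDifferential.ideal A B ^ (m + 1)) x) := by
  induction x using TensorProduct.induction_on with
  | zero => simp
  | tmul b b' =>
    rw [linearize_tmul]
    have : Ideal.Quotient.mk (KaehlerDifferential.ideal A B ^ (m + 1)) (b ⊗ₜ[A] b') =
        b • (PP16.dn m A B b' : PP16.P m A B) := by
      show _ = b • Ideal.Quotient.mk (KaehlerDifferential.ideal A B ^ (m + 1)) ((1 : B) ⊗ₜ[A] b')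
      rw [smul_mk, TensorProduct.smul_tmul', smul_eq_mul, mul_one]
    rw [this, map_smul]
    rfl
  | add x y hx hy => rw [map_add, map_add, map_add, hx, hy]

/-- the coefficient `binom(q, k) z^(q-k)`. -/
def MMc (k q : ι → ℕ) : B := ((∏ i, Nat.choose (q i) (k i) : ℕ) : B) * ∏ i, z i ^ (q i - k i)

/-- the monomial `ζ^k` in `P^m`, for any `k`. -/
noncomputable def zb (m : ℕ) (k : ι → ℕ) : PP16.P m A B :=
  ∏ i, (PP16.dn m A B (z i) - algebraMap B (PP16.P m A B) (z i)) ^ (k i)

theorem zb_eq (m : ℕ) (k : ι → ℕ) :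
    zb A z m k = Ideal.Quotient.mk (KaehlerDifferential.ideal A B ^ (m + 1)) (Z A z k) := by
  unfold zb Z
  rw [map_prod]
  refine Finset.prod_congr rfl (fun i _ => ?_)
  rw [map_pow]
  congr 1

theorem zb_eq_zero (m : ℕ) (k : ι → ℕ) (hk : m < ∑ i, k i) : zb A z m k = 0 := by
  rw [zb_eq, Ideal.Quotient.eq_zero_iff_mem]
  exact Ideal.pow_le_pow_right (by omega) (Z_mem A z k)

theorem dn_monomial (m : ℕ) (q : ι → ℕ) :
    PP16.dn m A B (∏ i, z i ^ q i) =
      ∑ k ∈ Fintype.piFinset (fun i => Finset.range (q i + 1)), MMc z k q • zb A z m k := by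
  classical
  rw [map_prod]
  have h1 : ∀ i, PP16.dn m A B (z i ^ q i) =
      ∑ j ∈ Finset.range (q i + 1),
        (PP16.dn m A B (z i) - algebraMap B (PP16.P m A B) (z i)) ^ j *
          (algebraMap B (PP16.P m A B) (z i)) ^ (q i - j) * ((q i).choose j : PP16.P m A B) := by
    intro i
    rw [map_pow]
    nth_rewrite 1 [← sub_add_cancel (PP16.dn m A B (z i)) (algebraMap B (PP16.P m A B) (z i))]
    rw [add_pow]
  simp_rw [h1]
  rw [Finset.prod_univ_sum]
  refine Finset.sum_congr rfl (fun k _ => ?_)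
  rw [Finset.prod_mul_distrib, Finset.prod_mul_distrib, Algebra.smul_def]
  unfold MMc zb
  rw [map_mul, map_natCast, map_prod, Nat.cast_prod]
  simp_rw [map_pow]
  ring

end ab

end Groth.Agent.Lib.Helper62.PPBasis
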