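import Mathlib
import Groth.Prelude.Def_PP16
import Groth.Prelude.Def_DiffOp
import Groth.Agent.Lib.Helper62.PPBasis6

set_option autoImplicit false
set_option linter.unusedSectionVars false
universe u

open scoped TensorProduct

namespace Groth.Agent.Lib.Helper62.PPBasis

open Groth.Agent.Lib.Helper14

section ab

variable (A : Type u) {B : Type u} [CommRing A] [CommRing B] [Algebra A B]
  {ι : Type} [Fintype ι] [DecidableEq ι] (z : ι → B)

theorem MMc_eq_zero (p q : ι → ℕ) (h : ¬ ∀ i, p i ≤ q i) : MMc z p q = 0 := by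
  push Not at h
  obtain ⟨i, hi⟩ := h
  unfold MMc
  rw [Finset.prod_eq_zero (Finset.mem_univ i) (Nat.choose_eq_zero_of_lt hi), Nat.cast_zero,
    zero_mul]

theorem exists_Dp (hB : PP16.IsDiffSmooth A B) (b : Module.Basis ι B (Ω[B⁄A]))
    (hb : ∀ i, b i = KaehlerDifferential.D A B (z i)) :
    ∃ Dp : (ι → ℕ) → (B →ₗ[A] B),
      (∀ p, Diff16.IsDiffOpLE A B B B (∑ i, p i) (Dp p)) ∧
      ∀ p q : ι → ℕ, Dp p (∏ i, z i ^ q i) = MMc z p q := by
  classical
  choose bP hbP using fun m => exists_basis A z hB b hb m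
  refine ⟨fun p => (((bP (∑ i, p i)).coord ⟨p, le_rfl⟩).restrictScalars A).comp
    (PP16.dn (∑ i, p i) A B).toLinearMap, fun p => ?_, fun p q => ?_⟩
  · rw [isDiffOpLE_iff_linearize_vanish]
    intro x hx
    rw [linearize_coord, Ideal.Quotient.eq_zero_iff_mem.mpr hx, map_zero]
  · show (bP (∑ i, p i)).coord ⟨p, le_rfl⟩ (PP16.dn (∑ i, p i) A B (∏ i, z i ^ q i)) = _
    rw [dn_monomial, map_sum]
    have hco : ∀ k : ι → ℕ, (bP (∑ i, p i)).coord ⟨p, le_rfl⟩ (zb A z (∑ i, p i) k) =
        if k = p then 1 else 0 := by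
      intro k
      by_cases hk : ∑ i, k i ≤ ∑ i, p i
      · have : zb A z (∑ i, p i) k = bP (∑ i, p i) ⟨k, hk⟩ := by rw [hbP]; rfl
        rw [this, Module.Basis.coord_apply, Module.Basis.repr_self, Finsupp.single_apply]
        by_cases hkp : k = p
        · subst hkp; rw [if_pos rfl, if_pos rfl]
        · rw [if_neg hkp, if_neg]
          intro e
          exact hkp (congrArg Subtype.val e)
      · rw [zb_eq_zero A z _ k (by omega), map_zero, if_neg]
        rintro rfl
        exact hk le_rfl
    simp_rw [map_smul, hco]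
    simp only [smul_eq_mul, mul_ite, mul_one, mul_zero]
    rw [Finset.sum_ite_eq']
    split_ifs with hmem
    · rfl
    · symm
      apply MMc_eq_zero
      intro hle
      apply hmem
      rw [Fintype.mem_piFinset]
      intro i
      rw [Finset.mem_range]
      have := hle i
      omega

end ab

end Groth.Agent.Lib.Helper62.PPBasis
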