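import Mathlib
import Groth.Prelude.Def_PP16
import Groth.Prelude.Def_DiffOp
import Groth.Agent.Lib.Helper62.PPBasis7

set_option autoImplicit false
set_option linter.unusedSectionVars false
universe u

open scoped TensorProduct

namespace Groth.Agent.Lib.Helper62.PPBasis

open Groth.Agent.Lib.Helper14

section ba

variable (A : Type u) {B : Type u} [CommRing A] [CommRing B] [Algebra A B]
  {ι : Type} [Fintype ι] [DecidableEq ι] (z : ι → B)

theorem linearize_smul_left (D : B →ₗ[A] B) (b : B) (x : B ⊗[A] B) :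
    Diff16.linearize A B B B D (b • x) = b * Diff16.linearize A B B B D x := by
  induction x using TensorProduct.induction_on with
  | zero => simp
  | tmul b₁ b₂ =>
    rw [TensorProduct.smul_tmul', linearize_tmul, linearize_tmul, smul_eq_mul, smul_eq_mul,
      smul_eq_mul, mul_assoc]
  | add x y hx hy => rw [smul_add, map_add, map_add, hx, hy, mul_add]

theorem xiL_eq_Z (l : List ι) : xiL (A := A) z l = Z A z (fun i => l.count i) := by
  unfold xiL Z
  rw [Finset.prod_list_map_count]
  refine Finset.prod_subset (Finset.subset_univ _) fun x _ hx => ?_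
  rw [List.mem_toFinset] at hx
  rw [List.count_eq_zero_of_not_mem hx, pow_zero]

variable (Dp : (ι → ℕ) → (B →ₗ[A] B))
  (hD : ∀ p, ∃ k : ℕ, Diff16.IsDiffOpLE A B B B k (Dp p))
  (hDz : ∀ p q : ι → ℕ, Dp p (∏ i, z i ^ q i) =
    ((∏ i, Nat.choose (q i) (p i) : ℕ) : B) * ∏ i, z i ^ (q i - p i))
  (hz : Submodule.span B (Set.range fun i => KaehlerDifferential.D A B (z i)) = ⊤)

include hD hDz hz

theorem linearize_Dp_Z (p q : ι → ℕ) :
    Diff16.linearize A B B B (Dp p) (Z A z q) = if q = p then 1 else 0 := by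
  obtain ⟨l, hl⟩ := exists_list_count q
  have hq : q = fun i => l.count i := funext fun i => (hl i).symm
  rw [hq, ← xiL_eq_Z, linearize_Dp_xiL z Dp hD hDz (spanCondI_of_span z hz) l p]

theorem indep_graded_of_Dp (n : ℕ) (c : (ι → ℕ) → B)
    (h : Psi A z n c ∈ KaehlerDifferential.ideal A B ^ (n + 1)) : ∀ p ∈ E ι n, c p = 0 := by
  classical
  intro p hp
  have hord := isDiffOpLE_Dp z Dp hD hDz (spanCondI_of_span z hz) n p (mem_E.mp hp)
  have h0 := (isDiffOpLE_iff_linearize_vanish n (Dp p)).mp hord _ h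
  rw [Psi_apply, map_sum] at h0
  simp_rw [linearize_smul_left, linearize_Dp_Z A z Dp hD hDz hz] at h0
  simp only [mul_ite, mul_one, mul_zero] at h0
  rw [Finset.sum_ite_eq', if_pos hp] at h0
  exact h0

end ba

end Groth.Agent.Lib.Helper62.PPBasis
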