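import Mathlib
import Groth.Prelude.Def_PP16
import Groth.Prelude.Def_DiffOp
import Groth.Agent.Lib.Helper62.PPBasis8
import Groth.Agent.Lib.Helper81.DiffSmoothBridge

set_option autoImplicit false
set_option linter.unusedSectionVars false
universe u

open scoped TensorProduct

namespace Groth.Agent.Lib.Helper62.PPBasis

open Groth.Agent.Lib.Helper14 Groth.Agent.Lib.Helper62.DiffQReg
  Groth.Agent.Lib.Helper81.DiffSmoothBridge

section ba

variable (A : Type u) {B : Type u} [CommRing A] [CommRing B] [Algebra A B]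
  {ι : Type} [Fintype ι] [DecidableEq ι] (z : ι → B)

theorem Z_single (i : ι) : Z A z (Pi.single i 1) = zeta A z i := by
  unfold Z
  rw [Finset.prod_eq_single i]
  · rw [Pi.single_eq_same, pow_one]
  · intro j _ hj
    rw [Pi.single_eq_of_ne hj, pow_zero]
  · intro h; exact absurd (Finset.mem_univ i) h

variable (Dp : (ι → ℕ) → (B →ₗ[A] B))
  (hD : ∀ p, ∃ k : ℕ, Diff16.IsDiffOpLE A B B B k (Dp p))
  (hDz : ∀ p q : ι → ℕ, Dp p (∏ i, z i ^ q i) =
    ((∏ i, Nat.choose (q i) (p i) : ℕ) : B) * ∏ i, z i ^ (q i - p i))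
  (hz : Submodule.span B (Set.range fun i => KaehlerDifferential.D A B (z i)) = ⊤)

include hD hDz hz

theorem linearIndependent_D : LinearIndependent B (fun i => KaehlerDifferential.D A B (z i)) := by
  classical
  rw [Fintype.linearIndependent_iff]
  intro g hg j
  have hmem : ∑ i, g i • zeta A z i ∈ KaehlerDifferential.ideal A B :=
    Ideal.sum_mem _ (fun i _ => by
      rw [Algebra.smul_def]; exact Ideal.mul_mem_left _ _ (zeta_mem A z i))
  have h2 : (KaehlerDifferential.ideal A B).toCotangent ⟨_, hmem⟩ =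
      ∑ i, g i • KaehlerDifferential.D A B (z i) := by
    have : (⟨_, hmem⟩ : KaehlerDifferential.ideal A B) =
        ∑ i, (g i) • (⟨zeta A z i, zeta_mem A z i⟩ : KaehlerDifferential.ideal A B) := by
      apply Subtype.ext
      simp
    rw [this, map_sum]
    refine Finset.sum_congr rfl fun i _ => ?_
    rw [KaehlerDifferential.D_apply, LinearMap.map_smul_of_tower]
    rfl
  have h3 : (KaehlerDifferential.ideal A B).toCotangent ⟨_, hmem⟩ = 0 := h2.trans hg
  rw [Ideal.toCotangent_eq_zero] at h3
  replace h2 := h3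
  have hord := isDiffOpLE_Dp z Dp hD hDz (spanCondI_of_span z hz) 1 (Pi.single j 1) (by simp)
  have h0 := (isDiffOpLE_iff_linearize_vanish 1 (Dp (Pi.single j 1))).mp hord _ h2
  rw [map_sum] at h0
  simp_rw [linearize_smul_left, ← Z_single A z, linearize_Dp_Z A z Dp hD hDz hz] at h0
  have hinj : ∀ i, (Pi.single i 1 : ι → ℕ) = Pi.single j 1 ↔ i = j := by
    intro i
    constructor
    · intro e
      by_contra hij
      have := congrFun e i
      rw [Pi.single_eq_same, Pi.single_eq_of_ne hij] at this
      exact one_ne_zero this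
    · rintro rfl; rfl
  simp_rw [hinj] at h0
  simp only [mul_ite, mul_one, mul_zero] at h0
  rw [Finset.sum_ite_eq' Finset.univ j g, if_pos (Finset.mem_univ j)] at h0
  exact h0

end ba

end Groth.Agent.Lib.Helper62.PPBasis
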