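import Mathlib
import Groth.Prelude.Def_PP16
import Groth.Prelude.Def_DiffOp
import Groth.Agent.Lib.Helper62.PPBasis9

set_option autoImplicit false
set_option linter.unusedSectionVars false
universe u

open scoped TensorProduct

namespace Groth.Agent.Lib.Helper62.PPBasis

open Groth.Agent.Lib.Helper14 Groth.Agent.Lib.Helper62.DiffQReg
  Groth.Agent.Lib.Helper81.DiffSmoothBridge

section ba

variable (A : Type u) {B : Type u} [CommRing A] [CommRing B] [Algebra A B]
  {ι : Type} [Fintype ι] [DecidableEq ι] (z : ι → B)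

/-- the monomial tensors. -/
noncomputable def TD {ι' : Type u} (s : ι' → ι) : SymmetricPower B ι' (Ω[B⁄A]) :=
  SymmetricPower.tprod B (fun k => KaehlerDifferential.D A B (z (s k)))

theorem TD_eq_of_cnt_eq {ι' : Type u} [Fintype ι'] (s s' : ι' → ι) (h : cnt s = cnt s') :
    TD A z s = TD A z s' := by
  obtain ⟨e, he⟩ := exists_perm_of_cnt_eq s s' h
  unfold TD
  have : (fun k => KaehlerDifferential.D A B (z (s' k))) =
      fun k => (fun j => KaehlerDifferential.D A B (z (s j))) (e k) := by
    funext k; rw [he k]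
  rw [this]
  exact (SymmetricPower.tprod_equiv e fun j => KaehlerDifferential.D A B (z (s j))).symm

theorem exists_expansion
    (hz : Submodule.span B (Set.range fun i => KaehlerDifferential.D A B (z i)) = ⊤)
    {ι' : Type u} [Fintype ι'] [DecidableEq ι'] (t : SymmetricPower B ι' (Ω[B⁄A])) :
    ∃ c : (ι' → ι) → B, t = ∑ s, c s • TD A z s := by
  classical
  have ht : t ∈ Submodule.span B {t | ∃ v : ι' → Ω[B⁄A],
      (∀ k, v k ∈ Set.range fun i => KaehlerDifferential.D A B (z i)) ∧
      SymmetricPower.tprod B v = t} := by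
    rw [span_tprod_of_span (R := B) (ι := ι') _ hz]; trivial
  induction ht using Submodule.span_induction with
  | mem t ht =>
    obtain ⟨v, hv, rfl⟩ := ht
    choose s hs using hv
    refine ⟨Pi.single s 1, ?_⟩
    rw [Finset.sum_eq_single s]
    · rw [Pi.single_eq_same, one_smul]
      unfold TD
      congr 1
      funext k
      exact (hs k).symm
    · intro s' _ hs'
      rw [Pi.single_eq_of_ne hs', zero_smul]
    · intro h; exact absurd (Finset.mem_univ s) h
  | zero => exact ⟨0, by simp⟩
  | add t₁ t₂ _ _ h₁ h₂ =>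
    obtain ⟨c₁, e₁⟩ := h₁
    obtain ⟨c₂, e₂⟩ := h₂
    refine ⟨c₁ + c₂, ?_⟩
    rw [e₁, e₂, ← Finset.sum_add_distrib]
    refine Finset.sum_congr rfl (fun s _ => ?_)
    rw [Pi.add_apply, add_smul]
  | smul x t _ h₁ =>
    obtain ⟨c₁, e₁⟩ := h₁
    refine ⟨x • c₁, ?_⟩
    rw [e₁, Finset.smul_sum]
    refine Finset.sum_congr rfl (fun s _ => ?_)
    rw [Pi.smul_apply, smul_eq_mul, mul_smul]

end ba

end Groth.Agent.Lib.Helper62.PPBasis
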