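import Mathlib
import Groth.Prelude.Def_PP16
import Groth.Prelude.Def_DiffOp
import Groth.Agent.Lib.Helper62.PPBasis10

set_option autoImplicit false
set_option linter.unusedSectionVars false
universe u

open scoped TensorProduct

namespace Groth.Agent.Lib.Helper62.PPBasis

open Groth.Agent.Lib.Helper14 Groth.Agent.Lib.Helper62.DiffQReg
  Groth.Agent.Lib.Helper81.DiffSmoothBridge

section ba

variable (A : Type u) {B : Type u} [CommRing A] [CommRing B] [Algebra A B]
  {ι : Type} [Fintype ι] [DecidableEq ι] (z : ι → B)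

/-- `phi` with source the symmetric power of `Ω`. -/
noncomputable def phiΩ (B : Type u) [CommRing B] [Algebra A B] (ι' : Type u) [Fintype ι'] :
    SymmetricPower B ι' (Ω[B⁄A]) →ₗ[B] PP16.grI A B (Fintype.card ι') := phi A B ι'

theorem phiΩ_tprod {ι' : Type u} [Fintype ι'] (v : ι' → B) :
    phiΩ A B ι' (SymmetricPower.tprod B (fun i => KaehlerDifferential.D A B (v i))) =
      PP16.zetaProd A B v := phi_tprod A B ι' v

theorem phiΩ_surjective (ι' : Type u) [Fintype ι'] : Function.Surjective (phiΩ A B ι') :=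
  phi_surjective A B ι'

theorem phi_TD {ι' : Type u} [Fintype ι'] (s : ι' → ι) :
    phiΩ A B ι' (TD A z s) = (Submodule.mkQ _)
      (⟨Z A z (cnt s), Z_mem_restrict A z (cnt s) (mem_E.mpr (sum_cnt s))⟩ :
        ↥((KaehlerDifferential.ideal A B ^ Fintype.card ι').restrictScalars B)) := by
  rw [← zetaProd_comp A z s (cnt s) rfl (mem_E.mpr (sum_cnt s))]
  exact phiΩ_tprod A (fun k => z (s k))

theorem phi_injective_of_indep
    (hz : Submodule.span B (Set.range fun i => KaehlerDifferential.D A B (z i)) = ⊤)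
    (H : ∀ (n : ℕ) (c : (ι → ℕ) → B),
      Psi A z n c ∈ KaehlerDifferential.ideal A B ^ (n + 1) → ∀ p ∈ E ι n, c p = 0)
    (ι' : Type u) [Fintype ι'] : Function.Injective (phiΩ A B ι') := by
  classical
  rw [injective_iff_map_eq_zero]
  intro t ht
  obtain ⟨c, rfl⟩ := exists_expansion A z hz t
  let c' : (ι → ℕ) → B := fun p => ∑ s ∈ Finset.univ.filter (fun s : ι' → ι => cnt s = p), c s
  have hmaps : ∀ s ∈ (Finset.univ : Finset (ι' → ι)), cnt s ∈ E ι (Fintype.card ι') :=
    fun s _ => mem_E.mpr (sum_cnt s)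
  have h2 : Psi A z (Fintype.card ι') c' ∈
      KaehlerDifferential.ideal A B ^ (Fintype.card ι' + 1) := by
    rw [map_sum] at ht
    simp_rw [map_smul, phi_TD, ← map_smul] at ht
    rw [← map_sum, Submodule.mkQ_apply, Submodule.Quotient.mk_eq_zero, Submodule.mem_comap] at ht
    have ht' : (((KaehlerDifferential.ideal A B ^ Fintype.card ι').restrictScalars B).subtype
        (∑ s : ι' → ι, c s • (⟨Z A z (cnt s), Z_mem_restrict A z (cnt s)
          (mem_E.mpr (sum_cnt s))⟩ :
          ↥((KaehlerDifferential.ideal A B ^ Fintype.card ι').restrictScalars B)))) ∈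
        KaehlerDifferential.ideal A B ^ (Fintype.card ι' + 1) := ht
    rw [map_sum] at ht'
    convert ht' using 1
    rw [Psi_apply, ← Finset.sum_fiberwise_of_maps_to hmaps]
    refine Finset.sum_congr rfl (fun p _ => ?_)
    rw [Finset.sum_smul]
    refine Finset.sum_congr rfl (fun s hs => ?_)
    rw [Finset.mem_filter] at hs
    rw [← hs.2]
    rfl
  have h3 := H _ c' h2
  rw [← Finset.sum_fiberwise_of_maps_to hmaps]
  refine Finset.sum_eq_zero (fun p hp => ?_)
  by_cases hne : (Finset.univ.filter (fun s : ι' → ι => cnt s = p)).Nonempty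
  · obtain ⟨s₀, hs₀⟩ := hne
    rw [Finset.mem_filter] at hs₀
    have hcongr : ∀ s ∈ Finset.univ.filter (fun s : ι' → ι => cnt s = p),
        c s • TD A z s = c s • TD A z s₀ := by
      intro s hs
      rw [Finset.mem_filter] at hs
      rw [TD_eq_of_cnt_eq A z s s₀ (hs.2.trans hs₀.2.symm)]
    rw [Finset.sum_congr rfl hcongr, ← Finset.sum_smul]
    show c' p • _ = 0
    rw [h3 p hp, zero_smul]
  · rw [Finset.not_nonempty_iff_eq_empty.mp hne, Finset.sum_empty]

theorem isDiffSmooth_of_Dp (Dp : (ι → ℕ) → (B →ₗ[A] B))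
    (hD : ∀ p, ∃ k : ℕ, Diff16.IsDiffOpLE A B B B k (Dp p))
    (hDz : ∀ p q : ι → ℕ, Dp p (∏ i, z i ^ q i) =
      ((∏ i, Nat.choose (q i) (p i) : ℕ) : B) * ∏ i, z i ^ (q i - p i))
    (hz : Submodule.span B (Set.range fun i => KaehlerDifferential.D A B (z i)) = ⊤) :
    PP16.IsDiffSmooth A B ∧
      ∃ b : Module.Basis ι B (Ω[B⁄A]), ∀ i, b i = KaehlerDifferential.D A B (z i) := by
  have hli := linearIndependent_D A z Dp hD hDz hz
  let b : Module.Basis ι B (Ω[B⁄A]) := Module.Basis.mk hli hz.ge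
  have hb : ∀ i, b i = KaehlerDifferential.D A B (z i) := fun i => Module.Basis.mk_apply hli hz.ge i
  refine ⟨⟨Module.Projective.of_basis b, fun ι' _ => ⟨phiΩ A B ι', fun v => phiΩ_tprod A v,
    phi_injective_of_indep A z hz (indep_graded_of_Dp A z Dp hD hDz hz) ι',
    phiΩ_surjective A ι'⟩⟩, b, hb⟩

end ba

end Groth.Agent.Lib.Helper62.PPBasis
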