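import Mathlib.Algebra.CharP.Algebra
import Mathlib.AlgebraicGeometry.Geometrically.Reduced
import Mathlib.Combinatorics.Quiver.ReflQuiver
import Mathlib.FieldTheory.Perfect
import Mathlib.RingTheory.Henselian
import Mathlib.RingTheory.RegularLocalRing.Defs
import Mathlib.RingTheory.SimpleRing.Principal
import Mathlib.Tactic

set_option autoImplicit false
universe u

namespace Groth.Agent.Lib.Helper62

open TensorProduct

section CharP

/-- Over a perfect field of characteristic `p`, the `p`-th powers of a linearly independent family in a
field extension are linearly independent. -/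
theorem linearIndependent_pow_char (k : Type*) [Field k] (p : ℕ) [hp : Fact p.Prime] [CharP k p]
    [PerfectRing k p] {K : Type*} [Field K] [Algebra k K] {ι : Type*} (b : ι → K)
    (hb : LinearIndependent k b) : LinearIndependent k fun i => b i ^ p := by
  have : CharP K p := charP_of_injective_algebraMap (algebraMap k K).injective p
  rw [linearIndependent_iff'] at hb ⊢
  intro s g hg i hi
  have h1 : ∀ j, g j • b j ^ p = ((frobeniusEquiv k p).symm (g j) • b j) ^ p := by
    intro j
    rw [smul_pow, frobeniusEquiv_symm_pow_p]
  simp_rw [h1] at hg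
  rw [← sum_pow_char] at hg
  have h2 := hb s (fun j => (frobeniusEquiv k p).symm (g j))
    (pow_eq_zero_iff hp.out.ne_zero |>.mp hg) i hi
  simpa using h2

/-- Over a perfect field `k` of characteristic `p`, the tensor product of a field extension with a reduced
`k`-algebra is reduced. -/
theorem isReduced_tensor_of_perfect_charP (k : Type*) [Field k] (p : ℕ) [hp : Fact p.Prime] [CharP k p]
    [PerfectRing k p] (K A : Type*) [Field K] [Algebra k K] [CommRing A] [Algebra k A]
    [IsReduced A] : IsReduced (K ⊗[k] A) := by
  classical
  rcases subsingleton_or_nontrivial (K ⊗[k] A) with h | h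
  · exact ⟨fun x _ => Subsingleton.elim _ _⟩
  have hcT : CharP (K ⊗[k] A) p :=
    charP_of_injective_algebraMap (algebraMap k (K ⊗[k] A)).injective p
  have hexp : ExpChar (K ⊗[k] A) p := ExpChar.prime hp.out
  have key : ∀ x : K ⊗[k] A, x ^ p = 0 → x = 0 := by
    intro x hx
    let b := Module.Free.chooseBasis k K
    obtain ⟨c, rfl⟩ := TensorProduct.eq_repr_basis_left b x
    have hli : LinearIndependent k fun i => b i ^ p :=
      linearIndependent_pow_char k p b b.linearIndependent
    obtain ⟨g, hg⟩ := LinearMap.exists_leftInverse_of_injective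
      (Finsupp.linearCombination k fun i => b i ^ p) (LinearMap.ker_eq_bot.mpr hli)
    let ρ : K →ₗ[k] K := (Finsupp.linearCombination k b).comp g
    have hρ : ∀ i, ρ (b i ^ p) = b i := by
      intro i
      have h1 : g (b i ^ p) = Finsupp.single i 1 := by
        have := congrArg (fun f => f (Finsupp.single i (1 : k))) hg
        simpa using this
      simp [ρ, h1]
    rw [Finsupp.sum, sum_pow_char] at hx
    have hx2 := congrArg (LinearMap.rTensor A ρ) hx
    rw [map_zero, map_sum] at hx2
    have hx3 : (c.mapRange (· ^ p) (zero_pow hp.out.ne_zero)).sum (fun i n => b i ⊗ₜ[k] n) = 0 := by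
      rw [Finsupp.sum_mapRange_index (fun i => by simp), Finsupp.sum, ← hx2]
      refine Finset.sum_congr rfl fun i _ => ?_
      rw [Algebra.TensorProduct.tmul_pow, LinearMap.rTensor_tmul, hρ]
    have hc' := TensorProduct.sum_tmul_basis_left_eq_zero b _ hx3
    have hc : c = 0 := by
      ext i
      have := congrArg (fun f => f i) hc'
      simp only [Finsupp.mapRange_apply, Finsupp.coe_zero, Pi.zero_apply] at this
      exact pow_eq_zero_iff hp.out.ne_zero |>.mp this
    rw [hc, Finsupp.sum_zero_index]
  refine ⟨fun x hx => ?_⟩
  obtain ⟨n, hn⟩ := hx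
  have hpn : x ^ p ^ n = 0 := pow_eq_zero_of_le (Nat.lt_pow_self hp.out.one_lt).le hn
  clear hn
  induction n with
  | zero => simpa using hpn
  | succ m ih =>
    apply ih
    apply key
    rw [← pow_mul, ← pow_succ]
    exact hpn

end CharP

section Scheme

open AlgebraicGeometry CategoryTheory Limits

/-- Affine case of `geometricallyReduced_of_isReduced_of_perfect_charP`. -/
theorem isReduced_pullback_spec_of_perfect_charP {k : Type u} [Field k] (p : ℕ)
    [hp : Fact p.Prime] [CharP k p] [PerfectRing k p] (A : CommRingCat.{u})
    (φ : Spec A ⟶ Spec (CommRingCat.of k)) [IsReduced (Spec A)] (Ω : Type u) [Field Ω] [Algebra k Ω] :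
    IsReduced (pullback φ (Spec.map (CommRingCat.ofHom (algebraMap k Ω)))) := by
  obtain ⟨a, rfl⟩ := Spec.map_surjective φ
  algebraize [a.hom]
  have ha : a = CommRingCat.ofHom (algebraMap k A) := rfl
  rw [ha]
  have hA : _root_.IsReduced A := (affine_isReduced_iff _).mp inferInstance
  have h1 : _root_.IsReduced (Ω ⊗[k] A) := isReduced_tensor_of_perfect_charP k p Ω A
  have h2 : _root_.IsReduced (A ⊗[k] Ω) :=
    isReduced_of_injective (Algebra.TensorProduct.comm k A Ω).toRingHom
      (Algebra.TensorProduct.comm k A Ω).injective
  have h3 : IsReduced (Spec (CommRingCat.of (A ⊗[k] Ω))) := inferInstance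
  exact isReduced_of_isOpenImmersion (pullbackSpecIso k A Ω).hom

/-- A reduced scheme over a perfect field of characteristic `p` is geometrically reduced. -/
theorem geometricallyReduced_of_isReduced_of_perfect_charP {k : Type u} [Field k] (p : ℕ)
    [hp : Fact p.Prime] [CharP k p] [PerfectRing k p] {X : Scheme.{u}}
    (f : X ⟶ Spec (CommRingCat.of k)) [IsReduced X] : GeometricallyReduced f := by
  rw [geometricallyReduced_iff, geometrically_iff_of_commRing_of_isClosedUnderIsomorphisms]
  intro Ω _ _
  apply +allowSynthFailures @IsReduced.of_openCover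
    (𝒰 := Scheme.Pullback.openCoverOfLeft X.affineCover f _)
  intro (i : X.affineCover.I₀)
  have hred : IsReduced (X.affineCover.X i) := isReduced_of_isOpenImmersion (X.affineCover.f i)
  exact @isReduced_pullback_spec_of_perfect_charP k _ p _ _ _ _ (X.affineCover.f i ≫ f) hred Ω _ _

end Scheme

end Groth.Agent.Lib.Helper62
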