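import Mathlib
import Groth.Agent.Lib.Helper62.GGStage
import Groth.Agent.Lib.Helper11.RelAmpleBaseChange
import Groth.Agent.Lib.Helper11.AmpleDescent

/-!
# Relative ampleness descends to a finite stage of a cofiltered limit (helper62)

Everything here is parametrised by `CoreStmt`: "ampleness of the pullback of an invertible module
to a cofiltered limit of qcqs schemes with affine transition maps holds at a finite stage"
(this is the statement of milestone S9223).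

* `exists_stage_isAmple`: the same statement for the base change system `DZ` of `GGStage`.
* `exists_stage_forall_isAmple`: flexible form (any later stage, any affine comparison map).
-/

set_option autoImplicit false
set_option linter.style.haveILetI false
set_option linter.unusedSectionVars false
universe u
open CategoryTheory CategoryTheory.Limits AlgebraicGeometry TopologicalSpace Opposite

noncomputable section

namespace Groth.Agent.Lib.Helper62.RelAmpleStage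

open Groth.Agent.Lib.Helper11 Groth.Agent.Lib.Helper45 Groth.Agent.Lib.Helper49
  Groth.Agent.Lib.Helper11.GenLocus Groth.Agent.Lib.Helper11.CounitEpi
  Groth.Agent.Lib.Helper11.PullbackAmple Groth.Agent.Lib.Helper11.PullbackAmple2
  Groth.Agent.Lib.Helper62.GGStage Groth.Agent.Lib.Helper62.LimPres
  Groth.Agent.Lib.Helper18.TransSec

/-- the statement of S9223 (ampleness at the limit implies ampleness at a finite stage). -/
def CoreStmt : Prop :=
  ∀ {I : Type u} [SmallCategory I] [IsCofiltered I] (D : I ⥤ Scheme.{u}) (c : Cone D)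
    (_ : IsLimit c) [∀ (i j : I) (f : i ⟶ j), IsAffineHom (D.map f)]
    [∀ i, CompactSpace (D.obj i)] [∀ i, QuasiSeparatedSpace (D.obj i)] (i₀ : I)
    (L₀ : (D.obj i₀).Modules) (_ : PicF.IsInvertible L₀)
    (_ : CohB1.IsAmple ((Scheme.Modules.pullback (c.π.app i₀)).obj L₀)),
    ∃ (i : I) (φ : i ⟶ i₀), CohB1.IsAmple ((Scheme.Modules.pullback (D.map φ)).obj L₀)

section Core

variable {I : Type u} [SmallCategory I] (D : I ⥤ Scheme.{u}) (c : Cone D) (i₀ : I)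
  [IsCofiltered I] [∀ (i j : I) (f : i ⟶ j), IsAffineHom (D.map f)] {Z₀ : Scheme.{u}}
  (h : Z₀ ⟶ D.obj i₀)

/-- pulling back an ample module along an affine morphism. -/
theorem isAmple_pullback_of_isAffineHom {X X' : Scheme.{u}} (g : X' ⟶ X) [IsAffineHom g]
    {L : X.Modules} (hL : CohB1.IsAmple L) :
    CohB1.IsAmple ((Scheme.Modules.pullback g).obj L) :=
  isAmple_pullback_of_isQuasiAffine g (isQuasiAffine_of_isAffineHom g) hL

theorem exists_stage_isAmple (core : CoreStmt.{u}) (hc : IsLimit c) [CompactSpace Z₀]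
    [QuasiSeparatedSpace Z₀] (M₀ : Z₀.Modules) (hM₀ : PicF.IsInvertible M₀)
    (hamp : CohB1.IsAmple
      ((Scheme.Modules.pullback (pullback.snd (c.π.app i₀) h)).obj M₀)) :
    ∃ k : Over i₀, CohB1.IsAmple ((Scheme.Modules.pullback (eZ D i₀ h k)).obj M₀) := by
  let j₀ : Over i₀ := Over.mk (𝟙 i₀)
  haveI : ∀ k, CompactSpace ((DZ D i₀ h).obj k) := fun k => compactSpace_DZ D i₀ h k
  haveI : ∀ k, QuasiSeparatedSpace ((DZ D i₀ h).obj k) := fun k => quasiSeparatedSpace_DZ D i₀ h k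
  let G₀ : ((DZ D i₀ h).obj j₀).Modules := (Scheme.Modules.pullback (eZ D i₀ h j₀)).obj M₀
  have hG₀inv : PicF.IsInvertible G₀ :=
    Groth.Agent.Lib.Helper11.PullbackTensor.isInvertible_pullback _ hM₀
  let π₀ : (cZ D c i₀ h).pt ⟶ (DZ D i₀ h).obj j₀ := (cZ D c i₀ h).π.app j₀
  have hπ₀ : π₀ ≫ eZ D i₀ h j₀ = pullback.snd (c.π.app i₀) h := cZ_π_eZ D c i₀ h j₀
  have hamp' : CohB1.IsAmple ((Scheme.Modules.pullback π₀).obj G₀) :=
    isAmple_of_iso (compIso π₀ (eZ D i₀ h j₀) _ hπ₀ M₀).symm hamp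
  obtain ⟨k, φ, hk⟩ := core (DZ D i₀ h) (cZ D c i₀ h) (isLimitCZ D c i₀ h hc) j₀ G₀ hG₀inv hamp'
  exact ⟨k, isAmple_of_iso
    (compIso ((DZ D i₀ h).map φ) (eZ D i₀ h j₀) (eZ D i₀ h k) (DZ_map_eZ D i₀ h φ) M₀) hk⟩

theorem isAmple_of_stage {k : Over i₀} (M₀ : Z₀.Modules)
    (hk : CohB1.IsAmple ((Scheme.Modules.pullback (eZ D i₀ h k)).obj M₀))
    {T : Scheme.{u}} (r : T ⟶ Z₀) [IsAffineHom r] (σ : T ⟶ D.obj k.left)
    (comm : σ ≫ D.map k.hom = r ≫ h) :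
    CohB1.IsAmple ((Scheme.Modules.pullback r).obj M₀) := by
  let ρ : T ⟶ pullback (D.map k.hom) h := pullback.lift σ r comm
  have hρ : ρ ≫ eZ D i₀ h k = r := pullback.lift_snd _ _ _
  haveI : IsAffineHom (ρ ≫ eZ D i₀ h k) := by rw [hρ]; infer_instance
  haveI : IsAffineHom ρ :=
    MorphismProperty.of_postcomp (W := @IsAffineHom) (W' := @IsSeparated) ρ (eZ D i₀ h k)
      inferInstance inferInstance
  exact isAmple_of_iso (compIso ρ (eZ D i₀ h k) r hρ M₀) (isAmple_pullback_of_isAffineHom ρ hk)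

/-- **Ampleness descends to a finite stage**, flexible form. -/
theorem exists_stage_forall_isAmple (core : CoreStmt.{u}) (hc : IsLimit c) [CompactSpace Z₀]
    [QuasiSeparatedSpace Z₀] (M₀ : Z₀.Modules) (hM₀ : PicF.IsInvertible M₀)
    {Z : Scheme.{u}} (q : Z ⟶ Z₀) (r : Z ⟶ c.pt) (hsq : IsPullback q r h (c.π.app i₀))
    (hamp : CohB1.IsAmple ((Scheme.Modules.pullback q).obj M₀)) :
    ∃ j : Over i₀, ∀ (k : Over i₀) (_ : k ⟶ j) {T : Scheme.{u}} (p : T ⟶ Z₀) [IsAffineHom p]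
      (σ : T ⟶ D.obj k.left), σ ≫ D.map k.hom = p ≫ h →
        CohB1.IsAmple ((Scheme.Modules.pullback p).obj M₀) := by
  let ε : pullback (c.π.app i₀) h ⟶ Z :=
    hsq.lift (pullback.snd (c.π.app i₀) h) (pullback.fst (c.π.app i₀) h) pullback.condition.symm
  have hε : ε ≫ q = pullback.snd (c.π.app i₀) h := hsq.lift_fst _ _ _
  haveI : IsIso ε := by
    have h1 : ε = (hsq.flip.isoPullback).inv := by
      apply hsq.hom_ext
      · rw [hε]
        exact (hsq.flip.isoPullback_inv_snd).symm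
      · rw [hsq.lift_snd]
        exact (hsq.flip.isoPullback_inv_fst).symm
    rw [h1]; infer_instance
  have hamp' : CohB1.IsAmple
      ((Scheme.Modules.pullback (pullback.snd (c.π.app i₀) h)).obj M₀) :=
    isAmple_of_iso (compIso ε q _ hε M₀) (isAmple_pullback_of_isAffineHom ε hamp)
  obtain ⟨j, hj⟩ := exists_stage_isAmple D c i₀ h core hc M₀ hM₀ hamp'
  refine ⟨j, fun k ψ T p _ σ comm => ?_⟩
  refine isAmple_of_stage D i₀ h (k := j) M₀ hj p (σ ≫ D.map ψ.left) ?_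
  rw [Category.assoc, ← D.map_comp, Over.w ψ, comm]

end Core

section Main

open Groth.Agent.Lib.Helper11.RelAmpleBaseChange Groth.Agent.Lib.Helper11.AmpleDescent

variable {I : Type u} [SmallCategory I] [IsCofiltered I]
    (D : I ⥤ Scheme.{u}) (c : Limits.Cone D) (hc : Limits.IsLimit c)
    [∀ (i j : I) (f : i ⟶ j), IsAffineHom (D.map f)] (i₀ : I) [CompactSpace (D.obj i₀)]
    {X₀ Y₀ : Scheme.{u}} (f₀ : X₀ ⟶ Y₀) (g₀ : Y₀ ⟶ D.obj i₀)
    [QuasiCompact g₀] [QuasiSeparated g₀]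
    [QuasiCompact (f₀ ≫ g₀)] [QuasiSeparated (f₀ ≫ g₀)]
    (L₀ : X₀.Modules) (hL₀ : PicF.IsInvertible L₀)

include hc hL₀ in
/-- relative ampleness at the limit implies relative ampleness at a stage. -/
theorem exists_stage_isRelAmple (core : CoreStmt.{u})
    {X Y : Scheme.{u}} (f : X ⟶ Y) (g : Y ⟶ c.pt) (qY : Y ⟶ Y₀) (qX : X ⟶ X₀)
    (hY : IsPullback qY g g₀ (c.π.app i₀)) (hX : IsPullback qX f f₀ qY)
    (hrel : RelAmple.IsRelAmple f ((Scheme.Modules.pullback qX).obj L₀)) :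
    ∃ (j : I) (φ : j ⟶ i₀) (Xj Yj : Scheme.{u}) (fj : Xj ⟶ Yj) (gj : Yj ⟶ D.obj j) (pY : Yj ⟶ Y₀)
        (pX : Xj ⟶ X₀), IsPullback pY gj g₀ (D.map φ) ∧ IsPullback pX fj f₀ pY ∧
          RelAmple.IsRelAmple fj ((Scheme.Modules.pullback pX).obj L₀) := by
  classical
  haveI : CompactSpace Y₀ := QuasiCompact.compactSpace_of_compactSpace g₀
  haveI : QuasiCompact f₀ := QuasiCompact.of_comp f₀ g₀
  haveI : QuasiSeparated f₀ := QuasiSeparated.of_comp f₀ g₀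
  haveI : IsAffineHom qY := MorphismProperty.of_isPullback (P := @IsAffineHom) hY.flip
    (isAffineHom_π_app D c hc i₀)
  haveI : IsAffineHom qX := MorphismProperty.of_isPullback (P := @IsAffineHom) hX.flip
    inferInstance
  set L := (Scheme.Modules.pullback qX).obj L₀ with hLdef
  have hbig : IsPullback qX (f ≫ g) (f₀ ≫ g₀) (c.π.app i₀) := hX.paste_vert hY
  -- the stage attached to an affine open of `Y₀`
  have key : ∀ V₀ : Y₀.Opens, IsAffineOpen V₀ →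
      ∃ j : Over i₀, ∀ (k : Over i₀) (_ : k ⟶ j) {T : Scheme.{u}} (p : T ⟶ ↑(f₀ ⁻¹ᵁ V₀))
        [IsAffineHom p] (σ : T ⟶ D.obj k.left),
          σ ≫ D.map k.hom = p ≫ ((f₀ ⁻¹ᵁ V₀).ι ≫ f₀ ≫ g₀) →
          CohB1.IsAmple ((Scheme.Modules.pullback p).obj (L₀.restrict (f₀ ⁻¹ᵁ V₀).ι)) := by
    intro V₀ hV₀
    set U₀ := f₀ ⁻¹ᵁ V₀ with hU₀
    have hV : IsAffineOpen (qY ⁻¹ᵁ V₀) := hV₀.preimage qY
    have h1 := hrel.2 ⟨qY ⁻¹ᵁ V₀, hV⟩
    have hopen : f ⁻¹ᵁ (qY ⁻¹ᵁ V₀) = qX ⁻¹ᵁ U₀ := by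
      rw [hU₀, ← Scheme.Hom.comp_preimage, ← Scheme.Hom.comp_preimage, hX.w]
    change CohB1.IsAmple (L.restrict (f ⁻¹ᵁ (qY ⁻¹ᵁ V₀)).ι) at h1
    rw [hopen] at h1
    have h2 : CohB1.IsAmple
        ((Scheme.Modules.pullback (qX ∣_ U₀)).obj (L₀.restrict U₀.ι)) :=
      isAmple_of_iso (pullbackRestrictIso qX U₀ L₀) h1
    haveI : IsAffine (V₀ : Scheme.{u}) := hV₀
    haveI : CompactSpace ↑U₀ := QuasiCompact.compactSpace_of_compactSpace (f₀ ∣_ V₀)
    haveI : QuasiSeparatedSpace ↑U₀ := quasiSeparatedSpace_of_quasiSeparated (f₀ ∣_ V₀)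
    have hsq : IsPullback (qX ∣_ U₀) ((qX ⁻¹ᵁ U₀).ι ≫ f ≫ g) (U₀.ι ≫ f₀ ≫ g₀) (c.π.app i₀) :=
      (isPullback_morphismRestrict qX U₀).paste_vert hbig
    exact exists_stage_forall_isAmple D c i₀ (U₀.ι ≫ f₀ ≫ g₀) core hc
      (L₀.restrict U₀.ι) (Groth.Agent.Lib.Helper11.GenLocus.isInvertible_restrict hL₀ U₀)
      (qX ∣_ U₀) ((qX ⁻¹ᵁ U₀).ι ≫ f ≫ g) hsq h2
  -- a finite affine cover of `Y₀`
  have hcov : ∀ y : Y₀, ∃ V₀ : Y₀.Opens, IsAffineOpen V₀ ∧ y ∈ V₀ := by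
    intro y
    obtain ⟨_, ⟨V, hV, rfl⟩, hyV, -⟩ :=
      Y₀.isBasis_affineOpens.exists_subset_of_mem_open (Set.mem_univ y) isOpen_univ
    exact ⟨V, hV, hyV⟩
  choose V₀ hV₀ hyV₀ using hcov
  obtain ⟨t, ht⟩ := isCompact_univ.elim_finite_subcover (fun y => ((V₀ y : Y₀.Opens) : Set Y₀))
    (fun y => (V₀ y).isOpen) (fun y _ => Set.mem_iUnion.mpr ⟨y, hyV₀ y⟩)
  choose js hjs using fun y => key (V₀ y) (hV₀ y)
  obtain ⟨j, hj⟩ := IsCofiltered.inf_objs_exists (t.image js)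
  -- the model at stage `j`
  let φ : j.left ⟶ i₀ := j.hom
  let Yj : Scheme.{u} := pullback g₀ (D.map φ)
  let pY : Yj ⟶ Y₀ := pullback.fst g₀ (D.map φ)
  let gj : Yj ⟶ D.obj j.left := pullback.snd g₀ (D.map φ)
  let Xj : Scheme.{u} := pullback f₀ pY
  let pX : Xj ⟶ X₀ := pullback.fst f₀ pY
  let fj : Xj ⟶ Yj := pullback.snd f₀ pY
  have sqY : IsPullback pY gj g₀ (D.map φ) := IsPullback.of_hasPullback _ _
  have sqX : IsPullback pX fj f₀ pY := IsPullback.of_hasPullback _ _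
  refine ⟨j.left, φ, Xj, Yj, fj, gj, pY, pX, sqY, sqX, ?_⟩
  haveI : QuasiCompact fj := MorphismProperty.of_isPullback (P := @QuasiCompact) sqX inferInstance
  haveI : IsAffineHom pY := MorphismProperty.of_isPullback (P := @IsAffineHom) sqY.flip
    inferInstance
  haveI : IsAffineHom pX := MorphismProperty.of_isPullback (P := @IsAffineHom) sqX.flip
    inferInstance
  set Lj := (Scheme.Modules.pullback pX).obj L₀ with hLj
  -- ampleness over the preimages of the cover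
  have hamp : ∀ y ∈ t, CohB1.IsAmple (Lj.restrict (pX ⁻¹ᵁ (f₀ ⁻¹ᵁ V₀ y)).ι) := by
    intro y hyt
    set U₀ := f₀ ⁻¹ᵁ V₀ y with hU₀
    refine isAmple_of_iso (pullbackRestrictIso pX U₀ L₀).symm ?_
    obtain ⟨θ⟩ := hj (Finset.mem_image_of_mem js hyt)
    haveI : IsAffineHom (pX ∣_ U₀) := MorphismProperty.of_isPullback (P := @IsAffineHom)
      (isPullback_morphismRestrict pX U₀).flip inferInstance
    refine hjs y j θ (pX ∣_ U₀) ((pX ⁻¹ᵁ U₀).ι ≫ fj ≫ gj) ?_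
    change ((pX ⁻¹ᵁ U₀).ι ≫ fj ≫ gj) ≫ D.map φ = (pX ∣_ U₀) ≫ (U₀.ι ≫ f₀ ≫ g₀)
    rw [← Category.assoc (pX ∣_ U₀), morphismRestrict_ι, Category.assoc, Category.assoc,
      Category.assoc, ← sqY.w, ← Category.assoc pX, sqX.w, Category.assoc]
  refine ⟨inferInstance, fun V' => ?_⟩
  have hc' := QuasiCompact.isCompact_preimage (f := fj) _ V'.1.2 V'.2.isCompact
  refine isAmple_restrict_preimage_of_basicOpen_cover fj Lj V'.1 hc'
    (ι := {h : Γ(Yj, V'.1) // ∃ y ∈ t, Yj.basicOpen h ≤ pY ⁻¹ᵁ V₀ y})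
    (fun h => h.1) ?_ ?_
  · intro y' hy'
    have hx := ht (Set.mem_univ (pY.base y'))
    simp only [Set.mem_iUnion] at hx
    obtain ⟨y, hyt, hxy⟩ := hx
    obtain ⟨h, hh, hyh⟩ := V'.2.exists_basicOpen_le (V := pY ⁻¹ᵁ V₀ y) ⟨y', hxy⟩ hy'
    exact ⟨⟨h, y, hyt, hh⟩, hyh⟩
  · rintro ⟨h, y, hyt, hh⟩
    have hle : fj ⁻¹ᵁ Yj.basicOpen h ≤ pX ⁻¹ᵁ (f₀ ⁻¹ᵁ V₀ y) := by
      have h1 : fj ⁻¹ᵁ Yj.basicOpen h ≤ fj ⁻¹ᵁ (pY ⁻¹ᵁ V₀ y) := Scheme.Hom.preimage_mono _ hh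
      have h2 : fj ⁻¹ᵁ (pY ⁻¹ᵁ V₀ y) = pX ⁻¹ᵁ (f₀ ⁻¹ᵁ V₀ y) := by
        rw [← Scheme.Hom.comp_preimage, ← Scheme.Hom.comp_preimage, sqX.w]
      exact h1.trans h2.le
    have hcomp : IsCompact ((fj ⁻¹ᵁ Yj.basicOpen h : Xj.Opens) : Set Xj) :=
      QuasiCompact.isCompact_preimage (f := fj) _ (Yj.basicOpen h).2
        (V'.2.basicOpen h).isCompact
    exact isAmple_restrict_of_le hle hcomp Lj (hamp y hyt)

/-- relative ampleness is stable under base change, for an arbitrary cartesian square. -/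
theorem relAmple_of_isPullback {X' Y' X Y : Scheme.{u}} {a : X' ⟶ X} {f' : X' ⟶ Y'} {f : X ⟶ Y}
    {e : Y' ⟶ Y} (hsq : IsPullback a f' f e) (M : X.Modules) (hrel : RelAmple.IsRelAmple f M) :
    RelAmple.IsRelAmple f' ((Scheme.Modules.pullback a).obj M) := by
  haveI : QuasiCompact f := hrel.1
  have h1 := relAmple_baseChange f e _ hrel
  let ε : X' ≅ pullback f e := hsq.isoPullback
  have he1 : ε.hom ≫ pullback.fst f e = a := hsq.isoPullback_hom_fst
  have he2 : ε.hom ≫ pullback.snd f e = f' := hsq.isoPullback_hom_snd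
  haveI : QuasiCompact (pullback.snd f e) := h1.1
  have h2 := relAmple_pullback_of_isQuasiAffine (pullback.snd f e) ε.hom
    (isQuasiAffine_of_isAffineHom ε.hom) _ h1
  rw [he2] at h2
  exact relAmple_of_iso f' (compIso ε.hom (pullback.fst f e) a he1 M) h2

include hc in
/-- relative ampleness at a stage implies relative ampleness at the limit. -/
theorem isRelAmple_of_stage
    {X Y : Scheme.{u}} (f : X ⟶ Y) (g : Y ⟶ c.pt) (qY : Y ⟶ Y₀) (qX : X ⟶ X₀)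
    (hY : IsPullback qY g g₀ (c.π.app i₀)) (hX : IsPullback qX f f₀ qY)
    {j : I} (φ : j ⟶ i₀) {Xj Yj : Scheme.{u}} (fj : Xj ⟶ Yj) (gj : Yj ⟶ D.obj j) (pY : Yj ⟶ Y₀)
    (pX : Xj ⟶ X₀) (sqY : IsPullback pY gj g₀ (D.map φ)) (sqX : IsPullback pX fj f₀ pY)
    (hrel : RelAmple.IsRelAmple fj ((Scheme.Modules.pullback pX).obj L₀)) :
    RelAmple.IsRelAmple f ((Scheme.Modules.pullback qX).obj L₀) := by
  let υ : Y ⟶ Yj := sqY.lift qY (g ≫ c.π.app j) (by
    rw [hY.w, Category.assoc, c.w φ])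
  have hυ1 : υ ≫ pY = qY := sqY.lift_fst _ _ _
  let ξ : X ⟶ Xj := sqX.lift qX (f ≫ υ) (by rw [hX.w, Category.assoc, hυ1])
  have hξ1 : ξ ≫ pX = qX := sqX.lift_fst _ _ _
  have hξ2 : ξ ≫ fj = f ≫ υ := sqX.lift_snd _ _ _
  have hsq : IsPullback ξ f fj υ := by
    refine IsPullback.of_right ?_ hξ2 sqX
    rw [hξ1, hυ1]
    exact hX
  exact relAmple_of_iso f (compIso ξ pX qX hξ1 L₀) (relAmple_of_isPullback hsq _ hrel)

end Main

end Groth.Agent.Lib.Helper62.RelAmpleStage
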