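import Mathlib
import Groth.Agent.Lib.Helper62.RelAmpleStage
import Groth.Agent.Lib.Helper62.FibreIndConsQ

/-!
# Fibrewise relative ampleness: base change and descent through limits (helper62)

`QAmple f g L β`: the pullback of `L` to `X ×_S T` is ample relative to the base change
`X ×_S T ⟶ Y ×_S T` of `f`.  It is stable under base change (`qAmple_baseChange`) and, given the
statement `CoreStmt` of S9223, descends through cofiltered limits of affine schemes
(`qAmple_descends`).
-/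

set_option autoImplicit false
set_option linter.style.haveILetI false
set_option linter.unusedSectionVars false
universe u
open CategoryTheory CategoryTheory.Limits AlgebraicGeometry TopologicalSpace Opposite

noncomputable section

namespace Groth.Agent.Lib.Helper62.RelAmpleFibre

open Groth.Agent.Lib.Helper11 Groth.Agent.Lib.Helper11.GenLocus
  Groth.Agent.Lib.Helper62.RelAmpleStage Groth.Agent.Lib.Helper62.FibreIndConsQ
  Groth.Agent.Lib.Helper18.TransSec Groth.Agent.Lib.Helper23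
  Groth.Agent.Lib.Helper11.AmpleDescent

variable {X Y S : Scheme.{u}} (f : X ⟶ Y) (g : Y ⟶ S)

/-- fibrewise relative ampleness of `L`. -/
def QAmple (L : X.Modules) : ∀ ⦃T : Scheme.{u}⦄, (T ⟶ S) → Prop := fun _ β =>
  RelAmple.IsRelAmple (fibreMap f g β)
    ((Scheme.Modules.pullback (pullback.fst (f ≫ g) β)).obj L)

theorem qAmple_baseChange (L : X.Modules) ⦃T T' : Scheme.{u}⦄ (β : T ⟶ S) (h : T' ⟶ T)
    (hQ : QAmple f g L β) : QAmple f g L (h ≫ β) := by
  have h1 := relAmple_of_isPullback (isPullback_fibreMap f g β h) _ hQ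
  exact relAmple_of_iso _
    (compIso (pbComp (f ≫ g) β h) (pullback.fst (f ≫ g) β) (pullback.fst (f ≫ g) (h ≫ β))
      (pullback.lift_fst _ _ _) L) h1

/-- from a stage model to the canonical fibre map over that stage. -/
theorem qAmple_of_stage (L : X.Modules) {T₀ T : Scheme.{u}} (β₀ : T₀ ⟶ S) (h : T ⟶ T₀)
    {Xj Yj : Scheme.{u}} (fj : Xj ⟶ Yj) (gj : Yj ⟶ T) (pY : Yj ⟶ pullback g β₀)
    (pX : Xj ⟶ pullback (f ≫ g) β₀)
    (hYj : IsPullback pY gj (pullback.snd g β₀) h) (hXj : IsPullback pX fj (fibreMap f g β₀) pY)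
    (hP : RelAmple.IsRelAmple fj ((Scheme.Modules.pullback pX).obj
      ((Scheme.Modules.pullback (pullback.fst (f ≫ g) β₀)).obj L))) :
    QAmple f g L (h ≫ β₀) := by
  have hYsq := isPullback_lift_snd g β₀ h
  have hXsq := isPullback_fibreMap f g β₀ h
  let e : pullback g (h ≫ β₀) ⟶ Yj := hYj.lift (pbComp g β₀ h) (pullback.snd g (h ≫ β₀)) hYsq.w
  have he1 : e ≫ pY = pbComp g β₀ h := hYj.lift_fst _ _ hYsq.w
  have hw : pbComp (f ≫ g) β₀ h ≫ fibreMap f g β₀ = (fibreMap f g (h ≫ β₀) ≫ e) ≫ pY := by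
    rw [Category.assoc, he1]
    exact hXsq.w
  let a : pullback (f ≫ g) (h ≫ β₀) ⟶ Xj :=
    hXj.lift (pbComp (f ≫ g) β₀ h) (fibreMap f g (h ≫ β₀) ≫ e) hw
  have ha1 : a ≫ pX = pbComp (f ≫ g) β₀ h := hXj.lift_fst _ _ hw
  have ha2 : a ≫ fj = fibreMap f g (h ≫ β₀) ≫ e := hXj.lift_snd _ _ hw
  have hsq : IsPullback a (fibreMap f g (h ≫ β₀)) fj e := by
    refine IsPullback.of_right ?_ ha2 hXj
    rw [ha1, he1]
    exact hXsq
  have h1 := relAmple_of_isPullback hsq _ hP
  refine relAmple_of_iso _ ?_ h1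
  exact compIso a pX _ ha1 _ ≪≫
    compIso (pbComp (f ≫ g) β₀ h) (pullback.fst (f ≫ g) β₀) (pullback.fst (f ≫ g) (h ≫ β₀))
      (pullback.lift_fst _ _ _) L

variable [QuasiCompact g] [QuasiSeparated g] [QuasiCompact (f ≫ g)] [QuasiSeparated (f ≫ g)]

theorem qAmple_descends (core : CoreStmt.{u}) (L : X.Modules) (hL : PicF.IsInvertible L) :
    Descends (QAmple f g L) := by
  intro I _ _ D c hc _ _ i₀ β₀ hQ
  have h2 : QuasiCompact (pullback.snd g β₀) := MorphismProperty.pullback_snd _ _ inferInstance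
  have h3 : QuasiSeparated (pullback.snd g β₀) := MorphismProperty.pullback_snd _ _ inferInstance
  have e0 : fibreMap f g β₀ ≫ pullback.snd g β₀ = pullback.snd (f ≫ g) β₀ :=
    pullback.lift_snd _ _ _
  have h5 : QuasiCompact (fibreMap f g β₀ ≫ pullback.snd g β₀) := by
    rw [e0]; exact MorphismProperty.pullback_snd _ _ inferInstance
  have h6 : QuasiSeparated (fibreMap f g β₀ ≫ pullback.snd g β₀) := by
    rw [e0]; exact MorphismProperty.pullback_snd _ _ inferInstance
  let L₀ := (Scheme.Modules.pullback (pullback.fst (f ≫ g) β₀)).obj L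
  have hL₀ : PicF.IsInvertible L₀ :=
    Groth.Agent.Lib.Helper11.PullbackTensor.isInvertible_pullback _ hL
  have hrel : RelAmple.IsRelAmple (fibreMap f g (c.π.app i₀ ≫ β₀))
      ((Scheme.Modules.pullback (pbComp (f ≫ g) β₀ (c.π.app i₀))).obj L₀) :=
    relAmple_of_iso _
      (compIso (pbComp (f ≫ g) β₀ (c.π.app i₀)) (pullback.fst (f ≫ g) β₀)
        (pullback.fst (f ≫ g) (c.π.app i₀ ≫ β₀)) (pullback.lift_fst _ _ _) L).symm hQ
  obtain ⟨j, φ, Xj, Yj, fj, gj, pY, pX, sqY, sqX, hj⟩ :=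
    exists_stage_isRelAmple D c hc i₀ (fibreMap f g β₀) (pullback.snd g β₀) L₀ hL₀ core
      (fibreMap f g (c.π.app i₀ ≫ β₀)) (pullback.snd g (c.π.app i₀ ≫ β₀))
      (pbComp g β₀ (c.π.app i₀)) (pbComp (f ≫ g) β₀ (c.π.app i₀))
      (isPullback_lift_snd g β₀ (c.π.app i₀)) (isPullback_fibreMap f g β₀ (c.π.app i₀)) hrel
  exact ⟨j, φ, qAmple_of_stage f g L β₀ (D.map φ) fj gj pY pX sqY sqX hj⟩

theorem isIndConstructible_setOf_qAmple (core : CoreStmt.{u}) (L : X.Modules)
    (hL : PicF.IsInvertible L) :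
    ProCons.IsIndConstructible {s : S | QAmple f g L (S.fromSpecResidueField s)} :=
  isIndConstructible_setOf_family (QAmple f g L) (qAmple_baseChange f g L)
    (qAmple_descends f g core L hL)

end Groth.Agent.Lib.Helper62.RelAmpleFibre
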