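import Mathlib
import Groth.Agent.Lib.Helper62.RelAmpleFibre
import Groth.Agent.Lib.Helper62.InvStage
import Groth.Agent.Lib.Helper11.RelAmpleComp

/-!
# Fibrewise quasi-projectivity: base change and descent through limits (helper62)

`QQP f g β`: some invertible module on `X ×_S T` is ample relative to the base change
`X ×_S T ⟶ Y ×_S T` of `f`.
-/

set_option autoImplicit false
set_option linter.style.haveILetI false
set_option linter.unusedSectionVars false
universe u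
open CategoryTheory CategoryTheory.Limits AlgebraicGeometry TopologicalSpace Opposite

noncomputable section

namespace Groth.Agent.Lib.Helper62.QProjFibre

open Groth.Agent.Lib.Helper11 Groth.Agent.Lib.Helper11.GenLocus
  Groth.Agent.Lib.Helper62.RelAmpleStage Groth.Agent.Lib.Helper62.FibreIndConsQ
  Groth.Agent.Lib.Helper18.TransSec Groth.Agent.Lib.Helper23
  Groth.Agent.Lib.Helper11.AmpleDescent Groth.Agent.Lib.Helper62.InvStage

section pbC

variable {X S : Scheme.{u}} (w : X ⟶ S) {T T' : Scheme.{u}} (β : T ⟶ S) (β' : T' ⟶ S)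
  (h : T' ⟶ T) (hβ : h ≫ β = β')

/-- the comparison map between base changes, in equation form. -/
abbrev pbC : pullback w β' ⟶ pullback w β :=
  pullback.lift (pullback.fst w β') (pullback.snd w β' ≫ h)
    (by rw [Category.assoc, hβ, pullback.condition])

theorem isPullback_pbC : IsPullback (pbC w β β' h hβ) (pullback.snd w β') (pullback.snd w β) h := by
  subst hβ
  exact isPullback_lift_snd w β h

end pbC

variable {X Y S : Scheme.{u}} (f : X ⟶ Y) (g : Y ⟶ S)

theorem isPullback_fibreMap_pbC {T T' : Scheme.{u}} (β : T ⟶ S) (β' : T' ⟶ S)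
    (h : T' ⟶ T) (hβ : h ≫ β = β') :
    IsPullback (pbC (f ≫ g) β β' h hβ) (fibreMap f g β') (fibreMap f g β) (pbC g β β' h hβ) := by
  subst hβ
  exact isPullback_fibreMap f g β h

/-- fibrewise existence of a relatively ample module. -/
def QQP : ∀ ⦃T : Scheme.{u}⦄, (T ⟶ S) → Prop := fun _ β =>
  ∃ M : (pullback (f ≫ g) β).Modules, RelAmple.IsRelAmple (fibreMap f g β) M

theorem qqp_baseChange ⦃T T' : Scheme.{u}⦄ (β : T ⟶ S) (h : T' ⟶ T)
    (hQ : QQP f g β) : QQP f g (h ≫ β) := by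
  obtain ⟨M, hM⟩ := hQ
  exact ⟨_, relAmple_of_isPullback (isPullback_fibreMap f g β h) _ hM⟩

/-- from a stage model to the canonical fibre map over that stage. -/
theorem qqp_of_stage {T₀ T : Scheme.{u}} (β₀ : T₀ ⟶ S) (h : T ⟶ T₀)
    {Xj Yj : Scheme.{u}} (fj : Xj ⟶ Yj) (gj : Yj ⟶ T) (pY : Yj ⟶ pullback g β₀)
    (pX : Xj ⟶ pullback (f ≫ g) β₀)
    (hYj : IsPullback pY gj (pullback.snd g β₀) h) (hXj : IsPullback pX fj (fibreMap f g β₀) pY)
    (N : Xj.Modules) (hP : RelAmple.IsRelAmple fj N) :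
    QQP f g (h ≫ β₀) := by
  have hYsq := isPullback_lift_snd g β₀ h
  have hXsq := isPullback_fibreMap f g β₀ h
  let e : pullback g (h ≫ β₀) ⟶ Yj := hYj.lift (pbComp g β₀ h) (pullback.snd g (h ≫ β₀)) hYsq.w
  have he1 : e ≫ pY = pbComp g β₀ h := hYj.lift_fst _ _ hYsq.w
  have hw : pbComp (f ≫ g) β₀ h ≫ fibreMap f g β₀ = (fibreMap f g (h ≫ β₀) ≫ e) ≫ pY := by
    rw [Category.assoc, he1]
    exact hXsq.w
  let a : pullback (f ≫ g) (h ≫ β₀) ⟶ Xj :=
    hXj.lift (pbComp (f ≫ g) β₀ h) (fibreMap f g (h ≫ β₀) ≫ e) hw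
  have ha1 : a ≫ pX = pbComp (f ≫ g) β₀ h := hXj.lift_fst _ _ hw
  have ha2 : a ≫ fj = fibreMap f g (h ≫ β₀) ≫ e := hXj.lift_snd _ _ hw
  have hsq : IsPullback a (fibreMap f g (h ≫ β₀)) fj e := by
    refine IsPullback.of_right ?_ ha2 hXj
    rw [ha1, he1]
    exact hXsq
  exact ⟨_, relAmple_of_isPullback hsq _ hP⟩

variable [QuasiCompact g] [QuasiSeparated g] [QuasiCompact (f ≫ g)] [QuasiSeparated (f ≫ g)]

theorem qqp_descends (core : CoreStmt.{u}) : Descends (QQP f g) := by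
  intro I _ _ D c hc _ _ i₀ β₀ hQ
  obtain ⟨M, hM⟩ := hQ
  have hMinv : PicF.IsInvertible M :=
    Groth.Agent.Lib.Helper11.RelAmpleComp.isInvertible_of_isRelAmple _ M hM
  -- the system of base changes of `X₀`
  let w := f ≫ g
  let h₀ : pullback w β₀ ⟶ D.obj i₀ := pullback.snd w β₀
  haveI : QuasiCompact h₀ := MorphismProperty.pullback_snd _ _ inferInstance
  haveI : QuasiSeparated h₀ := MorphismProperty.pullback_snd _ _ inferInstance
  haveI : CompactSpace ↥(pullback w β₀ : Scheme.{u}) := QuasiCompact.compactSpace_of_compactSpace h₀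
  haveI : QuasiSeparatedSpace ↥(pullback w β₀ : Scheme.{u}) := quasiSeparatedSpace_of_quasiSeparated h₀
  let βL : c.pt ⟶ S := c.π.app i₀ ≫ β₀
  let q₀ : pullback w βL ⟶ pullback w β₀ := pbC w β₀ βL (c.π.app i₀) rfl
  have hsq₀ : IsPullback q₀ (pullback.snd w βL) h₀ (c.π.app i₀) :=
    isPullback_pbC w β₀ βL (c.π.app i₀) rfl
  obtain ⟨k, L'', hL'', hk⟩ := exists_invertible_stage D c i₀ h₀ hc q₀ (pullback.snd w βL) hsq₀
    M hMinv
  -- the new base stage
  let i₁ : I := k.left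
  let φ₁ : i₁ ⟶ i₀ := k.hom
  let β₁ : D.obj i₁ ⟶ S := D.map φ₁ ≫ β₀
  have hβ₁ : c.π.app i₁ ≫ β₁ = βL := by
    change c.π.app i₁ ≫ D.map φ₁ ≫ β₀ = c.π.app i₀ ≫ β₀
    rw [← Category.assoc, c.w φ₁]
  let θ : pullback w β₁ ⟶ pullback (D.map φ₁) h₀ :=
    pullback.lift (pullback.snd w β₁) (pbC w β₀ β₁ (D.map φ₁) rfl) (by
      rw [pullback.lift_snd])
  have hθ1 : θ ≫ pullback.fst (D.map φ₁) h₀ = pullback.snd w β₁ := pullback.lift_fst _ _ _
  have hθ2 : θ ≫ pullback.snd (D.map φ₁) h₀ = pbC w β₀ β₁ (D.map φ₁) rfl :=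
    pullback.lift_snd _ _ _
  let L₁ : (pullback w β₁).Modules := (Scheme.Modules.pullback θ).obj L''
  have hL₁ : PicF.IsInvertible L₁ :=
    Groth.Agent.Lib.Helper11.PullbackTensor.isInvertible_pullback θ hL''
  let q₁ : pullback w βL ⟶ pullback w β₁ := pbC w β₁ βL (c.π.app i₁) hβ₁
  have hq₁1 : q₁ ≫ pullback.fst w β₁ = pullback.fst w βL := pullback.lift_fst _ _ _
  have hq₁2 : q₁ ≫ pullback.snd w β₁ = pullback.snd w βL ≫ c.π.app i₁ := pullback.lift_snd _ _ _
  have hq₀1 : q₀ ≫ pullback.fst w β₀ = pullback.fst w βL := pullback.lift_fst _ _ _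
  have hq₀2 : q₀ ≫ pullback.snd w β₀ = pullback.snd w βL ≫ c.π.app i₀ := pullback.lift_snd _ _ _
  obtain ⟨eM⟩ := hk (q₁ ≫ θ) (by rw [Category.assoc, hθ1, hq₁2]) (by
    rw [Category.assoc, hθ2]
    refine pullback.hom_ext ?_ ?_
    · rw [Category.assoc, pullback.lift_fst, hq₁1, hq₀1]
    · rw [Category.assoc, pullback.lift_snd, ← Category.assoc, hq₁2, Category.assoc, hq₀2,
        c.w φ₁])
  -- relative ampleness of `q₁^* L₁`
  have hrel : RelAmple.IsRelAmple (fibreMap f g βL) ((Scheme.Modules.pullback q₁).obj L₁) :=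
    relAmple_of_iso _ (compIso q₁ θ _ rfl L'' ≪≫ eM).symm hM
  have h2 : QuasiCompact (pullback.snd g β₁) := MorphismProperty.pullback_snd _ _ inferInstance
  have h3 : QuasiSeparated (pullback.snd g β₁) := MorphismProperty.pullback_snd _ _ inferInstance
  have e0 : fibreMap f g β₁ ≫ pullback.snd g β₁ = pullback.snd (f ≫ g) β₁ :=
    pullback.lift_snd _ _ _
  have h5 : QuasiCompact (fibreMap f g β₁ ≫ pullback.snd g β₁) := by
    rw [e0]; exact MorphismProperty.pullback_snd _ _ inferInstance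
  have h6 : QuasiSeparated (fibreMap f g β₁ ≫ pullback.snd g β₁) := by
    rw [e0]; exact MorphismProperty.pullback_snd _ _ inferInstance
  obtain ⟨j, φ, Xj, Yj, fj, gj, pY, pX, sqY, sqX, hj⟩ :=
    exists_stage_isRelAmple D c hc i₁ (fibreMap f g β₁) (pullback.snd g β₁) L₁ hL₁ core
      (fibreMap f g βL) (pullback.snd g βL)
      (pbC g β₁ βL (c.π.app i₁) hβ₁) q₁
      (isPullback_pbC g β₁ βL (c.π.app i₁) hβ₁)
      (isPullback_fibreMap_pbC f g β₁ βL (c.π.app i₁) hβ₁) hrel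
  have hfin := qqp_of_stage f g β₁ (D.map φ) fj gj pY pX sqY sqX _ hj
  refine ⟨j, φ ≫ φ₁, ?_⟩
  have hβeq : D.map φ ≫ β₁ = D.map (φ ≫ φ₁) ≫ β₀ := by
    change D.map φ ≫ D.map φ₁ ≫ β₀ = _
    rw [← Category.assoc, ← D.map_comp]
  rw [← hβeq]
  exact hfin

theorem isIndConstructible_setOf_qqp (core : CoreStmt.{u}) :
    ProCons.IsIndConstructible {s : S | QQP f g (S.fromSpecResidueField s)} :=
  isIndConstructible_setOf_family (QQP f g) (qqp_baseChange f g) (qqp_descends f g core)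

end Groth.Agent.Lib.Helper62.QProjFibre
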