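import Mathlib
import Groth.Prelude.Def_PP16
import Groth.Agent.Lib.Helper47.QuasiRegularBaseChange
import Groth.Agent.Lib.Helper81.SymPowFree

set_option autoImplicit false
universe u

namespace Groth.Agent.Lib.Helper62.QReg

open Groth.Agent.Lib.Helper47

section comb

variable {ι : Type u} [Fintype ι] {r : ℕ}

/-- the exponent vector of a function `s : ι → Fin r` -/
noncomputable def typ (s : ι → Fin r) : Fin r →₀ ℕ := ∑ k, Finsupp.single (s k) 1

theorem typ_mem_expos (s : ι → Fin r) : typ s ∈ expos r (Fintype.card ι) := by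
  rw [mem_expos, typ, map_sum]
  simp [Finsupp.degree_single]

theorem exists_typ_eq {d : Fin r →₀ ℕ} (hd : d ∈ expos r (Fintype.card ι)) :
    ∃ s : ι → Fin r, typ s = d := by
  classical
  rw [mem_expos, Finsupp.degree_eq_sum] at hd
  have hcard : Fintype.card ι = Fintype.card (Σ i : Fin r, Fin (d i)) := by
    rw [Fintype.card_sigma]
    simp only [Fintype.card_fin]
    exact hd.symm
  let e : ι ≃ Σ i : Fin r, Fin (d i) := Fintype.equivOfCardEq hcard
  refine ⟨fun k => (e k).1, ?_⟩
  unfold typ
  rw [Fintype.sum_equiv e (fun k => Finsupp.single (e k).1 1)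
    (fun x : Σ i : Fin r, Fin (d i) => Finsupp.single x.1 1) (fun _ => rfl)]
  rw [Fintype.sum_sigma]
  simp only [Finset.sum_const, Finset.card_univ, Fintype.card_fin, Finsupp.smul_single,
    smul_eq_mul, mul_one]
  exact Finsupp.univ_sum_single d

theorem prod_comp_eq_mon {R : Type*} [CommRing R] (a : Fin r → R) (s : ι → Fin r) :
    ∏ k, a (s k) = mon a (typ s) := by
  classical
  have h1 : ∏ k, a (s k) = MvPolynomial.eval a (∏ k, MvPolynomial.X (s k)) := by
    rw [map_prod]
    simp
  have h2 : (∏ k, (MvPolynomial.X (s k) : MvPolynomial (Fin r) R)) =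
      MvPolynomial.monomial (typ s) 1 := by
    unfold typ
    rw [MvPolynomial.monomial_sum_one]
    rfl
  rw [h1, h2, MvPolynomial.eval_monomial, one_mul, Finsupp.prod_fintype]
  · rfl
  · intro i; exact pow_zero _

theorem tprod_comp_eq_of_typ_eq {R : Type u} [CommRing R] {M : Type*} [AddCommGroup M] [Module R M]
    (p : Fin r → M) (s s' : ι → Fin r) (h : typ s = typ s') :
    SymmetricPower.tprod R (fun k => p (s k)) = SymmetricPower.tprod R (fun k => p (s' k)) := by
  obtain ⟨e, he⟩ := Groth.Agent.Lib.Helper81.SymPow.exists_perm_of_sum_single_eq s s' h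
  have : (fun k => p (s' k)) = fun k => (fun j => p (s j)) (e k) := by
    funext k
    rw [he k]
  rw [this]
  exact (SymmetricPower.tprod_equiv e fun j => p (s j)).symm

end comb

end Groth.Agent.Lib.Helper62.QReg
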