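import Mathlib
import Groth.Prelude.Def_PP16
import Groth.Agent.Lib.Helper62.QReg0
import Groth.Agent.Lib.Helper18.QuasiReg

set_option autoImplicit false
universe u

namespace Groth.Agent.Lib.Helper62.QReg

open Groth.Agent.Lib.Helper47

section data

variable {R : Type u} [CommRing R] (J : Ideal R)

/-- Local quasi-regular data for `J` on `D(g)`, stated in `R` "up to powers of `g`". -/
structure Data (g : R) (r : ℕ) (a : Fin r → R) : Prop where
  mem : ∀ i, a i ∈ J
  span : ∀ y ∈ J, ∃ (N : ℕ) (c : Fin r → R), g ^ N * y = ∑ i, c i * a i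
  indep : ∀ (n : ℕ) (c : expos r n → R), (∃ N : ℕ, g ^ N * monComb a n c ∈ J ^ (n + 1)) →
    ∀ d, ∃ M : ℕ, g ^ M * c d ∈ J

theorem map_monComb {S : Type*} [CommRing S] (φ : R →+* S) {r : ℕ} (a : Fin r → R) (n : ℕ)
    (c : expos r n → R) :
    φ (monComb a n c) = monComb (fun i => φ (a i)) n (fun d => φ (c d)) := by
  rw [monComb_apply, monComb_apply, map_sum]
  refine Finset.sum_congr rfl (fun d _ => ?_)
  rw [map_mul]
  congr 1
  unfold mon
  rw [map_prod]
  refine Finset.prod_congr rfl (fun i _ => ?_)
  rw [map_pow]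

theorem mon_single {r : ℕ} (a : Fin r → R) (i : Fin r) : mon a (Finsupp.single i 1) = a i := by
  classical
  unfold mon
  rw [Finset.prod_eq_single i]
  · simp
  · intro j _ hj
    rw [Finsupp.single_eq_of_ne hj, pow_zero]
  · intro h; exact absurd (Finset.mem_univ i) h

theorem expos_one (r : ℕ) : expos r 1 = Finset.univ.image (fun i : Fin r => Finsupp.single i 1) := by
  classical
  ext d
  rw [mem_expos, Finset.mem_image]
  constructor
  · intro h
    have : d ∈ Set.range (fun a : Fin r => Finsupp.single a 1) := by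
      rw [Finsupp.range_single_one]; exact h
    obtain ⟨i, rfl⟩ := this
    exact ⟨i, Finset.mem_univ _, rfl⟩
  · rintro ⟨i, -, rfl⟩
    simp

/-- the linear case of `Data.indep` -/
theorem Data.indep1 {g : R} {r : ℕ} {a : Fin r → R} (h : Data J g r a) (c : Fin r → R)
    (hc : ∃ N : ℕ, g ^ N * ∑ i, c i * a i ∈ J ^ 2) (i : Fin r) : ∃ M : ℕ, g ^ M * c i ∈ J := by
  classical
  let c' : (Fin r →₀ ℕ) → R := fun d => ∑ i, if d = Finsupp.single i 1 then c i else 0
  have hc' : ∀ i, c' (Finsupp.single i 1) = c i := by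
    intro i
    show (∑ j, if Finsupp.single i 1 = Finsupp.single j 1 then c j else 0) = c i
    rw [Finset.sum_eq_single i]
    · simp
    · intro j _ hj
      rw [if_neg]
      intro e
      exact hj ((Finsupp.single_left_inj one_ne_zero).mp e).symm
    · intro h; exact absurd (Finset.mem_univ i) h
  have hmc : monComb a 1 (fun d : expos r 1 => c' d.1) = ∑ i, c i * a i := by
    rw [monComb_apply, Finset.sum_coe_sort (expos r 1) (fun d => c' d * mon a d), expos_one,
      Finset.sum_image]
    · refine Finset.sum_congr rfl (fun i _ => ?_)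
      rw [hc', mon_single]
    · intro i _ j _ e
      exact (Finsupp.single_left_inj one_ne_zero).mp e
  have := h.indep 1 (fun d : expos r 1 => c' d.1) (by rw [hmc]; exact hc)
    ⟨Finsupp.single i 1, by rw [mem_expos]; simp⟩
  simpa [hc'] using this

end data

end Groth.Agent.Lib.Helper62.QReg
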