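import Mathlib
import Groth.Prelude.Def_PP16
import Groth.Agent.Lib.Helper62.QReg1

set_option autoImplicit false
universe u

namespace Groth.Agent.Lib.Helper62.QReg

open Groth.Agent.Lib.Helper47

section loc

variable {R : Type u} [CommRing R] (J : Ideal R)

theorem isUnit_algebraMap_pow (g : R) (k : ℕ) :
    IsUnit (algebraMap R (Localization.Away g) (g ^ k)) :=
  IsLocalization.map_units (Localization.Away g) (⟨g ^ k, k, rfl⟩ : Submonoid.powers g)

/-- local quasi-regular generators on `D(g)` give `Data`. -/
theorem data_of_localization (g : R) {r : ℕ} (f : Fin r → Localization.Away g)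
    (hq : CAlgX.IsQuasiRegular f)
    (hspan : Ideal.span (Set.range f) = J.map (algebraMap R (Localization.Away g))) :
    ∃ a : Fin r → R, Data J g r a := by
  classical
  have hmem : ∀ i, ∃ (a : R) (k : ℕ), a ∈ J ∧ f i * algebraMap R (Localization.Away g) (g ^ k) = algebraMap R (Localization.Away g) a := by
    intro i
    have h1 : f i ∈ J.map (algebraMap R (Localization.Away g)) := by
      rw [← hspan]; exact Ideal.subset_span ⟨i, rfl⟩
    obtain ⟨⟨⟨a, ha⟩, ⟨m, k, hk⟩⟩, h2⟩ :=
      (IsLocalization.mem_map_algebraMap_iff (Submonoid.powers g) (Localization.Away g)).mp h1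
    refine ⟨a, k, ha, ?_⟩
    simp only at h2 hk
    rw [hk]; exact h2
  choose a k haJ hak using hmem
  set f' : Fin r → Localization.Away g := fun i => algebraMap R (Localization.Away g) (a i) with hf'
  have hspan' : Ideal.span (Set.range f') = Ideal.span (Set.range f) := by
    apply le_antisymm
    · rw [Ideal.span_le]
      rintro _ ⟨i, rfl⟩
      show f' i ∈ _
      rw [hf']; simp only
      rw [← hak i]
      exact Ideal.mul_mem_right _ _ (Ideal.subset_span ⟨i, rfl⟩)
    · rw [Ideal.span_le]
      rintro _ ⟨i, rfl⟩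
      have hu := isUnit_algebraMap_pow g (k i)
      have : f i = f' i * ↑(hu.unit⁻¹) := by
        rw [hf']; simp only
        rw [← hak i, mul_assoc]
        have : algebraMap R (Localization.Away g) (g ^ k i) * ↑(hu.unit⁻¹) = 1 := hu.mul_val_inv
        rw [this, mul_one]
      rw [SetLike.mem_coe, this]
      exact Ideal.mul_mem_right _ _ (Ideal.subset_span ⟨i, rfl⟩)
  have hq' : CAlgX.IsQuasiRegular f' :=
    Groth.Agent.Lib.Helper18.isQuasiRegular_of_span_eq f f' hq hspan'
  have hJ : Ideal.span (Set.range f') = J.map (algebraMap R (Localization.Away g)) := hspan'.trans hspan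
  refine ⟨a, haJ, ?_, ?_⟩
  · intro y hy
    have h1 : algebraMap R (Localization.Away g) y ∈ Ideal.span (Set.range f') := by
      rw [hJ]; exact Ideal.mem_map_of_mem _ hy
    obtain ⟨γ, hγ⟩ := (Ideal.mem_span_range_iff_exists_fun).mp h1
    obtain ⟨⟨b, kb, hb⟩, hint⟩ :=
      IsLocalization.exist_integer_multiples_of_finite (Submonoid.powers g) γ
    choose c hc using hint
    simp only at hc hb
    have h2 : algebraMap R (Localization.Away g) (g ^ kb * y) = algebraMap R (Localization.Away g) (∑ i, c i * a i) := by
      rw [map_mul, ← hγ, Finset.mul_sum, map_sum]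
      refine Finset.sum_congr rfl (fun i _ => ?_)
      rw [map_mul, hc i, hb, Algebra.smul_def, mul_assoc]
    obtain ⟨⟨m, km, hm⟩, h3⟩ := (IsLocalization.eq_iff_exists (Submonoid.powers g) (Localization.Away g)).mp h2
    simp only at h3 hm
    refine ⟨km + kb, fun i => g ^ km * c i, ?_⟩
    rw [pow_add, mul_assoc, hm, h3, Finset.mul_sum]
    refine Finset.sum_congr rfl (fun i _ => ?_)
    rw [mul_assoc]
  · rintro n c ⟨N, hN⟩ d
    have h1 : algebraMap R (Localization.Away g) (g ^ N * monComb a n c) ∈ Ideal.span (Set.range f') ^ (n + 1) := by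
      rw [hJ, ← Ideal.map_pow]
      exact Ideal.mem_map_of_mem _ hN
    rw [map_mul, Ideal.unit_mul_mem_iff_mem _ (isUnit_algebraMap_pow g N), map_monComb] at h1
    have h2 := (isQuasiRegular_iff f').mp hq' n (fun d => algebraMap R (Localization.Away g) (c d)) h1 d
    rw [hJ] at h2
    obtain ⟨_, ⟨km, rfl⟩, hm⟩ :=
      (IsLocalization.algebraMap_mem_map_algebraMap_iff (Submonoid.powers g) (Localization.Away g) J (c d)).mp h2
    exact ⟨km, hm⟩

/-- `Data` gives quasi-regular generators of the localized ideal. -/
theorem Data.isQuasiRegular {g : R} {r : ℕ} {a : Fin r → R} (h : Data J g r a) :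
    CAlgX.IsQuasiRegular (fun i => algebraMap R (Localization.Away g) (a i)) ∧
      Ideal.span (Set.range fun i => algebraMap R (Localization.Away g) (a i)) =
        J.map (algebraMap R (Localization.Away g)) := by
  classical
  set f' : Fin r → Localization.Away g := fun i => algebraMap R (Localization.Away g) (a i) with hf'
  have hJ : Ideal.span (Set.range f') = J.map (algebraMap R (Localization.Away g)) := by
    apply le_antisymm
    · rw [Ideal.span_le]
      rintro _ ⟨i, rfl⟩
      exact Ideal.mem_map_of_mem _ (h.mem i)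
    · rw [Ideal.map_le_iff_le_comap]
      intro y hy
      rw [Ideal.mem_comap]
      obtain ⟨N, c, hc⟩ := h.span y hy
      have h1 : algebraMap R (Localization.Away g) (g ^ N) * algebraMap R (Localization.Away g) y ∈ Ideal.span (Set.range f') := by
        rw [← map_mul, hc, map_sum]
        refine Ideal.sum_mem _ (fun i _ => ?_)
        rw [map_mul]
        exact Ideal.mul_mem_left _ _ (Ideal.subset_span ⟨i, rfl⟩)
      rwa [Ideal.unit_mul_mem_iff_mem _ (isUnit_algebraMap_pow g N)] at h1
  refine ⟨?_, hJ⟩
  rw [isQuasiRegular_iff]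
  intro n c' hc' d
  obtain ⟨⟨_, kb, rfl⟩, hint⟩ :=
    IsLocalization.exist_integer_multiples_of_finite (Submonoid.powers g) c'
  choose c hc using hint
  simp only at hc
  have hu := isUnit_algebraMap_pow g kb
  -- `monComb f' n (algebraMap ∘ c) = g^kb * monComb f' n c'`
  have h1 : algebraMap R (Localization.Away g) (monComb a n c) = algebraMap R (Localization.Away g) (g ^ kb) * monComb f' n c' := by
    rw [map_monComb, monComb_apply, monComb_apply, Finset.mul_sum]
    refine Finset.sum_congr rfl (fun d _ => ?_)
    rw [hc d, Algebra.smul_def, mul_assoc]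
  have h2 : algebraMap R (Localization.Away g) (monComb a n c) ∈ (J ^ (n + 1)).map (algebraMap R (Localization.Away g)) := by
    rw [h1, Ideal.map_pow, ← hJ]
    exact Ideal.mul_mem_left _ _ hc'
  obtain ⟨_, ⟨km, rfl⟩, hm⟩ :=
    (IsLocalization.algebraMap_mem_map_algebraMap_iff (Submonoid.powers g) (Localization.Away g) _ _).mp h2
  obtain ⟨M, hM⟩ := h.indep n c ⟨km, hm⟩ d
  have h3 : algebraMap R (Localization.Away g) (g ^ M * c d) ∈ J.map (algebraMap R (Localization.Away g)) := Ideal.mem_map_of_mem _ hM
  rw [map_mul, Ideal.unit_mul_mem_iff_mem _ (isUnit_algebraMap_pow g M), hc d,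
    Algebra.smul_def, Ideal.unit_mul_mem_iff_mem _ hu, ← hJ] at h3
  exact h3

end loc

end Groth.Agent.Lib.Helper62.QReg
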