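import Mathlib
import Groth.Prelude.Def_PP16
import Groth.Agent.Lib.Helper62.QReg2

set_option autoImplicit false
universe u

namespace Groth.Agent.Lib.Helper62.QReg

open Groth.Agent.Lib.Helper47

section fg

variable {R : Type u} [CommRing R] (J : Ideal R)

theorem fg_of_isLocallyQuasiRegular (h : PP16.IsLocallyQuasiRegular R J) : J.FG := by
  classical
  let t : Set R := {g | (J.map (algebraMap R (Localization.Away g))).FG}
  refine Ideal.fg_of_localizationSpan t ?_ (fun g => g.2)
  by_contra hne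
  obtain ⟨𝔪, hmax, hle⟩ := Ideal.exists_le_maximal _ hne
  have hprime : 𝔪.IsPrime := hmax.isPrime
  by_cases hJ : J ≤ 𝔪
  · obtain ⟨g, hg, r, f, hq, hspan⟩ := h 𝔪 hJ
    apply hg
    apply hle
    apply Ideal.subset_span
    show (J.map _).FG
    rw [← hspan]
    exact ⟨Finset.univ.image f, by simp⟩
  · obtain ⟨s, hsJ, hs⟩ := SetLike.not_le_iff_exists.mp hJ
    apply hs
    apply hle
    apply Ideal.subset_span
    show (J.map _).FG
    have : J.map (algebraMap R (Localization.Away s)) = ⊤ :=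
      Ideal.eq_top_of_isUnit_mem _ (Ideal.mem_map_of_mem _ hsJ)
        (IsLocalization.Away.algebraMap_isUnit s)
    rw [this]
    exact ⟨{1}, by simp⟩

/-- every prime containing `J` has local data. -/
theorem exists_data_of_isLocallyQuasiRegular (h : PP16.IsLocallyQuasiRegular R J)
    (P : Ideal R) [P.IsPrime] (hP : J ≤ P) :
    ∃ g : R, g ∉ P ∧ ∃ (r : ℕ) (a : Fin r → R), Data J g r a := by
  obtain ⟨g, hg, r, f, hq, hspan⟩ := h P hP
  obtain ⟨a, ha⟩ := data_of_localization J g f hq hspan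
  exact ⟨g, hg, r, a, ha⟩

theorem isLocallyQuasiRegular_of_data
    (h : ∀ (P : Ideal R) [P.IsPrime], J ≤ P →
      ∃ g : R, g ∉ P ∧ ∃ (r : ℕ) (a : Fin r → R), Data J g r a) :
    PP16.IsLocallyQuasiRegular R J := by
  intro P _ hP
  obtain ⟨g, hg, r, a, ha⟩ := h P hP
  exact ⟨g, hg, r, _, ha.isQuasiRegular J⟩

end fg

end Groth.Agent.Lib.Helper62.QReg
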