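import Mathlib
import Groth.Agent.Lib.Helper62.SymPow0

set_option autoImplicit false
universe u

open TensorProduct

namespace Groth.Agent.Lib.Helper62.SymPow

/-- index types `Idx n` of cardinality `n` in an arbitrary universe. -/
def Idx : ℕ → Type u
  | 0 => PEmpty
  | (n + 1) => Option (Idx n)

instance instFintypeIdx : ∀ n, Fintype (Idx.{u} n)
  | 0 => (inferInstance : Fintype PEmpty)
  | (n + 1) => @instFintypeOption (Idx n) (instFintypeIdx n)

theorem card_Idx : ∀ n, Fintype.card (Idx.{u} n) = n
  | 0 => Fintype.card_pempty
  | (n + 1) => by
    show Fintype.card (Option (Idx n)) = n + 1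
    rw [Fintype.card_option, card_Idx n]

section elim

variable {M : Type u} {ι : Type u}

theorem elim_update [DecidableEq ι] (q : M) (p : ι → M) (i : ι) (z : M) :
    (fun o : Option ι => o.elim q (Function.update p i z)) =
        Function.update (fun o : Option ι => o.elim q p) (some i) z := by
  funext o
  cases o with
  | none => simp
  | some j =>
    by_cases hj : j = i
    · subst hj; simp
    · simp [hj]

theorem elim_update_none [DecidableEq ι] (q : M) (p : ι → M) (z : M) :
    (fun o : Option ι => o.elim z p) =
        Function.update (fun o : Option ι => o.elim q p) none z := by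
  funext o
  cases o with
  | none => simp
  | some j => simp

end elim

section graded

variable (R : Type u) [CommRing R] (M : Type u) [AddCommGroup M] [Module R M]

/-- the multilinear map `p ↦ q ⊗ p`. -/
noncomputable def consMulti {ι : Type u} (q : M) :
    MultilinearMap R (fun _ : ι => M) (SymmetricPower R (Option ι) M) where
  toFun p := SymmetricPower.tprod R (fun o : Option ι => o.elim q p)
  map_update_add' := by
    intro _ p i x y
    simp only [elim_update]
    exact (SymmetricPower.tprod R).map_update_add _ _ _ _
  map_update_smul' := by
    intro _ p i r x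
    simp only [elim_update]
    exact (SymmetricPower.tprod R).map_update_smul _ _ _ _

/-- multiplication by `q`: `Sym^ι M → Sym^(Option ι) M`. -/
noncomputable def mulLeft {ι : Type u} (q : M) :
    SymmetricPower R ι M →ₗ[R] SymmetricPower R (Option ι) M :=
  lift (consMulti R M q) (by
    intro e v
    show SymmetricPower.tprod R (fun o : Option ι => o.elim q (fun i => v (e i))) =
      SymmetricPower.tprod R (fun o : Option ι => o.elim q v)
    rw [← SymmetricPower.tprod_equiv (Equiv.optionCongr e) (fun o : Option ι => o.elim q v)]
    congr 1
    funext o
    cases o <;> simp)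

@[simp] theorem mulLeft_tprod {ι : Type u} (q : M) (p : ι → M) :
    mulLeft R M q (SymmetricPower.tprod R p) =
      SymmetricPower.tprod R (fun o : Option ι => o.elim q p) := by
  rw [mulLeft, lift_tprod]; rfl

theorem mulLeft_add {ι : Type u} (q q' : M) :
    mulLeft R M (ι := ι) (q + q') = mulLeft R M q + mulLeft R M q' := by
  classical
  apply hom_ext
  intro p
  rw [LinearMap.add_apply, mulLeft_tprod, mulLeft_tprod, mulLeft_tprod]
  have h1 := elim_update_none q p (q + q')
  have h2 := elim_update_none q p q
  have h3 := elim_update_none q p q'
  calc SymmetricPower.tprod R (fun o : Option ι => o.elim (q + q') p)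
      = SymmetricPower.tprod R (Function.update (fun o : Option ι => o.elim q p) none (q + q')) := by
        rw [h1]
    _ = SymmetricPower.tprod R (Function.update (fun o : Option ι => o.elim q p) none q) +
        SymmetricPower.tprod R (Function.update (fun o : Option ι => o.elim q p) none q') :=
        MultilinearMap.map_update_add _ _ _ _ _
    _ = _ := by rw [← h2, ← h3]

theorem mulLeft_smul {ι : Type u} (r : R) (q : M) :
    mulLeft R M (ι := ι) (r • q) = r • mulLeft R M q := by
  classical
  apply hom_ext
  intro p
  rw [LinearMap.smul_apply, mulLeft_tprod, mulLeft_tprod]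
  have h1 := elim_update_none q p (r • q)
  have h2 := elim_update_none q p q
  calc SymmetricPower.tprod R (fun o : Option ι => o.elim (r • q) p)
      = SymmetricPower.tprod R (Function.update (fun o : Option ι => o.elim q p) none (r • q)) := by
        rw [h1]
    _ = r • SymmetricPower.tprod R (Function.update (fun o : Option ι => o.elim q p) none q) :=
        MultilinearMap.map_update_smul _ _ _ _ _
    _ = _ := by rw [← h2]

theorem mulLeft_comm {ι : Type u} (q q' : M) (z : SymmetricPower R ι M) :
    mulLeft R M q (mulLeft R M q' z) = mulLeft R M q' (mulLeft R M q z) := by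
  classical
  have : (mulLeft R M q) ∘ₗ (mulLeft R M (ι := ι) q') = (mulLeft R M q') ∘ₗ (mulLeft R M q) := by
    apply hom_ext
    intro p
    rw [LinearMap.comp_apply, LinearMap.comp_apply, mulLeft_tprod, mulLeft_tprod, mulLeft_tprod,
      mulLeft_tprod]
    rw [← SymmetricPower.tprod_equiv (Equiv.swap (none : Option (Option ι)) (some none))
      (fun o : Option (Option ι) => o.elim q' (fun o' : Option ι => o'.elim q p))]
    congr 1
    funext o
    rcases o with _ | _ | i
    · simp
    · simp
    · rw [Equiv.swap_apply_of_ne_of_ne] <;> simp
  exact congrArg (fun f => f z) this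

end graded

end Groth.Agent.Lib.Helper62.SymPow
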