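import Mathlib
import Groth.Agent.Lib.Helper62.SymPow1

set_option autoImplicit false
universe u

open TensorProduct DirectSum

namespace Groth.Agent.Lib.Helper62.SymPow

section graded

variable (R : Type u) [CommRing R] (M : Type u) [AddCommGroup M] [Module R M]

/-- the graded pieces -/
abbrev Gr (n : ℕ) : Type u := SymmetricPower R (Idx.{u} n) M

/-- the graded module `⨁ n, Sym^n M`. -/
abbrev G : Type u := ⨁ n : ℕ, Gr R M n

/-- `mulLeft` on the graded pieces. -/
noncomputable def mulLeftIdx (q : M) (n : ℕ) : Gr R M n →ₗ[R] Gr R M (n + 1) :=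
  mulLeft R M (ι := Idx.{u} n) q

theorem mulLeftIdx_tprod (q : M) (n : ℕ) (p : Idx.{u} n → M) :
    mulLeftIdx R M q n (SymmetricPower.tprod R p) =
      SymmetricPower.tprod R (ι := Idx.{u} (n + 1)) (fun o : Option (Idx.{u} n) => o.elim q p) :=
  mulLeft_tprod R M q p

theorem mulLeftIdx_add (q q' : M) (n : ℕ) :
    mulLeftIdx R M (q + q') n = mulLeftIdx R M q n + mulLeftIdx R M q' n :=
  mulLeft_add R M q q'

theorem mulLeftIdx_smul (r : R) (q : M) (n : ℕ) :
    mulLeftIdx R M (r • q) n = r • mulLeftIdx R M q n :=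
  mulLeft_smul R M r q

theorem mulLeftIdx_comm (q q' : M) (n : ℕ) (z : Gr R M n) :
    mulLeftIdx R M q (n + 1) (mulLeftIdx R M q' n z) =
      mulLeftIdx R M q' (n + 1) (mulLeftIdx R M q n z) :=
  mulLeft_comm R M q q' z

/-- the degree-one operator "multiply by q" on `G`. -/
noncomputable def Lop (q : M) : G R M →ₗ[R] G R M :=
  DirectSum.toModule R ℕ (G R M) (fun n =>
    (DirectSum.lof R ℕ (Gr R M) (n + 1)) ∘ₗ (mulLeftIdx R M q n))

theorem Lop_lof (q : M) (n : ℕ) (z : Gr R M n) :
    Lop R M q (DirectSum.lof R ℕ (Gr R M) n z) =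
      DirectSum.lof R ℕ (Gr R M) (n + 1) (mulLeftIdx R M q n z) := by
  rw [Lop, DirectSum.toModule_lof]; rfl

/-- `q ↦ Lop q` as a linear map into the endomorphism algebra. -/
noncomputable def Llin : M →ₗ[R] Module.End R (G R M) where
  toFun q := Lop R M q
  map_add' q q' := by
    apply DirectSum.linearMap_ext
    intro n
    apply LinearMap.ext
    intro z
    simp only [LinearMap.comp_apply, LinearMap.add_apply, Lop_lof, mulLeftIdx_add, map_add]
  map_smul' r q := by
    apply DirectSum.linearMap_ext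
    intro n
    apply LinearMap.ext
    intro z
    simp only [LinearMap.comp_apply, LinearMap.smul_apply, Lop_lof, mulLeftIdx_smul, map_smul,
      RingHom.id_apply]

@[simp] theorem Llin_apply (q : M) (g : G R M) : Llin R M q g = Lop R M q g := rfl

theorem Llin_comm (q q' : M) : Llin R M q * Llin R M q' = Llin R M q' * Llin R M q := by
  apply DirectSum.linearMap_ext
  intro n
  apply LinearMap.ext
  intro z
  show Lop R M q (Lop R M q' (lof R ℕ _ n z)) = Lop R M q' (Lop R M q (lof R ℕ _ n z))
  rw [Lop_lof, Lop_lof, Lop_lof, Lop_lof, mulLeftIdx_comm]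

/-- the algebra map from the tensor algebra. -/
noncomputable def ΛT : TensorAlgebra R M →ₐ[R] Module.End R (G R M) :=
  TensorAlgebra.lift R (Llin R M)

theorem ΛT_le : TensorAlgebra.symRingCon R M ≤ RingCon.ker (ΛT R M).toRingHom := by
  unfold TensorAlgebra.symRingCon
  refine RingCon.ringConGen_le.2 (fun x y h' => ?_)
  induction h' with | mul_comm x y
  rw [RingCon.ker_apply, map_mul, map_mul]
  show ΛT R M (TensorAlgebra.ι R x) * ΛT R M (TensorAlgebra.ι R y) = 
    ΛT R M (TensorAlgebra.ι R y) * ΛT R M (TensorAlgebra.ι R x)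
  rw [ΛT, TensorAlgebra.lift_ι_apply, TensorAlgebra.lift_ι_apply, Llin_comm]

/-- the action of the symmetric algebra on `G`. -/
noncomputable def Λ : SymmetricAlgebra R M →ₐ[R] Module.End R (G R M) :=
  RingCon.liftₐEquiv (TensorAlgebra.symRingCon R M) ⟨ΛT R M, ΛT_le R M⟩

set_option backward.isDefEq.respectTransparency.types false in
theorem Λ_ι (q : M) : Λ R M (SymmetricAlgebra.ι R M q) = Llin R M q := by
  show Λ R M (SymmetricAlgebra.algHom R M (TensorAlgebra.ι R q)) = _
  simp [Λ, SymmetricAlgebra.algHom, RingCon.liftₐEquiv, ΛT]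

end graded

end Groth.Agent.Lib.Helper62.SymPow
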