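import Mathlib
import Groth.Agent.Lib.Helper62.SymPow2

set_option autoImplicit false
universe u

open TensorProduct DirectSum

namespace Groth.Agent.Lib.Helper62.SymPow

section graded

variable (R : Type u) [CommRing R] (M : Type u) [AddCommGroup M] [Module R M]

/-- the unit of `G`, in degree 0. -/
noncomputable def e₀ : G R M :=
  DirectSum.lof R ℕ (Gr R M) 0 (SymmetricPower.tprod R (ι := Idx.{u} 0) (fun i : PEmpty.{u+1} => i.elim))

/-- evaluation at the unit. -/
noncomputable def ev : SymmetricAlgebra R M →ₗ[R] G R M :=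
  (LinearMap.applyₗ (e₀ R M)) ∘ₗ (Λ R M).toLinearMap

theorem ev_apply (s : SymmetricAlgebra R M) : ev R M s = Λ R M s (e₀ R M) := rfl

theorem ev_ι_mul (q : M) (s : SymmetricAlgebra R M) :
    ev R M (SymmetricAlgebra.ι R M q * s) = Lop R M q (ev R M s) := by
  rw [ev_apply, map_mul, Λ_ι, ev_apply]; rfl

theorem ev_one : ev R M 1 = e₀ R M := by
  rw [ev_apply, map_one]; rfl

theorem ev_prod_Idx : ∀ (n : ℕ) (q : Idx.{u} n → M),
    ev R M (∏ j : Idx.{u} n, SymmetricAlgebra.ι R M (q j)) =
      DirectSum.lof R ℕ (Gr R M) n (SymmetricPower.tprod R q)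
  | 0, q => by
    have : q = fun i : PEmpty.{u+1} => i.elim := by funext i; exact i.elim
    subst this
    show ev R M (∏ j : PEmpty.{u+1}, _) = _
    rw [Finset.univ_eq_empty, Finset.prod_empty, ev_one]; rfl
  | (n + 1), q => by
    show ev R M (∏ j : Option (Idx.{u} n), SymmetricAlgebra.ι R M (q j)) = _
    rw [Fintype.prod_option, ev_ι_mul, ev_prod_Idx n (fun j => q (some j)), Lop_lof,
      mulLeftIdx_tprod]
    congr 2
    funext o
    cases o <;> rfl

theorem ev_list (l : List M) : ∃ z : Gr R M l.length,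
    ev R M ((l.map (SymmetricAlgebra.ι R M)).prod) = DirectSum.lof R ℕ (Gr R M) l.length z := by
  induction l with
  | nil => exact ⟨_, by rw [List.map_nil, List.prod_nil, ev_one]; rfl⟩
  | cons a l ih =>
    obtain ⟨z, hz⟩ := ih
    refine ⟨mulLeftIdx R M a l.length z, ?_⟩
    rw [List.map_cons, List.prod_cons, ev_ι_mul, hz, Lop_lof]
    rfl

/-- the projection of the symmetric algebra on its degree `n` part. -/
noncomputable def projN (n : ℕ) : SymmetricAlgebra R M →ₗ[R] Gr R M n :=
  (DirectSum.component R ℕ (Gr R M) n) ∘ₗ ev R M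

theorem projN_prod_Idx (n : ℕ) (q : Idx.{u} n → M) :
    projN R M n (∏ j : Idx.{u} n, SymmetricAlgebra.ι R M (q j)) = SymmetricPower.tprod R q := by
  rw [projN, LinearMap.comp_apply, ev_prod_Idx, DirectSum.component.lof_self]

theorem projN_list (n : ℕ) (l : List M) (h : l.length ≠ n) :
    projN R M n ((l.map (SymmetricAlgebra.ι R M)).prod) = 0 := by
  obtain ⟨z, hz⟩ := ev_list R M l
  rw [projN, LinearMap.comp_apply, hz, DirectSum.component.of _ _ _]
  exact dif_neg h

end graded

end Groth.Agent.Lib.Helper62.SymPow
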