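import Mathlib
import Groth.Agent.Lib.Helper62.SymPow3

set_option autoImplicit false
universe u

open TensorProduct DirectSum

namespace Groth.Agent.Lib.Helper62.SymPow

section aug

variable (R : Type u) [CommRing R] (M : Type u) [AddCommGroup M] [Module R M]

/-- the augmentation ideal of the symmetric algebra -/
noncomputable def aug : Ideal (SymmetricAlgebra R M) :=
  Ideal.span (Set.range (SymmetricAlgebra.ι R M))

theorem ι_mem_aug (q : M) : SymmetricAlgebra.ι R M q ∈ aug R M :=
  Ideal.subset_span ⟨q, rfl⟩

/-- the set of products of `ι`'s of lists of length at least `j` -/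
def listProds (j : ℕ) : Set (SymmetricAlgebra R M) :=
  {s | ∃ l : List M, j ≤ l.length ∧ (l.map (SymmetricAlgebra.ι R M)).prod = s}

theorem mem_span_listProds_zero (s : SymmetricAlgebra R M) :
    s ∈ Submodule.span R (listProds R M 0) := by
  induction s using SymmetricAlgebra.induction with
  | algebraMap r =>
    rw [Algebra.algebraMap_eq_smul_one]
    exact Submodule.smul_mem _ _ (Submodule.subset_span ⟨[], Nat.zero_le _, by simp⟩)
  | ι x => exact Submodule.subset_span ⟨[x], Nat.zero_le _, by simp⟩
  | add a b ha hb => exact Submodule.add_mem _ ha hb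
  | mul a b ha hb =>
    refine Submodule.span_induction (p := fun a _ => a * b ∈ Submodule.span R (listProds R M 0))
      ?_ ?_ ?_ ?_ ha
    · rintro _ ⟨l₁, -, rfl⟩
      refine Submodule.span_induction
        (p := fun b _ => (l₁.map (SymmetricAlgebra.ι R M)).prod * b ∈
          Submodule.span R (listProds R M 0)) ?_ ?_ ?_ ?_ hb
      · rintro _ ⟨l₂, -, rfl⟩
        refine Submodule.subset_span ⟨l₁ ++ l₂, Nat.zero_le _, ?_⟩
        rw [List.map_append, List.prod_append]
      · simp
      · intro x y _ _ hx hy; rw [mul_add]; exact Submodule.add_mem _ hx hy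
      · intro r x _ hx; rw [mul_smul_comm]; exact Submodule.smul_mem _ _ hx
    · simp
    · intro x y _ _ hx hy; rw [add_mul]; exact Submodule.add_mem _ hx hy
    · intro r x _ hx; rw [smul_mul_assoc]; exact Submodule.smul_mem _ _ hx

theorem span_listProds_zero : Submodule.span R (listProds R M 0) = ⊤ :=
  eq_top_iff.mpr fun s _ => mem_span_listProds_zero R M s

theorem listProds_mem_aug_pow (j : ℕ) : ∀ s ∈ listProds R M j, s ∈ aug R M ^ j := by
  rintro _ ⟨l, hl, rfl⟩
  refine Ideal.pow_le_pow_right hl ?_
  have : ∀ l : List M, (l.map (SymmetricAlgebra.ι R M)).prod ∈ aug R M ^ l.length := by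
    intro l
    induction l with
    | nil => simp
    | cons a l ih =>
      rw [List.map_cons, List.prod_cons, List.length_cons, pow_succ']
      exact Ideal.mul_mem_mul (ι_mem_aug R M a) ih
  exact this l

theorem aug_pow_le (j : ℕ) :
    (aug R M ^ j).restrictScalars R ≤ Submodule.span R (listProds R M j) := by
  induction j with
  | zero => rw [span_listProds_zero]; exact le_top
  | succ j ih =>
    intro s hs
    rw [Submodule.restrictScalars_mem, pow_succ'] at hs
    refine Submodule.mul_induction_on hs ?_ ?_
    · intro a ha b hb
      have hb' := ih hb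
      -- a ∈ aug = span (range ι)
      refine Submodule.span_induction (p := fun a _ => a * b ∈ Submodule.span R (listProds R M (j+1)))
        ?_ ?_ ?_ ?_ ha
      · rintro _ ⟨q, rfl⟩
        refine Submodule.span_induction
          (p := fun b _ => SymmetricAlgebra.ι R M q * b ∈ Submodule.span R (listProds R M (j+1)))
          ?_ ?_ ?_ ?_ hb'
        · rintro _ ⟨l, hl, rfl⟩
          refine Submodule.subset_span ⟨q :: l, by simpa using hl, by simp⟩
        · simp
        · intro x y _ _ hx hy; rw [mul_add]; exact Submodule.add_mem _ hx hy
        · intro r x _ hx; rw [mul_smul_comm]; exact Submodule.smul_mem _ _ hx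
      · simp
      · intro x y _ _ hx hy; rw [add_mul]; exact Submodule.add_mem _ hx hy
      · intro c x _ hx
        -- c : S, need (c • x) * b in span: c * x * b
        rw [smul_eq_mul, mul_assoc]
        have hc : c ∈ Submodule.span R (listProds R M 0) := by
          rw [span_listProds_zero]; trivial
        -- x * b ∈ span (listProds (j+1)), multiply by c
        refine Submodule.span_induction
          (p := fun c _ => c * (x * b) ∈ Submodule.span R (listProds R M (j+1))) ?_ ?_ ?_ ?_ hc
        · rintro _ ⟨l₁, -, rfl⟩
          refine Submodule.span_induction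
            (p := fun y _ => (l₁.map (SymmetricAlgebra.ι R M)).prod * y ∈
              Submodule.span R (listProds R M (j+1))) ?_ ?_ ?_ ?_ hx
          · rintro _ ⟨l₂, hl₂, rfl⟩
            refine Submodule.subset_span ⟨l₁ ++ l₂, ?_, ?_⟩
            · rw [List.length_append]; omega
            · rw [List.map_append, List.prod_append]
          · simp
          · intro x y _ _ hx hy; rw [mul_add]; exact Submodule.add_mem _ hx hy
          · intro r x _ hx; rw [mul_smul_comm]; exact Submodule.smul_mem _ _ hx
        · simp
        · intro x y _ _ hx hy; rw [add_mul]; exact Submodule.add_mem _ hx hy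
        · intro r x _ hx; rw [smul_mul_assoc]; exact Submodule.smul_mem _ _ hx
    · intro x y hx hy; exact Submodule.add_mem _ hx hy

theorem projN_aug_pow (n : ℕ) (s : SymmetricAlgebra R M) (hs : s ∈ aug R M ^ (n + 1)) :
    projN R M n s = 0 := by
  have h := aug_pow_le R M (n + 1) hs
  refine Submodule.span_induction (p := fun s _ => projN R M n s = 0) ?_ ?_ ?_ ?_ h
  · rintro _ ⟨l, hl, rfl⟩
    exact projN_list R M n l (by omega)
  · simp
  · intro x y _ _ hx hy; rw [map_add, hx, hy, add_zero]
  · intro r x _ hx; rw [map_smul, hx, smul_zero]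

/-- every element is congruent to a scalar modulo the augmentation ideal -/
theorem sub_algebraMap_mem_aug (s : SymmetricAlgebra R M) :
    s - algebraMap R _ (SymmetricAlgebra.algebraMapInv s) ∈ aug R M := by
  induction s using SymmetricAlgebra.induction with
  | algebraMap r => simp [SymmetricAlgebra.algebraMapInv]
  | ι x =>
    rw [SymmetricAlgebra.algebraMapInv_ι, map_zero, sub_zero]
    exact ι_mem_aug R M x
  | add a b ha hb =>
    rw [map_add, map_add]
    have : a + b - (algebraMap R _ (SymmetricAlgebra.algebraMapInv a) +
        algebraMap R _ (SymmetricAlgebra.algebraMapInv b)) =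
        (a - algebraMap R _ (SymmetricAlgebra.algebraMapInv a)) +
        (b - algebraMap R _ (SymmetricAlgebra.algebraMapInv b)) := by ring
    rw [this]
    exact Ideal.add_mem _ ha hb
  | mul a b ha hb =>
    rw [map_mul, map_mul]
    have : a * b - (algebraMap R _ (SymmetricAlgebra.algebraMapInv a) *
        algebraMap R _ (SymmetricAlgebra.algebraMapInv b)) =
        (a - algebraMap R _ (SymmetricAlgebra.algebraMapInv a)) * b +
        algebraMap R _ (SymmetricAlgebra.algebraMapInv a) *
          (b - algebraMap R _ (SymmetricAlgebra.algebraMapInv b)) := by ring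
    rw [this]
    exact Ideal.add_mem _ (Ideal.mul_mem_right _ _ ha) (Ideal.mul_mem_left _ _ hb)

end aug

end Groth.Agent.Lib.Helper62.SymPow
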