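import Mathlib
import Groth.Agent.Lib.Helper62.SymPow4

set_option autoImplicit false
universe u

open TensorProduct DirectSum

namespace Groth.Agent.Lib.Helper62.SymPow

section reindex

variable (R : Type u) [CommRing R] (M : Type u) [AddCommGroup M] [Module R M]

/-- reindexing along an equivalence -/
noncomputable def reindex {ι κ : Type u} (e : ι ≃ κ) :
    SymmetricPower R ι M →ₗ[R] SymmetricPower R κ M :=
  lift ((SymmetricPower.tprod R (ι := κ) (M := M)).domDomCongr e.symm) (by
    intro τ v
    show SymmetricPower.tprod R (fun i : κ => v (τ (e.symm i))) =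
      SymmetricPower.tprod R (fun i : κ => v (e.symm i))
    rw [← SymmetricPower.tprod_equiv ((e.symm.trans τ).trans e) (fun i : κ => v (e.symm i))]
    congr 1
    funext i
    simp)

@[simp] theorem reindex_tprod {ι κ : Type u} (e : ι ≃ κ) (v : ι → M) :
    reindex R M e (SymmetricPower.tprod R v) = SymmetricPower.tprod R (fun i : κ => v (e.symm i)) := by
  rw [reindex, lift_tprod]; rfl

/-- the product map `Sym^ι M → Sym M` -/
noncomputable def prodMap (ι : Type u) [Fintype ι] :
    SymmetricPower R ι M →ₗ[R] SymmetricAlgebra R M :=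
  lift ((MultilinearMap.mkPiAlgebra R ι (SymmetricAlgebra R M)).compLinearMap
      (fun _ => SymmetricAlgebra.ι R M)) (by
    intro τ v
    simp only [MultilinearMap.compLinearMap_apply, MultilinearMap.mkPiAlgebra_apply]
    exact Equiv.prod_comp τ (fun i => SymmetricAlgebra.ι R M (v i)))

@[simp] theorem prodMap_tprod (ι : Type u) [Fintype ι] (v : ι → M) :
    prodMap R M ι (SymmetricPower.tprod R v) = ∏ i, SymmetricAlgebra.ι R M (v i) := by
  rw [prodMap, lift_tprod]
  simp only [MultilinearMap.compLinearMap_apply, MultilinearMap.mkPiAlgebra_apply]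

/-- a chosen equivalence `Idx (card ι) ≃ ι` -/
noncomputable def idxEquiv (ι : Type u) [Fintype ι] : Idx.{u} (Fintype.card ι) ≃ ι :=
  Fintype.equivOfCardEq (card_Idx _)

/-- the projection of the symmetric algebra to `Sym^ι M`. -/
noncomputable def projι (ι : Type u) [Fintype ι] :
    SymmetricAlgebra R M →ₗ[R] SymmetricPower R ι M :=
  (reindex R M (idxEquiv ι)) ∘ₗ projN R M (Fintype.card ι)

theorem projι_prod (ι : Type u) [Fintype ι] (p : ι → M) :
    projι R M ι (∏ i, SymmetricAlgebra.ι R M (p i)) = SymmetricPower.tprod R p := by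
  rw [projι, LinearMap.comp_apply,
    ← Equiv.prod_comp (idxEquiv ι) (fun i => SymmetricAlgebra.ι R M (p i)),
    projN_prod_Idx, reindex_tprod]
  congr 1
  funext i
  simp

theorem projι_aug_pow (ι : Type u) [Fintype ι] (s : SymmetricAlgebra R M)
    (hs : s ∈ aug R M ^ (Fintype.card ι + 1)) : projι R M ι s = 0 := by
  rw [projι, LinearMap.comp_apply, projN_aug_pow R M _ s hs, map_zero]

theorem projι_prodMap (ι : Type u) [Fintype ι] (z : SymmetricPower R ι M) :
    projι R M ι (prodMap R M ι z) = z := by
  have : (projι R M ι) ∘ₗ (prodMap R M ι) = LinearMap.id := by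
    apply hom_ext
    intro v
    rw [LinearMap.comp_apply, prodMap_tprod, projι_prod, LinearMap.id_apply]
  exact congrArg (fun f => f z) this

end reindex

end Groth.Agent.Lib.Helper62.SymPow
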