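import Mathlib
import Groth.Agent.Lib.Helper62.SymPow5

set_option autoImplicit false
universe u

open TensorProduct DirectSum

namespace Groth.Agent.Lib.Helper62.SymPow

section cmp

variable {B : Type u} [CommRing B] (𝔍 : Ideal B) (P : Type u) [AddCommGroup P] [Module B P]
  [Module (B ⧸ 𝔍) P] [IsScalarTower B (B ⧸ 𝔍) P]

theorem smul_eq_zero_of_mem (j : B) (hj : j ∈ 𝔍) (p : P) : j • p = 0 := by
  rw [← algebraMap_smul (B ⧸ 𝔍) j p, Ideal.Quotient.algebraMap_eq,
    Ideal.Quotient.eq_zero_iff_mem.mpr hj, zero_smul]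

theorem sym_isTorsionBySet (ι : Type u) [Nonempty ι] :
    Module.IsTorsionBySet B (SymmetricPower B ι P) (𝔍 : Set B) := by
  classical
  intro z ⟨j, hj⟩
  show j • z = 0
  have hz : z ∈ Submodule.span B (Set.range (SymmetricPower.tprod B (ι := ι) (M := P))) := by
    rw [SymmetricPower.span_tprod_eq_top]; trivial
  induction hz using Submodule.span_induction with
  | mem x hx =>
    obtain ⟨v, rfl⟩ := hx
    rw [smul_tprod j v (Classical.arbitrary ι), smul_eq_zero_of_mem 𝔍 P j hj]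
    exact MultilinearMap.map_update_zero _ _ _
  | zero => simp
  | add x y _ _ hx hy => rw [smul_add, hx, hy, add_zero]
  | smul r x _ hx => rw [smul_comm, hx, smul_zero]

/-- the `B ⧸ 𝔍`-module structure on `Sym_B^ι P`, `ι` nonempty -/
@[reducible] noncomputable def symModule (ι : Type u) [Nonempty ι] :
    Module (B ⧸ 𝔍) (SymmetricPower B ι P) := (sym_isTorsionBySet 𝔍 P ι).module

attribute [local instance] symModule

theorem mk_smul_sym (ι : Type u) [Nonempty ι] (b : B) (z : SymmetricPower B ι P) :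
    (Ideal.Quotient.mk 𝔍 b) • z = b • z := rfl

/-- `tprod` over `B` as a `B ⧸ 𝔍`-multilinear map. -/
noncomputable def cmpMulti (ι : Type u) [Nonempty ι] :
    MultilinearMap (B ⧸ 𝔍) (fun _ : ι => P) (SymmetricPower B ι P) where
  toFun := fun v => SymmetricPower.tprod B v
  map_update_add' := by
    intro _ p i x y
    exact (SymmetricPower.tprod B).map_update_add _ _ _ _
  map_update_smul' := by
    intro _ p i r x
    obtain ⟨b, rfl⟩ := Ideal.Quotient.mk_surjective r
    have h1 : (Ideal.Quotient.mk 𝔍 b) • x = b • x := by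
      rw [← Ideal.Quotient.algebraMap_eq, algebraMap_smul]
    rw [h1, (SymmetricPower.tprod B).map_update_smul, mk_smul_sym]

theorem cmpMulti_apply (ι : Type u) [Nonempty ι] (v : ι → P) :
    cmpMulti 𝔍 P ι v = SymmetricPower.tprod B v := rfl

theorem cmpMulti_symm (ι : Type u) [Nonempty ι] (e : Equiv.Perm ι) (v : ι → P) :
    cmpMulti 𝔍 P ι (fun i => v (e i)) = cmpMulti 𝔍 P ι v := by
  rw [cmpMulti_apply, cmpMulti_apply]
  exact SymmetricPower.tprod_equiv e v

/-- the comparison map `Sym_{B/𝔍}^ι P → Sym_B^ι P` for nonempty `ι`, linear version. -/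
noncomputable def cmpLin (ι : Type u) [Nonempty ι] :
    SymmetricPower (B ⧸ 𝔍) ι P →ₗ[B ⧸ 𝔍] SymmetricPower B ι P :=
  lift (cmpMulti 𝔍 P ι) (cmpMulti_symm 𝔍 P ι)

/-- the comparison map `Sym_{B/𝔍}^ι P → Sym_B^ι P` for nonempty `ι`. -/
noncomputable def cmp (ι : Type u) [Nonempty ι] :
    SymmetricPower (B ⧸ 𝔍) ι P →+ SymmetricPower B ι P :=
  (cmpLin 𝔍 P ι).toAddMonoidHom

theorem cmp_tprod (ι : Type u) [Nonempty ι] (v : ι → P) :
    cmp 𝔍 P ι (SymmetricPower.tprod (B ⧸ 𝔍) v) = SymmetricPower.tprod B v := by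
  have h : ∀ z, cmp 𝔍 P ι z = cmpLin 𝔍 P ι z := fun _ => rfl
  rw [h, cmpLin, lift_tprod, cmpMulti_apply]

theorem cmp_smul (ι : Type u) [Nonempty ι] (b : B) (z : SymmetricPower (B ⧸ 𝔍) ι P) :
    cmp 𝔍 P ι (Ideal.Quotient.mk 𝔍 b • z) = b • cmp 𝔍 P ι z := by
  have h : ∀ z, cmp 𝔍 P ι z = cmpLin 𝔍 P ι z := fun _ => rfl
  rw [h, h, map_smul, mk_smul_sym]

end cmp

end Groth.Agent.Lib.Helper62.SymPow
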