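import Mathlib
import Groth.Prelude.Def_PP16
import Groth.Agent.Lib.Helper62.SymPow6

set_option autoImplicit false
universe u

open TensorProduct

namespace Groth.Agent.Lib.Helper62.SymGr

open Groth.Agent.Lib.Helper62.SymPow

section can

variable {B : Type u} [CommRing B] (𝔍 : Ideal B)

/-- products of elements of `𝔍` congruent modulo `𝔍²` are congruent modulo `𝔍^(n+1)`. -/
theorem prod_sub_prod_mem {ι : Type u} (s : Finset ι) (x y : ι → B) (hx : ∀ i, x i ∈ 𝔍)
    (hy : ∀ i, y i ∈ 𝔍) (hxy : ∀ i, x i - y i ∈ 𝔍 ^ 2) :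
    ∏ i ∈ s, x i - ∏ i ∈ s, y i ∈ 𝔍 ^ (s.card + 1) := by
  classical
  induction s using Finset.induction_on with
  | empty => simp
  | insert a s ha ih =>
    rw [Finset.prod_insert ha, Finset.prod_insert ha, Finset.card_insert_of_notMem ha]
    have h1 : x a * ∏ i ∈ s, x i - y a * ∏ i ∈ s, y i =
        (x a - y a) * ∏ i ∈ s, x i + y a * (∏ i ∈ s, x i - ∏ i ∈ s, y i) := by ring
    rw [h1]
    refine Ideal.add_mem _ ?_ ?_
    · have h2 : (x a - y a) * ∏ i ∈ s, x i ∈ 𝔍 ^ 2 * 𝔍 ^ s.card :=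
        Ideal.mul_mem_mul (hxy a) (PP16.prod_mem_pow 𝔍 s x (fun i _ => hx i))
      rw [← pow_add] at h2
      convert h2 using 2
      omega
    · have h2 : y a * (∏ i ∈ s, x i - ∏ i ∈ s, y i) ∈ 𝔍 * 𝔍 ^ (s.card + 1) :=
        Ideal.mul_mem_mul (hy a) ih
      rw [← pow_succ'] at h2
      exact h2

variable (ι : Type u) [Fintype ι]

/-- `zetaJ` as a multilinear map on `𝔍`. -/
noncomputable def zetaMulti : MultilinearMap B (fun _ : ι => ↥𝔍) (PP16.grJ B 𝔍 (Fintype.card ι)) :=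
  (Submodule.mkQ _).compMultilinearMap
    (((MultilinearMap.mkPiAlgebra B ι B).compLinearMap (fun _ => Submodule.subtype 𝔍)).codRestrict
      (𝔍 ^ Fintype.card ι) (by
        intro v
        simp only [MultilinearMap.compLinearMap_apply, MultilinearMap.mkPiAlgebra_apply]
        simpa using PP16.prod_mem_pow 𝔍 Finset.univ (fun i => (v i : B)) (fun i _ => (v i).2)))

theorem zetaMulti_apply (x : ι → ↥𝔍) : zetaMulti 𝔍 ι x = PP16.zetaJ B 𝔍 x := rfl

theorem zetaJ_congr (x y : ι → ↥𝔍) (h : ∀ i, 𝔍.toCotangent (x i) = 𝔍.toCotangent (y i)) :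
    PP16.zetaJ B 𝔍 x = PP16.zetaJ B 𝔍 y := by
  unfold PP16.zetaJ
  rw [Submodule.Quotient.eq]
  show (_ : B) ∈ 𝔍 ^ (Fintype.card ι + 1)
  have := prod_sub_prod_mem 𝔍 Finset.univ (fun i => (x i : B)) (fun i => (y i : B))
    (fun i => (x i).2) (fun i => (y i).2) (fun i => (Ideal.toCotangent_eq 𝔍).mp (h i))
  simpa using this

end can

end Groth.Agent.Lib.Helper62.SymGr
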