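import Mathlib
import Groth.Prelude.Def_PP16
import Groth.Agent.Lib.Helper62.SymGr0

set_option autoImplicit false
universe u

open TensorProduct Pointwise

namespace Groth.Agent.Lib.Helper62.SymGr

open Groth.Agent.Lib.Helper62.SymPow

section can

variable {B : Type u} [CommRing B] (𝔍 : Ideal B) (ι : Type u) [Fintype ι]

/-- a set-theoretic section of `toCotangent`. -/
noncomputable def sec : 𝔍.Cotangent → ↥𝔍 := Function.surjInv (Ideal.toCotangent_surjective 𝔍)

theorem toCotangent_sec (p : 𝔍.Cotangent) : 𝔍.toCotangent (sec 𝔍 p) = p :=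
  Function.surjInv_eq _ p

theorem zetaMulti_congr (x y : ι → ↥𝔍) (h : ∀ i, 𝔍.toCotangent (x i) = 𝔍.toCotangent (y i)) :
    zetaMulti 𝔍 ι x = zetaMulti 𝔍 ι y := by
  rw [zetaMulti_apply, zetaMulti_apply]; exact zetaJ_congr 𝔍 ι x y h

theorem zetaMulti_update_congr [DecidableEq ι] (x : ι → ↥𝔍) (i : ι) (z z' : ↥𝔍)
    (h : 𝔍.toCotangent z = 𝔍.toCotangent z') :
    zetaMulti 𝔍 ι (Function.update x i z) = zetaMulti 𝔍 ι (Function.update x i z') := by
  apply zetaMulti_congr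
  intro j
  by_cases hj : j = i
  · subst hj; simp [h]
  · simp [hj]

/-- the canonical multilinear map on the cotangent space. -/
noncomputable def cotMulti : MultilinearMap B (fun _ : ι => 𝔍.Cotangent)
    (PP16.grJ B 𝔍 (Fintype.card ι)) where
  toFun p := zetaMulti 𝔍 ι (fun i => sec 𝔍 (p i))
  map_update_add' := by
    intro _ p i a a'
    have h : ∀ z, (fun j => sec 𝔍 (Function.update p i z j)) =
        Function.update (fun j => sec 𝔍 (p j)) i (sec 𝔍 z) := by
      intro z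
      funext j
      by_cases hj : j = i
      · subst hj; simp
      · simp [hj]
    rw [h, h, h, zetaMulti_update_congr 𝔍 ι _ i (sec 𝔍 (a + a')) (sec 𝔍 a + sec 𝔍 a')
      (by rw [map_add, toCotangent_sec, toCotangent_sec, toCotangent_sec])]
    exact (zetaMulti 𝔍 ι).map_update_add _ _ _ _
  map_update_smul' := by
    intro _ p i r a
    have h : ∀ z, (fun j => sec 𝔍 (Function.update p i z j)) =
        Function.update (fun j => sec 𝔍 (p j)) i (sec 𝔍 z) := by
      intro z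
      funext j
      by_cases hj : j = i
      · subst hj; simp
      · simp [hj]
    rw [h, h, zetaMulti_update_congr 𝔍 ι _ i (sec 𝔍 (r • a)) (r • sec 𝔍 a)
      (by rw [map_smul, toCotangent_sec, toCotangent_sec])]
    exact (zetaMulti 𝔍 ι).map_update_smul _ _ _ _

theorem cotMulti_toCotangent (x : ι → ↥𝔍) :
    cotMulti 𝔍 ι (fun i => 𝔍.toCotangent (x i)) = PP16.zetaJ B 𝔍 x := by
  show zetaMulti 𝔍 ι _ = _
  rw [← zetaMulti_apply]
  apply zetaMulti_congr
  intro i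
  rw [toCotangent_sec]

theorem cotMulti_symm (e : Equiv.Perm ι) (p : ι → 𝔍.Cotangent) :
    cotMulti 𝔍 ι (fun i => p (e i)) = cotMulti 𝔍 ι p := by
  show zetaMulti 𝔍 ι _ = zetaMulti 𝔍 ι _
  rw [zetaMulti_apply, zetaMulti_apply]
  unfold PP16.zetaJ
  congr 1
  apply Subtype.ext
  exact Equiv.prod_comp e (fun i => ((sec 𝔍 (p i) : ↥𝔍) : B))

/-- the canonical map `Sym^ι(𝔍/𝔍²) → 𝔍^n/𝔍^(n+1)`. -/
noncomputable def canMap : SymmetricPower B ι 𝔍.Cotangent →ₗ[B] PP16.grJ B 𝔍 (Fintype.card ι) :=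
  lift (cotMulti 𝔍 ι) (cotMulti_symm 𝔍 ι)

theorem canMap_tprod (x : ι → ↥𝔍) :
    canMap 𝔍 ι (SymmetricPower.tprod B (fun i => 𝔍.toCotangent (x i))) = PP16.zetaJ B 𝔍 x := by
  rw [canMap, lift_tprod, cotMulti_toCotangent]

/-- the classes `zetaJ x` span the graded piece. -/
theorem span_zetaJ : Submodule.span B (Set.range (PP16.zetaJ B 𝔍 (ι := ι))) = ⊤ := by
  rw [eq_top_iff]
  rintro y -
  obtain ⟨⟨y, hy⟩, rfl⟩ := Submodule.Quotient.mk_surjective _ y
  have hpow : (𝔍 ^ Fintype.card ι : Ideal B) =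
      Submodule.span B ((𝔍 : Set B) ^ Fintype.card ι) := Submodule.pow_eq_span_pow_set 𝔍 _
  have hy' : y ∈ Submodule.span B ((𝔍 : Set B) ^ Fintype.card ι) := hpow ▸ hy
  have key : ∀ (y : B) (_ : y ∈ Submodule.span B ((𝔍 : Set B) ^ Fintype.card ι))
      (hy : y ∈ 𝔍 ^ Fintype.card ι),
      (Submodule.Quotient.mk ⟨y, hy⟩ : PP16.grJ B 𝔍 (Fintype.card ι)) ∈
        Submodule.span B (Set.range (PP16.zetaJ B 𝔍 (ι := ι))) := by
    intro y hy'
    induction hy' using Submodule.span_induction with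
    | mem y hmem =>
      intro hy
      obtain ⟨f, hf⟩ := Set.mem_pow.mp hmem
      apply Submodule.subset_span
      refine ⟨fun j => f (Fintype.equivFin ι j), ?_⟩
      unfold PP16.zetaJ
      congr 1
      apply Subtype.ext
      show ∏ j, ((f (Fintype.equivFin ι j) : ↥(𝔍 : Set B)) : B) = y
      rw [Equiv.prod_comp (Fintype.equivFin ι) (fun i => ((f i : ↥(𝔍 : Set B)) : B)), ← hf,
        List.prod_ofFn]
    | zero =>
      intro hy
      have : (⟨0, hy⟩ : ↥(𝔍 ^ Fintype.card ι)) = 0 := rfl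
      rw [this, Submodule.Quotient.mk_zero]
      exact Submodule.zero_mem _
    | add a b ha hb iha ihb =>
      intro hy
      have ha' : a ∈ 𝔍 ^ Fintype.card ι := hpow ▸ ha
      have hb' : b ∈ 𝔍 ^ Fintype.card ι := hpow ▸ hb
      have : (⟨a + b, hy⟩ : ↥(𝔍 ^ Fintype.card ι)) = ⟨a, ha'⟩ + ⟨b, hb'⟩ := rfl
      rw [this, Submodule.Quotient.mk_add]
      exact Submodule.add_mem _ (iha ha') (ihb hb')
    | smul r a ha iha =>
      intro hy
      have ha' : a ∈ 𝔍 ^ Fintype.card ι := hpow ▸ ha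
      have : (⟨r • a, hy⟩ : ↥(𝔍 ^ Fintype.card ι)) = r • ⟨a, ha'⟩ := rfl
      rw [this, Submodule.Quotient.mk_smul]
      exact Submodule.smul_mem _ _ (iha ha')
  exact key y hy' hy

theorem surjective_of_tprod (φ : SymmetricPower B ι 𝔍.Cotangent →ₗ[B] PP16.grJ B 𝔍 (Fintype.card ι))
    (hφ : ∀ x : ι → ↥𝔍, φ (SymmetricPower.tprod B (fun i => 𝔍.toCotangent (x i))) = PP16.zetaJ B 𝔍 x) :
    Function.Surjective φ := by
  rw [← LinearMap.range_eq_top, eq_top_iff, ← span_zetaJ 𝔍 ι, Submodule.span_le]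
  rintro _ ⟨x, rfl⟩
  exact ⟨_, hφ x⟩

theorem eq_canMap (φ : SymmetricPower B ι 𝔍.Cotangent →ₗ[B] PP16.grJ B 𝔍 (Fintype.card ι))
    (hφ : ∀ x : ι → ↥𝔍, φ (SymmetricPower.tprod B (fun i => 𝔍.toCotangent (x i))) = PP16.zetaJ B 𝔍 x) :
    φ = canMap 𝔍 ι := by
  apply hom_ext
  intro v
  have hv : v = fun i => 𝔍.toCotangent (sec 𝔍 (v i)) := by
    funext i; rw [toCotangent_sec]
  rw [hv, hφ, canMap_tprod]

end can

end Groth.Agent.Lib.Helper62.SymGr
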