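import Mathlib
import Groth.Prelude.Def_PP16
import Groth.Agent.Lib.Helper62.QReg3
import Groth.Agent.Lib.Helper62.SymGr1

set_option autoImplicit false
universe u

namespace Groth.Agent.Lib.Helper62.QReg

open Groth.Agent.Lib.Helper47 Groth.Agent.Lib.Helper62.SymGr

section inj

variable {R : Type u} [CommRing R] (J : Ideal R) {ι : Type u} [Fintype ι]

/-- the monomial tensors -/
noncomputable def T {r : ℕ} (a : Fin r → ↥J) (s : ι → Fin r) : SymmetricPower R ι J.Cotangent :=
  SymmetricPower.tprod R (fun k => J.toCotangent (a (s k)))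

theorem T_eq_of_typ_eq {r : ℕ} (a : Fin r → ↥J) (s s' : ι → Fin r) (h : typ s = typ s') :
    T J a s = T J a s' :=
  tprod_comp_eq_of_typ_eq (fun i => J.toCotangent (a i)) s s' h

omit [Fintype ι] in
theorem smul_eq_zero_of_mem [Nonempty ι] {x : R} (hx : x ∈ J)
    (t : SymmetricPower R ι J.Cotangent) : x • t = 0 :=
  Groth.Agent.Lib.Helper81.SymPow.smul_eq_zero_of_mem J hx t

theorem exists_pow_smul_eq_sum [DecidableEq ι] {g : R} {r : ℕ} {a : Fin r → R} (h : Data J g r a)
    (t : SymmetricPower R ι J.Cotangent) :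
    ∃ (N : ℕ) (c : (ι → Fin r) → R),
      g ^ N • t = ∑ s, c s • T J (fun i => ⟨a i, h.mem i⟩) s := by
  classical
  have ht : t ∈ Submodule.span R (Set.range (SymmetricPower.tprod R (ι := ι)
      (M := J.Cotangent))) := by
    rw [SymmetricPower.span_tprod_eq_top]; trivial
  induction ht using Submodule.span_induction with
  | mem y hy =>
    obtain ⟨p, rfl⟩ := hy
    have hp : ∀ k, ∃ (N : ℕ) (c : Fin r → R),
        g ^ N • p k = ∑ i, c i • J.toCotangent (⟨a i, h.mem i⟩ : ↥J) := by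
      intro k
      obtain ⟨y, hy⟩ := Ideal.toCotangent_surjective J (p k)
      obtain ⟨N, c, hc⟩ := h.span y y.2
      refine ⟨N, c, ?_⟩
      rw [← hy, ← map_smul]
      simp_rw [← map_smul]
      rw [← map_sum]
      congr 1
      apply Subtype.ext
      rw [Submodule.coe_smul, smul_eq_mul, hc, Submodule.coe_sum]
      rfl
    choose N c hc using hp
    refine ⟨∑ k, N k, fun s => ∏ k, c k (s k), ?_⟩
    rw [← Finset.prod_pow_eq_pow_sum, ← MultilinearMap.map_smul_univ]
    simp_rw [hc]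
    rw [MultilinearMap.map_sum]
    refine Finset.sum_congr rfl (fun s _ => ?_)
    rw [MultilinearMap.map_smul_univ]
    rfl
  | zero => exact ⟨0, 0, by simp⟩
  | add t₁ t₂ _ _ h₁ h₂ =>
    obtain ⟨N₁, c₁, e₁⟩ := h₁
    obtain ⟨N₂, c₂, e₂⟩ := h₂
    refine ⟨N₁ + N₂, fun s => g ^ N₂ * c₁ s + g ^ N₁ * c₂ s, ?_⟩
    rw [smul_add]
    nth_rewrite 1 [pow_add, mul_comm]
    rw [pow_add, mul_smul, mul_smul, e₁, e₂, Finset.smul_sum, Finset.smul_sum,
      ← Finset.sum_add_distrib]
    refine Finset.sum_congr rfl (fun s _ => ?_)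
    rw [add_smul, mul_smul, mul_smul]
  | smul x t _ h₁ =>
    obtain ⟨N₁, c₁, e₁⟩ := h₁
    refine ⟨N₁, fun s => x * c₁ s, ?_⟩
    rw [smul_comm, e₁, Finset.smul_sum]
    refine Finset.sum_congr rfl (fun s _ => ?_)
    rw [mul_smul]

end inj

end Groth.Agent.Lib.Helper62.QReg
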