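import Mathlib
import Groth.Prelude.Def_PP16
import Groth.Agent.Lib.Helper62.QReg4

set_option autoImplicit false
universe u

namespace Groth.Agent.Lib.Helper62.QReg

open Groth.Agent.Lib.Helper47 Groth.Agent.Lib.Helper62.SymGr

section inj

variable {R : Type u} [CommRing R] (J : Ideal R) {ι : Type u} [Fintype ι]

theorem mon_mem_pow' {r : ℕ} (a : Fin r → R) (ha : ∀ i, a i ∈ J) {n : ℕ} (d : expos r n) :
    mon a d ∈ J ^ n := by
  have h1 := mon_mem_pow a n d
  have h2 : Ideal.span (Set.range a) ≤ J := by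
    rw [Ideal.span_le]; rintro _ ⟨i, rfl⟩; exact ha i
  exact Ideal.pow_right_mono h2 n h1

theorem canMap_T {r : ℕ} (a : Fin r → ↥J) (s : ι → Fin r) :
    canMap J ι (T J a s) = Submodule.Quotient.mk
      ⟨mon (fun i => (a i : R)) (typ s), mon_mem_pow' J _ (fun i => (a i).2) ⟨typ s, typ_mem_expos s⟩⟩ := by
  unfold T
  rw [canMap_tprod (x := fun k => a (s k))]
  unfold PP16.zetaJ
  congr 1
  apply Subtype.ext
  exact prod_comp_eq_mon (fun i => (a i : R)) s

theorem exists_pow_smul_eq_zero [Nonempty ι] {g : R} {r : ℕ} {a : Fin r → R} (h : Data J g r a)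
    (t : SymmetricPower R ι J.Cotangent) (ht : canMap J ι t = 0) : ∃ N : ℕ, g ^ N • t = 0 := by
  classical
  obtain ⟨N, c, hc⟩ := exists_pow_smul_eq_sum J h t
  set a' : Fin r → ↥J := fun i => ⟨a i, h.mem i⟩ with ha'
  set n := Fintype.card ι with hn
  -- chosen representatives
  have hex : ∀ d : expos r n, ∃ s : ι → Fin r, typ s = d := fun d => exists_typ_eq d.2
  choose sd hsd using hex
  let c' : expos r n → R := fun d => ∑ s ∈ Finset.univ.filter (fun s : ι → Fin r => typ s = d), c s
  have hgroup : ∑ s, c s • T J a' s = ∑ d : expos r n, c' d • T J a' (sd d) := by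
    rw [← Finset.sum_fiberwise_of_maps_to (s := Finset.univ) (t := expos r n) (g := typ)
      (fun s _ => typ_mem_expos s) (fun s => c s • T J a' s),
      ← Finset.sum_coe_sort (expos r n)]
    refine Finset.sum_congr rfl (fun d _ => ?_)
    rw [Finset.sum_smul]
    refine Finset.sum_congr rfl (fun s hs => ?_)
    rw [Finset.mem_filter] at hs
    rw [T_eq_of_typ_eq J a' s (sd d) (hs.2.trans (hsd d).symm)]
  -- apply `canMap`
  have h0 : canMap J ι (∑ d : expos r n, c' d • T J a' (sd d)) = 0 := by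
    rw [← hgroup, ← hc, map_smul, ht, smul_zero]
  have hmem : monComb a n c' ∈ J ^ (n + 1) := by
    rw [map_sum] at h0
    have h1 : ∀ d : expos r n, canMap J ι (c' d • T J a' (sd d)) =
        (Submodule.comap (J ^ n).subtype (J ^ (n + 1))).mkQ
          (c' d • (⟨mon a d, mon_mem_pow' J a h.mem d⟩ : ↥(J ^ n))) := by
      intro d
      rw [map_smul, canMap_T, map_smul, Submodule.mkQ_apply]
      congr 2
      apply Subtype.ext
      show mon (fun i => ((a' i : ↥J) : R)) (typ (sd d)) = mon a d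
      rw [hsd d]
    simp_rw [h1] at h0
    rw [← map_sum, Submodule.mkQ_apply, Submodule.Quotient.mk_eq_zero, Submodule.mem_comap] at h0
    rw [monComb_apply]
    convert h0 using 1
    rw [map_sum]
    rfl
  have hM := h.indep n c' ⟨0, by rw [pow_zero, one_mul]; exact hmem⟩
  choose M hM using hM
  refine ⟨∑ d, M d + N, ?_⟩
  rw [pow_add, mul_smul, hc, hgroup, Finset.smul_sum]
  refine Finset.sum_eq_zero (fun d _ => ?_)
  have hle : M d ≤ ∑ d, M d := Finset.single_le_sum (fun _ _ => Nat.zero_le _) (Finset.mem_univ d)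
  obtain ⟨e, he⟩ := Nat.exists_eq_add_of_le hle
  rw [smul_smul, he, pow_add, mul_comm (g ^ M d), mul_assoc]
  exact smul_eq_zero_of_mem J (Ideal.mul_mem_left _ _ (hM d)) _

theorem canMap_injective_of_isLocallyQuasiRegular [Nonempty ι]
    (h : PP16.IsLocallyQuasiRegular R J) : Function.Injective (canMap J ι) := by
  rw [injective_iff_map_eq_zero]
  intro t ht
  by_contra hne
  let I : Ideal R := LinearMap.ker (LinearMap.toSpanSingleton R _ t)
  have hI : ∀ x, x ∈ I ↔ x • t = 0 := fun x => by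
    rw [LinearMap.mem_ker, LinearMap.toSpanSingleton_apply]
  have hItop : I ≠ ⊤ := by
    intro e
    have : (1 : R) ∈ I := by rw [e]; trivial
    rw [hI, one_smul] at this
    exact hne this
  obtain ⟨𝔪, hmax, hle⟩ := Ideal.exists_le_maximal _ hItop
  have hprime : 𝔪.IsPrime := hmax.isPrime
  by_cases hJ : J ≤ 𝔪
  · obtain ⟨g, hg, r, a, ha⟩ := exists_data_of_isLocallyQuasiRegular J h 𝔪 hJ
    obtain ⟨N, hN⟩ := exists_pow_smul_eq_zero J ha t ht
    exact hg (hprime.mem_of_pow_mem N (hle ((hI _).mpr hN)))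
  · obtain ⟨x, hxJ, hx⟩ := SetLike.not_le_iff_exists.mp hJ
    exact hx (hle ((hI _).mpr (smul_eq_zero_of_mem J hxJ t)))

end inj

end Groth.Agent.Lib.Helper62.QReg
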