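import Mathlib
import Groth.Prelude.Def_PP16
import Groth.Agent.Lib.Helper62.QReg3

set_option autoImplicit false
universe u

namespace Groth.Agent.Lib.Helper62.QReg

open Groth.Agent.Lib.Helper47

section proj

variable {R : Type u} [CommRing R] (J : Ideal R)

/-- the images of the `a i` in the localized cotangent module. -/
noncomputable def vloc {g : R} {r : ℕ} {a : Fin r → R} (h : Data J g r a) (i : Fin r) :
    LocalizedModule.Away (Ideal.Quotient.mk J g) J.Cotangent :=
  LocalizedModule.mkLinearMap (Submonoid.powers (Ideal.Quotient.mk J g)) J.Cotangent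
    (J.toCotangent ⟨a i, h.mem i⟩)

theorem mk_smul_cotangent (c : R) (p : J.Cotangent) : (Ideal.Quotient.mk J c) • p = c • p := by
  rw [← Ideal.Quotient.algebraMap_eq, algebraMap_smul]

theorem linearIndependent_vloc {g : R} {r : ℕ} {a : Fin r → R} (h : Data J g r a) :
    LinearIndependent (Localization.Away (Ideal.Quotient.mk J g)) (vloc J h) := by
  classical
  rw [Fintype.linearIndependent_iff]
  intro γ hγ i
  obtain ⟨⟨_, kb, rfl⟩, hint⟩ :=
    IsLocalization.exist_integer_multiples_of_finite (Submonoid.powers (Ideal.Quotient.mk J g)) γ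
  choose cb hcb using hint
  simp only at hcb
  have hlift : ∀ i, ∃ c : R, Ideal.Quotient.mk J c = cb i := fun i =>
    Ideal.Quotient.mk_surjective (cb i)
  choose c hc using hlift
  -- the relation in `P`
  have h1 : LocalizedModule.mkLinearMap (Submonoid.powers (Ideal.Quotient.mk J g)) J.Cotangent
      (∑ i, c i • J.toCotangent ⟨a i, h.mem i⟩) = 0 := by
    rw [map_sum]
    have : ∀ i, LocalizedModule.mkLinearMap (Submonoid.powers (Ideal.Quotient.mk J g)) J.Cotangent
        (c i • J.toCotangent ⟨a i, h.mem i⟩) = ((Ideal.Quotient.mk J g) ^ kb • γ i) • vloc J h i := by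
      intro i
      rw [← mk_smul_cotangent, map_smul, hc i,
        ← algebraMap_smul (Localization.Away (Ideal.Quotient.mk J g)) (cb i), hcb i]
      rfl
    simp_rw [this, smul_assoc]
    rw [← Finset.smul_sum, hγ, smul_zero]
  obtain ⟨⟨_, N, rfl⟩, hN⟩ := (IsLocalizedModule.eq_zero_iff (Submonoid.powers (Ideal.Quotient.mk J g))
    (LocalizedModule.mkLinearMap (Submonoid.powers (Ideal.Quotient.mk J g)) J.Cotangent)).mp h1
  have h2 : g ^ N * ∑ i, c i * a i ∈ J ^ 2 := by
    rw [← Ideal.toCotangent_eq_zero J ⟨g ^ N * ∑ i, c i * a i,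
      Ideal.mul_mem_left _ _ (Ideal.sum_mem _ (fun i _ => Ideal.mul_mem_left _ _ (h.mem i)))⟩]
    have : (⟨g ^ N * ∑ i, c i * a i,
        Ideal.mul_mem_left _ _ (Ideal.sum_mem _ (fun i _ => Ideal.mul_mem_left _ _ (h.mem i)))⟩ : ↥J) =
        g ^ N • ∑ i, c i • (⟨a i, h.mem i⟩ : ↥J) := by
      apply Subtype.ext
      rw [Submodule.coe_smul, Submodule.coe_sum]
      rfl
    rw [this, map_smul, map_sum]
    simp_rw [map_smul]
    have hN' : ((Ideal.Quotient.mk J g) ^ N) • ∑ i, c i • J.toCotangent ⟨a i, h.mem i⟩ = 0 := hN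
    rw [← map_pow, mk_smul_cotangent] at hN'
    exact hN'
  obtain ⟨M, hM⟩ := h.indep1 J c ⟨N, h2⟩ i
  have h3 : algebraMap (R ⧸ J) (Localization.Away (Ideal.Quotient.mk J g)) (cb i) = 0 := by
    rw [IsLocalization.map_eq_zero_iff (Submonoid.powers (Ideal.Quotient.mk J g))]
    refine ⟨⟨(Ideal.Quotient.mk J g) ^ M, M, rfl⟩, ?_⟩
    simp only
    rw [← hc i, ← map_pow, ← map_mul]
    exact Ideal.Quotient.eq_zero_iff_mem.mpr hM
  rw [hcb i] at h3
  have hu : IsUnit (algebraMap (R ⧸ J) (Localization.Away (Ideal.Quotient.mk J g)) ((Ideal.Quotient.mk J g) ^ kb)) :=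
    IsLocalization.map_units _ (⟨(Ideal.Quotient.mk J g) ^ kb, kb, rfl⟩ : Submonoid.powers (Ideal.Quotient.mk J g))
  rw [Algebra.smul_def] at h3
  exact (hu.mul_right_eq_zero).mp h3

theorem span_vloc {g : R} {r : ℕ} {a : Fin r → R} (h : Data J g r a) :
    ⊤ ≤ Submodule.span (Localization.Away (Ideal.Quotient.mk J g)) (Set.range (vloc J h)) := by
  classical
  rintro x -
  induction x using LocalizedModule.induction_on with
  | h p s =>
    obtain ⟨y, rfl⟩ := Ideal.toCotangent_surjective J p
    obtain ⟨N, c, hc⟩ := h.span y y.2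
    -- `(Ideal.Quotient.mk J g)^N • p = Σ c̄ i • ā i`
    have h1 : ((Ideal.Quotient.mk J g) ^ N) • J.toCotangent y = ∑ i, c i • J.toCotangent ⟨a i, h.mem i⟩ := by
      rw [← map_pow, mk_smul_cotangent, ← map_smul]
      simp_rw [← map_smul]
      rw [← map_sum]
      congr 1
      apply Subtype.ext
      rw [Submodule.coe_smul, smul_eq_mul, hc, Submodule.coe_sum]
      rfl
    set u : R ⧸ J := (s : R ⧸ J) * (Ideal.Quotient.mk J g) ^ N with hu
    have humem : u ∈ Submonoid.powers (Ideal.Quotient.mk J g) := Submonoid.mul_mem _ s.2 ⟨N, rfl⟩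
    have huu : IsUnit (algebraMap (R ⧸ J) (Localization.Away (Ideal.Quotient.mk J g)) u) :=
      IsLocalization.map_units _ (⟨u, humem⟩ : Submonoid.powers (Ideal.Quotient.mk J g))
    have h2 : algebraMap (R ⧸ J) (Localization.Away (Ideal.Quotient.mk J g)) u •
        (LocalizedModule.mk (J.toCotangent y) s : LocalizedModule.Away (Ideal.Quotient.mk J g) J.Cotangent) ∈
        Submodule.span (Localization.Away (Ideal.Quotient.mk J g)) (Set.range (vloc J h)) := by
      rw [algebraMap_smul, LocalizedModule.smul'_mk, hu, mul_smul]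
      have := LocalizedModule.mk_cancel s (((Ideal.Quotient.mk J g) ^ N) • J.toCotangent y)
      rw [Submonoid.smul_def] at this
      rw [this, h1]
      have : (LocalizedModule.mk (∑ i, c i • J.toCotangent ⟨a i, h.mem i⟩) 1 :
          LocalizedModule.Away (Ideal.Quotient.mk J g) J.Cotangent) =
          ∑ i, (Ideal.Quotient.mk J (c i)) • vloc J h i := by
        rw [← LocalizedModule.mkLinearMap_apply, map_sum]
        refine Finset.sum_congr rfl (fun i _ => ?_)
        rw [← mk_smul_cotangent, map_smul]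
        rfl
      rw [this]
      refine Submodule.sum_mem _ (fun i _ => ?_)
      rw [← algebraMap_smul (Localization.Away (Ideal.Quotient.mk J g)) (Ideal.Quotient.mk J (c i))]
      exact Submodule.smul_mem _ _ (Submodule.subset_span ⟨i, rfl⟩)
    have h3 := Submodule.smul_mem _ (↑(huu.unit⁻¹) : Localization.Away (Ideal.Quotient.mk J g)) h2
    rwa [smul_smul, IsUnit.val_inv_mul, one_smul] at h3

theorem free_localized_cotangent {g : R} {r : ℕ} {a : Fin r → R} (h : Data J g r a) :
    Module.Free (Localization.Away (Ideal.Quotient.mk J g))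
      (LocalizedModule.Away (Ideal.Quotient.mk J g) J.Cotangent) ∧
    Module.Finite (Localization.Away (Ideal.Quotient.mk J g))
      (LocalizedModule.Away (Ideal.Quotient.mk J g) J.Cotangent) := by
  let b := Module.Basis.mk (linearIndependent_vloc J h) (span_vloc J h)
  exact ⟨Module.Free.of_basis b, Module.Finite.of_basis b⟩

end proj

end Groth.Agent.Lib.Helper62.QReg
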