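import Mathlib
import Groth.Prelude.Def_PP16
import Groth.Agent.Lib.Helper62.QReg6

set_option autoImplicit false
universe u

namespace Groth.Agent.Lib.Helper62.QReg

open Groth.Agent.Lib.Helper47

section conv

variable {R : Type u} [CommRing R] (J : Ideal R)

/-- Weak local data: generators of `J/J²` up to powers of `g` with coordinate functionals. -/
structure PreData (g : R) (r : ℕ) (a : Fin r → R) : Prop where
  mem : ∀ i, a i ∈ J
  span2 : ∀ y ∈ J, ∃ (N : ℕ) (c : Fin r → R), g ^ N * y - ∑ i, c i * a i ∈ J ^ 2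
  coord : ∃ lam : Fin r → (J.Cotangent →ₗ[R] Localization.Away (Ideal.Quotient.mk J g)),
    ∀ i j, ∀ hj : a j ∈ J, lam i (J.toCotangent ⟨a j, hj⟩) = if i = j then 1 else 0

theorem exists_preData (hFG : J.FG) (hP : Module.Projective (R ⧸ J) J.Cotangent)
    (𝔭 : Ideal R) [𝔭.IsPrime] (h𝔭 : J ≤ 𝔭) :
    ∃ g : R, g ∉ 𝔭 ∧ ∃ (r : ℕ) (a : Fin r → R), PreData J g r a := by
  classical
  have hq : (𝔭.map (Ideal.Quotient.mk J)).IsPrime :=
    Ideal.map_isPrime_of_surjective Ideal.Quotient.mk_surjective (by rw [Ideal.mk_ker]; exact h𝔭)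
  have hf1 : Module.Finite R ↥J := Module.Finite.iff_fg.mpr hFG
  have hf2 : Module.Finite R J.Cotangent :=
    Module.Finite.of_surjective J.toCotangent J.toCotangent_surjective
  have hf3 : Module.Finite (R ⧸ J) J.Cotangent := Module.Finite.of_restrictScalars_finite R _ _
  have hfp : Module.FinitePresentation (R ⧸ J) J.Cotangent :=
    Module.finitePresentation_of_projective _ _
  have hfree : Module.Free (Localization.AtPrime (𝔭.map (Ideal.Quotient.mk J)))
      (LocalizedModule (𝔭.map (Ideal.Quotient.mk J)).primeCompl J.Cotangent) :=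
    Module.free_of_flat_of_isLocalRing
  obtain ⟨gb, hgb, hfr, -⟩ := Module.FinitePresentation.exists_free_localizedModule_powers
    (𝔭.map (Ideal.Quotient.mk J)).primeCompl
    (LocalizedModule.mkLinearMap (𝔭.map (Ideal.Quotient.mk J)).primeCompl J.Cotangent)
    (Localization.AtPrime (𝔭.map (Ideal.Quotient.mk J)))
  obtain ⟨g, rfl⟩ := Ideal.Quotient.mk_surjective gb
  refine ⟨g, fun hg => hgb (Ideal.mem_map_of_mem _ hg), ?_⟩
  have hnt : Nontrivial (Localization.Away (Ideal.Quotient.mk J g)) :=
    (show Localization (Submonoid.powers (Ideal.Quotient.mk J g)) →+*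
        Localization.AtPrime (𝔭.map (Ideal.Quotient.mk J)) from
      IsLocalization.map (M := Submonoid.powers (Ideal.Quotient.mk J g))
        (T := (𝔭.map (Ideal.Quotient.mk J)).primeCompl) _
        (RingHom.id _) (Submonoid.powers_le.mpr hgb)).domain_nontrivial
  have hfin : Module.Finite (Localization.Away (Ideal.Quotient.mk J g))
      (LocalizedModule.Away (Ideal.Quotient.mk J g) J.Cotangent) := inferInstance
  let b := Module.finBasis (Localization.Away (Ideal.Quotient.mk J g))
      (LocalizedModule.Away (Ideal.Quotient.mk J g) J.Cotangent)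
  have hrep : ∀ x : LocalizedModule.Away (Ideal.Quotient.mk J g) J.Cotangent,
      ∃ (p : J.Cotangent) (s : Submonoid.powers (Ideal.Quotient.mk J g)),
        x = LocalizedModule.mk p s := fun x => by
    induction x using LocalizedModule.induction_on with
    | h p s => exact ⟨p, s, rfl⟩
  choose p s hps using fun i => hrep (b i)
  have hw : ∀ i, IsUnit (algebraMap (R ⧸ J) (Localization.Away (Ideal.Quotient.mk J g))
      (s i : R ⧸ J)) := fun i => IsLocalization.map_units _ (s i)
  let b' := b.isUnitSMul hw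
  have hb' : ∀ i, b' i = LocalizedModule.mkLinearMap
      (Submonoid.powers (Ideal.Quotient.mk J g)) J.Cotangent (p i) := by
    intro i
    rw [Module.Basis.isUnitSMul_apply, hps i, algebraMap_smul, LocalizedModule.smul'_mk,
      LocalizedModule.mkLinearMap_apply]
    exact LocalizedModule.mk_cancel (s i) (p i)
  choose a' ha' using fun i => J.toCotangent_surjective (p i)
  refine ⟨_, fun i => (a' i : R), fun i => (a' i).2, ?_, ?_⟩
  · -- span2
    intro y hy
    set x := LocalizedModule.mkLinearMap (Submonoid.powers (Ideal.Quotient.mk J g)) J.Cotangent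
      (J.toCotangent ⟨y, hy⟩) with hx
    obtain ⟨⟨_, kb, rfl⟩, hint⟩ := IsLocalization.exist_integer_multiples_of_finite
      (Submonoid.powers (Ideal.Quotient.mk J g)) (fun i => b'.repr x i)
    choose cb hcb using hint
    simp only at hcb
    choose c hc using fun i => Ideal.Quotient.mk_surjective (cb i)
    have h1 : LocalizedModule.mkLinearMap (Submonoid.powers (Ideal.Quotient.mk J g)) J.Cotangent
        ((Ideal.Quotient.mk J g) ^ kb • J.toCotangent ⟨y, hy⟩ - ∑ i, cb i • p i) = 0 := by
      rw [map_sub, map_smul, ← hx, map_sum]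
      nth_rewrite 1 [← b'.sum_repr x]
      rw [Finset.smul_sum, ← Finset.sum_sub_distrib]
      refine Finset.sum_eq_zero (fun i _ => ?_)
      rw [map_smul, ← hb' i, ← algebraMap_smul (Localization.Away (Ideal.Quotient.mk J g)) (cb i),
        hcb i, smul_assoc, sub_self]
    obtain ⟨⟨_, N, rfl⟩, hN⟩ := (IsLocalizedModule.eq_zero_iff
      (Submonoid.powers (Ideal.Quotient.mk J g))
      (LocalizedModule.mkLinearMap (Submonoid.powers (Ideal.Quotient.mk J g)) J.Cotangent)).mp h1
    refine ⟨N + kb, fun i => g ^ N * c i, ?_⟩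
    have hmem : g ^ (N + kb) * y - ∑ i, g ^ N * c i * (a' i : R) ∈ J :=
      Ideal.sub_mem _ (Ideal.mul_mem_left _ _ hy)
        (Ideal.sum_mem _ (fun i _ => Ideal.mul_mem_left _ _ (a' i).2))
    rw [← Ideal.toCotangent_eq_zero J ⟨_, hmem⟩]
    have e : (⟨_, hmem⟩ : ↥J) = g ^ N • (g ^ kb • (⟨y, hy⟩ : ↥J) - ∑ i, c i • a' i) := by
      apply Subtype.ext
      simp only [Submodule.coe_smul, Submodule.coe_sub, Submodule.coe_sum, smul_eq_mul]
      rw [mul_sub, Finset.mul_sum, pow_add, mul_assoc]
      congr 1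
      refine Finset.sum_congr rfl (fun i _ => ?_)
      rw [mul_assoc]
    rw [e, map_smul, map_sub, map_smul, map_sum]
    simp_rw [map_smul, ha']
    have hN' : (Ideal.Quotient.mk J g) ^ N •
        ((Ideal.Quotient.mk J g) ^ kb • J.toCotangent ⟨y, hy⟩ - ∑ i, cb i • p i) = 0 := hN
    rw [← map_pow, ← map_pow, mk_smul_cotangent, mk_smul_cotangent] at hN'
    simp_rw [← hc, mk_smul_cotangent] at hN'
    exact hN'
  · -- coord
    refine ⟨fun i => (((b'.coord i).restrictScalars (R ⧸ J)).comp
      (LocalizedModule.mkLinearMap (Submonoid.powers (Ideal.Quotient.mk J g))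
        J.Cotangent)).restrictScalars R, ?_⟩
    intro i j hj
    show b'.coord i (LocalizedModule.mkLinearMap (Submonoid.powers (Ideal.Quotient.mk J g))
      J.Cotangent (J.toCotangent ⟨(a' j : R), hj⟩)) = _
    have : (⟨(a' j : R), hj⟩ : ↥J) = a' j := Subtype.ext rfl
    rw [this, ha', ← hb', Module.Basis.coord_apply, Module.Basis.repr_self,
      Finsupp.single_apply]
    simp only [eq_comm]

end conv

end Groth.Agent.Lib.Helper62.QReg
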