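import Mathlib
import Groth.Prelude.Def_PP16
import Groth.Agent.Lib.Helper62.QReg8

set_option autoImplicit false
universe u

namespace Groth.Agent.Lib.Helper62.QReg

open Groth.Agent.Lib.Helper47

section nak

variable {R : Type u} [CommRing R] (J : Ideal R)

theorem exists_span_of_preData (hFG : J.FG) {g : R} {r : ℕ} {a : Fin r → R}
    (h : PreData J g r a) (𝔭 : Ideal R) [𝔭.IsPrime] (h𝔭 : J ≤ 𝔭) (hg : g ∉ 𝔭) :
    ∃ h₀ : R, h₀ ∉ 𝔭 ∧ ∀ y ∈ J, ∃ (N : ℕ) (c : Fin r → R),
      (g * h₀) ^ N * y = ∑ i, c i * a i := by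
  classical
  set J' : Ideal (Localization.Away g) := J.map (algebraMap R (Localization.Away g)) with hJ'
  set X' : Ideal (Localization.Away g) :=
    Ideal.span (Set.range fun i => algebraMap R (Localization.Away g) (a i)) with hX'
  -- Step A
  have hA : J' ≤ X' ⊔ J' ^ 2 := by
    rw [hJ', Ideal.map_le_iff_le_comap]
    intro y hy
    rw [Ideal.mem_comap]
    obtain ⟨N, c, hc⟩ := h.span2 y hy
    have h1 : algebraMap R (Localization.Away g) (g ^ N) * algebraMap R (Localization.Away g) y ∈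
        X' ⊔ J' ^ 2 := by
      have e : g ^ N * y = ∑ i, c i * a i + (g ^ N * y - ∑ i, c i * a i) := by ring
      rw [← map_mul, e, map_add]
      refine Submodule.add_mem_sup ?_ ?_
      · rw [map_sum]
        refine Ideal.sum_mem _ (fun i _ => ?_)
        rw [map_mul]
        exact Ideal.mul_mem_left _ _ (Ideal.subset_span ⟨i, rfl⟩)
      · rw [hJ', ← Ideal.map_pow]
        exact Ideal.mem_map_of_mem _ hc
    rwa [Ideal.unit_mul_mem_iff_mem _ (isUnit_algebraMap_pow g N)] at h1
  -- Step B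
  have hfg : (Submodule.map X'.mkQ J').FG :=
    Submodule.FG.map X'.mkQ (hFG.map (algebraMap R (Localization.Away g)))
  have hin : Submodule.map X'.mkQ J' ≤ J' • Submodule.map X'.mkQ J' := by
    rintro _ ⟨y', hy', rfl⟩
    obtain ⟨x, hx, z, hz, rfl⟩ := Submodule.mem_sup.mp (hA hy')
    rw [map_add, Submodule.mkQ_apply, (Submodule.Quotient.mk_eq_zero X').mpr hx, zero_add,
      ← Submodule.map_smul'']
    refine ⟨z, ?_, rfl⟩
    rw [pow_two] at hz
    exact hz
  obtain ⟨h', h'1, h'2⟩ :=
    Submodule.exists_sub_one_mem_and_smul_eq_zero_of_fg_of_le_smul J' _ hfg hin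
  have hB : ∀ y' ∈ J', h' * y' ∈ X' := by
    intro y' hy'
    have := h'2 _ ⟨y', hy', rfl⟩
    rw [← map_smul, Submodule.mkQ_apply, Submodule.Quotient.mk_eq_zero] at this
    exact this
  -- Step C
  obtain ⟨⟨h₀, ⟨_, k, rfl⟩⟩, hh⟩ := IsLocalization.mk'_surjective (Submonoid.powers g) h'
  simp only at hh
  have hh' : h' * algebraMap R (Localization.Away g) (g ^ k) =
      algebraMap R (Localization.Away g) h₀ := by
    rw [← hh]; exact IsLocalization.mk'_spec _ _ _
  refine ⟨h₀, ?_, ?_⟩
  · -- Step D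
    intro hmem
    have hne : Ideal.map (algebraMap R (Localization.Away g)) 𝔭 ≠ ⊤ := by
      rw [IsLocalization.map_algebraMap_ne_top_iff_disjoint (Submonoid.powers g)]
      rw [Set.disjoint_left]
      rintro _ ⟨n, rfl⟩ hn
      exact hg (Ideal.IsPrime.mem_of_pow_mem inferInstance n hn)
    apply hne
    rw [Ideal.eq_top_iff_one]
    have h1 : h' ∈ Ideal.map (algebraMap R (Localization.Away g)) 𝔭 := by
      have := Ideal.mem_map_of_mem (algebraMap R (Localization.Away g)) hmem
      rw [← hh', Ideal.mul_unit_mem_iff_mem _ (isUnit_algebraMap_pow g k)] at this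
      exact this
    have h2 : h' - 1 ∈ Ideal.map (algebraMap R (Localization.Away g)) 𝔭 :=
      Ideal.map_mono h𝔭 h'1
    have := Ideal.sub_mem _ h1 h2
    rwa [sub_sub_cancel] at this
  · intro y hy
    have h1 : algebraMap R (Localization.Away g) (h₀ * y) ∈ X' := by
      rw [map_mul, ← hh', mul_comm h', mul_assoc]
      exact Ideal.mul_mem_left _ _ (hB _ (Ideal.mem_map_of_mem _ hy))
    obtain ⟨γ, hγ⟩ := (Ideal.mem_span_range_iff_exists_fun).mp h1
    obtain ⟨⟨_, kb, rfl⟩, hint⟩ :=
      IsLocalization.exist_integer_multiples_of_finite (Submonoid.powers g) γ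
    choose c hc using hint
    simp only at hc
    have h2 : algebraMap R (Localization.Away g) (g ^ kb * (h₀ * y)) =
        algebraMap R (Localization.Away g) (∑ i, c i * a i) := by
      rw [map_mul, ← hγ, Finset.mul_sum, map_sum]
      refine Finset.sum_congr rfl (fun i _ => ?_)
      rw [map_mul, hc i, Algebra.smul_def, mul_assoc]
    obtain ⟨⟨_, m, rfl⟩, h3⟩ := (IsLocalization.eq_iff_exists (Submonoid.powers g) _).mp h2
    simp only at h3
    refine ⟨m + kb + 1, fun i => g * h₀ ^ (m + kb) * g ^ m * c i, ?_⟩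
    have e : (g * h₀) ^ (m + kb + 1) * y = g * h₀ ^ (m + kb) * (g ^ m * (g ^ kb * (h₀ * y))) := by
      ring
    rw [e, h3, Finset.mul_sum, Finset.mul_sum]
    refine Finset.sum_congr rfl (fun i _ => ?_)
    ring

end nak

end Groth.Agent.Lib.Helper62.QReg
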