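import Mathlib
import Groth.Prelude.Def_PP16
import Groth.Agent.Lib.Helper62.QReg9
import Groth.Agent.Lib.Helper62.QReg5

set_option autoImplicit false
universe u

namespace Groth.Agent.Lib.Helper62.QReg

open Groth.Agent.Lib.Helper47 Groth.Agent.Lib.Helper62.SymGr Groth.Agent.Lib.Helper62.SymPow

section conv

variable {R : Type u} [CommRing R] (J : Ideal R)

/-- the linear form `p ↦ Σ λ_i(p) X_i`. -/
noncomputable def linF {S : Type u} [CommRing S] [Algebra R S] {r : ℕ}
    (lam : Fin r → (J.Cotangent →ₗ[R] S)) : J.Cotangent →ₗ[R] MvPolynomial (Fin r) S :=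
  ∑ i, (LinearMap.mulRight R (MvPolynomial.X i : MvPolynomial (Fin r) S)).comp
    (((Algebra.linearMap S (MvPolynomial (Fin r) S)).restrictScalars R).comp (lam i))

theorem linF_apply {S : Type u} [CommRing S] [Algebra R S] {r : ℕ}
    (lam : Fin r → (J.Cotangent →ₗ[R] S)) (p : J.Cotangent) :
    linF J lam p = ∑ i, MvPolynomial.C (lam i p) * MvPolynomial.X i := by
  unfold linF
  rw [LinearMap.sum_apply]
  rfl

/-- the map `Sym^ι(P) → S[X]`, `⊗ p_k ↦ ∏ L(p_k)`. -/
noncomputable def PhiF {S : Type u} [CommRing S] [Algebra R S] {r : ℕ}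
    (lam : Fin r → (J.Cotangent →ₗ[R] S)) (ι : Type u) [Fintype ι] :
    SymmetricPower R ι J.Cotangent →ₗ[R] MvPolynomial (Fin r) S :=
  lift ((MultilinearMap.mkPiAlgebra R ι (MvPolynomial (Fin r) S)).compLinearMap
    (fun _ => linF J lam)) (fun e v => by
      simp only [MultilinearMap.compLinearMap_apply, MultilinearMap.mkPiAlgebra_apply]
      exact Equiv.prod_comp e (fun k => linF J lam (v k)))

theorem PhiF_tprod {S : Type u} [CommRing S] [Algebra R S] {r : ℕ}
    (lam : Fin r → (J.Cotangent →ₗ[R] S)) (ι : Type u) [Fintype ι] (v : ι → J.Cotangent) :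
    PhiF J lam ι (SymmetricPower.tprod R v) = ∏ k, linF J lam (v k) := by
  unfold PhiF
  rw [lift_tprod]
  simp only [MultilinearMap.compLinearMap_apply, MultilinearMap.mkPiAlgebra_apply]

theorem PhiF_T {S : Type u} [CommRing S] [Algebra R S] {r : ℕ}
    (lam : Fin r → (J.Cotangent →ₗ[R] S)) (ι : Type u) [Fintype ι] (a : Fin r → ↥J)
    (hlam : ∀ i j, lam i (J.toCotangent (a j)) = if i = j then 1 else 0) (s : ι → Fin r) :
    PhiF J lam ι (T J a s) = MvPolynomial.monomial (typ s) 1 := by
  classical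
  unfold T
  rw [PhiF_tprod]
  have h1 : ∀ k, linF J lam (J.toCotangent (a (s k))) = MvPolynomial.X (s k) := by
    intro k
    rw [linF_apply, Finset.sum_eq_single (s k)]
    · rw [hlam, if_pos rfl, map_one, one_mul]
    · intro i _ hi
      rw [hlam, if_neg hi, map_zero, zero_mul]
    · intro h; exact absurd (Finset.mem_univ _) h
  simp_rw [h1]
  unfold typ
  rw [MvPolynomial.monomial_sum_one]
  rfl

end conv

end Groth.Agent.Lib.Helper62.QReg
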