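import Mathlib
import Groth.Prelude.Def_PP16
import Groth.Agent.Lib.Helper62.QReg10

set_option autoImplicit false
universe u

namespace Groth.Agent.Lib.Helper62.QReg

open Groth.Agent.Lib.Helper47 Groth.Agent.Lib.Helper62.SymGr Groth.Agent.Lib.Helper62.SymPow

section conv

variable {R : Type u} [CommRing R] (J : Ideal R)

theorem indep_aux {g h₀ : R} {r : ℕ} {a : Fin r → R} (h : PreData J g r a)
    (ι : Type u) [Fintype ι] [Nonempty ι] (hinj : Function.Injective (canMap J ι))
    (n : ℕ) (hcard : Fintype.card ι = n) (c : expos r n → R) (N : ℕ)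
    (hN : (g * h₀) ^ N * monComb a n c ∈ J ^ (n + 1)) (d₀ : expos r n) :
    ∃ M : ℕ, (g * h₀) ^ M * c d₀ ∈ J := by
  classical
  subst hcard
  obtain ⟨lam, hlam⟩ := h.coord
  set a' : Fin r → ↥J := fun i => ⟨a i, h.mem i⟩ with ha'
  have hlam' : ∀ i j, lam i (J.toCotangent (a' j)) = if i = j then 1 else 0 :=
    fun i j => hlam i j (h.mem j)
  choose sd hsd using fun d : expos r (Fintype.card ι) => exists_typ_eq (ι := ι) d.2
  set t : SymmetricPower R ι J.Cotangent :=
    ∑ d : expos r (Fintype.card ι), ((g * h₀) ^ N * c d) • T J a' (sd d) with ht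
  have ht0 : canMap J ι t = 0 := by
    rw [ht, map_sum]
    have h1 : ∀ d : expos r (Fintype.card ι),
        canMap J ι (((g * h₀) ^ N * c d) • T J a' (sd d)) =
        (Submodule.comap (J ^ Fintype.card ι).subtype (J ^ (Fintype.card ι + 1))).mkQ
          (((g * h₀) ^ N * c d) •
            (⟨mon a d, mon_mem_pow' J a h.mem d⟩ : ↥(J ^ Fintype.card ι))) := by
      intro d
      rw [map_smul, canMap_T, map_smul, Submodule.mkQ_apply]
      congr 2
      apply Subtype.ext
      show mon (fun i => ((a' i : ↥J) : R)) (typ (sd d)) = mon a d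
      rw [hsd d]
    simp_rw [h1]
    rw [← map_sum, Submodule.mkQ_apply, Submodule.Quotient.mk_eq_zero, Submodule.mem_comap]
    convert hN using 1
    rw [map_sum, monComb_apply, Finset.mul_sum]
    refine Finset.sum_congr rfl (fun d _ => ?_)
    show (g * h₀) ^ N * c d * mon a d = _
    rw [mul_assoc]
  have ht1 : t = 0 := hinj (by rw [ht0, map_zero])
  have hΦ : PhiF J lam ι t = 0 := by rw [ht1, map_zero]
  rw [ht, map_sum] at hΦ
  simp_rw [map_smul, PhiF_T J lam ι a' hlam', hsd] at hΦ
  have hco := congrArg (MvPolynomial.coeff (d₀ : Fin r →₀ ℕ)) hΦ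
  rw [MvPolynomial.coeff_sum, MvPolynomial.coeff_zero] at hco
  rw [Finset.sum_eq_single d₀] at hco
  · rw [MvPolynomial.coeff_smul, MvPolynomial.coeff_monomial, if_pos rfl,
      ← Algebra.algebraMap_eq_smul_one,
      IsScalarTower.algebraMap_apply R (R ⧸ J) (Localization.Away (Ideal.Quotient.mk J g)),
      IsLocalization.map_eq_zero_iff (Submonoid.powers (Ideal.Quotient.mk J g))] at hco
    obtain ⟨⟨_, M, rfl⟩, hM⟩ := hco
    simp only at hM
    rw [Ideal.Quotient.algebraMap_eq, ← map_pow, ← map_mul, Ideal.Quotient.eq_zero_iff_mem] at hM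
    refine ⟨M + N, ?_⟩
    have e : (g * h₀) ^ (M + N) * c d₀ = h₀ ^ M * (g ^ M * ((g * h₀) ^ N * c d₀)) := by ring
    rw [e]
    exact Ideal.mul_mem_left _ _ hM
  · intro d _ hd
    rw [MvPolynomial.coeff_smul, MvPolynomial.coeff_monomial, if_neg, smul_zero]
    intro e
    exact hd (Subtype.ext e)
  · intro hd; exact absurd (Finset.mem_univ _) hd

theorem data_of_preData {g h₀ : R} {r : ℕ} {a : Fin r → R} (h : PreData J g r a)
    (hspan : ∀ y ∈ J, ∃ (N : ℕ) (c : Fin r → R), (g * h₀) ^ N * y = ∑ i, c i * a i)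
    (hinj : ∀ (ι : Type u) [Fintype ι] [Nonempty ι], Function.Injective (canMap J ι)) :
    Data J (g * h₀) r a := by
  classical
  refine ⟨h.mem, hspan, ?_⟩
  rintro n c ⟨N, hN⟩ d
  rcases Nat.eq_zero_or_pos n with rfl | hn
  · -- degree zero
    refine ⟨N, ?_⟩
    have hd : ∀ d' : expos r 0, d' = d := by
      intro d'
      apply Subtype.ext
      have h1 := mem_expos.mp d'.2
      have h2 := mem_expos.mp d.2
      rw [Finsupp.degree_eq_zero_iff] at h1 h2
      rw [h1, h2]
    have hmon : mon a d = 1 := by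
      have h2 := mem_expos.mp d.2
      rw [Finsupp.degree_eq_zero_iff] at h2
      unfold mon
      rw [h2]
      simp
    rw [monComb_apply, Finset.sum_eq_single d (fun d' _ hd' => absurd (hd d') hd')
      (fun hd' => absurd (Finset.mem_univ _) hd'), hmon, mul_one, zero_add, pow_one] at hN
    exact hN
  · have : Nonempty (ULift.{u} (Fin n)) := ⟨⟨⟨0, hn⟩⟩⟩
    exact indep_aux J h (ULift.{u} (Fin n)) (hinj _) n (by simp) c N hN d

end conv

end Groth.Agent.Lib.Helper62.QReg
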