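import Mathlib
import Groth.Prelude.Def_PP16
import Groth.Agent.Lib.Helper62.QReg6

set_option autoImplicit false
universe u

namespace Groth.Agent.Lib.Helper62.QReg

open Groth.Agent.Lib.Helper47

section proj

variable {R : Type u} [CommRing R] (J : Ideal R)

theorem projective_cotangent_of_isLocallyQuasiRegular (h : PP16.IsLocallyQuasiRegular R J) :
    Module.Projective (R ⧸ J) J.Cotangent := by
  classical
  let s : Set (R ⧸ J) := {gb | ∃ (g : R) (r : ℕ) (a : Fin r → R),
    Ideal.Quotient.mk J g = gb ∧ Data J g r a}
  have hs : Ideal.span s = ⊤ := by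
    by_contra hne
    obtain ⟨𝔫, hmax, hle⟩ := Ideal.exists_le_maximal _ hne
    have hprime : 𝔫.IsPrime := hmax.isPrime
    have hcp : (𝔫.comap (Ideal.Quotient.mk J)).IsPrime := Ideal.comap_isPrime _ _
    have hJ : J ≤ 𝔫.comap (Ideal.Quotient.mk J) := fun x hx => by
      rw [Ideal.mem_comap, Ideal.Quotient.eq_zero_iff_mem.mpr hx]; exact zero_mem _
    obtain ⟨g, hg, r, a, ha⟩ := exists_data_of_isLocallyQuasiRegular J h _ hJ
    apply hg
    rw [Ideal.mem_comap]
    exact hle (Ideal.subset_span ⟨g, r, a, rfl, ha⟩)
  have hfree : ∀ gb : s, Module.Free (Localization.Away gb.1)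
      (LocalizedModule.Away gb.1 J.Cotangent) ∧
      Module.Finite (Localization.Away gb.1) (LocalizedModule.Away gb.1 J.Cotangent) := by
    rintro ⟨_, g, r, a, rfl, ha⟩
    exact free_localized_cotangent J ha
  have hfp : Module.FinitePresentation (R ⧸ J) J.Cotangent := by
    apply Module.FinitePresentation.of_localizationSpan s hs
    intro gb
    obtain ⟨h1, h2⟩ := hfree gb
    exact Module.finitePresentation_of_projective _ _
  have hflat : Module.Flat (R ⧸ J) J.Cotangent := by
    apply Module.flat_of_localized_span (R ⧸ J) J.Cotangent s hs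
    intro gb
    obtain ⟨h1, h2⟩ := hfree gb
    have : Module.Flat (R ⧸ J) (Localization.Away gb.1) :=
      IsLocalization.flat _ (Submonoid.powers gb.1)
    exact Module.Flat.trans (R ⧸ J) (Localization.Away gb.1) _
  exact Module.Flat.projective_of_finitePresentation

end proj

end Groth.Agent.Lib.Helper62.QReg
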