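import Mathlib

set_option linter.style.haveILetI false

/-!
# Formal smoothness ascends along quotients by regular elements (local case)

`P` a local ring, formally smooth over `R` with `Ω[P/R]` finite free; `J ≤ J'` ideals.
If `P ⧸ J'` is formally smooth over `R` and `J' = J + (F)` with `F` regular modulo `J`, then `P ⧸ J`
is formally smooth over `R` (local Jacobian criterion).
-/

namespace Groth.Agent.Lib.Helper62.RegSmooth

open TensorProduct IsLocalRing KaehlerDifferential

section Inj

variable {P : Type*} [CommRing P]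

theorem mem_smul_top_iff (𝔪 J : Ideal P) (x : J) :
    x ∈ 𝔪 • (⊤ : Submodule P J) ↔ (x : P) ∈ 𝔪 * J := by
  have h1 : (𝔪 • (⊤ : Submodule P J)).map J.subtype = 𝔪 * J := by
    rw [Submodule.map_smul'', Submodule.map_subtype_top]; rfl
  constructor
  · intro hx
    rw [← h1]
    exact Submodule.mem_map_of_mem hx
  · intro hx
    rw [← h1] at hx
    obtain ⟨y, hy, hyx⟩ := hx
    have : y = x := Subtype.ext hyx
    rwa [← this]

/-- For ideals `J ≤ J'` with `J ∩ 𝔪 J' ⊆ 𝔪 J`, the map `(P ⧸ 𝔪) ⊗ J → (P ⧸ 𝔪) ⊗ J'` is injective. -/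
theorem injective_lTensor_inclusion (𝔪 J J' : Ideal P) (h : J ≤ J')
    (hcap : ∀ x ∈ J, x ∈ 𝔪 * J' → x ∈ 𝔪 * J) :
    Function.Injective (LinearMap.lTensor (P ⧸ 𝔪) (Submodule.inclusion h)) := by
  let e := TensorProduct.quotTensorEquivQuotSMul J 𝔪
  let e' := TensorProduct.quotTensorEquivQuotSMul J' 𝔪
  have hle : (𝔪 • (⊤ : Submodule P J)) ≤
      (𝔪 • (⊤ : Submodule P J')).comap (Submodule.inclusion h) := by
    rw [Submodule.smul_le]
    intro r hr n _
    rw [Submodule.mem_comap, map_smul]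
    exact Submodule.smul_mem_smul hr Submodule.mem_top
  let g := Submodule.mapQ _ _ (Submodule.inclusion h) hle
  have hcomm : e'.toLinearMap ∘ₗ (LinearMap.lTensor (P ⧸ 𝔪) (Submodule.inclusion h)) =
      g ∘ₗ e.toLinearMap := by
    apply TensorProduct.ext'
    intro a x
    obtain ⟨a, rfl⟩ := Ideal.Quotient.mk_surjective a
    simp [e, e', g]
  have hg : Function.Injective g := by
    rw [← LinearMap.ker_eq_bot, Submodule.eq_bot_iff]
    intro y hy
    obtain ⟨x, rfl⟩ := Submodule.Quotient.mk_surjective _ y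
    rw [LinearMap.mem_ker, Submodule.mapQ_apply, Submodule.Quotient.mk_eq_zero] at hy
    rw [Submodule.Quotient.mk_eq_zero]
    rw [mem_smul_top_iff] at hy ⊢
    exact hcap x x.2 hy
  have : Function.Injective (e'.toLinearMap ∘ₗ
      (LinearMap.lTensor (P ⧸ 𝔪) (Submodule.inclusion h))) := by
    rw [hcomm]
    exact hg.comp e.injective
  rw [LinearMap.coe_comp] at this
  exact Function.Injective.of_comp this

end Inj

end Groth.Agent.Lib.Helper62.RegSmooth

namespace Groth.Agent.Lib.Helper62.RegSmooth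

open TensorProduct IsLocalRing KaehlerDifferential

section Factor

variable {R P S T K : Type*} [CommRing R] [CommRing P] [CommRing S] [CommRing T] [CommRing K]
  [Algebra R P] [Algebra P S] [Algebra P T] [Algebra P K] [Algebra S K] [Algebra T K]
  [IsScalarTower P S K] [IsScalarTower P T K]

theorem cotangentComplexBaseChange_comp
    (hle : RingHom.ker (algebraMap P S) ≤ RingHom.ker (algebraMap P T)) :
    cotangentComplexBaseChange R S P K =
      cotangentComplexBaseChange R T P K ∘ₗ LinearMap.baseChange K (Submodule.inclusion hle) := by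
  ext x
  simp [cotangentComplexBaseChange_tmul]

end Factor

section OneStep

variable {R P : Type*} [CommRing R] [CommRing P] [Algebra R P] [IsLocalRing P]
  [Algebra.FormallySmooth R P] [Module.Free P Ω[P⁄R]] [Module.Finite P Ω[P⁄R]]

theorem formallySmooth_quotient_step (J J' : Ideal P) (hJJ' : J ≤ J') (hJ' : J' ≠ ⊤)
    (hJfg : J.FG) (hJ'fg : J'.FG)
    (hcap : ∀ x ∈ J, x ∈ maximalIdeal P * J' → x ∈ maximalIdeal P * J)
    (hsm : Algebra.FormallySmooth R (P ⧸ J')) : Algebra.FormallySmooth R (P ⧸ J) := by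
  have hJ'm : J' ≤ maximalIdeal P := le_maximalIdeal hJ'
  have hJm : J ≤ maximalIdeal P := hJJ'.trans hJ'm
  have hJne : J ≠ ⊤ := fun h => hJ' (top_le_iff.mp (h ▸ hJJ'))
  haveI : Nontrivial (P ⧸ J') := Ideal.Quotient.nontrivial_iff.mpr hJ'
  haveI : Nontrivial (P ⧸ J) := Ideal.Quotient.nontrivial_iff.mpr hJne
  haveI : IsLocalRing (P ⧸ J') :=
    IsLocalRing.of_surjective' (Ideal.Quotient.mk J') Ideal.Quotient.mk_surjective
  haveI : IsLocalRing (P ⧸ J) :=
    IsLocalRing.of_surjective' (Ideal.Quotient.mk J) Ideal.Quotient.mk_surjective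
  letI algS : Algebra (P ⧸ J) (ResidueField P) := (Ideal.Quotient.factor hJm).toAlgebra
  letI algT : Algebra (P ⧸ J') (ResidueField P) := (Ideal.Quotient.factor hJ'm).toAlgebra
  haveI : IsScalarTower P (P ⧸ J) (ResidueField P) := IsScalarTower.of_algebraMap_eq' rfl
  haveI : IsScalarTower P (P ⧸ J') (ResidueField P) := IsScalarTower.of_algebraMap_eq' rfl
  have h₃ : ∀ (I : Ideal P) (hI : I ≤ maximalIdeal P) [IsLocalRing (P ⧸ I)],
      maximalIdeal (P ⧸ I) ≤ RingHom.ker (Ideal.Quotient.factor hI) := by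
    intro I hI _ x hx
    obtain ⟨p, rfl⟩ := Ideal.Quotient.mk_surjective x
    rw [RingHom.mem_ker, Ideal.Quotient.factor_mk, Ideal.Quotient.eq_zero_iff_mem]
    by_contra hp
    have hu : IsUnit p := by
      by_contra hnu
      exact hp ((mem_maximalIdeal p).mpr hnu)
    exact (mem_maximalIdeal _).mp hx (hu.map (Ideal.Quotient.mk I))
  have hkS : RingHom.ker (algebraMap P (P ⧸ J)) = J := by
    rw [Ideal.Quotient.algebraMap_eq, Ideal.mk_ker]
  have hkT : RingHom.ker (algebraMap P (P ⧸ J')) = J' := by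
    rw [Ideal.Quotient.algebraMap_eq, Ideal.mk_ker]
  rw [Algebra.FormallySmooth.iff_injective_cotangentComplexBaseChange P (ResidueField P)
    Ideal.Quotient.mk_surjective (by rw [hkT]; exact hJ'fg) (h₃ J' hJ'm)] at hsm
  rw [Algebra.FormallySmooth.iff_injective_cotangentComplexBaseChange P (ResidueField P)
    Ideal.Quotient.mk_surjective (by rw [hkS]; exact hJfg) (h₃ J hJm)]
  have hle : RingHom.ker (algebraMap P (P ⧸ J)) ≤ RingHom.ker (algebraMap P (P ⧸ J')) := by
    rw [hkS, hkT]; exact hJJ'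
  rw [cotangentComplexBaseChange_comp hle, LinearMap.coe_comp]
  refine hsm.comp ?_
  have hcap' : ∀ x ∈ RingHom.ker (algebraMap P (P ⧸ J)),
      x ∈ maximalIdeal P * RingHom.ker (algebraMap P (P ⧸ J')) →
      x ∈ maximalIdeal P * RingHom.ker (algebraMap P (P ⧸ J)) := by
    rw [hkS, hkT]; exact hcap
  exact injective_lTensor_inclusion (maximalIdeal P) _ _ hle hcap'

end OneStep

end Groth.Agent.Lib.Helper62.RegSmooth

namespace Groth.Agent.Lib.Helper62.RegSmooth

open TensorProduct IsLocalRing KaehlerDifferential RingTheory.Sequence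

section Aux

variable {P : Type*} [CommRing P]

theorem ofList_fg (l : List P) : (Ideal.ofList l).FG :=
  Submodule.fg_span (List.finite_toSet l)

theorem hcap_of_regular [IsLocalRing P] (J : Ideal P) (F : P) (hF : F ∈ maximalIdeal P)
    (hreg : ∀ a, a * F ∈ J → a ∈ J) :
    ∀ x ∈ J, x ∈ maximalIdeal P * (J ⊔ Ideal.span {F}) → x ∈ maximalIdeal P * J := by
  intro x hxJ hx
  rw [Ideal.mul_sup] at hx
  obtain ⟨y, hy, z, hz, hyz⟩ := Submodule.mem_sup.mp hx
  obtain ⟨a, ha, haz⟩ := Ideal.mem_mul_span_singleton.mp hz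
  have hyJ : y ∈ J := (Ideal.mul_le_right : maximalIdeal P * J ≤ J) hy
  have h1 : a * F = x - y := by rw [haz, ← hyz]; ring
  have haF : a * F ∈ J := by
    rw [h1]
    exact Ideal.sub_mem J hxJ hyJ
  have haJ : a ∈ J := hreg a haF
  have h2 : F * a ∈ maximalIdeal P * J := Ideal.mul_mem_mul hF haJ
  rw [← hyz, ← haz, mul_comm a F]
  exact Ideal.add_mem _ hy h2

end Aux

section Chain

variable {R P : Type*} [CommRing R] [CommRing P] [Algebra R P] [IsLocalRing P]
  [Algebra.FormallySmooth R P] [Module.Free P Ω[P⁄R]] [Module.Finite P Ω[P⁄R]]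

theorem formallySmooth_quotient_of_regular_list (J₀ : Ideal P) (hJ₀ : J₀.FG) (Fs : List P)
    (hreg : ∀ (l₁ : List P) (F : P) (l₂ : List P), Fs = l₁ ++ F :: l₂ →
      ∀ a, a * F ∈ J₀ ⊔ Ideal.ofList l₁ → a ∈ J₀ ⊔ Ideal.ofList l₁)
    (hne : J₀ ⊔ Ideal.ofList Fs ≠ ⊤)
    (hsm : Algebra.FormallySmooth R (P ⧸ (J₀ ⊔ Ideal.ofList Fs))) :
    Algebra.FormallySmooth R (P ⧸ J₀) := by
  induction Fs using List.reverseRecOn with
  | nil =>
    rw [Ideal.ofList_nil, sup_bot_eq] at hsm
    exact hsm
  | append_singleton Fs₀ F ih =>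
    have hJ' : J₀ ⊔ Ideal.ofList (Fs₀ ++ [F]) = (J₀ ⊔ Ideal.ofList Fs₀) ⊔ Ideal.span {F} := by
      rw [Ideal.ofList_append, Ideal.ofList_singleton, sup_assoc]
    rw [hJ'] at hsm hne
    have hFm : F ∈ maximalIdeal P :=
      le_maximalIdeal hne (Ideal.mem_sup_right (Ideal.mem_span_singleton_self F))
    have hne₀ : J₀ ⊔ Ideal.ofList Fs₀ ≠ ⊤ := fun h => hne (by rw [h, top_sup_eq])
    have hregF := hreg Fs₀ F [] rfl
    have hstep : Algebra.FormallySmooth R (P ⧸ (J₀ ⊔ Ideal.ofList Fs₀)) :=
      formallySmooth_quotient_step _ _ le_sup_left hne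
        (Submodule.FG.sup hJ₀ (ofList_fg _))
        (Submodule.FG.sup (Submodule.FG.sup hJ₀ (ofList_fg _)) ⟨{F}, by simp⟩)
        (hcap_of_regular _ F hFm hregF) hsm
    refine ih ?_ hne₀ hstep
    intro l₁ F' l₂ h a ha
    exact hreg l₁ F' (l₂ ++ [F]) (by rw [h]; simp) a ha

end Chain

end Groth.Agent.Lib.Helper62.RegSmooth

namespace Groth.Agent.Lib.Helper62.RegSmooth

open TensorProduct IsLocalRing KaehlerDifferential RingTheory.Sequence

section Abstract

variable {R P S T : Type*} [CommRing R] [CommRing P] [CommRing S] [CommRing T]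
  [Algebra R P] [Algebra R S] [Algebra R T] [Algebra P S] [Algebra S T] [Algebra P T]
  [IsScalarTower R P S] [IsScalarTower R P T] [IsScalarTower P S T]
  [IsLocalRing P] [Algebra.FormallySmooth R P] [Module.Free P Ω[P⁄R]] [Module.Finite P Ω[P⁄R]]

omit [IsLocalRing P] [Algebra.FormallySmooth R P] [Module.Free P Ω[P⁄R]]
  [Module.Finite P Ω[P⁄R]] [Algebra R P] [Algebra R S] [Algebra R T] [IsScalarTower R P S]
  [IsScalarTower R P T] [Algebra S T] [Algebra P T] [IsScalarTower P S T] in
/-- Regularity of a lift, from weak regularity of the images. -/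
theorem regular_lift_of_isWeaklyRegular (hPS : Function.Surjective (algebraMap P S))
    (l₁ : List P) (F : P) (l₂ : List P)
    (hrs : IsWeaklyRegular S ((l₁ ++ F :: l₂).map (algebraMap P S))) (a : P)
    (ha : a * F ∈ RingHom.ker (algebraMap P S) ⊔ Ideal.ofList l₁) :
    a ∈ RingHom.ker (algebraMap P S) ⊔ Ideal.ofList l₁ := by
  set f := algebraMap P S with hf
  rw [List.map_append, List.map_cons, isWeaklyRegular_append_iff] at hrs
  have hreg : IsSMulRegular (S ⧸ (Ideal.ofList (l₁.map f) • (⊤ : Submodule S S))) (f F) :=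
    ((isWeaklyRegular_cons_iff _ _ _).mp hrs.2).1
  have htop : (Ideal.ofList (l₁.map f) • (⊤ : Submodule S S)) = Ideal.ofList (l₁.map f) := by
    rw [smul_eq_mul, Ideal.mul_top]
  have hmem : f a * f F ∈ Ideal.ofList (l₁.map f) := by
    obtain ⟨j, hj, z, hz, hjz⟩ := Submodule.mem_sup.mp ha
    rw [← map_mul, ← hjz, map_add, (RingHom.mem_ker).mp hj, zero_add, ← Ideal.map_ofList]
    exact Ideal.mem_map_of_mem f hz
  have h0 : (f F) • (Submodule.Quotient.mk (f a) :
      S ⧸ (Ideal.ofList (l₁.map f) • (⊤ : Submodule S S))) = 0 := by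
    rw [← Submodule.Quotient.mk_smul, Submodule.Quotient.mk_eq_zero, htop, smul_eq_mul, mul_comm]
    exact hmem
  have h1 := hreg.right_eq_zero_of_smul h0
  rw [Submodule.Quotient.mk_eq_zero, htop, ← Ideal.map_ofList] at h1
  have h2 : a ∈ (Ideal.map f (Ideal.ofList l₁)).comap f := h1
  rw [Ideal.comap_map_of_surjective f hPS] at h2
  rw [sup_comm]
  convert h2 using 2
  ext y
  simp [RingHom.mem_ker, Ideal.mem_comap]

/-- **Formal smoothness ascends along quotients by weakly regular sequences.**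
`P` local, formally smooth over `R` with `Ω[P/R]` finite free; `P ↠ S` with finitely generated
kernel; `S ↠ T` with kernel generated by a weakly regular sequence; `T ≠ 0`.  If `T` is formally
smooth over `R`, so is `S`. -/
theorem formallySmooth_of_isWeaklyRegular [Nontrivial T]
    (hPS : Function.Surjective (algebraMap P S)) (hker : (RingHom.ker (algebraMap P S)).FG)
    (rs : List S) (hrs : IsWeaklyRegular S rs)
    (hST : Function.Surjective (algebraMap S T))
    (hkerT : RingHom.ker (algebraMap S T) = Ideal.ofList rs)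
    (hsm : Algebra.FormallySmooth R T) : Algebra.FormallySmooth R S := by
  set f := algebraMap P S with hf
  let Fs : List P := rs.map (Function.surjInv hPS)
  have hFs : Fs.map f = rs := by
    simp only [Fs, List.map_map]
    conv_rhs => rw [← List.map_id rs]
    apply List.map_congr_left
    intro x _
    exact Function.surjInv_eq hPS x
  have hkerPT : RingHom.ker (algebraMap P T) = RingHom.ker f ⊔ Ideal.ofList Fs := by
    rw [IsScalarTower.algebraMap_eq P S T, ← RingHom.comap_ker, hkerT, ← hFs, ← Ideal.map_ofList,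
      Ideal.comap_map_of_surjective f hPS, sup_comm]
    congr 1
  have hPT : Function.Surjective (algebraMap P T) := by
    rw [IsScalarTower.algebraMap_eq P S T]
    exact hST.comp hPS
  let eS : (P ⧸ RingHom.ker f) ≃ₐ[R] S :=
    Ideal.quotientKerAlgEquivOfSurjective (f := IsScalarTower.toAlgHom R P S) hPS
  let eT : (P ⧸ (RingHom.ker f ⊔ Ideal.ofList Fs)) ≃ₐ[R] T :=
    (Ideal.quotientEquivAlgOfEq R hkerPT.symm).trans
      (Ideal.quotientKerAlgEquivOfSurjective (f := IsScalarTower.toAlgHom R P T) hPT)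
  have hsm' : Algebra.FormallySmooth R (P ⧸ (RingHom.ker f ⊔ Ideal.ofList Fs)) :=
    Algebra.FormallySmooth.of_equiv eT.symm
  have hne : RingHom.ker f ⊔ Ideal.ofList Fs ≠ ⊤ := by
    rw [← hkerPT]
    exact RingHom.ker_ne_top _
  have : Algebra.FormallySmooth R (P ⧸ RingHom.ker f) := by
    refine formallySmooth_quotient_of_regular_list (RingHom.ker f) hker Fs ?_ hne hsm'
    intro l₁ F l₂ h a ha
    refine regular_lift_of_isWeaklyRegular hPS l₁ F l₂ ?_ a ha
    rw [← h, hFs]
    exact hrs
  exact Algebra.FormallySmooth.of_equiv eS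

end Abstract

end Groth.Agent.Lib.Helper62.RegSmooth
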