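import Groth.Agent.Lib.Helper62.RegSmooth1

set_option linter.style.haveILetI false

/-!
# Smoothness at a point ascends along quotients by regular sequences (finitely presented case)
-/

namespace Groth.Agent.Lib.Helper62.RegSmooth

open TensorProduct IsLocalRing KaehlerDifferential RingTheory.Sequence

universe u

theorem ker_localRingHom_of_surjective {A B : Type u} [CommRing A] [CommRing B] (g : A →+* B)
    (hg : Function.Surjective g) (q' : Ideal B) [q'.IsPrime] :
    RingHom.ker (Localization.localRingHom (q'.comap g) q' g rfl) =
      (RingHom.ker g).map (algebraMap A (Localization.AtPrime (q'.comap g))) := by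
  apply le_antisymm
  · intro x hx
    obtain ⟨a, s, rfl⟩ := IsLocalization.mk'_surjective (q'.comap g).primeCompl x
    rw [RingHom.mem_ker, Localization.localRingHom_mk', IsLocalization.mk'_eq_zero_iff] at hx
    obtain ⟨⟨t', ht'⟩, htz⟩ := hx
    obtain ⟨t, rfl⟩ := hg t'
    rw [IsLocalization.mk'_mem_map_algebraMap_iff]
    refine ⟨t, ht', ?_⟩
    rw [RingHom.mem_ker, map_mul]; exact htz
  · rw [Ideal.map_le_iff_le_comap]
    intro x hx
    rw [Ideal.mem_comap, RingHom.mem_ker, Localization.localRingHom_to_map,
      (RingHom.mem_ker).mp hx, map_zero]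

theorem isWeaklyRegular_map_of_flat {A : Type*} [CommRing A] (S : Type*) [CommRing S] [Algebra A S]
    [Module.Flat A S] (rs : List A) (h : IsWeaklyRegular A rs) :
    IsWeaklyRegular S (rs.map (algebraMap A S)) := by
  rw [isWeaklyRegular_map_algebraMap_iff]
  have := h.isWeaklyRegular_rTensor (M₂ := S)
  exact (LinearEquiv.isWeaklyRegular_congr (TensorProduct.lid A S) rs).mp this

/-- **Smoothness at a point ascends along quotients by weakly regular sequences.**
`A` a finitely presented `R`-algebra, `A ↠ B` with kernel generated by a weakly regular sequence.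
If `B` is smooth over `R` at a prime `q'`, then `A` is smooth over `R` at the preimage of `q'`. -/
theorem isSmoothAt_under_of_isWeaklyRegular {R A B : Type u} [CommRing R] [CommRing A] [CommRing B]
    [Algebra R A] [Algebra R B] [Algebra A B] [IsScalarTower R A B]
    [Algebra.FinitePresentation R A]
    (hsurj : Function.Surjective (algebraMap A B)) (rs : List A) (hrs : IsWeaklyRegular A rs)
    (hker : RingHom.ker (algebraMap A B) = Ideal.ofList rs)
    (q' : Ideal B) [q'.IsPrime] (h : Algebra.IsSmoothAt R q') :
    Algebra.IsSmoothAt R (q'.under A) := by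
  obtain ⟨n, φ, hφ, hφker⟩ := Algebra.FinitePresentation.out (R := R) (A := A)
  let P₀ := MvPolynomial (Fin n) R
  letI : Algebra P₀ A := φ.toRingHom.toAlgebra
  haveI : IsScalarTower R P₀ A := .of_algebraMap_eq' φ.comp_algebraMap.symm
  letI : Algebra P₀ B := ((algebraMap A B).comp (algebraMap P₀ A)).toAlgebra
  haveI : IsScalarTower P₀ A B := .of_algebraMap_eq' rfl
  haveI : IsScalarTower R P₀ B := .to₁₂₄ R P₀ A B
  set q : Ideal A := q'.under A with hq
  set Q : Ideal P₀ := q.under P₀ with hQ
  haveI : q'.LiesOver Q := Ideal.LiesOver.trans q' q Q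
  let P := Localization.AtPrime Q
  let S := Localization.AtPrime q
  let T := Localization.AtPrime q'
  letI : Algebra P S := Localization.AtPrime.algebraOfLiesOver Q q
  letI : Algebra S T := Localization.AtPrime.algebraOfLiesOver q q'
  letI : Algebra P T := Localization.AtPrime.algebraOfLiesOver Q q'
  haveI : IsScalarTower R P S := inferInstance
  haveI : IsScalarTower R P T := inferInstance
  haveI : IsScalarTower P S T := inferInstance
  haveI : Algebra.FormallySmooth P₀ P := Algebra.FormallySmooth.of_isLocalization Q.primeCompl
  haveI : Algebra.FormallySmooth R P := Algebra.FormallySmooth.comp R P₀ P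
  haveI : Algebra.FormallyEtale P₀ P := Algebra.FormallyEtale.of_isLocalization Q.primeCompl
  have b1 : IsBaseChange P (KaehlerDifferential.map R R P₀ P) :=
    KaehlerDifferential.isBaseChange_of_formallyEtale R P₀ P
  haveI : Module.Free P₀ Ω[P₀⁄R] := Module.Free.of_basis (KaehlerDifferential.mvPolynomialBasis R (Fin n))
  haveI : Module.Finite P₀ Ω[P₀⁄R] := Module.Finite.of_basis (KaehlerDifferential.mvPolynomialBasis R (Fin n))
  haveI : Module.Free P Ω[P⁄R] := Module.Free.of_equiv b1.equiv
  haveI : Module.Finite P Ω[P⁄R] := Module.Finite.equiv b1.equiv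
  have hPS : Function.Surjective (algebraMap P S) :=
    RingHom.surjective_localRingHom_of_surjective (algebraMap P₀ A) hφ q
  have hkerPS : (RingHom.ker (algebraMap P S)).FG := by
    have : RingHom.ker (algebraMap P S) = (RingHom.ker (algebraMap P₀ A)).map (algebraMap P₀ P) :=
      ker_localRingHom_of_surjective (algebraMap P₀ A) hφ q
    rw [this]
    exact Ideal.FG.map hφker _
  have hST : Function.Surjective (algebraMap S T) :=
    RingHom.surjective_localRingHom_of_surjective (algebraMap A B) hsurj q'
  have hkerST : RingHom.ker (algebraMap S T) = Ideal.ofList (rs.map (algebraMap A S)) := by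
    have : RingHom.ker (algebraMap S T) = (RingHom.ker (algebraMap A B)).map (algebraMap A S) :=
      ker_localRingHom_of_surjective (algebraMap A B) hsurj q'
    rw [this, hker, Ideal.map_ofList]
  have hrs' : IsWeaklyRegular S (rs.map (algebraMap A S)) := isWeaklyRegular_map_of_flat S rs hrs
  exact formallySmooth_of_isWeaklyRegular (R := R) (P := P) (S := S) (T := T) hPS hkerPS
    (rs.map (algebraMap A S)) hrs' hST hkerST h

end Groth.Agent.Lib.Helper62.RegSmooth
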