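import Groth.Agent.Lib.Helper62.RegSmooth2

set_option linter.style.haveILetI false

/-!
# Scheme-level: a regular closed immersion with smooth source has smooth ambient scheme nearby
-/

open CategoryTheory CategoryTheory.Limits AlgebraicGeometry TopologicalSpace

namespace Groth.Agent.Lib.Helper62.RegSmooth

universe u

/-- For `f` locally of finite presentation, `f` is smooth on an open neighbourhood of `x` iff
`x` lies in the smooth locus of `f`.  (Same statement as in `Lib/Helper14/SmoothFlatDescent`.) -/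
theorem exists_smooth_nhd_iff_mem_smoothLocus {X Y : Scheme.{u}} (f : X ⟶ Y)
    [LocallyOfFinitePresentation f] (x : X) :
    (∃ U : X.Opens, x ∈ U ∧ Smooth (U.ι ≫ f)) ↔ x ∈ f.smoothLocus := by
  constructor
  · rintro ⟨U, hxU, hU⟩
    have h1 : (U.ι ≫ f).smoothLocus = ⊤ := Scheme.Hom.smoothLocus_eq_top _
    rw [← Scheme.Hom.preimage_smoothLocus_eq] at h1
    have h2 : (⟨x, hxU⟩ : U.toScheme) ∈ U.ι ⁻¹ᵁ f.smoothLocus := by rw [h1]; trivial
    exact h2
  · intro hx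
    refine ⟨f.smoothLocus, hx, ?_⟩
    rw [← Scheme.Hom.smoothLocus_eq_top_iff, ← Scheme.Hom.preimage_smoothLocus_eq]
    rw [eq_top_iff]
    intro y _
    exact y.2

theorem mem_smoothLocus_of_regular_closedImmersion {X Y S : Scheme.{u}} (f : X ⟶ S)
    [LocallyOfFinitePresentation f] (j : Y ⟶ X) [IsClosedImmersion j]
    [LocallyOfFinitePresentation (j ≫ f)]
    (y : Y) (hy : y ∈ (j ≫ f).smoothLocus)
    (U : X.Opens) (hU : IsAffineOpen U) (hyU : j y ∈ U) (rs : List Γ(X, U))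
    (hrs : RingTheory.Sequence.IsWeaklyRegular Γ(X, U) rs)
    (hker : j.ker.ideal ⟨U, hU⟩ = Ideal.ofList rs) :
    j y ∈ f.smoothLocus := by
  obtain ⟨W, hW, hxW, -⟩ := Opens.isBasis_iff_nbhd.mp S.isBasis_affineOpens
    (Opens.mem_top (f (j y)))
  obtain ⟨s, hs₁, hs₂⟩ := hU.exists_basicOpen_le (V := U ⊓ f ⁻¹ᵁ W) ⟨j y, ⟨hyU, hxW⟩⟩ hyU
  have hVaff : IsAffineOpen (X.basicOpen s) := hU.basicOpen s
  have eV : X.basicOpen s ≤ f ⁻¹ᵁ W := hs₁.trans inf_le_right
  have hVY : IsAffineOpen (j ⁻¹ᵁ X.basicOpen s) := hVaff.preimage j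
  have eVY : j ⁻¹ᵁ X.basicOpen s ≤ (j ≫ f) ⁻¹ᵁ W := fun z hz => by
    rw [Scheme.Hom.mem_preimage, Scheme.Hom.comp_apply]
    exact eV hz
  have hyVY : y ∈ j ⁻¹ᵁ X.basicOpen s := hs₂
  rw [Scheme.Hom.mem_smoothLocus, formallySmooth_stalkMap_iff W hW _ hVaff eV hs₂]
  rw [Scheme.Hom.mem_smoothLocus, formallySmooth_stalkMap_iff W hW _ hVY eVY hyVY] at hy
  have hfp : (f.appLE W (X.basicOpen s) eV).hom.FinitePresentation :=
    f.finitePresentation_appLE hW hVaff eV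
  algebraize [(f.appLE W (X.basicOpen s) eV).hom, (j.app (X.basicOpen s)).hom,
    ((j ≫ f).appLE W (j ⁻¹ᵁ X.basicOpen s) eVY).hom]
  have hcomp : ((j ≫ f).appLE W (j ⁻¹ᵁ X.basicOpen s) eVY).hom =
      (j.app (X.basicOpen s)).hom.comp (f.appLE W (X.basicOpen s) eV).hom := by
    rw [← CommRingCat.hom_comp, Scheme.Hom.app_eq_appLE, Scheme.Hom.appLE_comp_appLE]
  have : IsScalarTower Γ(S, W) Γ(X, X.basicOpen s) Γ(Y, j ⁻¹ᵁ X.basicOpen s) :=
    .of_algebraMap_eq' hcomp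
  have hsurj : Function.Surjective (algebraMap Γ(X, X.basicOpen s) Γ(Y, j ⁻¹ᵁ X.basicOpen s)) :=
    j.app_surjective (X.basicOpen s) hVaff
  have hloc : IsLocalization.Away s Γ(X, X.basicOpen s) := hU.isLocalization_basicOpen s
  have hflat : Module.Flat Γ(X, U) Γ(X, X.basicOpen s) :=
    IsLocalization.flat Γ(X, X.basicOpen s) (Submonoid.powers s)
  have hrs' : RingTheory.Sequence.IsWeaklyRegular Γ(X, X.basicOpen s)
      (rs.map (algebraMap Γ(X, U) Γ(X, X.basicOpen s))) :=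
    isWeaklyRegular_map_of_flat Γ(X, X.basicOpen s) rs hrs
  have hker' : RingHom.ker (algebraMap Γ(X, X.basicOpen s) Γ(Y, j ⁻¹ᵁ X.basicOpen s)) =
      Ideal.ofList (rs.map (algebraMap Γ(X, U) Γ(X, X.basicOpen s))) := by
    have h1 := Scheme.Hom.ker_apply j (X.affineBasicOpen (U := ⟨U, hU⟩) s)
    have h2 := j.ker.map_ideal_basicOpen ⟨U, hU⟩ s
    rw [← Ideal.map_ofList, ← hker]
    exact h1.symm.trans h2.symm
  have hq := congr($(IsAffineOpen.comap_primeIdealOf_appLE (f := j) (X.basicOpen s) hVaff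
    (j ⁻¹ᵁ X.basicOpen s) hVY le_rfl hyVY).1)
  simp only [PrimeSpectrum.comap_asIdeal] at hq
  have key : ∀ (I J : Ideal Γ(X, X.basicOpen s)) [I.IsPrime] [J.IsPrime], I = J →
      Algebra.IsSmoothAt Γ(S, W) I → Algebra.IsSmoothAt Γ(S, W) J := by
    intro I J _ _ h; subst h; exact id
  have hB := isSmoothAt_under_of_isWeaklyRegular (R := Γ(S, W)) (A := Γ(X, X.basicOpen s))
    (B := Γ(Y, j ⁻¹ᵁ X.basicOpen s)) hsurj _ hrs' hker'
    (hVY.primeIdealOf ⟨y, hyVY⟩).asIdeal hy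
  refine key _ _ ?_ hB
  rw [← hq, Ideal.under_def, ← Scheme.Hom.app_eq_appLE]
  rfl

end Groth.Agent.Lib.Helper62.RegSmooth
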