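import Mathlib
import Groth.Agent.Lib.Helper62.SymKaehler
import Groth.Agent.Lib.Helper62.KaehlerSplit

/-!
# Elkik's retraction trick: `C = Sym_A(ker(A^n → Ω[A/R]))` has free Kähler differentials over the
smooth locus (helper62)
-/

set_option autoImplicit false
universe u

namespace Groth.Agent.Lib.Helper62.RetractKaehler

open KaehlerDifferential TensorProduct

variable {R A : Type u} [CommRing R] [CommRing A] [Algebra R A]
variable {n : ℕ} (x : Fin n → A)

/-- The map `A^n → Ω[A/R]`, `e_i ↦ d x_i`. -/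
noncomputable def q : (Fin n → A) →ₗ[A] Ω[A⁄R] :=
  Fintype.linearCombination A (fun i => D R A (x i))

lemma q_single (i : Fin n) : q (R := R) x (Pi.single i 1) = D R A (x i) := by
  simp [q, Fintype.linearCombination_apply, Pi.single_apply]

lemma q_surjective (hx : Algebra.adjoin R (Set.range x) = ⊤) :
    Function.Surjective (q (R := R) x) := by
  rw [← LinearMap.range_eq_top, eq_top_iff, ← KaehlerDifferential.span_range_derivation,
    Submodule.span_le]
  rintro _ ⟨a, rfl⟩
  have ha : a ∈ Algebra.adjoin R (Set.range x) := hx ▸ trivial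
  induction ha using Algebra.adjoin_induction with
  | mem a ha => obtain ⟨i, rfl⟩ := ha; exact ⟨Pi.single i 1, q_single x i⟩
  | algebraMap r => simp
  | add a a' _ _ h h' => rw [map_add]; exact add_mem h h'
  | mul a a' _ _ h h' =>
    rw [Derivation.leibniz]
    exact add_mem (Submodule.smul_mem _ _ h') (Submodule.smul_mem _ _ h)

/-- The module of relations `H = ker(A^n → Ω[A/R])`. -/
abbrev Hmod : Type u := ↥(LinearMap.ker (q (R := R) x))

section split

variable (S : Type u) [CommRing S] [Algebra A S] [Module.Flat A S]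
  [Module.Projective S (S ⊗[A] Ω[A⁄R])]

/-- After a flat base change making `Ω` projective, the relation sequence splits. -/
theorem nonempty_split (hx : Algebra.adjoin R (Set.range x) = ⊤) :
    Nonempty ((S ⊗[A] (Fin n → A)) ≃ₗ[S] (S ⊗[A] Hmod (R := R) x) × (S ⊗[A] Ω[A⁄R])) := by
  let f : (S ⊗[A] Hmod (R := R) x) →ₗ[S] (S ⊗[A] (Fin n → A)) :=
    (LinearMap.ker (q (R := R) x)).subtype.baseChange S
  let g : (S ⊗[A] (Fin n → A)) →ₗ[S] (S ⊗[A] Ω[A⁄R]) := (q (R := R) x).baseChange S
  have hex : Function.Exact f g := by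
    have := Module.Flat.lTensor_exact S (LinearMap.exact_subtype_ker_map (q (R := R) x))
    simpa only [f, g, LinearMap.baseChange_eq_ltensor] using this
  have hinj : Function.Injective f := by
    have := Module.Flat.lTensor_preserves_injective_linearMap (M := S)
      (LinearMap.ker (q (R := R) x)).subtype (Submodule.subtype_injective _)
    simpa only [f, LinearMap.baseChange_eq_ltensor] using this
  have hsurj : Function.Surjective g := by
    have := LinearMap.lTensor_surjective S (q_surjective (R := R) x hx)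
    simpa only [g, LinearMap.baseChange_eq_ltensor] using this
  obtain ⟨l, hl⟩ := Module.projective_lifting_property g LinearMap.id hsurj
  exact ⟨(hex.splitSurjectiveEquiv hinj ⟨l, hl⟩).1⟩

theorem projective_baseChange_Hmod (hx : Algebra.adjoin R (Set.range x) = ⊤) :
    Module.Projective S (S ⊗[A] Hmod (R := R) x) := by
  obtain ⟨e⟩ := nonempty_split (R := R) x S hx
  refine Module.Projective.of_split (M := S ⊗[A] (Fin n → A))
    (e.symm.toLinearMap ∘ₗ LinearMap.inl S _ _) (LinearMap.fst S _ _ ∘ₗ e.toLinearMap) ?_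
  ext y
  simp

theorem free_baseChange_prod (hx : Algebra.adjoin R (Set.range x) = ⊤) :
    Module.Free S (S ⊗[A] (Ω[A⁄R] × Hmod (R := R) x)) := by
  obtain ⟨e⟩ := nonempty_split (R := R) x S hx
  have e1 : (S ⊗[A] (Ω[A⁄R] × Hmod (R := R) x)) ≃ₗ[S]
      (S ⊗[A] Ω[A⁄R]) × (S ⊗[A] Hmod (R := R) x) := TensorProduct.prodRight A S S _ _
  have e2 : ((S ⊗[A] Ω[A⁄R]) × (S ⊗[A] Hmod (R := R) x)) ≃ₗ[S]
      (S ⊗[A] Hmod (R := R) x) × (S ⊗[A] Ω[A⁄R]) := LinearEquiv.prodComm S _ _
  exact Module.Free.of_equiv ((e1.trans e2).trans e.symm).symm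

end split

/-- The retract algebra `C = Sym_A(H)` (a type synonym, so that instance search only sees the
instances declared below). -/
def Calg : Type u := SymmetricAlgebra A (Hmod (R := R) x)

noncomputable instance : CommRing (Calg (R := R) x) :=
  inferInstanceAs (CommRing (SymmetricAlgebra A (Hmod (R := R) x)))

noncomputable instance : Algebra A (Calg (R := R) x) :=
  inferInstanceAs (Algebra A (SymmetricAlgebra A (Hmod (R := R) x)))

/-- The canonical map `H → C`. -/
noncomputable def ιC : Hmod (R := R) x →ₗ[A] Calg (R := R) x :=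
  SymmetricAlgebra.ι A (Hmod (R := R) x)

/-- The universal property of `C`. -/
noncomputable def liftC {B : Type u} [CommRing B] [Algebra A B] (v : Hmod (R := R) x →ₗ[A] B) :
    Calg (R := R) x →ₐ[A] B :=
  SymmetricAlgebra.lift v

@[simp] lemma liftC_ιC {B : Type u} [CommRing B] [Algebra A B] (v : Hmod (R := R) x →ₗ[A] B)
    (h : Hmod (R := R) x) : liftC x v (ιC x h) = v h :=
  SymmetricAlgebra.lift_ι_apply v h

lemma algHom_ext_C {B : Type u} [CommRing B] [Algebra A B] {F G : Calg (R := R) x →ₐ[A] B}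
    (h : ∀ y, F (ιC x y) = G (ιC x y)) : F = G :=
  SymmetricAlgebra.algHom_ext (LinearMap.ext h)

/-- `Ω[C/A] ≃ C ⊗[A] H`. -/
noncomputable def kaehlerEquivC :
    Ω[Calg (R := R) x⁄A] ≃ₗ[Calg (R := R) x] (Calg (R := R) x ⊗[A] Hmod (R := R) x) :=
  SymKaehler.kaehlerEquiv A (Hmod (R := R) x)

/-- The retraction `C → A`. -/
noncomputable def retrC : Calg (R := R) x →ₐ[A] A :=
  SymmetricAlgebra.algebraMapInv

theorem finiteType_C [Module.Finite A (Hmod (R := R) x)] :
    Algebra.FiniteType A (Calg (R := R) x) :=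
  SymKaehler.finiteType A (Hmod (R := R) x)

section smooth

variable (a : A)

/-- `C_a` is formally smooth over `A` as soon as `H_a` is projective over `A_a`. -/
theorem formallySmooth_away
    [Module.Projective (Localization.Away a) (Localization.Away a ⊗[A] Hmod (R := R) x)] :
    Algebra.FormallySmooth A (Localization.Away (algebraMap A (Calg (R := R) x) a)) := by
  refine Algebra.FormallySmooth.of_comp_surjective fun B _ _ I hI f => ?_
  have hunitT : IsUnit (algebraMap A (Localization.Away (algebraMap A (Calg (R := R) x) a)) a) := by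
    rw [IsScalarTower.algebraMap_apply A (Calg (R := R) x)
      (Localization.Away (algebraMap A (Calg (R := R) x) a))]
    exact IsLocalization.Away.algebraMap_isUnit _
  have hunitB : IsUnit (algebraMap A B a) := by
    apply (IsNilpotent.isUnit_quotient_mk_iff ⟨2, hI⟩).mp
    have := hunitT.map f
    rwa [AlgHom.commutes] at this
  let algSB : Algebra (Localization.Away a) B := (IsLocalization.Away.lift a hunitB).toAlgebra
  have tower : IsScalarTower A (Localization.Away a) B :=
    IsScalarTower.of_algebraMap_eq (fun r => (IsLocalization.Away.lift_eq a hunitB r).symm)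
  let u : Hmod (R := R) x →ₗ[A] B ⧸ I :=
    f.toLinearMap ∘ₗ (IsScalarTower.toAlgHom A (Calg (R := R) x) _).toLinearMap ∘ₗ ιC x
  let uS : Localization.Away a ⊗[A] Hmod (R := R) x →ₗ[Localization.Away a] B ⧸ I :=
    LinearMap.liftBaseChange (Localization.Away a) u
  let p : B →ₗ[Localization.Away a] B ⧸ I := (Ideal.Quotient.mkₐ (Localization.Away a) I).toLinearMap
  obtain ⟨vS, hvS⟩ := Module.projective_lifting_property p uS Ideal.Quotient.mk_surjective
  let v : Hmod (R := R) x →ₗ[A] B :=
    vS.restrictScalars A ∘ₗ TensorProduct.mk A (Localization.Away a) (Hmod (R := R) x) 1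
  let gC : Calg (R := R) x →ₐ[A] B := liftC x v
  have hgC : ∀ y : Submonoid.powers (algebraMap A (Calg (R := R) x) a), IsUnit (gC y) := by
    rintro ⟨_, k, rfl⟩
    simp only [map_pow, AlgHom.commutes]
    exact hunitB.pow k
  let g : Localization.Away (algebraMap A (Calg (R := R) x) a) →ₐ[A] B :=
    IsLocalization.liftAlgHom (M := Submonoid.powers (algebraMap A (Calg (R := R) x) a)) (f := gC) hgC
  refine ⟨g, ?_⟩
  apply IsLocalization.algHom_ext (Submonoid.powers (algebraMap A (Calg (R := R) x) a))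
  apply algHom_ext_C
  intro h
  have h1 : p (vS (1 ⊗ₜ h)) = uS (1 ⊗ₜ h) := congr($hvS (1 ⊗ₜ h))
  show Ideal.Quotient.mk I (g (algebraMap _ _ (ιC x h))) = _
  rw [show g (algebraMap _ _ (ιC x h)) = gC (ιC x h) from IsLocalization.lift_eq _ _]
  simp only [gC, liftC_ιC, v, LinearMap.coe_comp, Function.comp_apply,
    LinearMap.coe_restrictScalars, TensorProduct.mk_apply]
  show p (vS (1 ⊗ₜ h)) = _
  rw [h1]
  simp only [uS, u, LinearMap.liftBaseChange_tmul, one_smul, LinearMap.coe_comp,
    Function.comp_apply, AlgHom.toLinearMap_apply]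
  rfl

end smooth

section main

variable [Algebra R (Calg (R := R) x)] [IsScalarTower R A (Calg (R := R) x)]
variable (a : A)

local notation "Sa" => Localization.Away a
local notation "Cx" => Calg (R := R) x
local notation "Ta" => Localization.Away (algebraMap A (Calg (R := R) x) a)
local notation "Hx" => Hmod (R := R) x

/-- Over the smooth locus, the Kähler differentials of `C_a` over `R` are free. -/
theorem free_kaehler_away (hx : Algebra.adjoin R (Set.range x) = ⊤)
    [Algebra.FormallySmooth R (Localization.Away a)] :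
    Module.Free (Localization.Away (algebraMap A (Calg (R := R) x) a))
      Ω[Localization.Away (algebraMap A (Calg (R := R) x) a)⁄R] := by
  have hetS : Algebra.FormallyEtale A Sa :=
    Algebra.FormallyEtale.of_isLocalization (Submonoid.powers a)
  have hprojΩ : Module.Projective Sa (Sa ⊗[A] Ω[A⁄R]) :=
    Module.Projective.of_equiv (tensorKaehlerEquivOfFormallyEtale R A Sa).symm
  have hprojH : Module.Projective Sa (Sa ⊗[A] Hx) := projective_baseChange_Hmod (R := R) x Sa hx
  have hfreeS : Module.Free Sa (Sa ⊗[A] (Ω[A⁄R] × Hx)) := free_baseChange_prod (R := R) x Sa hx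
  have hsm : Algebra.FormallySmooth A Ta := formallySmooth_away (R := R) x a
  have towerRAT := IsScalarTower.of_algebraMap_eq (R := R) (S := A) (A := Ta) (fun r => by
    have h1 : algebraMap R Ta r = algebraMap Cx Ta (algebraMap R Cx r) :=
      IsScalarTower.algebraMap_apply R Cx Ta r
    have h2 : algebraMap R Cx r = algebraMap A Cx (algebraMap R A r) :=
      IsScalarTower.algebraMap_apply R A Cx r
    have h3 : algebraMap A Ta (algebraMap R A r) =
        algebraMap Cx Ta (algebraMap A Cx (algebraMap R A r)) :=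
      IsScalarTower.algebraMap_apply A Cx Ta _
    rw [h1, h2, h3])
  obtain ⟨e1⟩ := KaehlerSplit.nonempty_equiv_prod R A Ta
  have hetT : Algebra.FormallyEtale Cx Ta :=
    Algebra.FormallyEtale.of_isLocalization (Submonoid.powers (algebraMap A Cx a))
  let e2 : Ω[Ta⁄A] ≃ₗ[Ta] Ta ⊗[Cx] Ω[Cx⁄A] := (tensorKaehlerEquivOfFormallyEtale A Cx Ta).symm
  let e3 : Ta ⊗[Cx] Ω[Cx⁄A] ≃ₗ[Ta] Ta ⊗[Cx] (Cx ⊗[A] Hx) :=
    TensorProduct.AlgebraTensorModule.congr (LinearEquiv.refl Ta Ta) (kaehlerEquivC (R := R) x)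
  let e4 : Ta ⊗[Cx] (Cx ⊗[A] Hx) ≃ₗ[Ta] Ta ⊗[A] Hx :=
    TensorProduct.AlgebraTensorModule.cancelBaseChange A Cx Ta Ta Hx
  have hunitT : IsUnit (algebraMap A Ta a) := by
    rw [IsScalarTower.algebraMap_apply A Cx Ta]
    exact IsLocalization.Away.algebraMap_isUnit _
  let algST : Algebra Sa Ta := (IsLocalization.Away.lift a hunitT).toAlgebra
  have towerST : IsScalarTower A Sa Ta :=
    IsScalarTower.of_algebraMap_eq (fun r => (IsLocalization.Away.lift_eq a hunitT r).symm)
  let e5 : Ta ⊗[Sa] (Sa ⊗[A] (Ω[A⁄R] × Hx)) ≃ₗ[Ta] Ta ⊗[A] (Ω[A⁄R] × Hx) :=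
    TensorProduct.AlgebraTensorModule.cancelBaseChange A Sa Ta Ta _
  let e6 : Ta ⊗[A] (Ω[A⁄R] × Hx) ≃ₗ[Ta] (Ta ⊗[A] Ω[A⁄R]) × (Ta ⊗[A] Hx) :=
    TensorProduct.prodRight A Ta Ta _ _
  have hfreeT : Module.Free Ta (Ta ⊗[Sa] (Sa ⊗[A] (Ω[A⁄R] × Hx))) := inferInstance
  exact Module.Free.of_equiv
    (e5 ≪≫ₗ e6 ≪≫ₗ (LinearEquiv.prodCongr (LinearEquiv.refl Ta _) (e2 ≪≫ₗ e3 ≪≫ₗ e4).symm) ≪≫ₗ e1.symm)

end main

end Groth.Agent.Lib.Helper62.RetractKaehler
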