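import Mathlib

/-!
# Linear algebra core for lifting smooth algebras along square-zero extensions (helper62)

`exists_retraction_of_matrix_data`: a module `M` spanned by `m : σ → M`, mapping by `cc` into a
free module, admits a retraction of `cc` as soon as there are matrices `a₁` (an "almost
idempotent" with `m = a₁ • m`) and `S` such that `Jᵀ S ≡ a₁` modulo an ideal of square zero.
-/

set_option autoImplicit false
set_option linter.unusedSectionVars false
universe u v

open Matrix

namespace Groth.Agent.Lib.Helper62.SqZeroLift1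

section matrix

variable {A : Type*} [CommRing A] {σ : Type*} [Fintype σ] [DecidableEq σ]

/-- Matrices with entries in an ideal of square zero multiply to zero. -/
theorem mul_eq_zero_of_entries_mem (𝔞 : Ideal A) (h𝔞 : ∀ x ∈ 𝔞, ∀ y ∈ 𝔞, x * y = 0)
    {ι κ τ : Type*} [Fintype κ] (X : Matrix ι κ A) (Y : Matrix κ τ A)
    (hX : ∀ i j, X i j ∈ 𝔞) (hY : ∀ i j, Y i j ∈ 𝔞) : X * Y = 0 := by
  ext i j
  rw [Matrix.mul_apply, Matrix.zero_apply]
  exact Finset.sum_eq_zero fun k _ => h𝔞 _ (hX i k) _ (hY k j)

theorem mul_entries_mem_left (𝔞 : Ideal A) {ι κ τ : Type*} [Fintype κ] (X : Matrix ι κ A)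
    (Y : Matrix κ τ A) (hX : ∀ i j, X i j ∈ 𝔞) : ∀ i j, (X * Y) i j ∈ 𝔞 := by
  intro i j
  rw [Matrix.mul_apply]
  exact Ideal.sum_mem _ fun k _ => Ideal.mul_mem_right _ _ (hX i k)

/-- The idempotent-lifting polynomial `3x² - 2x³`. -/
def idem (a : Matrix σ σ A) : Matrix σ σ A := a * a + a * a + a * a - (a * a * a + a * a * a)

theorem idem_sub_self (a : Matrix σ σ A) : idem a - a = (a * a - a) * (1 - (a + a)) := by
  unfold idem
  noncomm_ring

theorem idem_mul_idem_sub (a : Matrix σ σ A) :
    idem a * idem a - idem a =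
      (a * a - a) * (a * a - a) * (a * a + a * a + a * a + a * a - (a + a + a + a) - (1 + 1 + 1)) := by
  unfold idem
  noncomm_ring

end matrix

section core

variable {A : Type u} [CommRing A] {M : Type v} [AddCommGroup M] [Module A M]
  {σ ι : Type} [Fintype σ] [DecidableEq σ] [Fintype ι] [DecidableEq ι]
  {F : Type v} [AddCommGroup F] [Module A F]

/-- The action of a matrix on a vector of module elements. -/
def act (X : Matrix σ σ A) (w : σ → M) : σ → M := fun r => ∑ k, X r k • w k

theorem act_mul (X Y : Matrix σ σ A) (w : σ → M) : act (X * Y) w = act X (act Y w) := by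
  funext r
  simp only [act, Matrix.mul_apply, Finset.sum_smul, Finset.smul_sum, mul_smul]
  rw [Finset.sum_comm]

theorem act_add (X Y : Matrix σ σ A) (w : σ → M) : act (X + Y) w = act X w + act Y w := by
  funext r
  simp only [act, Matrix.add_apply, add_smul, Finset.sum_add_distrib, Pi.add_apply]

theorem act_sub (X Y : Matrix σ σ A) (w : σ → M) : act (X - Y) w = act X w - act Y w := by
  funext r
  simp only [act, Matrix.sub_apply, sub_smul, Finset.sum_sub_distrib, Pi.sub_apply]

theorem act_idem (a : Matrix σ σ A) (w : σ → M) (h : act a w = w) : act (idem a) w = w := by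
  have h2 : act (a * a) w = w := by rw [act_mul, h, h]
  have h3 : act (a * a * a) w = w := by rw [act_mul, h, h2]
  unfold idem
  rw [act_sub, act_add, act_add, act_add, h2, h3]
  abel

theorem exists_retraction_of_matrix_data (𝔞 : Ideal A) (h𝔞 : ∀ x ∈ 𝔞, ∀ y ∈ 𝔞, x * y = 0)
    (m : σ → M) (hm : Submodule.span A (Set.range m) = ⊤) (β : Module.Basis ι A F)
    (cc : M →ₗ[A] F) (a₁ : Matrix σ σ A) (S : Matrix ι σ A)
    (h1 : act a₁ m = m) (h2 : ∀ r r', (a₁ * a₁ - a₁) r r' ∈ 𝔞)
    (h3 : ∀ r r', ((Matrix.of fun r i => β.repr (cc (m r)) i) * S - a₁) r r' ∈ 𝔞) :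
    ∃ l : F →ₗ[A] M, l ∘ₗ cc = LinearMap.id := by
  classical
  set JT : Matrix σ ι A := Matrix.of fun r i => β.repr (cc (m r)) i with hJT
  set E := idem a₁ with hE
  have hEm : act E m = m := act_idem a₁ m h1
  -- `E` is idempotent
  have hD2 : (a₁ * a₁ - a₁) * (a₁ * a₁ - a₁) = 0 :=
    mul_eq_zero_of_entries_mem 𝔞 h𝔞 _ _ h2 h2
  have hEE : E * E = E := by
    have := idem_mul_idem_sub a₁
    rw [hD2, Matrix.zero_mul] at this
    exact sub_eq_zero.mp this
  -- `E ≡ a₁`
  have hEa : ∀ r r', (E - a₁) r r' ∈ 𝔞 := by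
    rw [hE, idem_sub_self]
    exact mul_entries_mem_left 𝔞 _ _ h2
  -- `JT = E * JT`
  have hJE : JT = E * JT := by
    ext r i
    have hr : m r = ∑ k, E r k • m k := (congrFun hEm r).symm
    rw [Matrix.mul_apply]
    simp only [hJT, Matrix.of_apply]
    conv_lhs => rw [hr]
    simp only [map_sum, map_smul, Finsupp.coe_finsetSum, Finsupp.coe_smul, Finset.sum_apply,
      Pi.smul_apply, smul_eq_mul]
  set u := JT * S with hu
  have huE : u = E * u := by rw [hu, ← Matrix.mul_assoc, ← hJE]
  set N := u - E with hN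
  have hNmem : ∀ r r', N r r' ∈ 𝔞 := by
    intro r r'
    have : N r r' = (u - a₁) r r' - (E - a₁) r r' := by
      simp only [hN, Matrix.sub_apply]; ring
    rw [this]
    exact sub_mem (h3 r r') (hEa r r')
  have hNN : N * N = 0 := mul_eq_zero_of_entries_mem 𝔞 h𝔞 _ _ hNmem hNmem
  have hEN : E * N = N := by
    rw [hN, Matrix.mul_sub, ← huE, hEE]
  have huN : u * (1 - N) = E := by
    have hu' : u = E + N := by rw [hN]; abel
    have h4 : u * N = N := by
      have := congrArg (fun X => X * N) hu'
      simp only [Matrix.add_mul, hEN, hNN, add_zero] at this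
      exact this
    rw [Matrix.mul_sub, Matrix.mul_one, h4, hN]
    abel
  set W : Matrix ι σ A := S * (1 - N) with hW
  have hJW : JT * W = E := by rw [hW, ← Matrix.mul_assoc, ← hu, huN]
  let l : F →ₗ[A] M := β.constr A fun i => ∑ r', W i r' • m r'
  refine ⟨l, ?_⟩
  apply LinearMap.ext_on_range hm
  intro r
  simp only [LinearMap.coe_comp, Function.comp_apply, LinearMap.id_coe, id_eq]
  have hcc : cc (m r) = ∑ i, JT r i • β i := by
    simp only [hJT, Matrix.of_apply]
    exact (β.sum_repr _).symm
  rw [hcc, map_sum]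
  simp only [map_smul, l, Module.Basis.constr_basis, Finset.smul_sum, smul_smul]
  rw [Finset.sum_comm]
  simp only [← Finset.sum_smul]
  have : ∀ r', ∑ i, JT r i * W i r' = E r r' := by
    intro r'
    rw [← hJW, Matrix.mul_apply]
  simp only [this]
  exact congrFun hEm r

end core

end Groth.Agent.Lib.Helper62.SqZeroLift1
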