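import Mathlib

/-!
# Correcting lifts of generators along a square-zero ideal (helper62)

`exists_correction`: given generators `f₀` and an "almost idempotent" matrix `e₀` with
`f₀ ≡ e₀ f₀` modulo `K₀² + 𝔦` (`𝔦² = 0`), one can modify `f₀` and `e₀` by elements of `𝔦` so that
`f ≡ e f` modulo `K²` exactly.
-/

set_option autoImplicit false
set_option linter.unusedSectionVars false
universe u

open Matrix

namespace Groth.Agent.Lib.Helper62.SqZeroLift2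

variable {P : Type*} [CommRing P] {σ : Type*} [Fintype σ] [DecidableEq σ]

theorem mem_mul_span_range (𝔦 : Ideal P) (f : σ → P) (x : P)
    (hx : x ∈ 𝔦 * Ideal.span (Set.range f)) :
    ∃ n : σ → P, (∀ r, n r ∈ 𝔦) ∧ x = ∑ r, n r * f r := by
  induction hx using Submodule.mul_induction_on' with
  | mem_mul_mem a ha b hb =>
    obtain ⟨c, rfl⟩ := (Ideal.mem_span_range_iff_exists_fun).mp hb
    refine ⟨fun r => a * c r, fun r => Ideal.mul_mem_right _ _ ha, ?_⟩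
    rw [Finset.mul_sum]
    exact Finset.sum_congr rfl fun r _ => (mul_assoc _ _ _).symm
  | add x _ y _ hx hy =>
    obtain ⟨n, hn, rfl⟩ := hx
    obtain ⟨n', hn', rfl⟩ := hy
    refine ⟨fun r => n r + n' r, fun r => add_mem (hn r) (hn' r), ?_⟩
    rw [← Finset.sum_add_distrib]
    exact Finset.sum_congr rfl fun r _ => (add_mul _ _ _).symm

theorem mulVec_mem (𝔴 : Ideal P) (X : Matrix σ σ P) (w : σ → P) (hw : ∀ r, w r ∈ 𝔴) (r : σ) :
    (X *ᵥ w) r ∈ 𝔴 := by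
  rw [Matrix.mulVec, dotProduct]
  exact Ideal.sum_mem _ fun k _ => Ideal.mul_mem_left _ _ (hw k)

theorem mulVec_mem_mul (𝔵 𝔴 : Ideal P) (X : Matrix σ σ P) (w : σ → P) (hX : ∀ r r', X r r' ∈ 𝔵)
    (hw : ∀ r, w r ∈ 𝔴) (r : σ) : (X *ᵥ w) r ∈ 𝔵 * 𝔴 := by
  rw [Matrix.mulVec, dotProduct]
  exact Ideal.sum_mem _ fun k _ => Ideal.mul_mem_mul (hX r k) (hw k)

theorem exists_correction (𝔦 : Ideal P) (h𝔦 : 𝔦 * 𝔦 = ⊥) (f₀ : σ → P) (e₀ : Matrix σ σ P)
    (ha : ∀ r, f₀ r - (e₀ *ᵥ f₀) r ∈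
      Ideal.span (Set.range f₀) * Ideal.span (Set.range f₀) ⊔ 𝔦)
    (hb : ∀ r r', (e₀ * e₀ - e₀) r r' ∈ Ideal.span (Set.range f₀) ⊔ 𝔦) :
    ∃ (f : σ → P) (e : Matrix σ σ P), (∀ r, f r - f₀ r ∈ 𝔦) ∧ (∀ r r', e r r' - e₀ r r' ∈ 𝔦) ∧
      ∀ r, f r - (e *ᵥ f) r ∈ Ideal.span (Set.range f) * Ideal.span (Set.range f) := by
  classical
  set K₀ := Ideal.span (Set.range f₀) with hK₀
  choose κ hκ i hi hsum using fun r => Submodule.mem_sup.mp (ha r)
  set f : σ → P := fun r => f₀ r - i r with hf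
  set K := Ideal.span (Set.range f) with hK
  have hK₀K : K₀ ≤ K ⊔ 𝔦 := by
    rw [hK₀, Ideal.span_le]
    rintro _ ⟨r, rfl⟩
    have : f₀ r = f r + i r := by simp [hf]
    rw [this]
    exact Submodule.add_mem_sup (Ideal.subset_span ⟨r, rfl⟩) (hi r)
  have hsupK : K₀ ⊔ 𝔦 ≤ K ⊔ 𝔦 := sup_le hK₀K le_sup_right
  -- the target ideal
  have hT : (K₀ ⊔ 𝔦) * K₀ ≤ K * K ⊔ 𝔦 * K := by
    refine (Ideal.mul_mono hsupK hK₀K).trans ?_
    rw [Ideal.sup_mul, Ideal.mul_sup, Ideal.mul_sup, h𝔦]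
    refine sup_le (sup_le le_sup_left ?_) (sup_le le_sup_right bot_le)
    rw [mul_comm]
    exact le_sup_right
  have hKK₀ : K₀ * K₀ ≤ (K₀ ⊔ 𝔦) * K₀ := Ideal.mul_mono_left le_sup_left
  -- vector identity
  have hg : (fun r => f₀ r - (e₀ *ᵥ f₀) r) = κ + i := by
    funext r
    exact (hsum r).symm
  have hvec : f - e₀ *ᵥ f = κ + (e₀ - e₀ * e₀) *ᵥ f₀ - e₀ *ᵥ κ := by
    have hf' : f = f₀ - i := rfl
    have hi' : i = (f₀ - e₀ *ᵥ f₀) - κ := by
      have : f₀ - e₀ *ᵥ f₀ = κ + i := hg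
      rw [this]; abel
    rw [hf', Matrix.mulVec_sub]
    conv_lhs => rw [hi']
    rw [Matrix.mulVec_sub, Matrix.mulVec_sub, Matrix.sub_mulVec, Matrix.mulVec_mulVec]
    abel
  have key : ∀ r, f r - (e₀ *ᵥ f) r ∈ K * K ⊔ 𝔦 * K := by
    intro r
    have h1 : (f - e₀ *ᵥ f) r = κ r + ((e₀ - e₀ * e₀) *ᵥ f₀) r - (e₀ *ᵥ κ) r := by
      rw [hvec]; rfl
    change (f - e₀ *ᵥ f) r ∈ _
    rw [h1]
    apply hT
    refine sub_mem (add_mem (hKK₀ (hκ r)) ?_) (hKK₀ (mulVec_mem _ _ _ hκ r))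
    refine mulVec_mem_mul (K₀ ⊔ 𝔦) K₀ _ f₀ (fun r r' => ?_)
      (fun r => Ideal.subset_span (Set.mem_range_self r)) r
    have := hb r r'
    rw [show (e₀ - e₀ * e₀) r r' = -((e₀ * e₀ - e₀) r r') by simp [Matrix.sub_apply]]
    exact neg_mem this
  choose κ' hκ' ν hν hsum' using fun r => Submodule.mem_sup.mp (key r)
  choose n hn hνn using fun r => mem_mul_span_range 𝔦 f (ν r) (hν r)
  refine ⟨f, e₀ + Matrix.of n, fun r => ?_, fun r r' => ?_, fun r => ?_⟩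
  · simp only [hf, sub_sub_cancel_left]
    exact neg_mem (hi r)
  · simp only [Matrix.add_apply, Matrix.of_apply, add_sub_cancel_left]
    exact hn r r'
  · have : f r - ((e₀ + Matrix.of n) *ᵥ f) r = κ' r := by
      rw [Matrix.add_mulVec, Pi.add_apply]
      have h2 : (Matrix.of n *ᵥ f) r = ν r := by
        rw [hνn r, Matrix.mulVec, dotProduct]
        rfl
      rw [h2]
      have := hsum' r
      linear_combination -this
    rw [this]
    exact hκ' r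

end Groth.Agent.Lib.Helper62.SqZeroLift2
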