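import Mathlib
import Groth.Agent.Lib.Helper62.SqZeroLift1
import Groth.Agent.Lib.Helper62.SqZeroLift2

/-!
# Lifting smooth algebras along square-zero extensions (helper62)
-/

set_option autoImplicit false
set_option linter.unusedSectionVars false
set_option linter.style.haveILetI false
set_option linter.unusedSimpArgs false
universe u

open Matrix MvPolynomial

namespace Groth.Agent.Lib.Helper62.SqZeroLift3

open Algebra

section P1

variable {R' A' : Type u} [CommRing R'] [CommRing A'] [Algebra R' A']
  {ι σ : Type} [Fintype ι] [DecidableEq ι] [Fintype σ] [DecidableEq σ]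
  (P' : Algebra.Presentation R' A' ι σ)

/-- The class of the `r`-th relation in the cotangent module. -/
noncomputable def mrel (r : σ) : P'.toExtension.Cotangent :=
  Extension.Cotangent.mk ⟨P'.relation r, P'.relation_mem_ker r⟩

theorem span_mrel : Submodule.span A' (Set.range (mrel P')) = ⊤ :=
  Extension.Cotangent.span_eq_top_of_span_eq_ker (P := P'.toExtension) P'.relation
    P'.span_range_relation_eq_ker

/-- The Jacobian entries. -/
noncomputable def jac (i : ι) (r : σ) : A' := aeval P'.val (pderiv i (P'.relation r))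

theorem repr_cotangentComplex_mrel (r : σ) (i : ι) :
    P'.cotangentSpaceBasis.repr (P'.toExtension.cotangentComplex (mrel P' r)) i = jac P' i r := by
  rw [mrel, Extension.cotangentComplex_mk]
  exact P'.cotangentSpaceBasis_repr_one_tmul _ i

theorem exists_matrix_data [Algebra.FormallySmooth R' A'] :
    ∃ (e : Matrix σ σ A') (S : Matrix ι σ A'),
      (∀ r, mrel P' r = ∑ r', e r r' • mrel P' r') ∧ e * e = e ∧
      ∀ r r', ∑ i, jac P' i r * S i r' = e r r' := by
  classical
  haveI : Algebra.FormallySmooth R' P'.toExtension.Ring :=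
    inferInstanceAs (Algebra.FormallySmooth R' (MvPolynomial ι R'))
  obtain ⟨l, hl⟩ := (P'.toExtension.formallySmooth_iff_split_injection).mp inferInstance
  have hproj : Module.Projective A' P'.toExtension.Cotangent :=
    Module.Projective.of_split _ _ hl
  let π : (σ → A') →ₗ[A'] P'.toExtension.Cotangent := Fintype.linearCombination A' (mrel P')
  have hπ : Function.Surjective π := by
    rw [← LinearMap.range_eq_top, Fintype.range_linearCombination, span_mrel]
  obtain ⟨t, ht⟩ := Module.projective_lifting_property π LinearMap.id hπ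
  have htm : ∀ x, π (t x) = x := fun x => congr($ht x)
  have hπapply : ∀ v, π v = ∑ r', v r' • mrel P' r' := fun v =>
    Fintype.linearCombination_apply A' (mrel P') v
  refine ⟨Matrix.of fun r r' => t (mrel P' r) r',
    Matrix.of fun i r' => t (l (P'.cotangentSpaceBasis i)) r', fun r => ?_, ?_, fun r r' => ?_⟩
  · simp only [Matrix.of_apply]
    rw [← hπapply, htm]
  · ext r r''
    simp only [Matrix.mul_apply, Matrix.of_apply]
    have : t (mrel P' r) = ∑ r', t (mrel P' r) r' • t (mrel P' r') := by
      conv_lhs => rw [← htm (mrel P' r), hπapply, map_sum]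
      simp only [map_smul]
    conv_rhs => rw [this]
    simp [Finset.sum_apply]
  · simp only [Matrix.of_apply]
    have h1 : P'.toExtension.cotangentComplex (mrel P' r) =
        ∑ i, jac P' i r • P'.cotangentSpaceBasis i := by
      conv_lhs => rw [← P'.cotangentSpaceBasis.sum_repr (P'.toExtension.cotangentComplex (mrel P' r))]
      simp only [repr_cotangentComplex_mrel]
    have h2 : t (mrel P' r) = ∑ i, jac P' i r • t (l (P'.cotangentSpaceBasis i)) := by
      have : l (P'.toExtension.cotangentComplex (mrel P' r)) = mrel P' r := congr($hl (mrel P' r))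
      conv_lhs => rw [← this, h1, map_sum, map_sum]
      simp only [map_smul]
    rw [h2]
    simp [Finset.sum_apply]

end P1

section rel

variable {R₀ S₀ : Type u} [CommRing R₀] [CommRing S₀] [Algebra R₀ S₀]
  {ι σ : Type} [Fintype ι] [DecidableEq ι] [Fintype σ] [DecidableEq σ]
  (Pres : Algebra.Presentation R₀ S₀ ι σ)

theorem mrel_eq_sum_iff (c : σ → σ → Pres.Ring) (r : σ) :
    mrel Pres r = ∑ k, (algebraMap Pres.Ring S₀ (c r k)) • mrel Pres k ↔
      Pres.relation r - ∑ k, c r k * Pres.relation k ∈ Pres.ker ^ 2 := by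
  let y : σ → Pres.toExtension.ker := fun k => ⟨Pres.relation k, Pres.relation_mem_ker k⟩
  let c' : σ → σ → Pres.toExtension.Ring := c
  let z : Pres.toExtension.ker := y r - ∑ k, c' r k • y k
  have hz : z.1 = Pres.relation r - ∑ k, c r k * Pres.relation k := by
    simp only [z, y, c', Submodule.coe_sub, Submodule.coe_sum, Submodule.coe_smul, smul_eq_mul]
    rfl
  have hk : ∀ k, Extension.Cotangent.mk (c' r k • y k) =
      (algebraMap Pres.Ring S₀ (c r k)) • mrel Pres k := fun k => by
    rw [LinearMap.map_smul]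
    exact (algebraMap_smul S₀ (c' r k) (Extension.Cotangent.mk (y k))).symm
  have hmk : Extension.Cotangent.mk z =
      mrel Pres r - ∑ k, (algebraMap Pres.Ring S₀ (c r k)) • mrel Pres k := by
    simp only [z, map_sub, map_sum, hk]
    rfl
  have key := Extension.Cotangent.mk_eq_zero_iff (P := Pres.toExtension) z
  rw [hmk, sub_eq_zero] at key
  constructor
  · intro h
    have := key.mp h
    rw [hz] at this
    exact this
  · intro h
    apply key.mpr
    rw [hz]
    exact h

end rel

section main

variable {R R' : Type u} [CommRing R] [CommRing R'] [Algebra R R']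

theorem exists_smooth_lift_of_presentation {ι σ : Type} [Fintype ι] [DecidableEq ι] [Fintype σ]
    [DecidableEq σ] (hsurj : Function.Surjective (algebraMap R R'))
    (hsq : RingHom.ker (algebraMap R R') * RingHom.ker (algebraMap R R') = ⊥)
    {A' : Type u} [CommRing A'] [Algebra R' A'] [Algebra.FormallySmooth R' A']
    (P' : Algebra.Presentation R' A' ι σ) :
    ∃ (A : Type u) (_ : CommRing A) (_ : Algebra R A) (φ : A →+* A'), Algebra.Smooth R A ∧
      Function.Surjective φ ∧
      RingHom.ker φ = (RingHom.ker (algebraMap R R')).map (algebraMap R A) ∧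
      ∀ r, φ (algebraMap R A r) = algebraMap R' A' (algebraMap R R' r) := by
  classical
  obtain ⟨eb, Sb, hC, hI, hU⟩ := exists_matrix_data P'
  set I := RingHom.ker (algebraMap R R') with hIdef
  let mm : MvPolynomial ι R →+* MvPolynomial ι R' := MvPolynomial.map (algebraMap R R')
  have hmm : Function.Surjective mm := MvPolynomial.map_surjective _ hsurj
  let av : MvPolynomial ι R' →+* A' := (aeval P'.val : MvPolynomial ι R' →ₐ[R'] A').toRingHom
  have hav : Function.Surjective av := P'.aeval_val_surjective
  let ψ : MvPolynomial ι R →+* A' := av.comp mm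
  have hψ : Function.Surjective ψ := hav.comp hmm
  set 𝔦 : Ideal (MvPolynomial ι R) := RingHom.ker mm with h𝔦def
  have h𝔦map : 𝔦 = I.map (C : R →+* MvPolynomial ι R) := MvPolynomial.ker_map _
  have h𝔦 : 𝔦 * 𝔦 = ⊥ := by
    rw [h𝔦map, ← Ideal.map_mul, hsq, Ideal.map_bot]
  have hkerav : RingHom.ker av = Ideal.span (Set.range P'.relation) := by
    rw [P'.span_range_relation_eq_ker]
    exact (P'.ker_eq_ker_aeval_val).symm
  have hcomap : ∀ J : Ideal (MvPolynomial ι R), (J.map mm).comap mm = J ⊔ 𝔦 := fun J =>
    Ideal.comap_map_of_surjective mm hmm J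
  -- initial lifts
  choose f₀ hf₀ using fun r => hmm (P'.relation r)
  choose e₀ he₀ using fun r r' => hψ (eb r r')
  have hmapK : ∀ f : σ → MvPolynomial ι R, (∀ r, mm (f r) = P'.relation r) →
      (Ideal.span (Set.range f)).map mm = RingHom.ker av := by
    intro f hf
    rw [Ideal.map_span, hkerav, ← Set.range_comp]
    exact congrArg (fun t => Ideal.span (Set.range t)) (funext hf)
  have hC' : ∀ r, P'.relation r - ∑ k, mm (e₀ r k) * P'.relation k ∈ RingHom.ker av ^ 2 := by
    intro r
    have := (mrel_eq_sum_iff P' (fun r k => mm (e₀ r k)) r).mp (by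
      rw [hC r]
      refine Finset.sum_congr rfl fun k _ => ?_
      congr 1
      rw [P'.algebraMap_apply]
      exact (he₀ r k).symm)
    rw [hkerav, P'.span_range_relation_eq_ker]
    exact this
  have ha : ∀ r, f₀ r - (Matrix.of e₀ *ᵥ f₀) r ∈
      Ideal.span (Set.range f₀) * Ideal.span (Set.range f₀) ⊔ 𝔦 := by
    intro r
    rw [← hcomap, Ideal.mem_comap, Ideal.map_mul, hmapK f₀ hf₀, ← sq]
    have : mm (f₀ r - (Matrix.of e₀ *ᵥ f₀) r) =
        P'.relation r - ∑ k, mm (e₀ r k) * P'.relation k := by
      simp only [Matrix.mulVec, dotProduct, Matrix.of_apply, map_sub, map_sum, map_mul, hf₀]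
    rw [this]
    exact hC' r
  have hb : ∀ r r', (Matrix.of e₀ * Matrix.of e₀ - Matrix.of e₀) r r' ∈
      Ideal.span (Set.range f₀) ⊔ 𝔦 := by
    intro r r'
    rw [← hcomap, Ideal.mem_comap, hmapK f₀ hf₀, RingHom.mem_ker]
    change ψ _ = 0
    have h1 : ψ ((Matrix.of e₀ * Matrix.of e₀ - Matrix.of e₀) r r') = (eb * eb - eb) r r' := by
      simp only [Matrix.sub_apply, Matrix.mul_apply, Matrix.of_apply, map_sub, map_sum, map_mul,
        he₀]
    rw [h1, hI, sub_self, Matrix.zero_apply]
  obtain ⟨f, e, hf, he, hfe⟩ := SqZeroLift2.exists_correction 𝔦 h𝔦 f₀ (Matrix.of e₀) ha hb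
  have hmf : ∀ r, mm (f r) = P'.relation r := by
    intro r
    have := hf r
    rw [h𝔦def, RingHom.mem_ker, map_sub, sub_eq_zero] at this
    rw [this, hf₀]
  have hψe : ∀ r r', ψ (e r r') = eb r r' := by
    intro r r'
    have := he r r'
    rw [h𝔦def, RingHom.mem_ker, map_sub, sub_eq_zero, Matrix.of_apply] at this
    change av (mm (e r r')) = _
    rw [this]
    exact he₀ r r'
  -- the lifted algebra
  let K : Ideal (MvPolynomial ι R) := Ideal.span (Set.range f)
  let Q : Algebra.Presentation R (MvPolynomial ι R ⧸ Ideal.span (Set.range f)) ι σ :=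
    Algebra.Presentation.naive (v := f)
  have hkerψ : RingHom.ker ψ = K ⊔ 𝔦 := by
    rw [← hcomap, hmapK f hmf]
    rfl
  have hψK : ∀ x ∈ K, ψ x = 0 := by
    intro x hx
    have : x ∈ RingHom.ker ψ := by
      rw [hkerψ]
      exact Ideal.mem_sup_left hx
    exact this
  let φ : MvPolynomial ι R ⧸ K →+* A' := Ideal.Quotient.lift K ψ hψK
  have hφmk : ∀ y, φ (Ideal.Quotient.mk K y) = ψ y := fun y => Ideal.Quotient.lift_mk K ψ hψK
  have hφsurj : Function.Surjective φ := Ideal.Quotient.lift_surjective_of_surjective K hψK hψ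
  have halg : algebraMap R (MvPolynomial ι R ⧸ K) = (Ideal.Quotient.mk K).comp C := rfl
  have hkerφ : RingHom.ker φ = I.map (algebraMap R (MvPolynomial ι R ⧸ K)) := by
    have h1 : K ≤ RingHom.ker ψ := fun x hx => hψK x hx
    rw [show RingHom.ker φ = (RingHom.ker ψ).map (Ideal.Quotient.mk K) from
      Ideal.ker_quotient_lift ψ h1]
    rw [hkerψ, Ideal.map_sup, Ideal.map_quotient_self, bot_sup_eq, h𝔦map, Ideal.map_map, halg]
  have h𝔞 : ∀ x ∈ RingHom.ker φ, ∀ y ∈ RingHom.ker φ, x * y = 0 := by
    intro x hx y hy
    have : x * y ∈ RingHom.ker φ * RingHom.ker φ := Ideal.mul_mem_mul hx hy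
    rw [hkerφ, ← Ideal.map_mul, hsq, Ideal.map_bot] at this
    exact this
  have hcomm : ∀ r, φ (algebraMap R (MvPolynomial ι R ⧸ K) r) =
      algebraMap R' A' (algebraMap R R' r) := by
    intro r
    rw [halg, RingHom.comp_apply, hφmk]
    change av (mm (C r)) = _
    rw [show mm (C r) = C (algebraMap R R' r) from MvPolynomial.map_C _ _]
    exact aeval_C _ _
  -- smoothness
  have haevalQ : ∀ y : MvPolynomial ι R, aeval Q.val y = Ideal.Quotient.mk K y := by
    intro y
    have : (aeval Q.val : MvPolynomial ι R →ₐ[R] _) = Ideal.Quotient.mkₐ R K := by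
      apply MvPolynomial.algHom_ext
      intro i
      rw [aeval_X]
      rfl
    rw [this]
    rfl
  choose S hS using fun i r' => hφsurj (Sb i r')
  have hφjac : ∀ i r, φ (jac Q i r) = jac P' i r := by
    intro i r
    unfold jac
    rw [haevalQ, hφmk]
    change av (mm (pderiv i (f r))) = _
    rw [show mm (pderiv i (f r)) = pderiv i (mm (f r)) from (MvPolynomial.pderiv_map).symm, hmf]
    rfl
  obtain ⟨l, hl⟩ := SqZeroLift1.exists_retraction_of_matrix_data (RingHom.ker φ) h𝔞
    (mrel Q) (span_mrel Q) Q.cotangentSpaceBasis Q.toExtension.cotangentComplex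
    (Matrix.of fun r r' => Ideal.Quotient.mk K (e r r')) (Matrix.of S)
    (by
      funext r
      unfold SqZeroLift1.act
      simp only [Matrix.of_apply]
      refine ((mrel_eq_sum_iff Q e r).mpr ?_).symm
      have := hfe r
      rw [← sq] at this
      have hQker : Q.ker = Ideal.span (Set.range f) := (Ideal.span (Set.range f)).mk_ker
      rw [hQker]
      exact this)
    (by
      intro r r'
      rw [RingHom.mem_ker]
      have h1 : φ (((Matrix.of fun r r' => Ideal.Quotient.mk K (e r r')) *
          (Matrix.of fun r r' => Ideal.Quotient.mk K (e r r')) -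
          (Matrix.of fun r r' => Ideal.Quotient.mk K (e r r'))) r r') = (eb * eb - eb) r r' := by
        simp only [Matrix.sub_apply, Matrix.mul_apply, Matrix.of_apply, map_sub, map_sum, map_mul,
          hφmk, hψe]
      rw [h1, hI, sub_self, Matrix.zero_apply])
    (by
      intro r r'
      rw [RingHom.mem_ker]
      simp only [Matrix.sub_apply, Matrix.mul_apply, Matrix.of_apply, map_sub, map_sum, map_mul,
        hφmk, hψe, hS, repr_cotangentComplex_mrel, hφjac, hU, sub_self])
  haveI : Algebra.FormallySmooth R Q.toExtension.Ring :=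
    inferInstanceAs (Algebra.FormallySmooth R (MvPolynomial ι R))
  have hfs : Algebra.FormallySmooth R (MvPolynomial ι R ⧸ K) :=
    (Q.toExtension.formallySmooth_iff_split_injection).mpr ⟨l, hl⟩
  have hfp : Algebra.FinitePresentation R (MvPolynomial ι R ⧸ K) :=
    Q.finitePresentation_of_isFinite
  exact ⟨MvPolynomial ι R ⧸ K, inferInstance, inferInstance, φ, ⟨hfs, hfp⟩, hφsurj, hkerφ, hcomm⟩

theorem exists_smooth_lift (hsurj : Function.Surjective (algebraMap R R'))
    (hsq : RingHom.ker (algebraMap R R') * RingHom.ker (algebraMap R R') = ⊥)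
    (A' : Type u) [CommRing A'] [Algebra R' A'] [Algebra.Smooth R' A'] :
    ∃ (A : Type u) (_ : CommRing A) (_ : Algebra R A) (φ : A →+* A'), Algebra.Smooth R A ∧
      Function.Surjective φ ∧
      RingHom.ker φ = (RingHom.ker (algebraMap R R')).map (algebraMap R A) ∧
      ∀ r, φ (algebraMap R A r) = algebraMap R' A' (algebraMap R R' r) :=
  exists_smooth_lift_of_presentation hsurj hsq (Algebra.Presentation.ofFinitePresentation R' A')

end main

end Groth.Agent.Lib.Helper62.SqZeroLift3
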