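import Mathlib
import Groth.Agent.Lib.Helper11.AmpleBasis

/-!
# Base loci and stable base loci of invertible modules

`Bs M` is the base locus of `M` (points lying in no `X_s`, `s : O ⟶ M`).  For `L` invertible,
`Bs (L^{mk}) ⊆ Bs (L^m)`; on a Noetherian space the stable base locus is `Bs (L^{n₀})` for some
`n₀ > 0`.
-/

set_option autoImplicit false
universe u
open AlgebraicGeometry CategoryTheory TopologicalSpace

namespace Groth.Agent.Lib.Helper62.StableBase

open Groth.Agent.Lib.Helper11.GenLocus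

variable {X : Scheme.{u}}

/-- the base locus of `M` -/
def Bs (M : X.Modules) : Set X :=
  {x | ∀ s : Coh.structureModule X ⟶ M, x ∉ CohB1.genLocus M s}

theorem isClosed_Bs (M : X.Modules) : IsClosed (Bs M) := by
  have h : Bs M = (⋃ s : Coh.structureModule X ⟶ M, (CohB1.genLocus M s : Set X))ᶜ := by
    ext x
    simp only [Bs, Set.mem_ofPred_eq, Set.mem_compl_iff, Set.mem_iUnion, SetLike.mem_coe, not_exists]
  rw [h]
  exact (isOpen_iUnion fun s => (CohB1.genLocus M s).2).isClosed_compl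

theorem Bs_subset_of_iso {M M' : X.Modules} (e : M ≅ M') : Bs M' ⊆ Bs M := by
  intro x h s hx
  exact h (s ≫ e.hom) (by rw [genLocus_comp_iso]; exact hx)

theorem Bs_eq_of_iso {M M' : X.Modules} (e : M ≅ M') : Bs M' = Bs M :=
  Set.Subset.antisymm (Bs_subset_of_iso e) (Bs_subset_of_iso e.symm)

theorem Bs_pow_subset {L : X.Modules} (hL : PicF.IsInvertible L) (m k : ℕ) (hk : 0 < k) :
    Bs (CohB1.tensorPow L (m * k)) ⊆ Bs (CohB1.tensorPow L m) := by
  obtain ⟨k', rfl⟩ : ∃ k', k = k' + 1 := ⟨k - 1, by omega⟩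
  intro x hx s hxs
  have h1 := genLocus_powHom (isInvertible_tensorPow hL m) s k'
  refine hx (SecTwist.powHom s (k' + 1) ≫ (tensorPowMul L m (k' + 1)).hom) ?_
  rw [genLocus_comp_iso, h1]
  exact hxs

theorem Bs_pow_pow {L : X.Modules} (p m : ℕ) :
    Bs (CohB1.tensorPow (CohB1.tensorPow L p) m) = Bs (CohB1.tensorPow L (p * m)) :=
  (Bs_eq_of_iso (tensorPowMul L p m)).symm

section Abstract

variable {α : Type*} [TopologicalSpace α] [NoetherianSpace α] (C : ℕ → Set α)

theorem exists_eq_iInter (hcl : ∀ m, 0 < m → IsClosed (C m))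
    (hmul : ∀ m k, 0 < m → 0 < k → C (m * k) ⊆ C m) :
    ∃ n₀, 0 < n₀ ∧ C n₀ = {x | ∀ m, 0 < m → x ∈ C m} := by
  have hiff : NoetherianSpace α ↔ WellFoundedLT (Closeds α) :=
    (noetherianSpace_TFAE (α := α)).out 0 1
  have hwf : WellFoundedLT (Closeds α) := hiff.mp ‹_›
  let S : Set (Closeds α) := {Z | ∃ m, 0 < m ∧ (Z : Set α) = C m}
  have hS : S.Nonempty := ⟨⟨C 1, hcl 1 one_pos⟩, 1, one_pos, rfl⟩
  obtain ⟨Z, ⟨n₀, hn₀, hZ⟩, hmin⟩ := hwf.wf.has_min S hS
  refine ⟨n₀, hn₀, Set.Subset.antisymm ?_ fun x hx => hx n₀ hn₀⟩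
  intro x hx m hm
  have h1 : C (n₀ * m) ⊆ C n₀ := hmul n₀ m hn₀ hm
  have h2 : C (n₀ * m) ⊆ C m := by
    rw [Nat.mul_comm]; exact hmul m n₀ hm hn₀
  have hpos : 0 < n₀ * m := Nat.mul_pos hn₀ hm
  have h3 : C (n₀ * m) = C n₀ := by
    by_contra hne
    refine hmin ⟨C (n₀ * m), hcl _ hpos⟩ ⟨n₀ * m, hpos, rfl⟩ ?_
    rw [lt_iff_le_and_ne]
    refine ⟨?_, ?_⟩
    · change (C (n₀ * m) : Set α) ⊆ (Z : Set α)
      rw [hZ]; exact h1
    · intro heq
      apply hne
      have := congrArg (fun W : Closeds α => (W : Set α)) heq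
      simpa [hZ] using this
  exact h2 (h3 ▸ hx)

end Abstract

section Main

variable [NoetherianSpace X] {L : X.Modules} (hL : PicF.IsInvertible L)

include hL

/-- the stable base locus is the base locus of some positive power -/
theorem exists_stable :
    ∃ n₀, 0 < n₀ ∧ Bs (CohB1.tensorPow L n₀) = {x | ∀ m, 0 < m → x ∈ Bs (CohB1.tensorPow L m)} :=
  exists_eq_iInter (fun m => Bs (CohB1.tensorPow L m)) (fun _ _ => isClosed_Bs _)
    (fun m k _ hk => Bs_pow_subset hL m k hk)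

end Main

end Groth.Agent.Lib.Helper62.StableBase
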