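import Mathlib
import Groth.Prelude.Def_FSch3

/-!
# The stalk subring `A_{S}` of a formal spectrum: basic facts (helper62)

Functoriality lemmas for `FSch.complMap` and the description of `FSch.stalkSubring` as a directed
union of the images of the rings `A_{f}`.
-/

set_option autoImplicit false
universe u

namespace Groth.Agent.Lib.Helper62.StalkSub

open FSch

section complMap

variable {S T U : Type u} [CommRing S] [CommRing T] [CommRing U]
  (I : Ideal S) (K : Ideal T) (L : Ideal U) (g : S →+* T) (g' : T →+* U)

lemma complMap_compat (h : I.map g ≤ K) {m n : ℕ} (hle : m ≤ n) :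
    (Ideal.Quotient.factorPow K hle).comp
      ((Ideal.quotientMap (K ^ n) g (pow_le_comap_pow_of_map_le I K g h n)).comp
        (AdicCompletion.evalₐ I n).toRingHom) =
    (Ideal.quotientMap (K ^ m) g (pow_le_comap_pow_of_map_le I K g h m)).comp
        (AdicCompletion.evalₐ I m).toRingHom := by
  apply RingHom.ext
  intro x
  obtain ⟨y, rfl⟩ := AdicCompletion.mk_surjective I S x
  simp only [RingHom.coe_comp, Function.comp_apply, AlgHom.toRingHom_eq_coe, AlgHom.coe_toRingHom,
    AdicCompletion.evalₐ_mk, Ideal.quotientMap_mk, Ideal.Quotient.factorPow, Ideal.Quotient.factor_mk]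
  rw [Ideal.Quotient.eq]
  have hy := y.2 hle
  rw [SModEq.sub_mem] at hy
  simp only [smul_eq_mul, Ideal.mul_top] at hy
  rw [← map_sub]
  have hy' : (y : ℕ → S) n - (y : ℕ → S) m ∈ I ^ m := by
    rw [← neg_sub]; exact (I ^ m).neg_mem hy
  exact pow_le_comap_pow_of_map_le I K g h m hy'

@[simp] lemma evalₐ_complMap (h : I.map g ≤ K) (n : ℕ) (x : AdicCompletion I S) :
    AdicCompletion.evalₐ K n (complMap I K g h x) =
      Ideal.quotientMap (K ^ n) g (pow_le_comap_pow_of_map_le I K g h n)
        (AdicCompletion.evalₐ I n x) := by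
  have key := fun hf => AdicCompletion.evalₐ_liftRingHom K
    (fun n => (Ideal.quotientMap (K ^ n) g (pow_le_comap_pow_of_map_le I K g h n)).comp
      (AdicCompletion.evalₐ I n).toRingHom) hf n x
  exact key (complMap_compat I K g h)

lemma complMap_of (h : I.map g ≤ K) (s : S) :
    complMap I K g h (AdicCompletion.of I S s) = AdicCompletion.of K T (g s) := by
  apply AdicCompletion.ext_evalₐ
  intro n
  simp

lemma complMap_algebraMap (h : I.map g ≤ K) (s : S) :
    complMap I K g h (algebraMap S (AdicCompletion I S) s) =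
      algebraMap T (AdicCompletion K T) (g s) :=
  complMap_of I K g h s

lemma complMap_comp (h : I.map g ≤ K) (h' : K.map g' ≤ L) (h'' : I.map (g'.comp g) ≤ L)
    (x : AdicCompletion I S) :
    complMap K L g' h' (complMap I K g h x) = complMap I L (g'.comp g) h'' x := by
  apply AdicCompletion.ext_evalₐ
  intro n
  obtain ⟨y, hy⟩ := Ideal.Quotient.mk_surjective (AdicCompletion.evalₐ I n x)
  simp only [evalₐ_complMap, ← hy, Ideal.quotientMap_mk, RingHom.comp_apply]

end complMap

end Groth.Agent.Lib.Helper62.StalkSub
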