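import Mathlib
import Groth.Agent.Lib.Helper62.StalkSub1
import Groth.Agent.Lib.Helper12.DirLimNoeth
import Groth.Agent.S0543

/-!
# Flatness of the map of adic completions induced by a flat map of Noetherian rings (helper62)
-/

set_option autoImplicit false
universe u

namespace Groth.Agent.Lib.Helper62.StalkSub

open FSch TensorProduct

section ker

variable {S : Type u} [CommRing S] (I : Ideal S)

/-- For a finitely generated ideal, the kernel of `evalₐ I n` is the extension of `I ^ n`. -/
lemma mem_map_pow_of_evalₐ_eq_zero (hI : I.FG) (n : ℕ) (x : AdicCompletion I S)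
    (hx : AdicCompletion.evalₐ I n x = 0) :
    x ∈ (I ^ n).map (algebraMap S (AdicCompletion I S)) := by
  have hx'' : x ∈ (I ^ n • ⊤ : Submodule S (AdicCompletion I S)) := by
    rw [AdicCompletion.pow_smul_top_eq_ker_eval hI, LinearMap.mem_ker,
      ← AdicCompletion.factor_evalₐ_eq_eval I x (by simp), hx, map_zero]
  rw [Ideal.smul_top_eq_map, Submodule.restrictScalars_mem] at hx''
  exact hx''

lemma evalₐ_eq_zero_of_mem_map_pow (n : ℕ) (x : AdicCompletion I S)
    (hx : x ∈ (I ^ n).map (algebraMap S (AdicCompletion I S))) :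
    AdicCompletion.evalₐ I n x = 0 := by
  have : (I ^ n).map (algebraMap S (AdicCompletion I S)) ≤
      RingHom.ker (AdicCompletion.evalₐ I n).toRingHom := by
    rw [Ideal.map_le_iff_le_comap]
    intro s hs
    show AdicCompletion.evalₐ I n (algebraMap S _ s) = 0
    rw [AdicCompletion.algebraMap_apply, AdicCompletion.evalₐ_of]
    exact Ideal.Quotient.eq_zero_iff_mem.mpr hs
  exact this hx

@[simp] lemma evalₐ_algebraMap_self (n : ℕ) (s : S) :
    AdicCompletion.evalₐ I n (algebraMap S (AdicCompletion I S) s) = Ideal.Quotient.mk (I ^ n) s := by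
  rw [AdicCompletion.algebraMap_apply, AdicCompletion.evalₐ_of]
  rfl

end ker

section flat

variable {S T : Type u} [CommRing S] [CommRing T] [IsNoetherianRing S] [IsNoetherianRing T]
  (I : Ideal S) (K : Ideal T) (g : S →+* T)

open Groth.Agent.Lib.Helper12.DirLimNoeth Groth.Agent.Lib.Helper71.LocalCritNoeth in
/-- A flat map of Noetherian rings induces a flat map on adic completions. -/
theorem flat_complMap (hg : g.Flat) (hK : I.map g = K) : (complMap I K g hK.le).Flat := by
  subst hK
  have hK : I.map g = I.map g := rfl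
  set K := I.map g with hKdef
  letI algST : Algebra S T := g.toAlgebra
  have flatST : Module.Flat S T := hg
  letI algφ : Algebra (AdicCompletion I S) (AdicCompletion K T) := (complMap I K g hK.le).toAlgebra
  show Module.Flat (AdicCompletion I S) (AdicCompletion K T)
  have hφ : ∀ x, algebraMap (AdicCompletion I S) (AdicCompletion K T) x = complMap I K g hK.le x :=
    fun _ => rfl
  have hgalg : ∀ s, algebraMap S T s = g s := fun _ => rfl
  have noeS : IsNoetherianRing (AdicCompletion I S) := Groth.Agent.S0543.result S I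
  have noeT : IsNoetherianRing (AdicCompletion K T) := Groth.Agent.S0543.result T K
  have hIfg : I.FG := IsNoetherian.noetherian I
  have hKfg : K.FG := IsNoetherian.noetherian K
  set 𝔞 : Ideal (AdicCompletion I S) := I.map (algebraMap S (AdicCompletion I S)) with h𝔞def
  have h𝔞pow : ∀ k, 𝔞 ^ k = (I ^ k).map (algebraMap S (AdicCompletion I S)) := fun k => by
    rw [h𝔞def, Ideal.map_pow]
  have hKpow : ∀ k, K ^ k = (I ^ k).map g := fun k => by rw [hKdef, Ideal.map_pow]
  -- `𝔞 T̂` lies in the radical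
  have h𝔞 : 𝔞.map (algebraMap (AdicCompletion I S) (AdicCompletion K T)) ≤ Ideal.jacobson ⊥ := by
    have hcomplete := AdicCompletion.isAdicComplete_self K hKfg
    refine le_trans ?_ (IsAdicComplete.le_jacobson_bot (K.map (algebraMap T (AdicCompletion K T))))
    have hKK : K.map (algebraMap T (AdicCompletion K T)) =
        I.map ((algebraMap T (AdicCompletion K T)).comp g) := Ideal.map_map _ _
    rw [h𝔞def, Ideal.map_map, hKK]
    apply le_of_eq
    congr 1
  refine flat_of_relative_flat_pow 𝔞 (B := AdicCompletion K T) (AdicCompletion K T) h𝔞 ?_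
  intro n N' N _ _ _ _ t1 t2 f hf
  -- the common quotient `Q = T ⧸ K ^ (n + 1)`
  let ρ : AdicCompletion I S →+* T ⧸ K ^ (n + 1) :=
    (AdicCompletion.evalₐ K (n + 1)).toRingHom.comp (complMap I K g hK.le)
  letI algQ : Algebra (AdicCompletion I S) (T ⧸ K ^ (n + 1)) := ρ.toAlgebra
  have hρ : ∀ x, algebraMap (AdicCompletion I S) (T ⧸ K ^ (n + 1)) x =
      AdicCompletion.evalₐ K (n + 1) (complMap I K g hK.le x) := fun _ => rfl
  have hρ0 : ∀ y ∈ 𝔞 ^ (n + 1), algebraMap (AdicCompletion I S) (T ⧸ K ^ (n + 1)) y = 0 := by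
    intro y hy
    rw [hρ, evalₐ_complMap, evalₐ_eq_zero_of_mem_map_pow I (n + 1) y (h𝔞pow (n + 1) ▸ hy), map_zero]
  have towerQ : IsScalarTower S (AdicCompletion I S) (T ⧸ K ^ (n + 1)) := by
    apply IsScalarTower.of_algebraMap_eq
    intro s
    rw [hρ, complMap_algebraMap, evalₐ_algebraMap_self]
    rfl
  -- first module: `D = Ŝ ⊗[S] T`
  let l : T →ₗ[S] T ⧸ K ^ (n + 1) := (Ideal.Quotient.mkₐ S (K ^ (n + 1))).toLinearMap
  let π₁ : AdicCompletion I S ⊗[S] T →ₗ[AdicCompletion I S] T ⧸ K ^ (n + 1) :=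
    LinearMap.liftBaseChange (AdicCompletion I S) l
  have hπ₁tmul : ∀ (x : AdicCompletion I S) (t : T),
      π₁ (x ⊗ₜ t) = x • Ideal.Quotient.mk (K ^ (n + 1)) t := fun x t => by
    simp [π₁, l]
  have hπ₁ : Function.Surjective π₁ := by
    intro q
    obtain ⟨t, rfl⟩ := Ideal.Quotient.mk_surjective q
    exact ⟨1 ⊗ₜ t, by rw [hπ₁tmul, one_smul]⟩
  have stepa : ∀ z : AdicCompletion I S ⊗[S] T, ∃ t : T,
      z - 1 ⊗ₜ t ∈ 𝔞 ^ (n + 1) • (⊤ : Submodule (AdicCompletion I S) (AdicCompletion I S ⊗[S] T)) := by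
    intro z
    induction z using TensorProduct.induction_on with
    | zero => exact ⟨0, by simp⟩
    | tmul x t' =>
      obtain ⟨s, hs⟩ := Ideal.Quotient.mk_surjective (AdicCompletion.evalₐ I (n + 1) x)
      have hy : x - algebraMap S (AdicCompletion I S) s ∈ 𝔞 ^ (n + 1) := by
        rw [h𝔞pow]
        apply mem_map_pow_of_evalₐ_eq_zero I hIfg
        rw [map_sub, evalₐ_algebraMap_self, hs, sub_self]
      refine ⟨s • t', ?_⟩
      have : x ⊗ₜ[S] t' - 1 ⊗ₜ[S] (s • t') =
          (x - algebraMap S (AdicCompletion I S) s) • ((1 : AdicCompletion I S) ⊗ₜ[S] t') := by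
        rw [TensorProduct.smul_tmul', smul_eq_mul, mul_one, TensorProduct.sub_tmul,
          ← TensorProduct.smul_tmul, Algebra.algebraMap_eq_smul_one]
      rw [this]
      exact Submodule.smul_mem_smul hy trivial
    | add z₁ z₂ h₁ h₂ =>
      obtain ⟨t₁, ht₁⟩ := h₁
      obtain ⟨t₂, ht₂⟩ := h₂
      refine ⟨t₁ + t₂, ?_⟩
      have : z₁ + z₂ - 1 ⊗ₜ[S] (t₁ + t₂) = (z₁ - 1 ⊗ₜ t₁) + (z₂ - 1 ⊗ₜ t₂) := by
        rw [TensorProduct.tmul_add]; abel
      rw [this]
      exact add_mem ht₁ ht₂
  have hπ₁zero : ∀ w ∈ 𝔞 ^ (n + 1) • (⊤ : Submodule (AdicCompletion I S) (AdicCompletion I S ⊗[S] T)),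
      π₁ w = 0 := by
    intro w hw
    refine Submodule.smul_induction_on hw ?_ ?_
    · intro y hy d _
      rw [map_smul, Algebra.smul_def, hρ0 y hy, zero_mul]
    · intro a b ha hb
      rw [map_add, ha, hb, add_zero]
  have hker₁ : LinearMap.ker π₁ ≤
      𝔞 ^ (n + 1) • (⊤ : Submodule (AdicCompletion I S) (AdicCompletion I S ⊗[S] T)) := by
    intro z hz
    obtain ⟨t, ht⟩ := stepa z
    have h1 : π₁ (1 ⊗ₜ t) = 0 := by
      have := hπ₁zero _ ht
      rw [map_sub, LinearMap.mem_ker.mp hz, zero_sub, neg_eq_zero] at this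
      exact this
    rw [hπ₁tmul, one_smul, Ideal.Quotient.eq_zero_iff_mem, hKpow] at h1
    have h2 : t ∈ (I ^ (n + 1) • ⊤ : Submodule S T) := by
      rw [Ideal.smul_top_eq_map, Submodule.restrictScalars_mem]
      exact h1
    have h3 : (1 : AdicCompletion I S) ⊗ₜ[S] t ∈
        𝔞 ^ (n + 1) • (⊤ : Submodule (AdicCompletion I S) (AdicCompletion I S ⊗[S] T)) := by
      refine Submodule.smul_induction_on h2 ?_ ?_
      · intro i hi t' _
        have : (1 : AdicCompletion I S) ⊗ₜ[S] (i • t') =
            (algebraMap S (AdicCompletion I S) i) • ((1 : AdicCompletion I S) ⊗ₜ[S] t') := by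
          rw [TensorProduct.smul_tmul', smul_eq_mul, mul_one, ← TensorProduct.smul_tmul,
            Algebra.algebraMap_eq_smul_one]
        rw [this]
        refine Submodule.smul_mem_smul ?_ trivial
        rw [h𝔞pow]
        exact Ideal.mem_map_of_mem _ hi
      · intro a b ha hb
        rw [TensorProduct.tmul_add]
        exact add_mem ha hb
    have : z = (z - 1 ⊗ₜ t) + 1 ⊗ₜ t := by abel
    rw [this]
    exact add_mem ht h3
  -- second module: `T̂`
  let π₂ : AdicCompletion K T →ₗ[AdicCompletion I S] T ⧸ K ^ (n + 1) :=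
    { toFun := AdicCompletion.evalₐ K (n + 1)
      map_add' := map_add _
      map_smul' := fun x c => by
        simp only [RingHom.id_apply]
        rw [Algebra.smul_def, Algebra.smul_def, map_mul, hφ, hρ] }
  have hπ₂ : Function.Surjective π₂ := AdicCompletion.surjective_evalₐ K (n + 1)
  have hker₂ : LinearMap.ker π₂ ≤
      𝔞 ^ (n + 1) • (⊤ : Submodule (AdicCompletion I S) (AdicCompletion K T)) := by
    intro c hc
    have hc' : AdicCompletion.evalₐ K (n + 1) c = 0 := hc
    have h1 := mem_map_pow_of_evalₐ_eq_zero K hKfg (n + 1) c hc'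
    rw [hKpow, Ideal.map_map] at h1
    -- `c` lies in the ideal generated by the images of `I ^ (n + 1)`
    have hle : (I ^ (n + 1)).map ((algebraMap T (AdicCompletion K T)).comp g) ≤
        (𝔞 ^ (n + 1)).map (algebraMap (AdicCompletion I S) (AdicCompletion K T)) := by
      rw [h𝔞pow, Ideal.map_map]
      apply le_of_eq
      congr 1
    have h2 := hle h1
    have := Ideal.smul_top_eq_map (R := AdicCompletion I S) (S := AdicCompletion K T) (𝔞 ^ (n + 1))
    rw [← Submodule.restrictScalars_mem (AdicCompletion I S), ← this] at h2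
    exact h2
  have hf1 : Function.Injective (f.rTensor (AdicCompletion I S ⊗[S] T)) :=
    Module.Flat.rTensor_preserves_injective_linearMap f hf
  exact rTensor_injective_transport (𝔞 ^ (n + 1)) t1 t2 π₁ hπ₁ hker₁ π₂ hπ₂ hker₂ f hf1

end flat

end Groth.Agent.Lib.Helper62.StalkSub
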