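import Mathlib
import Groth.Agent.Lib.Helper62.StalkSub2

/-!
# The stalk subring `A_{S}` as a directed union, and flatness of `A{S⁻¹}` over it (helper62)
-/

set_option autoImplicit false
universe u

namespace Groth.Agent.Lib.Helper62.StalkSub

open FSch TensorProduct

section trans

variable (A : Type u) [CommRing A] (J : Ideal A)

/-- The transition map `A_f → A_h` when `f` becomes a unit in `A_h`. -/
noncomputable def awayTrans (f h : A) (hu : IsUnit (algebraMap A (Localization.Away h) f)) :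
    Localization.Away f →+* Localization.Away h :=
  IsLocalization.Away.lift f (g := algebraMap A (Localization.Away h)) hu

@[simp] lemma awayTrans_algebraMap (f h : A) (hu : IsUnit (algebraMap A (Localization.Away h) f))
    (a : A) : awayTrans A f h hu (algebraMap A (Localization.Away f) a) =
      algebraMap A (Localization.Away h) a := by
  simp [awayTrans]

lemma map_awayTrans_eq (f h : A) (hu : IsUnit (algebraMap A (Localization.Away h) f)) :
    (J.map (algebraMap A (Localization.Away f))).map (awayTrans A f h hu) =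
      J.map (algebraMap A (Localization.Away h)) := by
  rw [Ideal.map_map]
  congr 1
  ext a
  simp

/-- The transition map `A_{f} → A_{h}` on completions. -/
noncomputable def cAwayTrans (f h : A) (hu : IsUnit (algebraMap A (Localization.Away h) f)) :
    cAway A J f →+* cAway A J h :=
  complMap _ _ (awayTrans A f h hu) (map_awayTrans_eq A J f h hu).le

variable (𝔭 : Ideal A) [𝔭.IsPrime]

lemma awayToAtPrime_comp_awayTrans (f h : A) (hu : IsUnit (algebraMap A (Localization.Away h) f))
    (hf : f ∉ 𝔭) (hh : h ∉ 𝔭) :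
    (awayToAtPrime A 𝔭 h hh).comp (awayTrans A f h hu) = awayToAtPrime A 𝔭 f hf := by
  apply IsLocalization.ringHom_ext (Submonoid.powers f)
  ext a
  simp [awayToAtPrime]

lemma map_awayToAtPrime_eq (f : A) (hf : f ∉ 𝔭) :
    (J.map (algebraMap A (Localization.Away f))).map (awayToAtPrime A 𝔭 f hf) =
      J.map (algebraMap A (Localization.AtPrime 𝔭)) := by
  rw [Ideal.map_map]
  congr 1
  ext a
  simp [awayToAtPrime]

lemma complMap_congr {S T : Type u} [CommRing S] [CommRing T] (I : Ideal S) (K : Ideal T)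
    {g g' : S →+* T} (hgg : g = g') (h : I.map g ≤ K) (h' : I.map g' ≤ K)
    (x : AdicCompletion I S) : complMap I K g h x = complMap I K g' h' x := by
  subst hgg
  rfl

lemma cAwayToAtPrime_cAwayTrans (f h : A) (hu : IsUnit (algebraMap A (Localization.Away h) f))
    (hf : f ∉ 𝔭) (hh : h ∉ 𝔭) (x : cAway A J f) :
    cAwayToAtPrime A J 𝔭 h hh (cAwayTrans A J f h hu x) = cAwayToAtPrime A J 𝔭 f hf x := by
  unfold cAwayToAtPrime cAwayTrans
  rw [complMap_comp _ _ _ _ _ _ _
    (by rw [awayToAtPrime_comp_awayTrans A 𝔭 f h hu hf hh]; exact map_awayToAtPrime_le A J 𝔭 f hf)]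
  exact complMap_congr _ _ (awayToAtPrime_comp_awayTrans A 𝔭 f h hu hf hh) _ _ x

lemma range_le_range (f h : A) (hu : IsUnit (algebraMap A (Localization.Away h) f))
    (hf : f ∉ 𝔭) (hh : h ∉ 𝔭) :
    (cAwayToAtPrime A J 𝔭 f hf).range ≤ (cAwayToAtPrime A J 𝔭 h hh).range := by
  rintro _ ⟨x, rfl⟩
  exact ⟨cAwayTrans A J f h hu x, cAwayToAtPrime_cAwayTrans A J 𝔭 f h hu hf hh x⟩

lemma isUnit_left (f g : A) : IsUnit (algebraMap A (Localization.Away (f * g)) f) := by
  have := IsLocalization.Away.algebraMap_isUnit (S := Localization.Away (f * g)) (f * g)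
  rw [map_mul] at this
  exact isUnit_of_mul_isUnit_left this

lemma isUnit_right (f g : A) : IsUnit (algebraMap A (Localization.Away (f * g)) g) := by
  have := IsLocalization.Away.algebraMap_isUnit (S := Localization.Away (f * g)) (f * g)
  rw [map_mul] at this
  exact isUnit_of_mul_isUnit_right this

lemma directed_range : Directed (· ≤ ·)
    (fun f : {f : A // f ∉ 𝔭} => (cAwayToAtPrime A J 𝔭 f.1 f.2).range) := by
  rintro ⟨f, hf⟩ ⟨g, hg⟩
  have hfg : f * g ∉ 𝔭 := fun h => (Ideal.IsPrime.mem_or_mem ‹_› h).elim hf hg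
  exact ⟨⟨f * g, hfg⟩, range_le_range A J 𝔭 f (f * g) (isUnit_left A f g) hf hfg,
    range_le_range A J 𝔭 g (f * g) (isUnit_right A f g) hg hfg⟩

instance : Nonempty {f : A // f ∉ 𝔭} :=
  ⟨⟨1, fun h => (Ideal.IsPrime.ne_top ‹_›) ((Ideal.eq_top_iff_one _).mpr h)⟩⟩

lemma mem_stalkSubring_iff (x : cAtPrime A J 𝔭) :
    x ∈ stalkSubring A J 𝔭 ↔ ∃ f : {f : A // f ∉ 𝔭}, x ∈ (cAwayToAtPrime A J 𝔭 f.1 f.2).range := by
  unfold stalkSubring
  exact Subring.mem_iSup_of_directed (directed_range A J 𝔭)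

/-- Finitely many elements of the stalk subring come from a common `A_{f}`. -/
lemma exists_common_stage {l : ℕ} (b : Fin l → stalkSubring A J 𝔭) :
    ∃ f : {f : A // f ∉ 𝔭}, ∀ i, (b i : cAtPrime A J 𝔭) ∈ (cAwayToAtPrime A J 𝔭 f.1 f.2).range := by
  have h : ∀ i, ∃ f : {f : A // f ∉ 𝔭}, (b i : cAtPrime A J 𝔭) ∈
      (cAwayToAtPrime A J 𝔭 f.1 f.2).range := fun i => (mem_stalkSubring_iff A J 𝔭 _).mp (b i).2
  choose fi hfi using h
  obtain ⟨z, hz⟩ := (directed_range A J 𝔭).finite_le fi
  exact ⟨z, fun i => hz i (hfi i)⟩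

end trans

end Groth.Agent.Lib.Helper62.StalkSub
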