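import Mathlib
import Groth.Agent.Lib.Helper62.StalkSub3

/-!
# `A{S⁻¹}` is faithfully flat over the stalk subring `A_{S}`; `A_{S}` is Noetherian (helper62)
-/

set_option autoImplicit false
universe u

namespace Groth.Agent.Lib.Helper62.StalkSub

open FSch TensorProduct

section units

variable {S : Type u} [CommRing S] (I : Ideal S)

/-- In an adic completion (of a finitely generated ideal), units are detected modulo `I`. -/
lemma isUnit_of_isUnit_evalₐ_one (hI : I.FG) (x : AdicCompletion I S)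
    (hx : IsUnit (AdicCompletion.evalₐ I 1 x)) : IsUnit x := by
  obtain ⟨u, hu⟩ := hx
  obtain ⟨d, hd⟩ := AdicCompletion.surjective_evalₐ I 1 (↑u⁻¹ : S ⧸ I ^ 1)
  have h0 : AdicCompletion.evalₐ I 1 (x * d - 1) = 0 := by
    rw [map_sub, map_mul, hd, ← hu, map_one, Units.mul_inv, sub_self]
  have h1 := mem_map_pow_of_evalₐ_eq_zero I hI 1 _ h0
  have hcomplete := AdicCompletion.isAdicComplete_self I hI
  have h2 : x * d - 1 ∈ Ideal.jacobson (⊥ : Ideal (AdicCompletion I S)) := by
    apply IsAdicComplete.le_jacobson_bot (I.map (algebraMap S (AdicCompletion I S)))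
    rwa [pow_one] at h1
  have h3 := (Ideal.mem_jacobson_bot.mp h2) 1
  rw [mul_one, sub_add_cancel] at h3
  exact isUnit_of_mul_isUnit_left h3

end units

section main

variable (A : Type u) [CommRing A] [IsNoetherianRing A] (J : Ideal A) (𝔭 : Ideal A) [𝔭.IsPrime]

omit [IsNoetherianRing A] in
lemma flat_awayToAtPrime (f : A) (hf : f ∉ 𝔭) : (awayToAtPrime A 𝔭 f hf).Flat := by
  letI alg : Algebra (Localization.Away f) (Localization.AtPrime 𝔭) := (awayToAtPrime A 𝔭 f hf).toAlgebra
  have tower : IsScalarTower A (Localization.Away f) (Localization.AtPrime 𝔭) := by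
    apply IsScalarTower.of_algebraMap_eq
    intro a
    show _ = awayToAtPrime A 𝔭 f hf _
    simp [awayToAtPrime]
  have hle : Submonoid.powers f ≤ 𝔭.primeCompl := Submonoid.powers_le.mpr hf
  have := IsLocalization.isLocalization_of_submonoid_le (Localization.Away f)
    (Localization.AtPrime 𝔭) (Submonoid.powers f) 𝔭.primeCompl hle
  show Module.Flat (Localization.Away f) (Localization.AtPrime 𝔭)
  exact IsLocalization.flat _ (𝔭.primeCompl.map (algebraMap A (Localization.Away f)))

lemma flat_cAwayToAtPrime (f : A) (hf : f ∉ 𝔭) : (cAwayToAtPrime A J 𝔭 f hf).Flat := by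
  have n1 : IsNoetherianRing (Localization.Away f) :=
    IsLocalization.isNoetherianRing (Submonoid.powers f) _ inferInstance
  have n2 : IsNoetherianRing (Localization.AtPrime 𝔭) :=
    IsLocalization.isNoetherianRing 𝔭.primeCompl _ inferInstance
  have key := flat_complMap (J.map (algebraMap A (Localization.Away f)))
    (J.map (algebraMap A (Localization.AtPrime 𝔭))) (awayToAtPrime A 𝔭 f hf)
    (flat_awayToAtPrime A 𝔭 f hf) (map_awayToAtPrime_eq A J 𝔭 f hf)
  unfold cAwayToAtPrime
  exact key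


/-- `A{S⁻¹}` is flat over the stalk subring. -/
theorem flat_stalkSubring : Module.Flat (stalkSubring A J 𝔭) (cAtPrime A J 𝔭) := by
  rw [Module.Flat.iff_forall_isTrivialRelation]
  intro l b x hrel
  obtain ⟨⟨f, hf⟩, hmem⟩ := exists_common_stage A J 𝔭 b
  choose b' hb' using hmem
  letI alg : Algebra (cAway A J f) (cAtPrime A J 𝔭) := (cAwayToAtPrime A J 𝔭 f hf).toAlgebra
  have hflat : Module.Flat (cAway A J f) (cAtPrime A J 𝔭) := flat_cAwayToAtPrime A J 𝔭 f hf
  have hsmul : ∀ (y : cAway A J f) (c : cAtPrime A J 𝔭), y • c = cAwayToAtPrime A J 𝔭 f hf y * c :=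
    fun y c => Algebra.smul_def y c
  have hrel' : ∑ i, b' i • x i = 0 := by
    rw [← hrel]
    refine Finset.sum_congr rfl fun i _ => ?_
    rw [hsmul, Subring.smul_def, smul_eq_mul]
    congr 1
    exact hb' i
  have htriv : Module.IsTrivialRelation b' x :=
    Module.Flat.isTrivialRelation_of_sum_smul_eq_zero (R := cAway A J f) (M := cAtPrime A J 𝔭)
      (f := b') (x := x) hrel'
  obtain ⟨k, a', y, hxy, hba⟩ := htriv
  have hmemB : ∀ i j, cAwayToAtPrime A J 𝔭 f hf (a' i j) ∈ stalkSubring A J 𝔭 := fun i j =>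
    (mem_stalkSubring_iff A J 𝔭 _).mpr ⟨⟨f, hf⟩, RingHom.mem_range_self _ _⟩
  let a : Fin l → Fin k → stalkSubring A J 𝔭 := fun i j => ⟨_, hmemB i j⟩
  have ha : ∀ i j, (a i j : cAtPrime A J 𝔭) = cAwayToAtPrime A J 𝔭 f hf (a' i j) := fun _ _ => rfl
  refine ⟨k, a, y, ?_, ?_⟩
  · intro i
    rw [hxy i]
    refine Finset.sum_congr rfl fun j _ => ?_
    rw [hsmul, Subring.smul_def, smul_eq_mul, ha]
  · intro j
    apply Subtype.ext
    have h0 := congrArg (cAwayToAtPrime A J 𝔭 f hf) (hba j)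
    rw [map_sum, map_zero] at h0
    rw [Subring.coe_zero, ← h0]
    push_cast
    refine Finset.sum_congr rfl fun i _ => ?_
    rw [map_mul, ha, hb' i]

section local_

omit [IsNoetherianRing A] in
/-- `J A_𝔭` lies in the maximal ideal. -/
lemma map_le_maximalIdeal (hJ : J ≤ 𝔭) :
    J.map (algebraMap A (Localization.AtPrime 𝔭)) ≤
      IsLocalRing.maximalIdeal (Localization.AtPrime 𝔭) := by
  rw [← Localization.AtPrime.map_eq_maximalIdeal]
  exact Ideal.map_mono hJ

omit [IsNoetherianRing A] in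
/-- units of `A_𝔭` are detected modulo `J A_𝔭`. -/
lemma isUnit_of_isUnit_mk (hJ : J ≤ 𝔭) (r : Localization.AtPrime 𝔭)
    (hr : IsUnit (Ideal.Quotient.mk ((J.map (algebraMap A (Localization.AtPrime 𝔭))) ^ 1) r)) :
    IsUnit r := by
  by_contra hnu
  have hmem : r ∈ IsLocalRing.maximalIdeal (Localization.AtPrime 𝔭) :=
    (IsLocalRing.mem_maximalIdeal r).mpr hnu
  obtain ⟨u, hu⟩ := hr
  obtain ⟨s, hs⟩ := Ideal.Quotient.mk_surjective
    ((u⁻¹ : (Localization.AtPrime 𝔭 ⧸ (J.map (algebraMap A (Localization.AtPrime 𝔭))) ^ 1)ˣ) :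
      Localization.AtPrime 𝔭 ⧸ (J.map (algebraMap A (Localization.AtPrime 𝔭))) ^ 1)
  have h0 : Ideal.Quotient.mk ((J.map (algebraMap A (Localization.AtPrime 𝔭))) ^ 1) (r * s - 1) = 0 := by
    rw [map_sub, map_mul, hs, ← hu, map_one, Units.mul_inv, sub_self]
  rw [Ideal.Quotient.eq_zero_iff_mem, pow_one] at h0
  have h1 := map_le_maximalIdeal A J 𝔭 hJ h0
  have h2 : r * s ∈ IsLocalRing.maximalIdeal (Localization.AtPrime 𝔭) :=
    Ideal.mul_mem_right _ _ hmem
  have h3 : (1 : Localization.AtPrime 𝔭) ∈ IsLocalRing.maximalIdeal (Localization.AtPrime 𝔭) := by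
    have := Ideal.sub_mem _ h2 h1
    simpa using this
  exact (Ideal.ne_top_iff_one _).mp (IsLocalRing.maximalIdeal.isMaximal _).ne_top h3

/-- `A{S⁻¹}` is a local ring. -/
theorem isLocalRing_cAtPrime (hJ : J ≤ 𝔭) : IsLocalRing (cAtPrime A J 𝔭) := by
  have n2 : IsNoetherianRing (Localization.AtPrime 𝔭) :=
    IsLocalization.isNoetherianRing 𝔭.primeCompl _ inferInstance
  have hfg : (J.map (algebraMap A (Localization.AtPrime 𝔭))).FG := IsNoetherian.noetherian _
  have hne : (J.map (algebraMap A (Localization.AtPrime 𝔭))) ^ 1 ≠ ⊤ := by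
    rw [pow_one]
    intro h
    have := map_le_maximalIdeal A J 𝔭 hJ
    rw [h, top_le_iff] at this
    exact (IsLocalRing.maximalIdeal.isMaximal _).ne_top this
  have : Nontrivial (Localization.AtPrime 𝔭 ⧸ (J.map (algebraMap A (Localization.AtPrime 𝔭))) ^ 1) :=
    Ideal.Quotient.nontrivial_iff.mpr hne
  have : Nontrivial (cAtPrime A J 𝔭) :=
    (AdicCompletion.evalₐ (J.map (algebraMap A (Localization.AtPrime 𝔭))) 1).toRingHom.domain_nontrivial
  refine IsLocalRing.of_isUnit_or_isUnit_one_sub_self fun c => ?_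
  obtain ⟨r, hr⟩ := Ideal.Quotient.mk_surjective
    (AdicCompletion.evalₐ (J.map (algebraMap A (Localization.AtPrime 𝔭))) 1 c)
  rcases IsLocalRing.isUnit_or_isUnit_one_sub_self r with h | h
  · left
    apply isUnit_of_isUnit_evalₐ_one _ hfg
    rw [← hr]
    exact h.map _
  · right
    apply isUnit_of_isUnit_evalₐ_one _ hfg
    rw [map_sub, map_one, ← hr, ← map_one (Ideal.Quotient.mk _), ← map_sub]
    exact h.map _

end local_

end main

end Groth.Agent.Lib.Helper62.StalkSub
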