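import Mathlib
import Groth.Agent.Lib.Helper62.StalkSub4

/-!
# Faithful flatness of `A{S⁻¹}` over `A_{S}` and Noetherianity of `A_{S}` (helper62)
-/

set_option autoImplicit false
universe u

namespace Groth.Agent.Lib.Helper62.StalkSub

open FSch TensorProduct

/-- Noetherianity descends along faithfully flat ring maps. -/
theorem isNoetherianRing_of_faithfullyFlat (A B : Type*) [CommRing A] [CommRing B] [Algebra A B]
    [Module.FaithfullyFlat A B] [IsNoetherianRing B] : IsNoetherianRing A := by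
  have hB : WellFoundedGT (Ideal B) := (isNoetherian_iff' (R := B) (M := B)).mp inferInstance
  rw [isNoetherianRing_iff, isNoetherian_iff']
  let e : Ideal A ↪o Ideal B := OrderEmbedding.ofMapLEIff (Ideal.map (algebraMap A B))
    (fun I J => ⟨fun h => by
      have := Ideal.comap_mono (f := algebraMap A B) h
      rwa [Ideal.comap_map_eq_self_of_faithfullyFlat, Ideal.comap_map_eq_self_of_faithfullyFlat]
        at this, fun h => Ideal.map_mono h⟩)
  exact e.wellFoundedGT

section main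

variable (A : Type u) [CommRing A] [IsNoetherianRing A] (J : Ideal A) (𝔭 : Ideal A) [𝔭.IsPrime]

/-- A member of the stalk subring which is a unit of `A{S⁻¹}` is a unit of the stalk subring. -/
theorem isUnit_of_isUnit_val (hJ : J ≤ 𝔭) (b : stalkSubring A J 𝔭)
    (hb : IsUnit (b : cAtPrime A J 𝔭)) : IsUnit b := by
  obtain ⟨⟨f, hf⟩, b', hb'⟩ := (mem_stalkSubring_iff A J 𝔭 _).mp b.2
  obtain ⟨r, hr⟩ := Ideal.Quotient.mk_surjective
    (AdicCompletion.evalₐ (J.map (algebraMap A (Localization.Away f))) 1 b')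
  have h1 : AdicCompletion.evalₐ (J.map (algebraMap A (Localization.AtPrime 𝔭))) 1
      (b : cAtPrime A J 𝔭) = Ideal.Quotient.mk _ (awayToAtPrime A 𝔭 f hf r) := by
    rw [← hb']
    unfold cAwayToAtPrime
    rw [evalₐ_complMap, ← hr, Ideal.quotientMap_mk]
  have h2 : IsUnit (awayToAtPrime A 𝔭 f hf r) := by
    apply isUnit_of_isUnit_mk A J 𝔭 hJ
    rw [← h1]
    exact hb.map _
  obtain ⟨k, u, hu⟩ := IsLocalization.Away.surj f r
  have h3 : awayToAtPrime A 𝔭 f hf r * (algebraMap A (Localization.AtPrime 𝔭) f) ^ k =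
      algebraMap A (Localization.AtPrime 𝔭) u := by
    have := congrArg (awayToAtPrime A 𝔭 f hf) hu
    rw [map_mul, map_pow] at this
    simpa [awayToAtPrime] using this
  have hfunit : IsUnit (algebraMap A (Localization.AtPrime 𝔭) f) :=
    IsLocalization.map_units (Localization.AtPrime 𝔭) (⟨f, hf⟩ : 𝔭.primeCompl)
  have hu𝔭 : u ∉ 𝔭 := by
    have : IsUnit (algebraMap A (Localization.AtPrime 𝔭) u) := h3 ▸ h2.mul (hfunit.pow k)
    exact (IsLocalization.AtPrime.isUnit_to_map_iff (Localization.AtPrime 𝔭) 𝔭 u).mp this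
  have hh : f * u ∉ 𝔭 := fun h => (Ideal.IsPrime.mem_or_mem ‹_› h).elim hf hu𝔭
  set b'' := cAwayTrans A J f (f * u) (isUnit_left A f u) b' with hb''def
  have hb'' : cAwayToAtPrime A J 𝔭 (f * u) hh b'' = (b : cAtPrime A J 𝔭) := by
    rw [hb''def, cAwayToAtPrime_cAwayTrans A J 𝔭 f (f * u) (isUnit_left A f u) hf hh, hb']
  have hfg : (J.map (algebraMap A (Localization.Away (f * u)))).FG :=
    Ideal.FG.map (IsNoetherian.noetherian J) _
  have hunit'' : IsUnit b'' := by
    apply isUnit_of_isUnit_evalₐ_one _ hfg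
    rw [hb''def]
    unfold cAwayTrans
    rw [evalₐ_complMap, ← hr, Ideal.quotientMap_mk]
    apply IsUnit.map
    have := congrArg (awayTrans A f (f * u) (isUnit_left A f u)) hu
    rw [map_mul, map_pow, awayTrans_algebraMap, awayTrans_algebraMap] at this
    exact isUnit_of_mul_isUnit_left (this ▸ isUnit_right A f u)
  obtain ⟨v, hv⟩ := hunit''
  rw [isUnit_iff_exists_inv]
  refine ⟨⟨cAwayToAtPrime A J 𝔭 (f * u) hh (↑v⁻¹ : cAway A J (f * u)),
    (mem_stalkSubring_iff A J 𝔭 _).mpr ⟨⟨f * u, hh⟩, RingHom.mem_range_self _ _⟩⟩, ?_⟩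
  apply Subtype.ext
  show (b : cAtPrime A J 𝔭) * cAwayToAtPrime A J 𝔭 (f * u) hh (↑v⁻¹ : cAway A J (f * u)) = 1
  rw [← hb'', ← hv, ← map_mul, Units.mul_inv, map_one]

set_option synthInstance.maxHeartbeats 200000 in
/-- `A{S⁻¹}` is faithfully flat over the stalk subring `A_{S}`. -/
theorem faithfullyFlat_stalkSubring (hJ : J ≤ 𝔭) :
    Module.FaithfullyFlat (stalkSubring A J 𝔭) (cAtPrime A J 𝔭) := by
  have hflat := flat_stalkSubring A J 𝔭
  have hloc := isLocalRing_cAtPrime A J 𝔭 hJ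
  refine { submodule_ne_top := fun 𝔫 h𝔫 htop => ?_ }
  have h1 : (1 : cAtPrime A J 𝔭) ∈ (⊤ : Submodule (stalkSubring A J 𝔭) (cAtPrime A J 𝔭)) := trivial
  rw [← htop] at h1
  have h2 : (1 : cAtPrime A J 𝔭) ∈ IsLocalRing.maximalIdeal (cAtPrime A J 𝔭) := by
    refine Submodule.smul_induction_on h1 ?_ ?_
    · intro b hb c' _
      rw [Subring.smul_def, smul_eq_mul]
      apply Ideal.mul_mem_right
      rw [IsLocalRing.mem_maximalIdeal, mem_nonunits_iff]
      intro hu
      have := isUnit_of_isUnit_val A J 𝔭 hJ b hu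
      exact h𝔫.ne_top (Ideal.eq_top_of_isUnit_mem _ hb this)
    · intro x y hx hy
      exact add_mem hx hy
  exact (Ideal.ne_top_iff_one _).mp (IsLocalRing.maximalIdeal.isMaximal _).ne_top h2

/-- The stalk subring `A_{S}` is Noetherian. -/
theorem isNoetherianRing_stalkSubring (hJ : J ≤ 𝔭) : IsNoetherianRing (stalkSubring A J 𝔭) := by
  have := faithfullyFlat_stalkSubring A J 𝔭 hJ
  have n2 : IsNoetherianRing (Localization.AtPrime 𝔭) :=
    IsLocalization.isNoetherianRing 𝔭.primeCompl _ inferInstance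
  have : IsNoetherianRing (cAtPrime A J 𝔭) := Groth.Agent.S0543.result _ _
  exact isNoetherianRing_of_faithfullyFlat (stalkSubring A J 𝔭) (cAtPrime A J 𝔭)

end main

end Groth.Agent.Lib.Helper62.StalkSub
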