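import Mathlib
import Groth.Agent.Lib.Helper62.StalkSub5

/-!
# Flatness of `A → A_{S}` (helper62)
-/

set_option autoImplicit false
universe u

namespace Groth.Agent.Lib.Helper62.StalkSub

open FSch TensorProduct

/-- Descent of flatness: if `C` is faithfully flat over `B` and flat over `A`, then `B` is flat
over `A`. -/
theorem flat_of_faithfullyFlat_of_flat (A B C : Type u) [CommRing A] [CommRing B] [CommRing C]
    [Algebra A B] [Algebra B C] [Algebra A C] [IsScalarTower A B C]
    [Module.FaithfullyFlat B C] [Module.Flat A C] : Module.Flat A B := by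
  rw [Module.Flat.iff_lTensor_preserves_injective_linearMap]
  intro N P _ _ _ _ f hf
  have h1 : Function.Injective (f.baseChange B) ↔ Function.Injective (f.lTensor B) := by
    rw [LinearMap.baseChange_eq_ltensor]
  rw [← h1, ← Module.FaithfullyFlat.lTensor_injective_iff_injective B C]
  have key : LinearMap.lTensor C (f.baseChange B) =
      ((TensorProduct.AlgebraTensorModule.cancelBaseChange A B C C P).symm.toLinearMap.restrictScalars B) ∘ₗ
        ((f.baseChange C).restrictScalars B) ∘ₗ
        ((TensorProduct.AlgebraTensorModule.cancelBaseChange A B C C N).toLinearMap.restrictScalars B) := by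
    apply TensorProduct.ext'
    intro c y
    induction y using TensorProduct.induction_on with
    | zero => simp
    | tmul b n =>
      simp only [LinearMap.lTensor_tmul, LinearMap.baseChange_tmul, LinearMap.coe_comp,
        LinearMap.coe_restrictScalars, LinearEquiv.coe_coe, Function.comp_apply,
        TensorProduct.AlgebraTensorModule.cancelBaseChange_tmul, LinearMap.baseChange_tmul]
      rw [eq_comm, LinearEquiv.symm_apply_eq, TensorProduct.AlgebraTensorModule.cancelBaseChange_tmul]
    | add y₁ y₂ h₁ h₂ =>
      rw [TensorProduct.tmul_add, map_add, map_add, h₁, h₂]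
  rw [key]
  have hfl : Function.Injective (f.baseChange C) := by
    rw [LinearMap.baseChange_eq_ltensor]
    exact Module.Flat.lTensor_preserves_injective_linearMap f hf
  simp only [LinearMap.coe_comp, LinearMap.coe_restrictScalars, LinearEquiv.coe_coe]
  exact ((LinearEquiv.injective _).comp hfl).comp (LinearEquiv.injective _)

section main

variable (A : Type u) [CommRing A] [IsNoetherianRing A] (J 𝔭 : Ideal A) [𝔭.IsPrime]

set_option synthInstance.maxHeartbeats 200000 in
/-- The canonical map `A → A_{S}` is flat. -/
theorem flat_codRestrict_stalkSubring (hJ : J ≤ 𝔭)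
    (h : ∀ a : A, ((algebraMap (Localization.AtPrime 𝔭) (cAtPrime A J 𝔭)).comp
      (algebraMap A (Localization.AtPrime 𝔭))) a ∈ stalkSubring A J 𝔭) :
    (((algebraMap (Localization.AtPrime 𝔭) (cAtPrime A J 𝔭)).comp
      (algebraMap A (Localization.AtPrime 𝔭))).codRestrict (stalkSubring A J 𝔭) h).Flat := by
  letI algAB : Algebra A (stalkSubring A J 𝔭) :=
    (((algebraMap (Localization.AtPrime 𝔭) (cAtPrime A J 𝔭)).comp
      (algebraMap A (Localization.AtPrime 𝔭))).codRestrict (stalkSubring A J 𝔭) h).toAlgebra
  show Module.Flat A (stalkSubring A J 𝔭)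
  have n2 : IsNoetherianRing (Localization.AtPrime 𝔭) :=
    IsLocalization.isNoetherianRing 𝔭.primeCompl _ inferInstance
  have tower1 : IsScalarTower A (Localization.AtPrime 𝔭) (cAtPrime A J 𝔭) :=
    IsScalarTower.of_algebraMap_eq (fun _ => rfl)
  have tower2 : IsScalarTower A (stalkSubring A J 𝔭) (cAtPrime A J 𝔭) :=
    IsScalarTower.of_algebraMap_eq (fun _ => rfl)
  have f1 : Module.Flat A (Localization.AtPrime 𝔭) := IsLocalization.flat _ 𝔭.primeCompl
  have f2 : Module.Flat (Localization.AtPrime 𝔭) (cAtPrime A J 𝔭) :=
    AdicCompletion.flat_of_isNoetherian _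
  have f3 : Module.Flat A (cAtPrime A J 𝔭) := Module.Flat.trans A (Localization.AtPrime 𝔭) _
  have ff := faithfullyFlat_stalkSubring A J 𝔭 hJ
  exact flat_of_faithfullyFlat_of_flat A (stalkSubring A J 𝔭) (cAtPrime A J 𝔭)

end main

end Groth.Agent.Lib.Helper62.StalkSub
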