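import Mathlib
import Groth.Prelude.Def_PP16
import Groth.Agent.Lib.Helper62.SymGr1

set_option autoImplicit false
universe u

open TensorProduct Pointwise

namespace Groth.Agent.Lib.Helper62.SymGr

open Groth.Agent.Lib.Helper62.SymPow

section split

variable {B : Type u} [CommRing B] (𝔍 : Ideal B)

/-- the symmetric algebra of the cotangent space over `B ⧸ 𝔍`. -/
abbrev SymC : Type u := SymmetricAlgebra (B ⧸ 𝔍) 𝔍.Cotangent

/-- its augmentation ideal -/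
noncomputable abbrev augC : Ideal (SymC 𝔍) := aug (B ⧸ 𝔍) 𝔍.Cotangent

/-- the ring map `B → Sym`. -/
noncomputable def bS : B →+* SymC 𝔍 := (algebraMap (B ⧸ 𝔍) (SymC 𝔍)).comp (Ideal.Quotient.mk 𝔍)

theorem bS_apply (b : B) : bS 𝔍 b = algebraMap (B ⧸ 𝔍) (SymC 𝔍) (Ideal.Quotient.mk 𝔍 b) := rfl

/-- the inclusion of the cotangent space in the symmetric algebra -/
noncomputable abbrev ιC : 𝔍.Cotangent →ₗ[B ⧸ 𝔍] SymC 𝔍 := SymmetricAlgebra.ι (B ⧸ 𝔍) 𝔍.Cotangent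

/-- the graded piece `𝔍^n/𝔍^(n+1)` maps compatibly to `Sym^n`, expressed inside `Sym/aug^(n+1)`. -/
def GrSplit (n : ℕ) : Prop :=
  ∃ g : ↥(𝔍 ^ n) →+ (SymC 𝔍 ⧸ (augC 𝔍) ^ (n + 1)),
    (∀ (b : B) (y : ↥(𝔍 ^ n)), g (b • y) = Ideal.Quotient.mk _ (bS 𝔍 b) * g y) ∧
    (∀ y : ↥(𝔍 ^ n), (y : B) ∈ 𝔍 ^ (n + 1) → g y = 0) ∧
    (∀ (x : Fin n → ↥𝔍) (h : ∏ k, (x k : B) ∈ 𝔍 ^ n), g ⟨∏ k, (x k : B), h⟩ =
      Ideal.Quotient.mk _ (∏ k, ιC 𝔍 (𝔍.toCotangent (x k))))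

/-- the `B`-module structure on `Sym` -/
@[reducible] noncomputable def modBS : Module B (SymC 𝔍) := Module.compHom (SymC 𝔍) (bS 𝔍)

attribute [local instance] modBS

theorem smul_def_BS (b : B) (s : SymC 𝔍) : b • s = bS 𝔍 b * s := rfl

variable (ι : Type u) [Fintype ι]

/-- the product map as a `B`-multilinear map -/
noncomputable def prodMultiB : MultilinearMap B (fun _ : ι => 𝔍.Cotangent) (SymC 𝔍) where
  toFun v := ∏ i, ιC 𝔍 (v i)
  map_update_add' := by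
    intro _ p i x y
    exact ((MultilinearMap.mkPiAlgebra (B ⧸ 𝔍) ι (SymC 𝔍)).compLinearMap
      (fun _ => ιC 𝔍)).map_update_add p i x y
  map_update_smul' := by
    intro _ p i b x
    have h1 : b • x = (Ideal.Quotient.mk 𝔍 b) • x := by
      rw [← Ideal.Quotient.algebraMap_eq, algebraMap_smul]
    rw [h1]
    have := ((MultilinearMap.mkPiAlgebra (B ⧸ 𝔍) ι (SymC 𝔍)).compLinearMap
      (fun _ => ιC 𝔍)).map_update_smul p i (Ideal.Quotient.mk 𝔍 b) x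
    simp only [MultilinearMap.compLinearMap_apply, MultilinearMap.mkPiAlgebra_apply] at this
    rw [this]
    show _ = bS 𝔍 b * _
    rw [bS_apply, Algebra.smul_def]

theorem prodMultiB_apply (v : ι → 𝔍.Cotangent) : prodMultiB 𝔍 ι v = ∏ i, ιC 𝔍 (v i) := rfl

theorem prodMultiB_symm (e : Equiv.Perm ι) (v : ι → 𝔍.Cotangent) :
    prodMultiB 𝔍 ι (fun i => v (e i)) = prodMultiB 𝔍 ι v := by
  rw [prodMultiB_apply, prodMultiB_apply]
  exact Equiv.prod_comp e (fun i => ιC 𝔍 (v i))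

/-- the product map `Sym_B^ι(𝔍/𝔍²) → Sym`. -/
noncomputable def prodMapB : SymmetricPower B ι 𝔍.Cotangent →ₗ[B] SymC 𝔍 :=
  lift (prodMultiB 𝔍 ι) (prodMultiB_symm 𝔍 ι)

theorem prodMapB_tprod (v : ι → 𝔍.Cotangent) :
    prodMapB 𝔍 ι (SymmetricPower.tprod B v) = ∏ i, ιC 𝔍 (v i) := by
  rw [prodMapB, lift_tprod, prodMultiB_apply]

end split

end Groth.Agent.Lib.Helper62.SymGr
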