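import Mathlib
import Groth.Prelude.Def_PP16
import Groth.Agent.Lib.Helper62.SymGr2

set_option autoImplicit false
universe u

open TensorProduct Pointwise

namespace Groth.Agent.Lib.Helper62.SymGr

open Groth.Agent.Lib.Helper62.SymPow

section split

variable {B : Type u} [CommRing B] (𝔍 : Ideal B)

attribute [local instance] modBS

variable (ι : Type u) [Fintype ι]

theorem zetaJ_comp_equivFin (x : Fin (Fintype.card ι) → ↥𝔍)
    (h : ∏ k, (x k : B) ∈ 𝔍 ^ Fintype.card ι) :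
    PP16.zetaJ B 𝔍 (fun i : ι => x (Fintype.equivFin ι i)) =
      Submodule.Quotient.mk ⟨∏ k, (x k : B), h⟩ := by
  unfold PP16.zetaJ
  congr 1
  apply Subtype.ext
  exact Equiv.prod_comp (Fintype.equivFin ι) (fun k => (x k : B))

theorem mkQ_eq_zero_iff (y : ↥(𝔍 ^ Fintype.card ι)) :
    (Submodule.Quotient.mk y : PP16.grJ B 𝔍 (Fintype.card ι)) = 0 ↔
      (y : B) ∈ 𝔍 ^ (Fintype.card ι + 1) := by
  rw [Submodule.Quotient.mk_eq_zero]
  rfl

/-- bijectivity of the canonical map gives a splitting. -/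
theorem grSplit_of_bijective
    (φ : SymmetricPower B ι 𝔍.Cotangent →ₗ[B] PP16.grJ B 𝔍 (Fintype.card ι))
    (hφ : ∀ x : ι → ↥𝔍, φ (SymmetricPower.tprod B (fun i => 𝔍.toCotangent (x i))) = PP16.zetaJ B 𝔍 x)
    (hbij : Function.Bijective φ) : GrSplit 𝔍 (Fintype.card ι) := by
  let e := LinearEquiv.ofBijective φ hbij
  let g : ↥(𝔍 ^ Fintype.card ι) →+ (SymC 𝔍 ⧸ (augC 𝔍) ^ (Fintype.card ι + 1)) :=
    ((Ideal.Quotient.mk ((augC 𝔍) ^ (Fintype.card ι + 1))).toAddMonoidHom.comp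
      (prodMapB 𝔍 ι).toAddMonoidHom).comp
      ((e.symm.toLinearMap.comp (Submodule.mkQ _)).toAddMonoidHom)
  have hg : ∀ y, g y = Ideal.Quotient.mk _ (prodMapB 𝔍 ι (e.symm (Submodule.Quotient.mk y))) :=
    fun _ => rfl
  refine ⟨g, ?_, ?_, ?_⟩
  · intro b y
    rw [hg, hg, Submodule.Quotient.mk_smul, map_smul, map_smul, smul_def_BS, map_mul]
  · intro y hy
    rw [hg, (mkQ_eq_zero_iff 𝔍 ι y).mpr hy, map_zero, map_zero, map_zero]
  · intro x h
    rw [hg, ← zetaJ_comp_equivFin 𝔍 ι x h, ← hφ]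
    have : e.symm (φ (SymmetricPower.tprod B fun i => 𝔍.toCotangent (x (Fintype.equivFin ι i)))) =
        SymmetricPower.tprod B fun i => 𝔍.toCotangent (x (Fintype.equivFin ι i)) :=
      e.symm_apply_apply _
    rw [this, prodMapB_tprod]
    congr 1
    exact Equiv.prod_comp (Fintype.equivFin ι) (fun k => ιC 𝔍 (𝔍.toCotangent (x k)))

end split

end Groth.Agent.Lib.Helper62.SymGr
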