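import Mathlib
import Groth.Prelude.Def_PP16
import Groth.Agent.Lib.Helper62.SymGr3

set_option autoImplicit false
universe u

open TensorProduct Pointwise

namespace Groth.Agent.Lib.Helper62.SymGr

open Groth.Agent.Lib.Helper62.SymPow

section split

variable {B : Type u} [CommRing B] (𝔍 : Ideal B)

attribute [local instance] modBS

variable (ι : Type u) [Fintype ι]

/-- the retraction `Sym → Sym_B^ι(𝔍/𝔍²)`. -/
noncomputable def retr [Nonempty ι] : SymC 𝔍 →+ SymmetricPower B ι 𝔍.Cotangent :=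
  (cmp 𝔍 𝔍.Cotangent ι).comp (projι (B ⧸ 𝔍) 𝔍.Cotangent ι).toAddMonoidHom

theorem retr_prodMapB [Nonempty ι] (z : SymmetricPower B ι 𝔍.Cotangent) :
    retr 𝔍 ι (prodMapB 𝔍 ι z) = z := by
  have : (retr 𝔍 ι).comp (prodMapB 𝔍 ι).toAddMonoidHom = AddMonoidHom.id _ := by
    apply addHom_ext
    intro v
    show retr 𝔍 ι (prodMapB 𝔍 ι (SymmetricPower.tprod B v)) = _
    rw [prodMapB_tprod]
    show cmp 𝔍 𝔍.Cotangent ι (projι (B ⧸ 𝔍) 𝔍.Cotangent ι _) = _
    rw [projι_prod, cmp_tprod]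
    rfl
  exact DFunLike.congr_fun this z

theorem retr_aug_pow [Nonempty ι] (s : SymC 𝔍) (hs : s ∈ (augC 𝔍) ^ (Fintype.card ι + 1)) :
    retr 𝔍 ι s = 0 := by
  show cmp 𝔍 𝔍.Cotangent ι (projι (B ⧸ 𝔍) 𝔍.Cotangent ι s) = 0
  rw [projι_aug_pow _ _ ι s hs, map_zero]

theorem injective_of_grSplit [Nonempty ι] (hsplit : GrSplit 𝔍 (Fintype.card ι))
    (φ : SymmetricPower B ι 𝔍.Cotangent →ₗ[B] PP16.grJ B 𝔍 (Fintype.card ι))
    (hφ : ∀ x : ι → ↥𝔍, φ (SymmetricPower.tprod B (fun i => 𝔍.toCotangent (x i))) = PP16.zetaJ B 𝔍 x) :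
    Function.Injective φ := by
  obtain ⟨g, hg0, hg1, hg2⟩ := hsplit
  -- g only depends on the class
  have hgcong : ∀ y y' : ↥(𝔍 ^ Fintype.card ι),
      (Submodule.Quotient.mk y : PP16.grJ B 𝔍 (Fintype.card ι)) = Submodule.Quotient.mk y' →
      g y = g y' := by
    intro y y' h
    have h1 : (Submodule.Quotient.mk (y - y') : PP16.grJ B 𝔍 (Fintype.card ι)) = 0 := by
      rw [Submodule.Quotient.mk_sub, h, sub_self]
    have h2 := hg1 (y - y') ((mkQ_eq_zero_iff 𝔍 ι _).mp h1)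
    rw [map_sub, sub_eq_zero] at h2
    exact h2
  have key : ∀ (z : SymmetricPower B ι 𝔍.Cotangent) (y : ↥(𝔍 ^ Fintype.card ι)),
      φ z = Submodule.Quotient.mk y →
      Ideal.Quotient.mk ((augC 𝔍) ^ (Fintype.card ι + 1)) (prodMapB 𝔍 ι z) = g y := by
    intro z
    have hz : z ∈ Submodule.span B (Set.range (SymmetricPower.tprod B (ι := ι)
        (M := 𝔍.Cotangent))) := by
      rw [SymmetricPower.span_tprod_eq_top]; trivial
    induction hz using Submodule.span_induction with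
    | mem z hz =>
      obtain ⟨v, rfl⟩ := hz
      intro y hy
      have hv : v = fun i => 𝔍.toCotangent (sec 𝔍 (v i)) := by
        funext i; rw [toCotangent_sec]
      rw [hv, hφ] at hy
      -- reindex
      set x : Fin (Fintype.card ι) → ↥𝔍 := fun k => sec 𝔍 (v ((Fintype.equivFin ι).symm k)) with hx
      have hmem : ∏ k, (x k : B) ∈ 𝔍 ^ Fintype.card ι := by
        have := Ideal.prod_mem_prod (s := Finset.univ) (I := fun _ : Fin (Fintype.card ι) => 𝔍)
          (x := fun k => (x k : B)) (fun k _ => (x k).2)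
        simpa using this
      have hzeta : PP16.zetaJ B 𝔍 (fun i => sec 𝔍 (v i)) =
          Submodule.Quotient.mk ⟨∏ k, (x k : B), hmem⟩ := by
        rw [← zetaJ_comp_equivFin 𝔍 ι x hmem]
        congr 1
        funext i
        simp [hx]
      rw [hzeta] at hy
      rw [← hgcong _ _ hy, hg2 x hmem, prodMapB_tprod]
      congr 1
      rw [← Equiv.prod_comp (Fintype.equivFin ι) (fun k => ιC 𝔍 (𝔍.toCotangent (x k)))]
      refine Finset.prod_congr rfl (fun i _ => ?_)
      simp [hx, toCotangent_sec]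
    | zero =>
      intro y hy
      rw [map_zero] at hy
      rw [map_zero, map_zero, ← hgcong 0 y (by rw [← hy]; rfl), map_zero]
    | add z₁ z₂ _ _ ih₁ ih₂ =>
      intro y hy
      obtain ⟨y₁, hy₁⟩ := Submodule.Quotient.mk_surjective _ (φ z₁)
      have hy₂ : φ z₂ = Submodule.Quotient.mk (y - y₁) := by
        rw [Submodule.Quotient.mk_sub, ← hy, hy₁, map_add, add_sub_cancel_left]
      rw [map_add, map_add, ih₁ y₁ hy₁.symm, ih₂ _ hy₂, ← map_add, add_sub_cancel]
    | smul b z₁ _ ih₁ =>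
      intro y hy
      obtain ⟨y₁, hy₁⟩ := Submodule.Quotient.mk_surjective _ (φ z₁)
      have hy' : (Submodule.Quotient.mk y : PP16.grJ B 𝔍 (Fintype.card ι)) =
          Submodule.Quotient.mk (b • y₁) := by
        rw [Submodule.Quotient.mk_smul, hy₁, ← hy, map_smul]
      rw [hgcong _ _ hy', hg0, ← ih₁ y₁ hy₁.symm, map_smul, smul_def_BS, map_mul]
  rw [injective_iff_map_eq_zero]
  intro z hz
  have h0 := key z 0 (by rw [hz]; rfl)
  rw [map_zero, Ideal.Quotient.eq_zero_iff_mem] at h0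
  rw [← retr_prodMapB 𝔍 ι z, retr_aug_pow 𝔍 ι _ h0]

end split

end Groth.Agent.Lib.Helper62.SymGr
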