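import Mathlib
import Groth.Prelude.Def_PP16
import Groth.Agent.Lib.Helper62.SymGr4

set_option autoImplicit false
universe u

open TensorProduct Pointwise

namespace Groth.Agent.Lib.Helper62.SymGr

open Groth.Agent.Lib.Helper62.SymPow

section split

variable {B : Type u} [CommRing B] (𝔍 : Ideal B)

theorem symGrBijective_iff :
    PP16.SymGrBijective B 𝔍 ↔ ∀ n : ℕ, 1 ≤ n → GrSplit 𝔍 n := by
  constructor
  · intro h n hn
    have : Nonempty (ULift.{u} (Fin n)) := ⟨⟨⟨0, hn⟩⟩⟩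
    obtain ⟨φ, hφ, hbij⟩ := h (ULift.{u} (Fin n))
    have h1 := grSplit_of_bijective 𝔍 (ULift.{u} (Fin n)) φ hφ hbij
    have hcard : Fintype.card (ULift.{u} (Fin n)) = n := by simp
    rw [hcard] at h1
    exact h1
  · intro h ι _ _
    refine ⟨canMap 𝔍 ι, canMap_tprod 𝔍 ι, ?_, ?_⟩
    · exact injective_of_grSplit 𝔍 ι (h _ Fintype.card_pos) _ (canMap_tprod 𝔍 ι)
    · exact surjective_of_tprod 𝔍 ι _ (canMap_tprod 𝔍 ι)

end split

end Groth.Agent.Lib.Helper62.SymGr
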