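import Mathlib
import Groth.Prelude.Def_PP16
import Groth.Agent.Lib.Helper62.SymGr5

set_option autoImplicit false
universe u

open TensorProduct Pointwise

namespace Groth.Agent.Lib.Helper62.SymEngine

open Groth.Agent.Lib.Helper62.SymPow Groth.Agent.Lib.Helper62.SymGr

section basic

variable {Q : Type u} [CommRing Q] (𝔞 : Ideal Q)

/-- list products of elements of `𝔞` congruent modulo `𝔞²` are congruent modulo `𝔞^(n+1)`. -/
theorem list_prod_sub_mem {α : Type*} (f g : α → Q) (hf : ∀ a, f a ∈ 𝔞) (hg : ∀ a, g a ∈ 𝔞)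
    (hfg : ∀ a, f a - g a ∈ 𝔞 ^ 2) (l : List α) :
    (l.map f).prod - (l.map g).prod ∈ 𝔞 ^ (l.length + 1) := by
  have hmem : ∀ l : List α, (l.map f).prod ∈ 𝔞 ^ l.length := by
    intro l
    induction l with
    | nil => simp
    | cons a l ih =>
      rw [List.map_cons, List.prod_cons, List.length_cons, pow_succ']
      exact Ideal.mul_mem_mul (hf a) ih
  induction l with
  | nil => simp
  | cons a l ih =>
    rw [List.map_cons, List.map_cons, List.prod_cons, List.prod_cons, List.length_cons]
    have h1 : f a * (l.map f).prod - g a * (l.map g).prod =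
        (f a - g a) * (l.map f).prod + g a * ((l.map f).prod - (l.map g).prod) := by ring
    rw [h1]
    refine Ideal.add_mem _ ?_ ?_
    · have h2 : (f a - g a) * (l.map f).prod ∈ 𝔞 ^ 2 * 𝔞 ^ l.length :=
        Ideal.mul_mem_mul (hfg a) (hmem l)
      rw [← pow_add] at h2
      convert h2 using 2
      omega
    · have h2 : g a * ((l.map f).prod - (l.map g).prod) ∈ 𝔞 * 𝔞 ^ (l.length + 1) :=
        Ideal.mul_mem_mul (hg a) ih
      rw [← pow_succ'] at h2
      exact h2

end basic

end Groth.Agent.Lib.Helper62.SymEngine
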