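import Mathlib
import Groth.Prelude.Def_PP16
import Groth.Agent.Lib.Helper62.SymEngine0

set_option autoImplicit false
universe u

open TensorProduct Pointwise

namespace Groth.Agent.Lib.Helper62.SymEngine

open Groth.Agent.Lib.Helper62.SymPow Groth.Agent.Lib.Helper62.SymGr

section engine

variable {B : Type u} [CommRing B] (𝔍 : Ideal B) (m : ℕ)

/-- the image of `𝔍^i` in `B ⧸ 𝔍^m`. -/
abbrev JQ (i : ℕ) : Ideal (B ⧸ 𝔍 ^ m) := (𝔍 ^ i).map (Ideal.Quotient.mk (𝔍 ^ m))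

theorem mem_JQ_iff (i : ℕ) (z : B ⧸ 𝔍 ^ m) :
    z ∈ JQ 𝔍 m i ↔ ∃ y ∈ 𝔍 ^ i, Ideal.Quotient.mk (𝔍 ^ m) y = z :=
  Ideal.mem_map_iff_of_surjective _ Ideal.Quotient.mk_surjective

theorem mem_of_mk_mem_JQ (i : ℕ) (hi : i ≤ m) (y : B)
    (h : Ideal.Quotient.mk (𝔍 ^ m) y ∈ JQ 𝔍 m i) : y ∈ 𝔍 ^ i := by
  obtain ⟨y', hy', h'⟩ := (mem_JQ_iff 𝔍 m i _).mp h
  have h1 : y - y' ∈ 𝔍 ^ m := by
    rw [← Ideal.Quotient.eq_zero_iff_mem, map_sub, h', sub_self]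
  have h2 : y - y' ∈ 𝔍 ^ i := Ideal.pow_le_pow_right hi h1
  have := Ideal.add_mem _ h2 hy'
  simpa using this

theorem JQ_mul (i j : ℕ) : JQ 𝔍 m i * JQ 𝔍 m j = JQ 𝔍 m (i + j) := by
  rw [JQ, JQ, JQ, ← Ideal.map_mul, pow_add]

theorem JQ_pow (i : ℕ) : JQ 𝔍 m 1 ^ i = JQ 𝔍 m i := by
  rw [JQ, JQ, ← Ideal.map_pow, pow_one]

theorem JQ_anti {i j : ℕ} (h : i ≤ j) : JQ 𝔍 m j ≤ JQ 𝔍 m i :=
  Ideal.map_mono (Ideal.pow_le_pow_right h)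

theorem JQ_m : JQ 𝔍 m m = ⊥ := by
  rw [JQ, Ideal.map_quotient_self]

variable (σ : B ⧸ 𝔍 →+* B ⧸ 𝔍 ^ m) (θ : SymC 𝔍 →+* B ⧸ 𝔍 ^ m)
  (hσ : ∀ b : B, Ideal.Quotient.mk (𝔍 ^ m) b - σ (Ideal.Quotient.mk 𝔍 b) ∈ JQ 𝔍 m 1)
  (hσ0 : ∀ c : B ⧸ 𝔍, σ c ∈ JQ 𝔍 m 1 → c = 0)
  (hθσ : ∀ c : B ⧸ 𝔍, θ (algebraMap (B ⧸ 𝔍) (SymC 𝔍) c) = σ c)
  (hθι : ∀ x : ↥𝔍, θ (ιC 𝔍 (𝔍.toCotangent x)) - Ideal.Quotient.mk (𝔍 ^ m) (x : B) ∈ JQ 𝔍 m 2)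

include hθι in
theorem θ_ι_mem (p : 𝔍.Cotangent) : θ (ιC 𝔍 p) ∈ JQ 𝔍 m 1 := by
  obtain ⟨x, rfl⟩ := Ideal.toCotangent_surjective 𝔍 p
  have h1 := JQ_anti 𝔍 m (show 1 ≤ 2 by norm_num) (hθι x)
  have h2 : Ideal.Quotient.mk (𝔍 ^ m) (x : B) ∈ JQ 𝔍 m 1 :=
    Ideal.mem_map_of_mem _ (by rw [pow_one]; exact x.2)
  have := Ideal.add_mem _ h1 h2
  simpa using this

include hθι in
theorem θ_aug_pow (i : ℕ) (s : SymC 𝔍) (hs : s ∈ (augC 𝔍) ^ i) : θ s ∈ JQ 𝔍 m i := by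
  have h1 : (augC 𝔍).map θ ≤ JQ 𝔍 m 1 := by
    rw [augC, aug, Ideal.map_span, Ideal.span_le]
    rintro _ ⟨_, ⟨p, rfl⟩, rfl⟩
    exact θ_ι_mem 𝔍 m θ hθι p
  have h2 : θ s ∈ ((augC 𝔍) ^ i).map θ := Ideal.mem_map_of_mem _ hs
  rw [Ideal.map_pow] at h2
  have h3 := Ideal.pow_right_mono h1 i h2
  rwa [JQ_pow] at h3

omit [CommRing B] in
theorem ofFn_get_map {α β : Type*} (l : List α) (f : α → β) :
    List.ofFn (fun k : Fin l.length => f (l.get k)) = l.map f := by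
  have h : List.map f (List.ofFn l.get) = List.ofFn (f ∘ l.get) := List.map_ofFn
  rw [List.ofFn_get] at h
  exact h.symm

/-- list form of the third property of a splitting. -/
theorem grSplit_list {n : ℕ} (g : ↥(𝔍 ^ n) →+ (SymC 𝔍 ⧸ (augC 𝔍) ^ (n + 1)))
    (hg2 : ∀ (x : Fin n → ↥𝔍) (h : ∏ k, (x k : B) ∈ 𝔍 ^ n), g ⟨∏ k, (x k : B), h⟩ =
      Ideal.Quotient.mk _ (∏ k, ιC 𝔍 (𝔍.toCotangent (x k))))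
    (l : List ↥𝔍) (hl : l.length = n) (h : (l.map (fun x : ↥𝔍 => (x : B))).prod ∈ 𝔍 ^ n) :
    g ⟨(l.map (fun x : ↥𝔍 => (x : B))).prod, h⟩ =
      Ideal.Quotient.mk _ ((l.map (fun x : ↥𝔍 => ιC 𝔍 (𝔍.toCotangent x))).prod) := by
  subst hl
  have h1 : ∏ k : Fin l.length, ((l.get k : ↥𝔍) : B) = (l.map (fun x : ↥𝔍 => (x : B))).prod := by
    rw [← List.prod_ofFn, ofFn_get_map l (fun x : ↥𝔍 => (x : B))]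
  have h2 : ∏ k : Fin l.length, ιC 𝔍 (𝔍.toCotangent (l.get k)) =
      (l.map (fun x : ↥𝔍 => ιC 𝔍 (𝔍.toCotangent x))).prod := by
    rw [← List.prod_ofFn, ofFn_get_map l (fun x : ↥𝔍 => ιC 𝔍 (𝔍.toCotangent x))]
  have h3 := hg2 (fun k => l.get k) (h1 ▸ h)
  rw [h2] at h3
  rw [← h3]
  congr 1
  exact Subtype.ext h1.symm

end engine

end Groth.Agent.Lib.Helper62.SymEngine
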