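import Mathlib
import Groth.Prelude.Def_PP16
import Groth.Agent.Lib.Helper62.SymEngine1

set_option autoImplicit false
universe u

open TensorProduct Pointwise

namespace Groth.Agent.Lib.Helper62.SymEngine

open Groth.Agent.Lib.Helper62.SymPow Groth.Agent.Lib.Helper62.SymGr

section engine

variable {B : Type u} [CommRing B] (𝔍 : Ideal B) (m : ℕ)
  (σ : B ⧸ 𝔍 →+* B ⧸ 𝔍 ^ m) (θ : SymC 𝔍 →+* B ⧸ 𝔍 ^ m)
  (hσ : ∀ b : B, Ideal.Quotient.mk (𝔍 ^ m) b - σ (Ideal.Quotient.mk 𝔍 b) ∈ JQ 𝔍 m 1)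
  (hσ0 : ∀ c : B ⧸ 𝔍, σ c ∈ JQ 𝔍 m 1 → c = 0)
  (hθσ : ∀ c : B ⧸ 𝔍, θ (algebraMap (B ⧸ 𝔍) (SymC 𝔍) c) = σ c)
  (hθι : ∀ x : ↥𝔍, θ (ιC 𝔍 (𝔍.toCotangent x)) - Ideal.Quotient.mk (𝔍 ^ m) (x : B) ∈ JQ 𝔍 m 2)

include hθι in
/-- `θ` of a product of `ι`'s is congruent to the class of the product of lifts. -/
theorem θ_list_prod (l : List 𝔍.Cotangent) :
    θ ((l.map (ιC 𝔍)).prod) -
      Ideal.Quotient.mk (𝔍 ^ m) ((l.map (fun p => ((sec 𝔍 p : ↥𝔍) : B))).prod) ∈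
        JQ 𝔍 m (l.length + 1) := by
  have h := list_prod_sub_mem (JQ 𝔍 m 1) (fun p : 𝔍.Cotangent => θ (ιC 𝔍 p))
    (fun p : 𝔍.Cotangent => Ideal.Quotient.mk (𝔍 ^ m) ((sec 𝔍 p : ↥𝔍) : B))
    (fun p => θ_ι_mem 𝔍 m θ hθι p)
    (fun p => Ideal.mem_map_of_mem _ (by rw [pow_one]; exact (sec 𝔍 p).2))
    (fun p => by
      rw [JQ_pow]
      have := hθι (sec 𝔍 p)
      rwa [toCotangent_sec] at this) l
  rw [JQ_pow] at h
  rw [map_list_prod, map_list_prod, List.map_map, List.map_map]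
  exact h

include hσ hθσ hθι in
theorem key_claim (i : ℕ) (him : i + 1 ≤ m)
    (g : ↥(𝔍 ^ i) →+ (SymC 𝔍 ⧸ (augC 𝔍) ^ (i + 1)))
    (hg0 : ∀ (b : B) (y : ↥(𝔍 ^ i)), g (b • y) = Ideal.Quotient.mk _ (bS 𝔍 b) * g y)
    (hg1 : ∀ y : ↥(𝔍 ^ i), (y : B) ∈ 𝔍 ^ (i + 1) → g y = 0)
    (hg2 : ∀ (x : Fin i → ↥𝔍) (h : ∏ k, (x k : B) ∈ 𝔍 ^ i), g ⟨∏ k, (x k : B), h⟩ =
      Ideal.Quotient.mk _ (∏ k, ιC 𝔍 (𝔍.toCotangent (x k))))
    (s : SymC 𝔍) (hs : s ∈ (augC 𝔍) ^ i) (y : ↥(𝔍 ^ i))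
    (hy : Ideal.Quotient.mk (𝔍 ^ m) (y : B) - θ s ∈ JQ 𝔍 m (i + 1)) :
    g y = Ideal.Quotient.mk _ s := by
  have hspan := aug_pow_le (B ⧸ 𝔍) 𝔍.Cotangent i hs
  -- g only depends on y modulo 𝔍^(i+1)
  have hgcong : ∀ y y' : ↥(𝔍 ^ i), ((y : B) - (y' : B)) ∈ 𝔍 ^ (i + 1) → g y = g y' := by
    intro y y' h
    have h2 := hg1 (y - y') h
    rwa [map_sub, sub_eq_zero] at h2
  have hlift : ∀ s' : SymC 𝔍, s' ∈ (augC 𝔍) ^ i → ∃ y' : ↥(𝔍 ^ i),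
      Ideal.Quotient.mk (𝔍 ^ m) (y' : B) = θ s' := by
    intro s' hs'
    obtain ⟨y', hy', h⟩ := (mem_JQ_iff 𝔍 m i _).mp (θ_aug_pow 𝔍 m θ hθι i s' hs')
    exact ⟨⟨y', hy'⟩, h⟩
  have hspan_le : ∀ s', s' ∈ Submodule.span (B ⧸ 𝔍) (listProds (B ⧸ 𝔍) 𝔍.Cotangent i) →
      s' ∈ (augC 𝔍) ^ i := by
    intro s' hs'
    have : Submodule.span (B ⧸ 𝔍) (listProds (B ⧸ 𝔍) 𝔍.Cotangent i) ≤
        ((augC 𝔍) ^ i).restrictScalars (B ⧸ 𝔍) :=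
      Submodule.span_le.mpr (listProds_mem_aug_pow (B ⧸ 𝔍) 𝔍.Cotangent i)
    exact this hs'
  revert y
  induction hspan using Submodule.span_induction with
  | mem s hmem =>
    intro y hy
    obtain ⟨l, hl, rfl⟩ := hmem
    rcases Nat.lt_or_ge i l.length with hlt | hge
    · -- long product : both sides vanish
      have h1 : (l.map (ιC 𝔍)).prod ∈ (augC 𝔍) ^ (i + 1) :=
        listProds_mem_aug_pow (B ⧸ 𝔍) 𝔍.Cotangent (i + 1) _ ⟨l, hlt, rfl⟩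
      have h2 := θ_aug_pow 𝔍 m θ hθι (i + 1) _ h1
      have h3 := Ideal.add_mem _ hy h2
      rw [sub_add_cancel] at h3
      rw [hg1 y (mem_of_mk_mem_JQ 𝔍 m (i + 1) him _ h3), eq_comm,
        Ideal.Quotient.eq_zero_iff_mem]
      exact h1
    · have hli : l.length = i := le_antisymm hge hl
      have h1 := θ_list_prod 𝔍 m θ hθι l
      rw [hli] at h1
      have h3 := Ideal.add_mem _ hy h1
      rw [sub_add_sub_cancel, ← map_sub] at h3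
      have h4 := mem_of_mk_mem_JQ 𝔍 m (i + 1) him _ h3
      have hmap : List.map (fun x : ↥𝔍 => (x : B)) (l.map (sec 𝔍)) =
          l.map (fun p => ((sec 𝔍 p : ↥𝔍) : B)) := by
        rw [List.map_map]; rfl
      have hmap2 : List.map (fun x : ↥𝔍 => ιC 𝔍 (𝔍.toCotangent x)) (l.map (sec 𝔍)) =
          l.map (ιC 𝔍) := by
        rw [List.map_map]
        refine List.map_congr_left (fun p _ => ?_)
        simp [toCotangent_sec]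
      have hmemprod : (List.map (fun x : ↥𝔍 => (x : B)) (l.map (sec 𝔍))).prod ∈ 𝔍 ^ i := by
        have := Ideal.sub_mem _ (Ideal.pow_le_pow_right (Nat.le_succ i) h4) y.2
        rw [hmap]
        simpa using this
      have h5 := grSplit_list 𝔍 g hg2 (l.map (sec 𝔍)) (by rw [List.length_map, hli]) hmemprod
      rw [hmap2] at h5
      rw [← h5]
      apply hgcong
      show (y : B) - (List.map (fun x : ↥𝔍 => (x : B)) (l.map (sec 𝔍))).prod ∈ _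
      rw [hmap]
      exact h4
  | zero =>
    intro y hy
    rw [map_zero, sub_zero] at hy
    rw [hg1 y (mem_of_mk_mem_JQ 𝔍 m (i + 1) him _ hy), map_zero]
  | add s₁ s₂ hs₁ hs₂ ih₁ ih₂ =>
    intro y hy
    obtain ⟨y₁, hy₁⟩ := hlift s₁ (hspan_le s₁ hs₁)
    have h1 := ih₁ (hspan_le s₁ hs₁) y₁ (by rw [hy₁, sub_self]; exact Ideal.zero_mem _)
    have h2 := ih₂ (hspan_le s₂ hs₂) (y - y₁) (by
      have : Ideal.Quotient.mk (𝔍 ^ m) ((y - y₁ : ↥(𝔍 ^ i)) : B) - θ s₂ =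
          Ideal.Quotient.mk (𝔍 ^ m) (y : B) - θ (s₁ + s₂) := by
        rw [map_add, ← hy₁]
        push_cast
        rw [map_sub]
        ring
      rw [this]; exact hy)
    rw [map_sub, h1, sub_eq_iff_eq_add] at h2
    rw [h2, map_add]
    exact add_comm _ _
  | smul c s₁ hs₁ ih₁ =>
    intro y hy
    obtain ⟨b, rfl⟩ := Ideal.Quotient.mk_surjective c
    obtain ⟨y₁, hy₁⟩ := hlift s₁ (hspan_le s₁ hs₁)
    have h1 := ih₁ (hspan_le s₁ hs₁) y₁ (by rw [hy₁, sub_self]; exact Ideal.zero_mem _)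
    have hsm : (Ideal.Quotient.mk 𝔍 b) • s₁ = bS 𝔍 b * s₁ := by
      rw [Algebra.smul_def, bS_apply]
    have h2 : Ideal.Quotient.mk (𝔍 ^ m) ((b • y₁ : ↥(𝔍 ^ i)) : B) - θ (bS 𝔍 b * s₁) ∈
        JQ 𝔍 m (i + 1) := by
      have e1 : Ideal.Quotient.mk (𝔍 ^ m) ((b • y₁ : ↥(𝔍 ^ i)) : B) - θ (bS 𝔍 b * s₁) =
          (Ideal.Quotient.mk (𝔍 ^ m) b - σ (Ideal.Quotient.mk 𝔍 b)) * θ s₁ := by
        rw [map_mul, bS_apply, hθσ, ← hy₁]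
        push_cast
        rw [smul_eq_mul, map_mul]
        ring
      have e2 : JQ 𝔍 m (i + 1) = JQ 𝔍 m 1 * JQ 𝔍 m i := by rw [JQ_mul, add_comm]
      rw [e1, e2]
      exact Ideal.mul_mem_mul (hσ b) (θ_aug_pow 𝔍 m θ hθι i s₁ (hspan_le s₁ hs₁))
    rw [hsm] at hy ⊢
    have h3 := Ideal.sub_mem _ hy h2
    rw [sub_sub_sub_cancel_right, ← map_sub] at h3
    have h4 := mem_of_mk_mem_JQ 𝔍 m (i + 1) him _ h3
    rw [hgcong y (b • y₁) h4, hg0, h1, map_mul]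

end engine

end Groth.Agent.Lib.Helper62.SymEngine
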