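import Mathlib
import Groth.Prelude.Def_PP16
import Groth.Agent.Lib.Helper62.SymEngine2

set_option autoImplicit false
universe u

open TensorProduct Pointwise

namespace Groth.Agent.Lib.Helper62.SymEngine

open Groth.Agent.Lib.Helper62.SymPow Groth.Agent.Lib.Helper62.SymGr

section engine

variable {B : Type u} [CommRing B] (𝔍 : Ideal B) (m : ℕ)
  (σ : B ⧸ 𝔍 →+* B ⧸ 𝔍 ^ m) (θ : SymC 𝔍 →+* B ⧸ 𝔍 ^ m)
  (hσ : ∀ b : B, Ideal.Quotient.mk (𝔍 ^ m) b - σ (Ideal.Quotient.mk 𝔍 b) ∈ JQ 𝔍 m 1)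
  (hσ0 : ∀ c : B ⧸ 𝔍, σ c ∈ JQ 𝔍 m 1 → c = 0)
  (hθσ : ∀ c : B ⧸ 𝔍, θ (algebraMap (B ⧸ 𝔍) (SymC 𝔍) c) = σ c)
  (hθι : ∀ x : ↥𝔍, θ (ιC 𝔍 (𝔍.toCotangent x)) - Ideal.Quotient.mk (𝔍 ^ m) (x : B) ∈ JQ 𝔍 m 2)
  (hsplit : ∀ i, 1 ≤ i → i < m → GrSplit 𝔍 i)

include hσ hσ0 hθσ hθι hsplit in
/-- the filtration is detected by `θ`. -/
theorem mem_aug_pow_of_θ_mem (i : ℕ) (hi : i ≤ m) (s : SymC 𝔍) (hs : θ s ∈ JQ 𝔍 m i) :
    s ∈ (augC 𝔍) ^ i := by
  induction i with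
  | zero => simp
  | succ i ih =>
    have hsi : s ∈ (augC 𝔍) ^ i := ih (Nat.le_of_succ_le hi) (JQ_anti 𝔍 m (Nat.le_succ i) hs)
    rcases Nat.eq_zero_or_pos i with rfl | hipos
    · -- degree zero
      have h1 := sub_algebraMap_mem_aug (B ⧸ 𝔍) 𝔍.Cotangent s
      set c := SymmetricAlgebra.algebraMapInv s with hc
      have h2 : θ (s - algebraMap (B ⧸ 𝔍) (SymC 𝔍) c) ∈ JQ 𝔍 m 1 := by
        have := θ_aug_pow 𝔍 m θ hθι 1 _ (by rw [pow_one]; exact h1)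
        exact this
      rw [map_sub, hθσ] at h2
      have h3 : σ c ∈ JQ 𝔍 m 1 := by
        have := Ideal.sub_mem _ hs h2
        simpa using this
      have h4 := hσ0 c h3
      rw [h4, map_zero, sub_zero] at h1
      rw [zero_add, pow_one]
      exact h1
    · obtain ⟨g, hg0, hg1, hg2⟩ := hsplit i hipos (Nat.lt_of_succ_le hi)
      have h1 := key_claim 𝔍 m σ θ hσ hθσ hθι i hi g hg0 hg1 hg2 s hsi 0 (by
        have : Ideal.Quotient.mk (𝔍 ^ m) ((0 : ↥(𝔍 ^ i)) : B) - θ s = - θ s := by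
          simp
        rw [this]
        exact Ideal.neg_mem_iff _ |>.mpr hs)
      rw [map_zero, eq_comm, Ideal.Quotient.eq_zero_iff_mem] at h1
      exact h1

include hσ hθσ hθι in
/-- approximation: elements of `𝔍^i Q` are hit modulo `𝔍^(i+1) Q`. -/
theorem exists_approx (i : ℕ) (z : B ⧸ 𝔍 ^ m) (hz : z ∈ JQ 𝔍 m i) :
    ∃ s ∈ (augC 𝔍) ^ i, z - θ s ∈ JQ 𝔍 m (i + 1) := by
  obtain ⟨y, hy, rfl⟩ := (mem_JQ_iff 𝔍 m i z).mp hz
  have hpow : (𝔍 ^ i : Ideal B) = Submodule.span B ((𝔍 : Set B) ^ i) :=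
    Submodule.pow_eq_span_pow_set 𝔍 _
  have hy' : y ∈ Submodule.span B ((𝔍 : Set B) ^ i) := hpow ▸ hy
  clear hy hz
  induction hy' using Submodule.span_induction with
  | mem y hmem =>
    obtain ⟨f, hf⟩ := Set.mem_pow.mp hmem
    -- the list of the f k
    set l : List 𝔍.Cotangent := List.ofFn (fun k => 𝔍.toCotangent ⟨(f k : B), (f k).2⟩) with hl
    refine ⟨(l.map (ιC 𝔍)).prod, ?_, ?_⟩
    · have := listProds_mem_aug_pow (B ⧸ 𝔍) 𝔍.Cotangent i _ ⟨l, by simp [hl], rfl⟩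
      exact this
    · have h1 := θ_list_prod 𝔍 m θ hθι l
      have hlen : l.length = i := by simp [hl]
      rw [hlen] at h1
      -- compare the two lifts
      have h2 : Ideal.Quotient.mk (𝔍 ^ m) y -
          Ideal.Quotient.mk (𝔍 ^ m) ((l.map (fun p => ((sec 𝔍 p : ↥𝔍) : B))).prod) ∈
            JQ 𝔍 m (i + 1) := by
        rw [← hf, ← JQ_pow 𝔍 m (i + 1)]
        have h3 := list_prod_sub_mem (JQ 𝔍 m 1)
          (fun k : Fin i => Ideal.Quotient.mk (𝔍 ^ m) (f k : B))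
          (fun k : Fin i => Ideal.Quotient.mk (𝔍 ^ m)
            ((sec 𝔍 (𝔍.toCotangent ⟨(f k : B), (f k).2⟩) : ↥𝔍) : B))
          (fun k => Ideal.mem_map_of_mem _ (by rw [pow_one]; exact (f k).2))
          (fun k => Ideal.mem_map_of_mem _ (by rw [pow_one]; exact (sec 𝔍 _).2))
          (fun k => by
            rw [JQ_pow, ← map_sub]
            refine Ideal.mem_map_of_mem _ ?_
            have := (Ideal.toCotangent_eq 𝔍 (x := ⟨(f k : B), (f k).2⟩)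
              (y := sec 𝔍 (𝔍.toCotangent ⟨(f k : B), (f k).2⟩))).mp (by rw [toCotangent_sec])
            exact this) (List.finRange i)
        rw [List.length_finRange] at h3
        convert h3 using 2
        · rw [map_list_prod, List.map_ofFn, List.ofFn_eq_map]
          rfl
        · rw [map_list_prod, hl, List.ofFn_eq_map, List.map_map, List.map_map]
          rfl
      have := Ideal.sub_mem _ h2 h1
      rw [sub_sub_sub_cancel_right] at this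
      have h4 := Ideal.neg_mem_iff _ |>.mpr this
      rw [neg_sub] at h4
      have h5 : Ideal.Quotient.mk (𝔍 ^ m) y - θ (l.map (ιC 𝔍)).prod =
          (Ideal.Quotient.mk (𝔍 ^ m) y -
            Ideal.Quotient.mk (𝔍 ^ m) ((l.map (fun p => ((sec 𝔍 p : ↥𝔍) : B))).prod)) -
          (θ (l.map (ιC 𝔍)).prod -
            Ideal.Quotient.mk (𝔍 ^ m) ((l.map (fun p => ((sec 𝔍 p : ↥𝔍) : B))).prod)) := by ring
      rw [h5]
      exact Ideal.sub_mem _ h2 h1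
  | zero => exact ⟨0, Ideal.zero_mem _, by simp⟩
  | add y₁ y₂ _ _ ih₁ ih₂ =>
    obtain ⟨s₁, hs₁, h₁⟩ := ih₁
    obtain ⟨s₂, hs₂, h₂⟩ := ih₂
    refine ⟨s₁ + s₂, Ideal.add_mem _ hs₁ hs₂, ?_⟩
    have := Ideal.add_mem _ h₁ h₂
    rw [map_add, map_add]
    convert this using 1
    ring
  | smul b y₁ _ ih₁ =>
    obtain ⟨s₁, hs₁, h₁⟩ := ih₁
    refine ⟨bS 𝔍 b * s₁, Ideal.mul_mem_left _ _ hs₁, ?_⟩
    have e1 : Ideal.Quotient.mk (𝔍 ^ m) (b • y₁) - θ (bS 𝔍 b * s₁) =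
        Ideal.Quotient.mk (𝔍 ^ m) b * (Ideal.Quotient.mk (𝔍 ^ m) y₁ - θ s₁) +
        (Ideal.Quotient.mk (𝔍 ^ m) b - σ (Ideal.Quotient.mk 𝔍 b)) * θ s₁ := by
      rw [map_mul, bS_apply, hθσ, smul_eq_mul, map_mul]
      ring
    rw [e1]
    refine Ideal.add_mem _ (Ideal.mul_mem_left _ _ h₁) ?_
    have e2 : JQ 𝔍 m (i + 1) = JQ 𝔍 m 1 * JQ 𝔍 m i := by rw [JQ_mul, add_comm]
    rw [e2]
    exact Ideal.mul_mem_mul (hσ b) (θ_aug_pow 𝔍 m θ hθι i s₁ hs₁)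

include hσ hθσ hθι in
theorem θ_surjective : Function.Surjective θ := by
  intro z
  have key : ∀ i, i ≤ m → ∃ s, z - θ s ∈ JQ 𝔍 m i := by
    intro i
    induction i with
    | zero =>
      intro _
      refine ⟨0, ?_⟩
      rw [JQ, pow_zero, Ideal.one_eq_top, Ideal.map_top]
      trivial
    | succ i ih =>
      intro hi
      obtain ⟨s, hs⟩ := ih (Nat.le_of_succ_le hi)
      obtain ⟨s', _, hs'⟩ := exists_approx 𝔍 m σ θ hσ hθσ hθι i _ hs
      refine ⟨s + s', ?_⟩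
      rw [map_add]
      convert hs' using 1
      ring
  obtain ⟨s, hs⟩ := key m le_rfl
  rw [JQ_m, Ideal.mem_bot, sub_eq_zero] at hs
  exact ⟨s, hs.symm⟩

end engine

end Groth.Agent.Lib.Helper62.SymEngine
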