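import Mathlib
import Groth.Prelude.Def_PP16
import Groth.Agent.Lib.Helper62.SymEngine3

set_option autoImplicit false
universe u

open TensorProduct Pointwise

namespace Groth.Agent.Lib.Helper62.SymSmooth

open Groth.Agent.Lib.Helper62.SymPow Groth.Agent.Lib.Helper62.SymGr
  Groth.Agent.Lib.Helper62.SymEngine

section setup

variable {A B : Type u} [CommRing A] [CommRing B] [Algebra A B] (𝔍 : Ideal B)

theorem pow_le_self' {m : ℕ} (hm : 1 ≤ m) : 𝔍 ^ m ≤ 𝔍 :=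
  Ideal.pow_le_self (by omega)

/-- kernel of the factor map `B ⧸ 𝔞 → B ⧸ 𝔟`. -/
theorem factor_eq_zero_iff' {𝔞 𝔟 : Ideal B} (h : 𝔞 ≤ 𝔟) (z : B ⧸ 𝔞) :
    Ideal.Quotient.factor h z = 0 ↔ z ∈ 𝔟.map (Ideal.Quotient.mk 𝔞) := by
  obtain ⟨y, rfl⟩ := Ideal.Quotient.mk_surjective z
  rw [Ideal.Quotient.factor_mk, Ideal.Quotient.eq_zero_iff_mem]
  constructor
  · intro hy; exact Ideal.mem_map_of_mem _ hy
  · intro hy
    obtain ⟨y', hy', h'⟩ :=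
      (Ideal.mem_map_iff_of_surjective _ Ideal.Quotient.mk_surjective).mp hy
    have h1 : y - y' ∈ 𝔞 := by
      rw [← Ideal.Quotient.eq_zero_iff_mem, map_sub, h', sub_self]
    have := Ideal.add_mem _ (h h1) hy'
    simpa using this

theorem factor_eq_zero_iff {m i : ℕ} (h : 𝔍 ^ m ≤ 𝔍 ^ i) (z : B ⧸ 𝔍 ^ m) :
    Ideal.Quotient.factor h z = 0 ↔ z ∈ JQ 𝔍 m i := factor_eq_zero_iff' h z

theorem factor_eq_zero_iff_one {m : ℕ} (h : 𝔍 ^ m ≤ 𝔍) (z : B ⧸ 𝔍 ^ m) :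
    Ideal.Quotient.factor h z = 0 ↔ z ∈ JQ 𝔍 m 1 := by
  rw [factor_eq_zero_iff' h z, JQ, pow_one]

variable [Algebra.FormallySmooth A (B ⧸ 𝔍)]

/-- a section of `B ⧸ 𝔍^m → B ⧸ 𝔍`. -/
theorem exists_section (m : ℕ) (hm : 1 ≤ m) :
    ∃ σ : (B ⧸ 𝔍) →ₐ[A] (B ⧸ 𝔍 ^ m),
      ∀ c, Ideal.Quotient.factor (Ideal.pow_le_self (I := 𝔍) (by omega : m ≠ 0)) (σ c) = c := by
  have hle : 𝔍 ^ m ≤ 𝔍 := Ideal.pow_le_self (by omega)
  have hsurj : Function.Surjective (Ideal.Quotient.factorₐ A hle) :=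
    Ideal.Quotient.factor_surjective hle
  have hnil : IsNilpotent (RingHom.ker (Ideal.Quotient.factorₐ A hle : B ⧸ 𝔍 ^ m →+* B ⧸ 𝔍)) := by
    refine ⟨m, ?_⟩
    rw [Ideal.zero_eq_bot, eq_bot_iff]
    have h1 : RingHom.ker (Ideal.Quotient.factorₐ A hle : B ⧸ 𝔍 ^ m →+* B ⧸ 𝔍) ≤ JQ 𝔍 m 1 := by
      intro z hz
      rw [RingHom.mem_ker] at hz
      exact (factor_eq_zero_iff_one 𝔍 hle z).mp hz
    refine (Ideal.pow_right_mono h1 m).trans ?_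
    rw [JQ_pow, JQ_m]
  refine ⟨Algebra.FormallySmooth.liftOfSurjective (AlgHom.id A (B ⧸ 𝔍))
    (Ideal.Quotient.factorₐ A hle) hsurj hnil, fun c => ?_⟩
  exact Algebra.FormallySmooth.liftOfSurjective_apply (AlgHom.id A (B ⧸ 𝔍))
    (Ideal.Quotient.factorₐ A hle) hsurj hnil c

end setup

end Groth.Agent.Lib.Helper62.SymSmooth
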