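import Mathlib
import Groth.Prelude.Def_PP16
import Groth.Agent.Lib.Helper62.SymSmooth0

set_option autoImplicit false
universe u

open TensorProduct Pointwise

namespace Groth.Agent.Lib.Helper62.SymSmooth

open Groth.Agent.Lib.Helper62.SymPow Groth.Agent.Lib.Helper62.SymGr
  Groth.Agent.Lib.Helper62.SymEngine

section setup

variable {B : Type u} [CommRing B] (𝔍 : Ideal B)

theorem section_props {m : ℕ} (hle : 𝔍 ^ m ≤ 𝔍) (σ : (B ⧸ 𝔍) →+* (B ⧸ 𝔍 ^ m))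
    (hσ : ∀ c, Ideal.Quotient.factor hle (σ c) = c) :
    (∀ b : B, Ideal.Quotient.mk (𝔍 ^ m) b - σ (Ideal.Quotient.mk 𝔍 b) ∈ JQ 𝔍 m 1) ∧
    (∀ c : B ⧸ 𝔍, σ c ∈ JQ 𝔍 m 1 → c = 0) := by
  constructor
  · intro b
    rw [← factor_eq_zero_iff_one 𝔍 hle, map_sub, hσ, Ideal.Quotient.factor_mk, sub_self]
  · intro c hc
    rw [← hσ c]
    exact (factor_eq_zero_iff_one 𝔍 hle _).mpr hc

/-- construction of `θ` from a section, when the cotangent space is projective. -/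
theorem exists_θ {m : ℕ} (hm : 2 ≤ m) (σ : (B ⧸ 𝔍) →+* (B ⧸ 𝔍 ^ m))
    (hσ : ∀ c, Ideal.Quotient.factor (Ideal.pow_le_self (I := 𝔍) (by omega : m ≠ 0)) (σ c) = c)
    (hP : Module.Projective (B ⧸ 𝔍) 𝔍.Cotangent) :
    ∃ θ : SymC 𝔍 →+* B ⧸ 𝔍 ^ m,
      (∀ c : B ⧸ 𝔍, θ (algebraMap (B ⧸ 𝔍) (SymC 𝔍) c) = σ c) ∧
      (∀ x : ↥𝔍, θ (ιC 𝔍 (𝔍.toCotangent x)) - Ideal.Quotient.mk (𝔍 ^ m) (x : B) ∈ JQ 𝔍 m 2) := by
  have hle : 𝔍 ^ m ≤ 𝔍 := Ideal.pow_le_self (by omega)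
  have hle2 : 𝔍 ^ m ≤ 𝔍 ^ 2 := Ideal.pow_le_pow_right hm
  obtain ⟨hσ1, -⟩ := section_props 𝔍 hle σ hσ
  let ν : (B ⧸ 𝔍 ^ m) →+* (B ⧸ 𝔍 ^ 2) := Ideal.Quotient.factor hle2
  let algQ : Algebra (B ⧸ 𝔍) (B ⧸ 𝔍 ^ m) := σ.toAlgebra
  let algQ2 : Algebra (B ⧸ 𝔍) (B ⧸ 𝔍 ^ 2) := (ν.comp σ).toAlgebra
  have hsmulQ : ∀ (c : B ⧸ 𝔍) (z : B ⧸ 𝔍 ^ m), c • z = σ c * z := fun c z => rfl
  have hsmulQ2 : ∀ (c : B ⧸ 𝔍) (z : B ⧸ 𝔍 ^ 2), c • z = ν (σ c) * z := fun c z => rfl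
  let νlin : (B ⧸ 𝔍 ^ m) →ₗ[B ⧸ 𝔍] (B ⧸ 𝔍 ^ 2) :=
    { toFun := ν
      map_add' := map_add ν
      map_smul' := fun c z => by
        rw [hsmulQ, map_mul, RingHom.id_apply, hsmulQ2] }
  have hνsurj : Function.Surjective νlin := Ideal.Quotient.factor_surjective hle2
  -- ℓ₂ is linear
  have hℓ2mem : ∀ p : 𝔍.Cotangent, 𝔍.cotangentToQuotientSquare p ∈
      𝔍.map (Ideal.Quotient.mk (𝔍 ^ 2)) := by
    intro p
    obtain ⟨x, rfl⟩ := Ideal.toCotangent_surjective 𝔍 p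
    rw [Ideal.toCotangent_to_quotient_square]
    exact Ideal.mem_map_of_mem _ x.2
  have hsq : (𝔍.map (Ideal.Quotient.mk (𝔍 ^ 2))) * (𝔍.map (Ideal.Quotient.mk (𝔍 ^ 2))) = ⊥ := by
    rw [← Ideal.map_mul, ← pow_two, Ideal.map_quotient_self]
  let ℓ₂ : 𝔍.Cotangent →ₗ[B ⧸ 𝔍] (B ⧸ 𝔍 ^ 2) :=
    { toFun := 𝔍.cotangentToQuotientSquare
      map_add' := map_add _
      map_smul' := fun c p => by
        obtain ⟨b, rfl⟩ := Ideal.Quotient.mk_surjective c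
        rw [RingHom.id_apply, hsmulQ2]
        have h1 : (Ideal.Quotient.mk 𝔍 b) • p = b • p := by
          rw [← Ideal.Quotient.algebraMap_eq, algebraMap_smul]
        rw [h1, map_smul, Algebra.smul_def, Ideal.Quotient.algebraMap_eq]
        have h2 : ν (Ideal.Quotient.mk (𝔍 ^ m) b - σ (Ideal.Quotient.mk 𝔍 b)) ∈
            𝔍.map (Ideal.Quotient.mk (𝔍 ^ 2)) := by
          obtain ⟨y, hy, h'⟩ := (mem_JQ_iff 𝔍 m 1 _).mp (hσ1 b)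
          rw [← h']
          show Ideal.Quotient.factor hle2 (Ideal.Quotient.mk (𝔍 ^ m) y) ∈ _
          rw [Ideal.Quotient.factor_mk]
          exact Ideal.mem_map_of_mem _ (by rwa [pow_one] at hy)
        have h3 := Ideal.mul_mem_mul h2 (hℓ2mem p)
        rw [hsq, Ideal.mem_bot, map_sub, sub_mul, sub_eq_zero] at h3
        rw [← h3]
        rfl }
  obtain ⟨ℓ, hℓ⟩ := Module.projective_lifting_property νlin ℓ₂ hνsurj
  let θ : SymC 𝔍 →ₐ[B ⧸ 𝔍] (B ⧸ 𝔍 ^ m) := SymmetricAlgebra.lift ℓ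
  refine ⟨θ.toRingHom, ?_, ?_⟩
  · intro c
    exact θ.commutes c
  · intro x
    show θ (SymmetricAlgebra.ι (B ⧸ 𝔍) 𝔍.Cotangent (𝔍.toCotangent x)) - _ ∈ _
    rw [SymmetricAlgebra.lift_ι_apply, ← factor_eq_zero_iff 𝔍 hle2, map_sub,
      Ideal.Quotient.factor_mk]
    have := LinearMap.congr_fun hℓ (𝔍.toCotangent x)
    have h4 : ν (ℓ (𝔍.toCotangent x)) = 𝔍.cotangentToQuotientSquare (𝔍.toCotangent x) := this
    rw [Ideal.toCotangent_to_quotient_square] at h4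
    show ν _ - _ = 0
    rw [h4]
    exact sub_self _

end setup

end Groth.Agent.Lib.Helper62.SymSmooth
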