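import Mathlib
import Groth.Prelude.Def_PP16
import Groth.Agent.Lib.Helper62.SymSmooth1

set_option autoImplicit false
universe u

open TensorProduct Pointwise

namespace Groth.Agent.Lib.Helper62.SymSmooth

open Groth.Agent.Lib.Helper62.SymPow Groth.Agent.Lib.Helper62.SymGr
  Groth.Agent.Lib.Helper62.SymEngine

section main

variable {A B : Type u} [CommRing A] [CommRing B] [Algebra A B] (𝔍 : Ideal B)

/-- the `A`-algebra structure on the symmetric algebra. -/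
@[reducible] noncomputable def algAS : Algebra A (SymC 𝔍) :=
  ((algebraMap (B ⧸ 𝔍) (SymC 𝔍)).comp (algebraMap A (B ⧸ 𝔍))).toAlgebra

attribute [local instance] algAS

instance towerAS : IsScalarTower A (B ⧸ 𝔍) (SymC 𝔍) :=
  IsScalarTower.of_algebraMap_eq (fun _ => rfl)

theorem formallySmooth_symC [Algebra.FormallySmooth A (B ⧸ 𝔍)]
    (hP : Module.Projective (B ⧸ 𝔍) 𝔍.Cotangent) : Algebra.FormallySmooth A (SymC 𝔍) := by
  have h1 : Algebra.FormallySmooth (B ⧸ 𝔍) (SymC 𝔍) := by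
    refine Algebra.FormallySmooth.of_comp_surjective ?_
    intro E _ _ I _ g
    obtain ⟨l, hl⟩ := Module.projective_lifting_property (Ideal.Quotient.mkₐ (B ⧸ 𝔍) I).toLinearMap
      (g.toLinearMap ∘ₗ SymmetricAlgebra.ι (B ⧸ 𝔍) 𝔍.Cotangent) Ideal.Quotient.mk_surjective
    refine ⟨SymmetricAlgebra.lift l, ?_⟩
    apply SymmetricAlgebra.algHom_ext
    ext v
    have := congrArg (fun f => f v) hl
    simpa using this
  exact Algebra.FormallySmooth.comp A (B ⧸ 𝔍) (SymC 𝔍)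

/-- (b) ⇒ (a). -/
theorem isAdicFormallySmooth_of_grSplit [Algebra.FormallySmooth A (B ⧸ 𝔍)]
    (hP : Module.Projective (B ⧸ 𝔍) 𝔍.Cotangent) (hsplit : ∀ n : ℕ, 1 ≤ n → GrSplit 𝔍 n) :
    CAlgX.IsAdicFormallySmooth A B 𝔍 := by
  intro E _ _ N hN ψ hψ
  obtain ⟨k, hk⟩ := hψ
  set m := (k + 1) + (k + 1) with hm
  have hm2 : 2 ≤ m := by omega
  obtain ⟨σ, hσ⟩ := exists_section (A := A) 𝔍 m (by omega)
  obtain ⟨θ, hθσ, hθι⟩ := exists_θ 𝔍 hm2 σ.toRingHom hσ hP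
  obtain ⟨hσ1, hσ0⟩ := section_props 𝔍 (Ideal.pow_le_self (by omega)) σ.toRingHom hσ
  have hsurj : Function.Surjective θ := θ_surjective 𝔍 m σ.toRingHom θ hσ1 hθσ hθι
  have hdetect := mem_aug_pow_of_θ_mem 𝔍 m σ.toRingHom θ hσ1 hσ0 hθσ hθι
    (fun i h1 _ => hsplit i h1)
  have FS : Algebra.FormallySmooth A (SymC 𝔍) := formallySmooth_symC 𝔍 hP
  let θA : SymC 𝔍 →ₐ[A] (B ⧸ 𝔍 ^ m) :=
    { θ with
      commutes' := fun a => by
        show θ (algebraMap (B ⧸ 𝔍) (SymC 𝔍) (algebraMap A (B ⧸ 𝔍) a)) = _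
        rw [hθσ]
        exact σ.commutes a }
  have hθA : ∀ s, θA s = θ s := fun _ => rfl
  let ψbar : (B ⧸ 𝔍 ^ m) →ₐ[A] E ⧸ N :=
    Ideal.Quotient.liftₐ (𝔍 ^ m) ψ (fun x hx => hk x (Ideal.pow_le_pow_right (by omega) hx))
  have hψbar : ∀ b, ψbar (Ideal.Quotient.mk (𝔍 ^ m) b) = ψ b := fun _ => rfl
  obtain ⟨χ', hχ'⟩ := Algebra.FormallySmooth.exists_lift N ⟨2, hN⟩ (ψbar.comp θA)
  have hχ'mk : ∀ s, Ideal.Quotient.mk N (χ' s) = ψbar (θ s) := fun s => AlgHom.congr_fun hχ' s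
  have h1 : ∀ s ∈ (augC 𝔍) ^ (k + 1), χ' s ∈ N := by
    intro s hs
    rw [← Ideal.Quotient.eq_zero_iff_mem, hχ'mk]
    obtain ⟨y, hy, h'⟩ := (mem_JQ_iff 𝔍 m (k + 1) _).mp (θ_aug_pow 𝔍 m θ hθι (k + 1) s hs)
    rw [← h', hψbar]
    exact hk y (Ideal.pow_le_pow_right (by omega) hy)
  have h2 : ∀ s, θ s = 0 → χ' s = 0 := by
    intro s hs
    have hs' : s ∈ (augC 𝔍) ^ m := hdetect m le_rfl s (by rw [hs]; exact Ideal.zero_mem _)
    rw [hm, pow_add] at hs'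
    have h3 : χ' s ∈ N * N := by
      have h4 : χ' s ∈ ((augC 𝔍) ^ (k + 1) * (augC 𝔍) ^ (k + 1)).map χ'.toRingHom :=
        Ideal.mem_map_of_mem _ hs'
      rw [Ideal.map_mul] at h4
      have h5 : ((augC 𝔍) ^ (k + 1)).map χ'.toRingHom ≤ N := by
        rw [Ideal.map_le_iff_le_comap]
        intro s hs
        exact h1 s hs
      exact Ideal.mul_mono h5 h5 h4
    rw [← pow_two, hN] at h3
    exact h3
  have hker : RingHom.ker θA.toRingHom ≤ RingHom.ker χ'.toRingHom := by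
    intro s hs
    rw [RingHom.mem_ker] at hs ⊢
    exact h2 s hs
  let χ'' : (B ⧸ 𝔍 ^ m) →ₐ[A] E :=
    (Ideal.Quotient.liftₐ (RingHom.ker θA.toRingHom) χ' (fun s hs => hker hs)).comp
      (Ideal.quotientKerAlgEquivOfSurjective (f := θA) hsurj).symm.toAlgHom
  have hχ'' : ∀ s, χ'' (θ s) = χ' s := by
    intro s
    show (Ideal.Quotient.liftₐ (RingHom.ker θA.toRingHom) χ' (fun s hs => hker hs))
      ((Ideal.quotientKerAlgEquivOfSurjective (f := θA) hsurj).symm (θA s)) = _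
    have : (Ideal.quotientKerAlgEquivOfSurjective (f := θA) hsurj).symm (θA s) =
        Ideal.Quotient.mk _ s := by
      apply (Ideal.quotientKerAlgEquivOfSurjective (f := θA) hsurj).injective
      rw [AlgEquiv.apply_symm_apply]
      rfl
    rw [this]
    rfl
  refine ⟨χ''.comp (Ideal.Quotient.mkₐ A (𝔍 ^ m)), ?_⟩
  ext b
  obtain ⟨s, hs⟩ := hsurj (Ideal.Quotient.mk (𝔍 ^ m) b)
  show Ideal.Quotient.mk N (χ'' (Ideal.Quotient.mk (𝔍 ^ m) b)) = ψ b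
  rw [← hs, hχ'', hχ'mk, hs, hψbar]

end main

end Groth.Agent.Lib.Helper62.SymSmooth
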