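import Mathlib
import Groth.Prelude.Def_PP16
import Groth.Agent.Lib.Helper62.SymSmooth2
import Groth.Agent.Lib.Helper62.AdicDerivation

set_option autoImplicit false
universe u

open TensorProduct Pointwise

namespace Groth.Agent.Lib.Helper62.SymSmooth

open Groth.Agent.Lib.Helper62.SymPow Groth.Agent.Lib.Helper62.SymGr
  Groth.Agent.Lib.Helper62.SymEngine

section proj

variable {A B : Type u} [CommRing A] [CommRing B] [Algebra A B] (𝔍 : Ideal B)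

/-- a derivation `B → 𝔍/𝔍²` extending `toCotangent`, from a section of `B/𝔍² → B/𝔍`. -/
theorem exists_derivation_cotangent [Algebra.FormallySmooth A (B ⧸ 𝔍)] :
    ∃ δ : Derivation A B 𝔍.Cotangent, ∀ x : ↥𝔍, δ (x : B) = 𝔍.toCotangent x := by
  obtain ⟨σ, hσ⟩ := exists_section (A := A) 𝔍 2 (by omega)
  obtain ⟨hσ1, -⟩ := section_props 𝔍 (Ideal.pow_le_self (by omega)) σ.toRingHom hσ
  have hI : 𝔍.cotangentIdeal ^ 2 = ⊥ := Ideal.cotangentIdeal_square 𝔍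
  have hmemI : ∀ z : B ⧸ 𝔍 ^ 2, z ∈ JQ 𝔍 2 1 → z ∈ 𝔍.cotangentIdeal := by
    intro z hz
    obtain ⟨y, hy, rfl⟩ := (mem_JQ_iff 𝔍 2 1 z).mp hz
    exact Ideal.mk_mem_cotangentIdeal.mpr (by rwa [pow_one] at hy)
  let f : B →ₐ[A] (B ⧸ 𝔍 ^ 2) := σ.comp (Ideal.Quotient.mkₐ A 𝔍)
  have e : (Ideal.Quotient.mkₐ A 𝔍.cotangentIdeal).comp f =
      IsScalarTower.toAlgHom A B ((B ⧸ 𝔍 ^ 2) ⧸ 𝔍.cotangentIdeal) := by
    ext b
    show Ideal.Quotient.mk 𝔍.cotangentIdeal (σ (Ideal.Quotient.mk 𝔍 b)) =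
      Ideal.Quotient.mk 𝔍.cotangentIdeal (Ideal.Quotient.mk (𝔍 ^ 2) b)
    rw [eq_comm, Ideal.Quotient.eq]
    exact hmemI _ (hσ1 b)
  let d' : Derivation A B 𝔍.cotangentIdeal := derivationToSquareZeroOfLift 𝔍.cotangentIdeal hI f e
  have hd' : ∀ b, ((d' b : 𝔍.cotangentIdeal) : B ⧸ 𝔍 ^ 2) =
      σ (Ideal.Quotient.mk 𝔍 b) - Ideal.Quotient.mk (𝔍 ^ 2) b := fun b => rfl
  let δ : Derivation A B 𝔍.Cotangent :=
    - ((𝔍.cotangentEquivIdeal.symm : 𝔍.cotangentIdeal →ₗ[B] 𝔍.Cotangent).compDer d')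
  refine ⟨δ, fun x => ?_⟩
  have h1 : δ (x : B) = - 𝔍.cotangentEquivIdeal.symm (d' (x : B)) := rfl
  rw [h1]
  apply 𝔍.cotangentEquivIdeal.injective
  apply Subtype.ext
  rw [map_neg, LinearEquiv.apply_symm_apply, Ideal.cotangentEquivIdeal_apply,
    Ideal.toCotangent_to_quotient_square]
  show -((d' (x : B) : 𝔍.cotangentIdeal) : B ⧸ 𝔍 ^ 2) = _
  rw [hd', Ideal.Quotient.eq_zero_iff_mem.mpr x.2, map_zero, zero_sub, neg_neg]
  rfl

/-- (a) ⇒ projectivity of the cotangent space. -/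
theorem projective_cotangent [Algebra.FormallySmooth A (B ⧸ 𝔍)]
    (hB : CAlgX.IsAdicFormallySmooth A B 𝔍) : Module.Projective (B ⧸ 𝔍) 𝔍.Cotangent := by
  obtain ⟨δ, hδ⟩ := exists_derivation_cotangent (A := A) 𝔍
  refine Module.Projective.of_lifting_property'' (fun f hf => ?_)
  -- f : (P →₀ C) →ₗ[C] P
  have hk : ∀ a ∈ 𝔍 ^ 1, ∀ m : 𝔍.Cotangent →₀ (B ⧸ 𝔍), a • m = 0 := by
    intro a ha m
    rw [pow_one] at ha
    ext q
    rw [Finsupp.smul_apply, Finsupp.zero_apply, Algebra.smul_def, Ideal.Quotient.algebraMap_eq,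
      Ideal.Quotient.eq_zero_iff_mem.mpr ha, zero_mul]
  obtain ⟨D, hD⟩ := Groth.Agent.Lib.Helper62.AdicDerivation.exists_derivation_lift hB
    (f.restrictScalars B) hf 1 hk δ
  -- restriction of D to 𝔍
  let D𝔍 : ↥𝔍 →ₗ[B] (𝔍.Cotangent →₀ (B ⧸ 𝔍)) :=
    { toFun := fun x => D (x : B)
      map_add' := fun x y => by rw [Submodule.coe_add, map_add]
      map_smul' := fun b x => by
        rw [RingHom.id_apply, Submodule.coe_smul, smul_eq_mul, Derivation.leibniz,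
          hk (x : B) (by rw [pow_one]; exact x.2), add_zero] }
  have hle : (𝔍 • ⊤ : Submodule B ↥𝔍) ≤ LinearMap.ker D𝔍 := by
    rw [Submodule.smul_le]
    intro a ha x _
    rw [LinearMap.mem_ker]
    show D ((a • x : ↥𝔍) : B) = 0
    rw [Submodule.coe_smul, smul_eq_mul, Derivation.leibniz,
      hk (x : B) (by rw [pow_one]; exact x.2), hk a (by rw [pow_one]; exact ha), add_zero]
  let hB' : 𝔍.Cotangent →ₗ[B] (𝔍.Cotangent →₀ (B ⧸ 𝔍)) := Submodule.liftQ _ D𝔍 hle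
  have hB'cot : ∀ x : ↥𝔍, hB' (𝔍.toCotangent x) = D (x : B) := fun x => rfl
  let h : 𝔍.Cotangent →ₗ[B ⧸ 𝔍] (𝔍.Cotangent →₀ (B ⧸ 𝔍)) :=
    { toFun := hB'
      map_add' := map_add hB'
      map_smul' := fun c p => by
        obtain ⟨b, rfl⟩ := Ideal.Quotient.mk_surjective c
        rw [RingHom.id_apply, ← Ideal.Quotient.algebraMap_eq, algebraMap_smul, map_smul,
          algebraMap_smul] }
  refine ⟨h, ?_⟩
  apply LinearMap.ext
  intro p
  obtain ⟨x, rfl⟩ := Ideal.toCotangent_surjective 𝔍 p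
  show f (hB' (𝔍.toCotangent x)) = 𝔍.toCotangent x
  rw [hB'cot, ← hδ x]
  exact hD (x : B)

end proj

end Groth.Agent.Lib.Helper62.SymSmooth
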