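import Mathlib
import Groth.Prelude.Def_PP16
import Groth.Agent.Lib.Helper62.SymSmooth3

set_option autoImplicit false
universe u

open TensorProduct Pointwise

namespace Groth.Agent.Lib.Helper62.SymSmooth

open Groth.Agent.Lib.Helper62.SymPow Groth.Agent.Lib.Helper62.SymGr
  Groth.Agent.Lib.Helper62.SymEngine

section one

variable {B : Type u} [CommRing B] (𝔍 : Ideal B)

theorem grSplit_one : GrSplit 𝔍 1 := by
  have hmem : ∀ y : ↥(𝔍 ^ 1), (y : B) ∈ 𝔍 := fun y => (pow_one 𝔍).le y.2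
  let g : ↥(𝔍 ^ 1) →+ (SymC 𝔍 ⧸ (augC 𝔍) ^ (1 + 1)) :=
    { toFun := fun y => Ideal.Quotient.mk _ (ιC 𝔍 (𝔍.toCotangent ⟨(y : B), hmem y⟩))
      map_zero' := by
        have : (⟨((0 : ↥(𝔍 ^ 1)) : B), hmem 0⟩ : ↥𝔍) = 0 := rfl
        rw [this, map_zero, map_zero, map_zero]
      map_add' := fun y y' => by
        have : (⟨((y + y' : ↥(𝔍 ^ 1)) : B), hmem (y + y')⟩ : ↥𝔍) =
            ⟨(y : B), hmem y⟩ + ⟨(y' : B), hmem y'⟩ := rfl
        rw [this, map_add, map_add, map_add] }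
  have hg : ∀ y, g y = Ideal.Quotient.mk _ (ιC 𝔍 (𝔍.toCotangent ⟨(y : B), hmem y⟩)) := fun _ => rfl
  refine ⟨g, ?_, ?_, ?_⟩
  · intro b y
    rw [hg, hg, ← map_mul]
    congr 1
    have : (⟨((b • y : ↥(𝔍 ^ 1)) : B), hmem (b • y)⟩ : ↥𝔍) = b • ⟨(y : B), hmem y⟩ := rfl
    rw [this, map_smul, ← algebraMap_smul (B ⧸ 𝔍) b, map_smul, Algebra.smul_def, bS_apply,
      Ideal.Quotient.algebraMap_eq]
  · intro y hy
    rw [hg]
    have : 𝔍.toCotangent ⟨(y : B), hmem y⟩ = 0 := (Ideal.toCotangent_eq_zero 𝔍 _).mpr hy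
    rw [this, map_zero, map_zero]
  · intro x h
    rw [hg]
    congr 1
    conv_rhs => rw [Fin.prod_univ_one]
    congr 2
    apply Subtype.ext
    exact Fin.prod_univ_one (fun k => ((x k : ↥𝔍) : B))

end one

end Groth.Agent.Lib.Helper62.SymSmooth
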