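import Mathlib
import Groth.Prelude.Def_PP16
import Groth.Agent.Lib.Helper62.SymSmooth4
import Groth.Agent.Lib.Helper62.AdicLift

set_option autoImplicit false
universe u

open TensorProduct Pointwise

namespace Groth.Agent.Lib.Helper62.SymSmooth

open Groth.Agent.Lib.Helper62.SymPow Groth.Agent.Lib.Helper62.SymGr
  Groth.Agent.Lib.Helper62.SymEngine

section main

variable {A B : Type u} [CommRing A] [CommRing B] [Algebra A B] (𝔍 : Ideal B)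

attribute [local instance] algAS

/-- (a) ⇒ the graded pieces split. -/
theorem grSplit_of_isAdicFormallySmooth [Algebra.FormallySmooth A (B ⧸ 𝔍)]
    (hB : CAlgX.IsAdicFormallySmooth A B 𝔍) (n : ℕ) (hn : 1 ≤ n) : GrSplit 𝔍 n := by
  have hP := projective_cotangent 𝔍 hB
  obtain ⟨σ, hσ⟩ := exists_section (A := A) 𝔍 2 (by omega)
  obtain ⟨θ, hθσ, hθι⟩ := exists_θ 𝔍 (le_refl 2) σ.toRingHom hσ hP
  obtain ⟨hσ1, hσ0⟩ := section_props 𝔍 (Ideal.pow_le_self (by omega)) σ.toRingHom hσ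
  have hsurj : Function.Surjective θ := θ_surjective 𝔍 2 σ.toRingHom θ hσ1 hθσ hθι
  have hdetect := mem_aug_pow_of_θ_mem 𝔍 2 σ.toRingHom θ hσ1 hσ0 hθσ hθι
    (fun i h1 h2 => by
      have : i = 1 := by omega
      subst this
      exact grSplit_one 𝔍)
  let θA : SymC 𝔍 →ₐ[A] (B ⧸ 𝔍 ^ 2) :=
    { θ with
      commutes' := fun a => by
        show θ (algebraMap (B ⧸ 𝔍) (SymC 𝔍) (algebraMap A (B ⧸ 𝔍) a)) = _
        rw [hθσ]
        exact σ.commutes a }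
  have hθA : ∀ s, θA s = θ s := fun _ => rfl
  have hkill : ∀ s ∈ (augC 𝔍) ^ (n + 1), θA s = 0 := by
    intro s hs
    have h1 := θ_aug_pow 𝔍 2 θ hθι 2 s (Ideal.pow_le_pow_right (by omega) hs)
    rw [JQ_m] at h1
    exact h1
  let g : (SymC 𝔍 ⧸ (augC 𝔍) ^ (n + 1)) →ₐ[A] (B ⧸ 𝔍 ^ 2) :=
    Ideal.Quotient.liftₐ ((augC 𝔍) ^ (n + 1)) θA hkill
  have hg : ∀ s, g (Ideal.Quotient.mk _ s) = θ s := fun _ => rfl
  have hgsurj : Function.Surjective g := by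
    intro z
    obtain ⟨s, rfl⟩ := hsurj z
    exact ⟨Ideal.Quotient.mk _ s, rfl⟩
  have gdetect : ∀ (i : ℕ), i ≤ 2 → ∀ z : SymC 𝔍 ⧸ (augC 𝔍) ^ (n + 1), g z ∈ JQ 𝔍 2 i →
      z ∈ ((augC 𝔍) ^ i).map (Ideal.Quotient.mk ((augC 𝔍) ^ (n + 1))) := by
    intro i hi z hz
    obtain ⟨s, rfl⟩ := Ideal.Quotient.mk_surjective z
    rw [hg] at hz
    exact Ideal.mem_map_of_mem _ (hdetect i hi s hz)
  have hgnil : IsNilpotent (RingHom.ker g.toRingHom) := by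
    refine ⟨n + 1, ?_⟩
    rw [Ideal.zero_eq_bot, eq_bot_iff]
    have h1 : RingHom.ker g.toRingHom ≤
        (augC 𝔍).map (Ideal.Quotient.mk ((augC 𝔍) ^ (n + 1))) := by
      intro z hz
      rw [RingHom.mem_ker] at hz
      have := gdetect 1 (by omega) z (by
        have hz' : g z = 0 := hz
        rw [hz']; exact Ideal.zero_mem _)
      rwa [pow_one] at this
    refine (Ideal.pow_right_mono h1 (n + 1)).trans ?_
    have e1 := Ideal.map_pow (Ideal.Quotient.mk ((augC 𝔍) ^ (n + 1))) (augC 𝔍) (n + 1)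
    rw [← e1, Ideal.map_quotient_self]
  have hcont : ∃ k : ℕ, ∀ x ∈ 𝔍 ^ k, (Ideal.Quotient.mkₐ A (𝔍 ^ 2)) x = 0 :=
    ⟨2, fun x hx => by
      rw [Ideal.Quotient.mkₐ_eq_mk]
      exact Ideal.Quotient.eq_zero_iff_mem.mpr hx⟩
  obtain ⟨χ, hχ⟩ := Groth.Agent.Lib.Helper62.AdicLift.exists_lift_of_surjective hB g hgsurj hgnil
    (Ideal.Quotient.mkₐ A (𝔍 ^ 2)) hcont
  have hgχ : ∀ b, g (χ b) = Ideal.Quotient.mk (𝔍 ^ 2) b := fun b => AlgHom.congr_fun hχ b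
  set 𝔞 : Ideal (SymC 𝔍 ⧸ (augC 𝔍) ^ (n + 1)) :=
    (augC 𝔍).map (Ideal.Quotient.mk ((augC 𝔍) ^ (n + 1))) with h𝔞
  have h𝔞pow : ∀ i, 𝔞 ^ i = ((augC 𝔍) ^ i).map (Ideal.Quotient.mk ((augC 𝔍) ^ (n + 1))) :=
    fun i => (Ideal.map_pow _ _ _).symm
  have h𝔞top : 𝔞 ^ (n + 1) = ⊥ := by rw [h𝔞pow, Ideal.map_quotient_self]
  -- (χ1)
  have hχ1 : ∀ b, χ b - Ideal.Quotient.mk _ (bS 𝔍 b) ∈ 𝔞 := by
    intro b
    have := gdetect 1 (by omega) (χ b - Ideal.Quotient.mk _ (bS 𝔍 b)) (by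
      rw [map_sub, hgχ, hg, bS_apply, hθσ]
      exact hσ1 b)
    rwa [pow_one] at this
  -- (χ2)
  have hχ2 : ∀ x : ↥𝔍, χ (x : B) - Ideal.Quotient.mk _ (ιC 𝔍 (𝔍.toCotangent x)) ∈ 𝔞 ^ 2 := by
    intro x
    rw [h𝔞pow]
    refine gdetect 2 le_rfl _ ?_
    rw [map_sub, hgχ, hg]
    have := Ideal.neg_mem_iff _ |>.mpr (hθι x)
    rwa [neg_sub] at this
  have hιmem : ∀ p : 𝔍.Cotangent, Ideal.Quotient.mk ((augC 𝔍) ^ (n + 1)) (ιC 𝔍 p) ∈ 𝔞 :=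
    fun p => Ideal.mem_map_of_mem _ (ι_mem_aug _ _ p)
  have hχ𝔍 : ∀ x : ↥𝔍, χ (x : B) ∈ 𝔞 := by
    intro x
    have h1 := Ideal.pow_le_self (two_ne_zero) (hχ2 x)
    have := Ideal.add_mem _ h1 (hιmem (𝔍.toCotangent x))
    rwa [sub_add_cancel] at this
  have hχpow : ∀ (i : ℕ) (y : B), y ∈ 𝔍 ^ i → χ y ∈ 𝔞 ^ i := by
    intro i y hy
    have h1 : χ y ∈ (𝔍 ^ i).map χ.toRingHom := Ideal.mem_map_of_mem _ hy
    rw [Ideal.map_pow] at h1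
    have h2 : 𝔍.map χ.toRingHom ≤ 𝔞 := by
      rw [Ideal.map_le_iff_le_comap]
      intro x hx
      exact hχ𝔍 ⟨x, hx⟩
    exact Ideal.pow_right_mono h2 i h1
  let gs : ↥(𝔍 ^ n) →+ (SymC 𝔍 ⧸ (augC 𝔍) ^ (n + 1)) :=
    (χ.toRingHom.toAddMonoidHom).comp (Submodule.subtype (𝔍 ^ n)).toAddMonoidHom
  have hgs : ∀ y : ↥(𝔍 ^ n), gs y = χ (y : B) := fun _ => rfl
  refine ⟨gs, ?_, ?_, ?_⟩
  · intro b y
    rw [hgs, hgs, Submodule.coe_smul, smul_eq_mul, map_mul]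
    have h1 : (χ b - Ideal.Quotient.mk _ (bS 𝔍 b)) * χ (y : B) ∈ 𝔞 * 𝔞 ^ n :=
      Ideal.mul_mem_mul (hχ1 b) (hχpow n _ y.2)
    rw [← pow_succ', h𝔞top, Ideal.mem_bot, sub_mul, sub_eq_zero] at h1
    exact h1
  · intro y hy
    rw [hgs]
    have := hχpow (n + 1) _ hy
    rwa [h𝔞top, Ideal.mem_bot] at this
  · intro x h
    rw [hgs]
    show χ (∏ k, (x k : B)) = _
    rw [map_prod, map_prod]
    have h3 := list_prod_sub_mem 𝔞 (fun k : Fin n => χ (x k : B))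
      (fun k : Fin n => Ideal.Quotient.mk ((augC 𝔍) ^ (n + 1)) (ιC 𝔍 (𝔍.toCotangent (x k))))
      (fun k => hχ𝔍 (x k)) (fun k => hιmem _) (fun k => hχ2 (x k)) (List.finRange n)
    rw [List.length_finRange, h𝔞top, Ideal.mem_bot, sub_eq_zero, ← List.ofFn_eq_map,
      ← List.ofFn_eq_map, List.prod_ofFn, List.prod_ofFn] at h3
    exact h3

end main

end Groth.Agent.Lib.Helper62.SymSmooth
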