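import Mathlib.RingTheory.Flat.EquationalCriterion
import Mathlib.RingTheory.SimpleRing.Principal
import Mathlib.Tactic
import Groth.Agent.S13147
import Groth.Agent.Lib.Helper84.LocalFlat

set_option autoImplicit false
universe u

namespace Groth.Agent.Lib.Helper62

open FrobAlg Groth.Agent.S16373 Groth.Agent.S13147

/-- In a flat algebra, `π x = 0` forces `x ∈ (π)` when the annihilator of `π` is contained in `(π)`. -/
theorem mem_span_of_mul_eq_zero_of_flat {W C : Type*} [CommRing W] [CommRing C] [Algebra W C]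
    [Module.Flat W C] (π : W) (hπ : ∀ a : W, π * a = 0 → a ∈ Ideal.span {π}) (x : C)
    (hx : algebraMap W C π * x = 0) : x ∈ Ideal.span {algebraMap W C π} := by
  obtain ⟨n, a, y, hxy, ha⟩ := Module.Flat.isTrivialRelation_of_sum_smul_eq_zero (R := W) (M := C)
    (ι := Unit) (f := fun _ => π) (x := fun _ => x) (by
      rw [Fintype.sum_unique, Algebra.smul_def]
      exact hx)
  have hx' : x = ∑ j, a () j • y j := hxy ()
  have ha' : ∀ j, π * a () j = 0 := by
    intro j
    have := ha j
    rwa [Fintype.sum_unique] at this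
  rw [hx']
  refine Ideal.sum_mem _ fun j _ => ?_
  obtain ⟨c, hc⟩ := Ideal.mem_span_singleton'.mp (hπ _ (ha' j))
  refine Ideal.mem_span_singleton'.mpr ⟨algebraMap W C c * y j, ?_⟩
  rw [← hc, Algebra.smul_def, map_mul]
  ring

section

variable (p : ℕ) [Fact p.Prime] (k : Type u) [Field k] [CharP k p] [PerfectRing k p]

/-- The annihilator of `p` in `W₂(k)` is `(p)`. -/
theorem W2_mem_span_p_of_p_mul_eq_zero (y : W2 p k) (h : (p : W2 p k) * y = 0) :
    y ∈ Ideal.span {(p : W2 p k)} := by
  have hp : (p : k) = 0 := CharP.cast_eq_zero k p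
  rw [← ker_res_eq_span p k, RingHom.mem_ker, res_apply]
  rw [p_mul_eq p 1 k hp, ← map_zero (WittGrp.shift p (Nat.le_succ 1))] at h
  have h2 := shift_injective p 1 k h
  have h3 := congrArg (fun z => TruncatedWittVector.coeff (p := p) (0 : Fin 1) z) h2
  simp only [WittGrp.coeff_frob, TruncatedWittVector.coeff_truncate,
    TruncatedWittVector.coeff_zero] at h3
  exact pow_eq_zero_iff (Fact.out : p.Prime).ne_zero |>.mp h3

variable {p k}

/-- Flatness criterion over `W₂(k)`: `p`-torsion equals `p`-multiples. -/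
theorem flat_of_p_torsion {C : Type u} [CommRing C] (ι : W2 p k →+* C)
    (h : ∀ x : C, (p : C) * x = 0 → x ∈ Ideal.span {(p : C)}) : ι.Flat := by
  have hpk : (p : k) = 0 := CharP.cast_eq_zero k p
  have hιp : ι (p : W2 p k) = (p : C) := map_natCast ι p
  let : Algebra (W2 p k) C := ι.toAlgebra
  change Module.Flat (W2 p k) C
  have hsmul : ∀ (r : W2 p k) (q : C), r • q = ι r * q := fun _ _ => rfl
  set I₀ : Ideal (W2 p k) := Ideal.span {(p : W2 p k)} with hI₀
  have hI₀ker : I₀ = RingHom.ker (res p k) := (ker_res_eq_span p k).symm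
  have hmax : I₀.IsMaximal := by
    rw [hI₀ker]
    apply RingHom.ker_isMaximal_of_surjective
    intro a
    exact ⟨TruncatedWittVector.mk p fun _ => a, by rw [res_apply, TruncatedWittVector.coeff_mk]⟩
  let : Field (W2 p k ⧸ I₀) := Ideal.Quotient.field I₀
  have hsq : I₀ * I₀ = ⊥ := by
    rw [hI₀, Ideal.span_singleton_mul_span_singleton, natCast_W2_sq_eq_zero p k hpk,
      Ideal.span_singleton_eq_bot]
  have hfree : Module.Free (W2 p k ⧸ I₀)
      (TensorProduct (W2 p k) (W2 p k ⧸ I₀) C) := Module.Free.of_divisionRing _ _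
  have hflat : Module.Flat (W2 p k ⧸ I₀)
      (TensorProduct (W2 p k) (W2 p k ⧸ I₀) C) := Module.Flat.of_free
  apply Groth.Agent.Lib.Helper84.flat_of_sq_zero I₀ _ hsq
  have hpmem : (p : W2 p k) ∈ I₀ := Ideal.subset_span rfl
  have hform : ∀ t : TensorProduct (W2 p k) I₀ C,
      ∃ q : C, t = (⟨(p : W2 p k), hpmem⟩ : I₀) ⊗ₜ[W2 p k] q := by
    intro t
    induction t with
    | zero => exact ⟨0, (TensorProduct.tmul_zero _ _).symm⟩
    | tmul x q =>
      obtain ⟨r, hr⟩ := Ideal.mem_span_singleton'.mp x.2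
      refine ⟨r • q, ?_⟩
      rw [TensorProduct.tmul_smul, TensorProduct.smul_tmul']
      congr 1
      apply Subtype.ext
      simpa [smul_eq_mul] using hr.symm
    | add t t' ht ht' =>
      obtain ⟨q, rfl⟩ := ht
      obtain ⟨q', rfl⟩ := ht'
      exact ⟨q + q', (TensorProduct.tmul_add _ _ _).symm⟩
  rw [injective_iff_map_eq_zero]
  intro t ht
  obtain ⟨q, rfl⟩ := hform t
  rw [LinearMap.rTensor_tmul] at ht
  have h2 := congrArg (TensorProduct.lid (W2 p k) C) ht
  rw [map_zero, Submodule.subtype_apply, TensorProduct.lid_tmul, hsmul, hιp] at h2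
  obtain ⟨q', hq'⟩ := Ideal.mem_span_singleton'.mp (h q h2)
  have hq'' : q = (p : W2 p k) • q' := by rw [hsmul, hιp, mul_comm, hq']
  rw [hq'', TensorProduct.tmul_smul, TensorProduct.smul_tmul']
  have : (p : W2 p k) • (⟨(p : W2 p k), hpmem⟩ : I₀) = 0 := by
    apply Subtype.ext
    simpa [smul_eq_mul] using natCast_W2_sq_eq_zero p k hpk
  rw [this, TensorProduct.zero_tmul]

/-- Conversely, in a flat `W₂(k)`-algebra the `p`-torsion consists of `p`-multiples. -/
theorem p_torsion_of_flat {C : Type u} [CommRing C] (ι : W2 p k →+* C) (hι : ι.Flat)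
    (x : C) (hx : (p : C) * x = 0) : x ∈ Ideal.span {(p : C)} := by
  have hιp : ι (p : W2 p k) = (p : C) := map_natCast ι p
  let : Algebra (W2 p k) C := ι.toAlgebra
  have hflat : Module.Flat (W2 p k) C := hι
  have := mem_span_of_mul_eq_zero_of_flat (W := W2 p k) (C := C) (p : W2 p k)
    (W2_mem_span_p_of_p_mul_eq_zero p k) x (by rw [RingHom.algebraMap_toAlgebra, hιp, hx])
  rwa [RingHom.algebraMap_toAlgebra, hιp] at this

end

end Groth.Agent.Lib.Helper62
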